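import Mathlib
import Cfsg.Agent.Lib.SLE.Dcg
import Cfsg.Agent.Lib.HX.Defs

/-!
# Standard components of type `²E₆(q)`, `q` even: definitions
-/

set_option autoImplicit false

namespace CfsgLib.SLT

open CfsgLib.RGD CfsgLib.Stein CfsgLib.SLE Subgroup
open scoped commutatorElement

universe u

/-- a quadratic Galois extension in characteristic two -/
structure QE (F K : Type) [CommRing F] [CommRing K] where
  f : F →+* K
  τ : K ≃+* K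
  ω : K
  T : K → F
  N : K → F
  two : (2 : K) = 0
  inj : Function.Injective f
  τ2 : ∀ v, τ (τ v) = v
  fix : ∀ v, τ v = v ↔ ∃ c, v = f c
  hω : ω + τ ω = 1
  hT : ∀ v, f (T v) = v + τ v
  hN : ∀ v, f (N v) = v * τ v

section Ring

variable {F K : Type} [CommRing F] [CommRing K]

theorem QE.τf (P : QE F K) (c : F) : P.τ (P.f c) = P.f c := (P.fix _).2 ⟨c, rfl⟩

/-- the doubled extension -/
noncomputable def QE.dbl (P : QE F K) (c : F) : QE (HX.QA F c) (HX.QA K (P.f c)) where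
  f := HX.QA.map P.f c _ rfl
  τ := RingEquiv.ofRingHom (HX.QA.map P.τ _ _ (P.τf c)) (HX.QA.map P.τ _ _ (P.τf c))
    (by ext <;> simp [HX.QA.map, P.τ2]) (by ext <;> simp [HX.QA.map, P.τ2])
  ω := ⟨P.ω, 0⟩
  T v := ⟨P.T v.re, P.T v.im⟩
  N v := ⟨P.N v.re + c * P.N v.im, P.T (v.re * P.τ v.im) + P.N v.im⟩
  two := by
    rw [← one_add_one_eq_two]
    ext
    · rw [QuadraticAlgebra.re_add, QuadraticAlgebra.re_one, one_add_one_eq_two, P.two]; rfl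
    · simp [QuadraticAlgebra.im_one]
  inj x y h := by
    have h1 := congrArg QuadraticAlgebra.re h
    have h2 := congrArg QuadraticAlgebra.im h
    ext
    exacts [P.inj h1, P.inj h2]
  τ2 v := by ext <;> simp [HX.QA.map, P.τ2]
  fix v := by
    refine ⟨fun h => ?_, ?_⟩
    · obtain ⟨s, hs⟩ := (P.fix v.re).1 (congrArg QuadraticAlgebra.re h)
      obtain ⟨r, hr⟩ := (P.fix v.im).1 (congrArg QuadraticAlgebra.im h)
      exact ⟨⟨s, r⟩, by ext <;> simp [HX.QA.map, hs.symm, hr.symm]⟩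
    · rintro ⟨x, rfl⟩
      ext <;> simp [HX.QA.map, P.τf]
  hω := by ext <;> simp [HX.QA.map, P.hω, QuadraticAlgebra.re_one, QuadraticAlgebra.im_one]
  hT v := by ext <;> simp [HX.QA.map, P.hT]
  hN v := by
    ext
    · simp [HX.QA.map, P.hN, mul_assoc]
    · simp [HX.QA.map, P.hN, P.hT, P.τ2, mul_comm]

end Ring

variable {ι κ : Type} [Fintype κ] [DecidableEq κ] {Φ : RootSys ι κ}

/-! ### Roots.  A root `r` is *long* if `γ r = r` and *moved* otherwise. -/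

/-- the commutator of `X a` and `X b` is given by `ll` or `cm` -/
def Dec (E : ER Φ) (a b : ι) : Prop := (E.γ a = a ∧ E.γ b = b) ∨ 0 ≤ ip Φ a (E.γ b)

/-- closed, positive and stable under `γ` -/
structure Cl (E : ER Φ) (Ψ : Set ι) : Prop where
  pos : ∀ r ∈ Ψ, Φ.Pos r
  add : ∀ a ∈ Ψ, ∀ b ∈ Ψ, ∀ k, RAdd Φ a b k → k ∈ Ψ
  gam : ∀ r ∈ Ψ, E.γ r ∈ Ψ

/-- `r` long, `a` moved, `b = r + a`, `k = r + a + γ a` -/
structure Tup (E : ER Φ) (r a b k : ι) : Prop where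
  lr : E.γ r = r
  ma : E.γ a ≠ a
  hb : RAdd Φ r a b
  hk : RAdd Φ b (E.γ a) k

/-- the facts about the roots of `E₆` and the graph symmetry -/
structure TR (E : ER Φ) : Prop where
  ne : E.γ ≠ 1
  mm : ∀ a b, E.γ a ≠ a → E.γ b ≠ b → ip Φ a b = -1 → 0 ≤ ip Φ a (E.γ b)
  smβ : ∀ i, E.γ (Φ.simple i) ≠ Φ.simple i → ip Φ (Φ.simple i) E.β = 0
  tdec1 : ∀ d, 0 ≤ ip Φ d E.θ → ∃ a b, 0 ≤ ip Φ a E.θ ∧ 0 ≤ ip Φ b E.θ ∧ RAdd Φ a b d ∧ Dec E a b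
  tdec2 : ∀ d, 0 ≤ ip Φ d E.θ → 0 ≤ ip Φ d E.β → ∃ a b, 0 ≤ ip Φ a E.θ ∧ 0 ≤ ip Φ a E.β ∧
    0 ≤ ip Φ b E.θ ∧ 0 ≤ ip Φ b E.β ∧ RAdd Φ a b d ∧ Dec E a b
  tdecQ : ∀ d, 1 ≤ ip Φ d E.θ → ∃ a b, 1 ≤ ip Φ a E.θ ∧ 0 ≤ ip Φ b E.θ ∧ RAdd Φ a b d ∧ Dec E a b
  ex2L : ∃ a, E.γ a = a ∧ ip Φ a E.β = 1 ∧ ip Φ a E.θ = 1
  epsL : ∀ a b, E.γ a = a → E.γ b = b → ip Φ a b = 0 → ∃ e e', e ≠ e' ∧ E.γ e = e ∧ E.γ e' = e' ∧
    ip Φ e a = 1 ∧ ip Φ e b = 1 ∧ ip Φ e' a = 1 ∧ ip Φ e' b = 1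
  sl0 : ∀ b, E.γ b ≠ b → ∃ r, E.γ r = r ∧ ip Φ r b = 1
  sl2 : ∀ r b, E.γ r = r → E.γ b ≠ b → ip Φ r b = 1 → ∃ e, E.γ e = e ∧ ip Φ e b = 1 ∧ ip Φ e r = 1
  sl4 : ∀ d b, E.γ d = d → E.γ b ≠ b → ip Φ d b = 0 → ∃ r, E.γ r = r ∧ ip Φ r b = 1 ∧ ip Φ r d = 0
  ss1 : ∀ a b, E.γ a ≠ a → E.γ b ≠ b → 0 ≤ ip Φ a b → 0 ≤ ip Φ a (E.γ b) →
    a = b ∨ a = E.γ b ∨ ∃ r, E.γ r = r ∧ ip Φ r b = 1 ∧ ip Φ r a = 0
  ss2 : ∀ a b k, E.γ a ≠ a → E.γ b ≠ b → E.γ k ≠ k → RAdd Φ a b k → ∃ e e', e ≠ e' ∧ E.γ e = e ∧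
    E.γ e' = e' ∧ ip Φ e b = 1 ∧ ip Φ e k = 1 ∧ ip Φ e' b = 1 ∧ ip Φ e' k = 1
  opp : ∀ a, E.γ a ≠ a → ∃ c, ip Φ c (Φ.neg (E.γ a)) = 1 ∧ ip Φ a c = 0
  lsV : ∀ a, E.γ a ≠ a → ip Φ a E.θ = 1 →
    ∃ r d, E.γ r = r ∧ RAdd Φ r d a ∧ ip Φ d E.θ = 0 ∧ ip Φ d E.β = 0
  pos1L : ∀ r, E.γ r = r → Φ.Pos r → ∃ s, E.γ s = s ∧ Φ.Pos s ∧ ip Φ r s = 1
  posS : ∀ a, E.γ a ≠ a → Φ.Pos a → ∃ r s, E.γ r = r ∧ E.γ s = s ∧ Φ.Pos r ∧ Φ.Pos s ∧
    ip Φ a r = 1 ∧ 0 ≤ ip Φ a s ∧ ip Φ r s = 1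
  sepT : ∀ i j, Φ.simple j ≠ Φ.simple i → Φ.simple j ≠ E.γ (Φ.simple i) →
    ∃ d, E.γ d = d ∧ ip Φ d (Φ.simple j) = 0 ∧ (ip Φ d (Φ.simple i) = 1 ∨ ip Φ d (Φ.simple i) = 2)
  two_orb : ∀ i j k, (E.γ (Φ.simple i) = Φ.simple i ↔ E.γ (Φ.simple j) = Φ.simple j) →
    (E.γ (Φ.simple j) = Φ.simple j ↔ E.γ (Φ.simple k) = Φ.simple k) →
    Φ.simple j = Φ.simple i ∨ Φ.simple j = E.γ (Φ.simple i) ∨ Φ.simple k = Φ.simple i ∨
    Φ.simple k = E.γ (Φ.simple i) ∨ Φ.simple k = Φ.simple j ∨ Φ.simple k = E.γ (Φ.simple j)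

/-- the certificate for the involution `∏_{b ∈ B} x_b(1)`, all `b` long -/
structure TCert (E : ER Φ) (B : List ι) : Prop where
  fix : ∀ b ∈ B, E.γ b = b
  nd : B.Nodup
  ne : B ≠ []
  ort : ∀ b ∈ B, ∀ b' ∈ B, b ≠ b' → ip Φ b b' = 0
  one : ∀ b ∈ B, ip Φ b E.θ = 1
  α0 : ∀ b ∈ B, ip Φ E.α b = 0
  dom : ∀ i, 0 ≤ grB Φ B (Φ.simple i)
  ab : ∀ r s, 2 ≤ grB Φ B r → 2 ≤ grB Φ B s → 0 ≤ ip Φ r s
  gen : ∃ T₀ : Set ι, Idl Φ T₀ ∧ Gen Φ T₀ ∧ (∀ a ∈ T₀, E.γ a ∈ T₀) ∧ ∀ a ∈ T₀, CmB Φ B a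
  el : ∀ r, Φ.Pos r → grB Φ B r < 2 → ∃ a, Φ.Pos a ∧ CmB Φ B a ∧ ip Φ r a = -1
  sv : ∀ r, 2 ≤ grB Φ B r → r ∈ B ∨ r = E.θ ∨ ∃ a, Φ.Pos a ∧ CmB Φ B a ∧ ip Φ r a = -1
  lb : NP Φ + 3 ≤ 2 * {a | Φ.Pos a ∧ CmB Φ B a}.ncard

/-- the twisted Weyl group of the set `Ψ` -/
def WT (E : ER Φ) (Ψ : Set ι) : Subgroup (Equiv.Perm ι) :=
  closure {w | ∃ d ∈ Ψ, (E.γ d = d ∧ w = rf Φ d) ∨ (E.γ d ≠ d ∧ w = rf Φ d * rf Φ (E.γ d))}

/-- the subsystem of type `A₂` -/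
def r6 (E : ER Φ) : ZMod 6 → ι := ![E.α, E.θ, E.β, Φ.neg E.α, Φ.neg E.θ, Φ.neg E.β]

/-! ### The twisted relations -/

section Rel

variable {F K : Type} [CommRing F] [CommRing K] {G : Type u} [Group G]

/-- the long root element `x_r(c)` -/
def xl (P : QE F K) (X : ι → K → G) (r : ι) (c : F) : G := X r (P.ω * P.f c)

/-- The relations of the twisted group.  For a moved root `a`, `X a u` stands for
`x_a(u) x_{γ a}(τ u)`; for a long root `r`, `X r u` stands for `x_r(u + τ u)`. -/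
structure TRel (E : ER Φ) (P : QE F K) (X : ι → K → G) : Prop where
  add : ∀ a u v, X a (u + v) = X a u * X a v
  gam : ∀ a u, X (E.γ a) u = X a (P.τ u)
  com : ∀ a b, 0 ≤ ip Φ a b → 0 ≤ ip Φ a (E.γ b) → ∀ u v, X a u * X b v = X b v * X a u
  cm : ∀ a b k, RAdd Φ a b k → 0 ≤ ip Φ a (E.γ b) → ∀ u v,
    X a u * X b v * (X a u)⁻¹ * (X b v)⁻¹ = X k (u * v)
  ll : ∀ a b k, E.γ a = a → E.γ b = b → RAdd Φ a b k → ∀ p q,
    xl P X a p * xl P X b q * (xl P X a p)⁻¹ * (xl P X b q)⁻¹ = xl P X k (p * q)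
  ls : ∀ r a b k, Tup E r a b k → ∀ v p,
    X a v * xl P X r p * (X a v)⁻¹ = xl P X r p * X b (P.f p * v) * xl P X k (p * P.N v)

end Rel

section Sub

variable {K : Type} {G : Type u} [Group G]

/-- the whole group -/
def tL (X : ι → K → G) : Subgroup G := UUx X Set.univ

/-- the normaliser of `L` -/
abbrev tN (X : ι → K → G) : Subgroup G := normalizer (tL X : Set G)

/-- the centraliser of `L` -/
abbrev tC (X : ι → K → G) : Subgroup G := centralizer (tL X : Set G)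

/-- the root subgroup -/
def tZ (X : ι → K → G) (r : ι) : Subgroup G := UUx X {r}

variable (Φ)

/-- the Sylow subgroup -/
def tU (X : ι → K → G) : Subgroup G := UUx X {r | Φ.Pos r}

/-- `O^{2'}(C_L(Z_r))`, `r` long -/
def tY (X : ι → K → G) (r : ι) : Subgroup G := UUx X {s | 0 ≤ ip Φ s r}

/-- `O_2(Y_r)` -/
def tQ (X : ι → K → G) (r : ι) : Subgroup G := UUx X {s | 1 ≤ ip Φ s r}

variable {Φ}

/-- the root subgroups commuting with `Z_θ` and `Z_β` -/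
def tY2 (E : ER Φ) (X : ι → K → G) : Subgroup G := UUx X {s | 0 ≤ ip Φ s E.θ ∧ 0 ≤ ip Φ s E.β}

/-- `O_2(Y2)` -/
def tR2 (E : ER Φ) (X : ι → K → G) : Subgroup G :=
  UUx X {s | 0 ≤ ip Φ s E.θ ∧ 0 ≤ ip Φ s E.β ∧ 1 ≤ ip Φ s E.θ + ip Φ s E.β}

/-- `C_U(Z_θ Z_β)` -/
def tR (E : ER Φ) (X : ι → K → G) : Subgroup G := UUx X ({r | Φ.Pos r} \ {E.α})

/-- `Z_θ Z_β` -/
def tW (E : ER Φ) (X : ι → K → G) : Subgroup G := UUx X {E.θ, E.β}

/-- the radical of the minimal parabolic subgroup of the orbit of the `i`-th fundamental root -/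
def tRj (E : ER Φ) (X : ι → K → G) (i : κ) : Subgroup G :=
  UUx X ({r | Φ.Pos r} \ {Φ.simple i, E.γ (Φ.simple i)})

/-- `C_L(Z_r)` -/
def tYc (X : ι → K → G) (r : ι) : Subgroup G := tL X ⊓ centralizer (tZ X r : Set G)

/-- `g` permutes the root elements exactly -/
def tExa (X : ι → K → G) (g : G) (w : Equiv.Perm ι) : Prop := ∀ a u, g * X a u * g⁻¹ = X (w a) u

/-- the conjugate family -/
def cjX (g : G) (X : ι → K → G) : ι → K → G := fun a u => g * X a u * g⁻¹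

/-- the conjugate representation -/
def cjρ {A : Type} (g : G) (ρ : G → A) : G → A := fun x => ρ (g⁻¹ * x * g)

end Sub

/-! ### The ambient Chevalley group -/

variable {F K : Type} [Field F] [Field K] {G : Type u} [Group G] {A : Type} [Group A]

/-- the twisted root elements of an untwisted system -/
def tx (E : ER Φ) (P : QE F K) (T : StSys Φ K G) (a : ι) (u : K) : G :=
  T.x a u * T.x (E.γ a) (P.τ u)

/-- `s` is a graph-field involution of the system `T` -/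
structure Tw (E : ER Φ) (P : QE F K) (T : StSys Φ K G) (s : G) : Prop where
  tr : TR E
  amb : Amb E T
  s2 : s * s = 1
  sx : ∀ r u, s * T.x r u * s⁻¹ = T.x (E.γ r) (P.τ u)

/-- the facts taken from the matrix model; `A` is the automorphism group of `E₆(K)` -/
structure Vir (E : ER Φ) (P : QE F K) (T : StSys Φ K A) (s : A) : Prop extends Tw E P T s where
  cl : CL T = ⊥
  simp : IsSimpleGroup (tL (tx E P T))
  dc : ∀ m ∈ tL (tx E P T), m * m = 1 → m ≠ 1 → ∃ g ∈ tL (tx E P T), g * m * g⁻¹ = T.x E.θ 1 ∨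
    ∃ B, TCert E B ∧ g * m * g⁻¹ = T.xprod B fun _ => 1
  aut : ∀ φ : MulAut (tL (tx E P T)), ∃ m ∈ tL (tx E P T), ∃ δ d σ, StdD T δ 1 d σ ∧
    s * δ = δ * s ∧ ∀ x : tL (tx E P T), (φ x : A) = m * δ * x * (m * δ)⁻¹
  kit : Kit.{0} E

/-- `L = tL X` is a central extension of the twisted group with kernel of odd order -/
structure TCov (E : ER Φ) (P : QE F K) (T : StSys Φ K A) (s : A) (X : ι → K → G)
    (θ : tL X →* A) : Prop extends Vir E P T s where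
  sq : ∀ a u, X a u * X a u = 1
  map : ∀ a u, θ ⟨X a u, mem_UUx X (Set.mem_univ a) u⟩ = tx E P T a u
  ker : ∀ z : tL X, θ z = 1 → (z : G) ∈ tC X ∧ Odd (orderOf (z : G))

/-- `ρ` represents the action of `N(L)` on `L` in the ambient group -/
structure Sys (E : ER Φ) (P : QE F K) (T : StSys Φ K A) (s : A) (X : ι → K → G) (ρ : G → A) :
    Prop extends Vir E P T s where
  sq : ∀ a u, X a u * X a u = 1
  map : ∀ a u, ρ (X a u) = tx E P T a u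
  mul : ∀ g ∈ tN X, ∀ k ∈ tN X, ρ (g * k) = ρ g * ρ k
  ker : ∀ g ∈ tN X, ρ g = 1 ↔ g ∈ tC X
  com : ∀ g ∈ tN X, s * ρ g = ρ g * s
  dec : ∀ g ∈ tN X, ∃ l ∈ tL X, ∃ d σ, StdD T (ρ (l * g)) 1 d σ
  odd : ∀ z ∈ tL X, z ∈ tC X → Odd (orderOf z)

/-- a standard element -/
def St (T : StSys Φ K A) (X : ι → K → G) (ρ : G → A) (g : G) (d : ι → K) (σ : K ≃+* K) : Prop :=
  g ∈ tN X ∧ StdD T (ρ g) 1 d σ

/-- `g` induces an automorphism of type `σ` -/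
def Ty (T : StSys Φ K A) (X : ι → K → G) (ρ : G → A) (g : G) (σ : K ≃+* K) : Prop :=
  ∃ l ∈ tL X, ∃ d, St T X ρ (l * g) d σ

/-- the elements inducing inner-diagonal automorphisms -/
def tN0 (T : StSys Φ K A) (X : ι → K → G) (ρ : G → A) : Subgroup G := closure {g | Ty T X ρ g 1}

/-- the situation of the theorem -/
structure Sit (E : ER Φ) (P : QE F K) (T : StSys Φ K A) (s : A) (X : ι → K → G) (ρ : G → A)
    (t : G) : Prop extends Sys E P T s X ρ, HX.Std (tL X) t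

/-- the product of the long root elements `x_b(c)`, `b ∈ B` -/
def lB (P : QE F K) (X : ι → K → G) (B : List ι) (c : F) : G := (B.map fun b => xl P X b c).prod

/-- the group theoretic form of `TCert` -/
structure DCF (E : ER Φ) (P : QE F K) (X : ι → K → G) (l : G) (W : Subgroup G) : Prop where
  cen : ∀ g ∈ tN X, (∀ v ∈ tU Φ X, v * v = 1 → v * l = l * v → g * v = v * g) →
    ∃ w ∈ W, ∃ k ∈ tC X, g = w * k
  WU : W ≤ tU Φ X
  sq : ∀ w ∈ W, w * w = 1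
  ZW : tZ X E.θ ≤ W
  lW : l ∈ W
  lZ : l ∉ tZ X E.θ
  conj : ∀ w ∈ W, w ∉ tZ X E.θ → ∃ g ∈ tL X, g * l * g⁻¹ = w
  two : Nat.card F = 2 → ∀ w ∈ W, w ∉ tZ X E.θ → w = l ∨ w = l * xl P X E.θ 1
  P : ∃ R ≤ tL X, IsPGroup 2 R ∧ l ∈ R ∧ R ≤ centralizer {l * xl P X E.θ 1} ∧
    ∃ c ∈ R, c * l ≠ l * c
  lb : ∃ R ≤ tU Φ X ⊓ centralizer {l}, Nat.card F ^ (NP Φ + 3) ≤ Nat.card R ^ 2

/-- `HX.LR` without the field `cQY` (the centre of `H` may be non-trivial) -/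
structure LR2 {W : Type} [AddCommGroup W] [Module F W] (H Y Q : Subgroup G) (t : G) (z : F → G)
    (π : G → W) (f : LinearMap.BilinForm F W) : Prop extends HX.Heis Q z π f, HX.Std H t where
  QY : Q ≤ Y
  YH : Y ≤ H
  Yz : ∀ y ∈ Y, ∀ s, y * z s = z s * y
  YQ : Y ≤ normalizer (Q : Set G)
  dim : ∀ v : W, ∃ w, ∀ s : F, w ≠ s • v
  zC : ∀ s, z s ∈ centralizer (H : Set G) → s = 0
  perf : Y ≤ ⁅Y, Y⁆
  qy : Q ≤ ⁅Q, Y⁆
  cQ : ∀ g, g * t = t * g → g ∈ centralizer (Q : Set G) →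
    ∃ s, ∃ c ∈ centralizer (H : Set G), g = z s * c
  nQ : ∀ g, g * t = t * g → (∀ s, g * z s = z s * g) → g ∈ normalizer (Q : Set G)
  cV : ∀ g, g * t = t * g → (∀ s, g * z s = z s * g) → (∀ x ∈ Q, π (g * x * g⁻¹) = π x) →
    ∃ x ∈ Q, ∃ c ∈ centralizer (H : Set G), g = x * c
  tor : ∀ l : F, l ≠ 0 → ∃ h ∈ H, h ∈ normalizer (Y : Set G) ∧ h ∈ normalizer (Q : Set G) ∧
    (∀ x ∈ Q, π (h * x * h⁻¹) = l • π x) ∧ ∀ s, h * z s * h⁻¹ = z (l * l * s)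

/-- the long root elements of the subsystem `r6` -/
def a6 (E : ER Φ) (P : QE F K) (X : ι → K → G) (k : ZMod 6) : F → G := xl P X (r6 E k)

/-- `p` interchanges `t` and `t z`, `z = x_θ(1)` -/
structure Sw (E : ER Φ) (P : QE F K) (X : ι → K → G) (t p : G) : Prop where
  pt : p * t * p⁻¹ = t * xl P X E.θ 1
  pz : p * xl P X E.θ 1 * p⁻¹ = xl P X E.θ 1
  nU : p ∈ normalizer (tU Φ X : Set G)
  nY : p ∈ normalizer (tY Φ X E.θ : Set G)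
  nQ : p ∈ normalizer (tQ Φ X E.θ : Set G)
  nZ : p ∈ normalizer (tZ X E.θ : Set G)

/-- moreover `p` centralises `x_β(1)` and acts trivially on `Y2 / R2` -/
structure Sw2 (E : ER Φ) (P : QE F K) (X : ι → K → G) (t p : G) : Prop where
  pt : p * t * p⁻¹ = t * xl P X E.θ 1
  pz : p * xl P X E.θ 1 * p⁻¹ = xl P X E.θ 1
  pb : p * xl P X E.β 1 * p⁻¹ = xl P X E.β 1
  nY : p ∈ normalizer (tY Φ X E.θ : Set G)
  nQ : p ∈ normalizer (tQ Φ X E.θ : Set G)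
  nY2 : ∀ y ∈ tY2 E X, p * y * p⁻¹ * y⁻¹ ∈ tR2 E X

/-- `k` moves `t` inside `t Z` and acts trivially on `Z` and `Q / Z` -/
structure Tv (E : ER Φ) (P : QE F K) (X : ι → K → G) (t k : G) : Prop where
  nY : k ∈ normalizer (tY Φ X E.θ : Set G)
  cz : ∀ c, k * xl P X E.θ c = xl P X E.θ c * k
  cq : ∀ x ∈ tQ Φ X E.θ, ∃ c, k * x * k⁻¹ = x * xl P X E.θ c
  pt : ∃ c, c ≠ 0 ∧ k * t * k⁻¹ = t * xl P X E.θ c

/-- The hats of the long root elements: `x_r(p) y_r(q)` is the root element with the parameter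
`p + ε q`, `ε ^ 2 = ε + c`. -/
structure HatL (E : ER Φ) (P : QE F K) (T : StSys Φ K A) (s : A) (X : ι → K → G) (ρ : G → A)
    (t : G) (y : ι → F → G) (c : F) : Prop extends Sit E P T s X ρ t where
  two : HX.Two (tL X) t
  add : ∀ r, E.γ r = r → ∀ p q, y r (p + q) = y r p * y r q
  mv : ∀ r, E.γ r = r → ∀ p, HX.Mv (tL X) (tYc X r) t (xl P X r p) (y r p)
  eqv : ∀ l ∈ tL X, ∀ r r', E.γ r = r → E.γ r' = r' → ∀ p p',
    l * xl P X r p * l⁻¹ = xl P X r' p' → l * y r p * l⁻¹ = y r' p'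
  com1 : ∀ a b, E.γ a = a → E.γ b = b → ip Φ a b = 1 → ∀ p q, Commute (y a p) (y b q)
  ya : ∀ a b k, E.γ a = a → E.γ b = b → RAdd Φ a b k → ∀ p q,
    xl P X b q * y a p * xl P X b q = y a p * y k (p * q)
  yy : ∀ a b k, E.γ a = a → E.γ b = b → RAdd Φ a b k → ∀ p q,
    y b q * y a p * y b q = y a p * y k (p * q) * xl P X k (c * (p * q))
  chr : ∀ r, E.γ r = r → ∀ g, g * g = 1 → g ∈ centralizer (tYc X r : Set G) → ∀ p,
    g * t * g⁻¹ = t * xl P X r p → (∃ q, g = y r p * xl P X r q) ∨ ∃ q, g = t * xl P X r q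

/-- the group generated by `L` and the hats -/
def tG0 (E : ER Φ) (X : ι → K → G) (y : ι → F → G) : Subgroup G := tL X ⊔ UUx y {r | E.γ r = r}

variable (Φ) in
/-- `w` acts on `Q_e` as the hat of `p` -/
def Act (P : QE F K) (X : ι → K → G) (y : ι → F → G) (e : ι) (w p : G) : Prop :=
  ∀ g ∈ tQ Φ X e, ∃ a, p * g * p⁻¹ * g⁻¹ = xl P X e a ∧ w * g * w⁻¹ * g⁻¹ = y e a

/-- the definition of the hats of all root elements -/
structure HS1 (E : ER Φ) (P : QE F K) (T : StSys Φ K A) (s : A) (X : ι → K → G) (ρ : G → A)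
    (t : G) (y : ι → F → G) (c : F) (W : ι → K → G) : Prop extends HatL E P T s X ρ t y c where
  lng : ∀ r, E.γ r = r → ∀ u, W r u = y r (P.T u)
  df1 : ∀ r a b k, Tup E r a b k → ∀ u, X a u * y r 1 * (X a u)⁻¹ = y r 1 * W b u * y k (P.N u)
  xc : ∀ d b, 0 ≤ ip Φ d b → 0 ≤ ip Φ d (E.γ b) → ∀ v u, Commute (X d v) (W b u)

structure HS2 (E : ER Φ) (P : QE F K) (T : StSys Φ K A) (s : A) (X : ι → K → G) (ρ : G → A)
    (t : G) (y : ι → F → G) (c : F) (W : ι → K → G) : Prop extends HS1 E P T s X ρ t y c W where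
  wt : ∀ a u, W a u * t * (W a u)⁻¹ = t * X a u
  co : ∀ a u, HX.CO (tL X) t (W a u)
  mem : ∀ a u, W a u ∈ tG0 E X y
  gam : ∀ a u, W (E.γ a) u = W a (P.τ u)
  wadd : ∀ a u v, W a (u + v) = W a u * W a v
  df : ∀ r a b k, Tup E r a b k → ∀ v p,
    X a v * y r p * (X a v)⁻¹ = y r p * W b (P.f p * v) * y k (p * P.N v)
  ww : ∀ a b, 0 ≤ ip Φ a b → 0 ≤ ip Φ a (E.γ b) → ∀ u v, Commute (W a u) (W b v)
  xw : ∀ a b k, E.γ a ≠ a → E.γ k = k → RAdd Φ a b k → ∀ v u,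
    X a v * W b u * (X a v)⁻¹ = W b u * y k (P.T (v * u))

structure HS3 (E : ER Φ) (P : QE F K) (T : StSys Φ K A) (s : A) (X : ι → K → G) (ρ : G → A)
    (t : G) (y : ι → F → G) (c : F) (W : ι → K → G) : Prop extends HS2 E P T s X ρ t y c W where
  wwl : ∀ a b k, E.γ a ≠ a → E.γ k = k → RAdd Φ a b k → ∀ v u,
    W a v * W b u * (W a v)⁻¹ = W b u * y k (P.T (v * u)) * xl P X k (c * P.T (v * u))
  i1 : ∀ r a b k, Tup E r a b k → ∀ w p, W a w * xl P X r p * (W a w)⁻¹ =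
    xl P X r p * W b (P.f p * w) * y k (p * P.N w) * xl P X k (c * (p * P.N w))
  i2 : ∀ r a b k, Tup E r a b k → ∀ w p, W a w * y r p * (W a w)⁻¹ =
    y r p * W b (P.f p * w) * X b (P.f (c * p) * w) * y k ((1 + c) * (p * P.N w)) *
      xl P X k (c * (p * P.N w))

structure HS4 (E : ER Φ) (P : QE F K) (T : StSys Φ K A) (s : A) (X : ι → K → G) (ρ : G → A)
    (t : G) (y : ι → F → G) (c : F) (W : ι → K → G) : Prop extends HS3 E P T s X ρ t y c W where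
  j1 : ∀ a b k, E.γ a ≠ a → E.γ b ≠ b → E.γ k ≠ k → RAdd Φ a b k → ∀ v u,
    X a v * W b u * (X a v)⁻¹ = W b u * W k (v * u)
  j2 : ∀ a b k, E.γ a ≠ a → E.γ b ≠ b → E.γ k ≠ k → RAdd Φ a b k → ∀ v u,
    W a v * W b u * (W a v)⁻¹ = W b u * W k (v * u) * X k (P.f c * (v * u))

/-- the doubled family -/
def dX (X W : ι → K → G) (c : K) (a : ι) : HX.QA K c → G := HX.dx (X a) (W a)

/-- field case: `G0` is generated by a system over `K` on which `t` acts as a graph-field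
automorphism -/
structure DblF (E : ER Φ) (P : QE F K) (T : StSys Φ K A) (s : A) (X : ι → K → G) (ρ : G → A)
    (t : G) (y : ι → F → G) (c : F) (T' : StSys Φ K G) : Prop extends HatL E P T s X ρ t y c where
  tw : Tw E P T' t
  ext : ∀ a u, tx E P T' a u = X a u
  eqG : T'.grp = tG0 E X y

/-- product case -/
structure DblP (E : ER Φ) (P : QE F K) (T : StSys Φ K A) (s : A) (X : ι → K → G) (ρ : G → A)
    (t : G) (y : ι → F → G) (c : F) (X₁ X₂ : ι → K → G) (ρ₁ ρ₂ : G → A) : Prop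
    extends HatL E P T s X ρ t y c where
  s₁ : Sys E P T s X₁ ρ₁
  s₂ : Sys E P T s X₂ ρ₂
  c12 : ∀ a b u v, X₁ a u * X₂ b v = X₂ b v * X₁ a u
  ext : ∀ a u, X a u = X₁ a u * X₂ a u
  t12 : ∀ a u, t * X₁ a u * t⁻¹ = X₂ a u
  eqG : tL X₁ ⊔ tL X₂ = tG0 E X y

end CfsgLib.SLT
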