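import Mathlib
import Cfsg.Agent.Lib.SLT.Defs
import Cfsg.Agent.Lib.SLE.AutF

/-!
# Quadratic extensions in characteristic two
-/

set_option autoImplicit false
set_option linter.unusedSectionVars false

namespace CfsgLib.SLT

open CfsgLib.RGD CfsgLib.Stein CfsgLib.SLE Subgroup
open scoped commutatorElement Pointwise

universe u


namespace QE

section Ring

variable {F K : Type} [CommRing F] [CommRing K] (P : QE F K)
include P

theorem twoF : (2 : F) = 0 := P.inj (by rw [map_ofNat, map_zero, P.two])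

theorem add_selfK (v : K) : v + v = 0 := by rw [← two_mul, P.two, zero_mul]

theorem add_selfF (c : F) : c + c = 0 := by rw [← two_mul, P.twoF, zero_mul]

theorem τ_mul : P.τ * P.τ = 1 := RingEquiv.ext P.τ2

theorem T_add (u v : K) : P.T (u + v) = P.T u + P.T v :=
  P.inj (by rw [map_add, P.hT, P.hT, P.hT, map_add]; ring)

theorem T_zero : P.T 0 = 0 := P.inj (by rw [P.hT, map_zero, map_zero, add_zero])

theorem T_f (c : F) : P.T (P.f c) = 0 := P.inj (by rw [P.hT, P.τf, P.add_selfK, map_zero])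

theorem T_τ (u : K) : P.T (P.τ u) = P.T u := P.inj (by rw [P.hT, P.hT, P.τ2, add_comm])

theorem T_mul (c : F) (u : K) : P.T (P.f c * u) = c * P.T u :=
  P.inj (by rw [P.hT, map_mul, map_mul, P.hT, P.τf]; ring)

theorem T_ω (c : F) : P.T (P.ω * P.f c) = c :=
  P.inj (by rw [P.hT, map_mul, P.τf, ← add_mul, P.hω, one_mul])

theorem T_eq_zero {u : K} : P.T u = 0 ↔ ∃ c, u = P.f c := by
  refine ⟨fun h => (P.fix u).1 ?_, fun ⟨c, e⟩ => e ▸ P.T_f c⟩
  have h1 := P.hT u
  rw [h, map_zero] at h1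
  linear_combination -h1 - P.add_selfK u

theorem dec (u : K) : u = P.f (P.T (P.τ P.ω * u)) + P.ω * P.f (P.T u) := by
  rw [P.hT, P.hT, map_mul, P.τ2]
  linear_combination (-u) * P.hω - P.add_selfK (P.ω * P.τ u)

theorem N_zero : P.N 0 = 0 := P.inj (by rw [P.hN, zero_mul, map_zero])

theorem N_one : P.N 1 = 1 := P.inj (by rw [P.hN, map_one, map_one, mul_one])

theorem N_τ (u : K) : P.N (P.τ u) = P.N u := P.inj (by rw [P.hN, P.hN, P.τ2, mul_comm])

theorem N_mul (u v : K) : P.N (u * v) = P.N u * P.N v :=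
  P.inj (by rw [map_mul, P.hN, P.hN, P.hN, map_mul]; ring)

theorem N_f (c : F) : P.N (P.f c) = c * c := P.inj (by rw [P.hN, P.τf, map_mul])

theorem N_add (u v : K) : P.N (u + v) = P.N u + P.N v + P.T (u * P.τ v) :=
  P.inj (by rw [map_add, map_add, P.hN, P.hN, P.hN, P.hT, map_add, map_mul, P.τ2]; ring)

theorem τf_N (u : K) : P.τ (P.f (P.N u)) = P.f (P.N u) := P.τf _

end Ring

section Field

variable {F K : Type} [Field F] [Finite F] [CharP F 2] [Field K] [Finite K] [CharP K 2] (P : QE F K)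
include P

theorem τ_ne : P.τ ≠ 1 := fun h => by
  have h1 := P.hω
  rw [h] at h1
  exact zero_ne_one ((P.add_selfK P.ω).symm.trans h1)

theorem alg_card_fix : Nat.card {c // P.τ c = c} = Nat.card F :=
  (Nat.card_eq_of_bijective (fun c : F => (⟨P.f c, P.τf c⟩ : {c // P.τ c = c}))
    ⟨fun _ _ e => P.inj (congrArg Subtype.val e), fun ⟨v, hv⟩ => by
      obtain ⟨c, rfl⟩ := (P.fix v).1 hv
      exact ⟨c, rfl⟩⟩).symm

theorem card : Nat.card K = Nat.card F ^ 2 := by
  obtain ⟨q, -, -, h1, -, h2, -⟩ := SLE.aut_two P.τ_mul P.τ_ne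
  rw [h1, ← h2, P.alg_card_fix]

theorem τ_eq (v : K) : P.τ v = v ^ Nat.card F := by
  obtain ⟨q, -, -, -, h1, h2, -⟩ := SLE.aut_two P.τ_mul P.τ_ne
  rw [h1, ← h2, P.alg_card_fix]

theorem N_ne {v : K} (hv : v ≠ 0) : P.N v ≠ 0 := fun h => by
  have h1 := P.hN v
  rw [h, map_zero] at h1
  exact mul_ne_zero hv ((map_ne_zero P.τ).2 hv) h1.symm

theorem N_surj {c : F} (hc : c ≠ 0) : ∃ v, v ≠ 0 ∧ P.N v = c := by
  obtain ⟨m, rfl⟩ := FiniteField.isSquare_of_char_two (ringChar.eq F 2) c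
  exact ⟨P.f m, (map_ne_zero P.f).2 (left_ne_zero_of_mul hc), P.N_f m⟩

theorem T_nd {u : K} (h : ∀ v, P.T (v * u) = 0) : u = 0 := by
  by_contra hu
  have h1 := h (P.ω * P.f 1 * u⁻¹)
  rw [inv_mul_cancel_right₀ hu, P.T_ω] at h1
  exact one_ne_zero h1

theorem comm (σ : K ≃+* K) (v : K) : σ (P.τ v) = P.τ (σ v) :=
  DFunLike.congr_fun (SLE.aut_mul_comm σ P.τ) v

theorem eq_of_sq {σ : K ≃+* K} (h : σ * σ = 1) : σ = 1 ∨ σ = P.τ := by
  by_cases h1 : σ = 1
  · exact Or.inl h1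
  · exact Or.inr (SLE.aut_eq_of_sq h P.τ_mul h1 P.τ_ne)

theorem eq_of_fix {σ : K ≃+* K} (h : ∀ c, σ (P.f c) = P.f c) : σ = 1 ∨ σ = P.τ := by
  obtain ⟨q, -, -, -, -, -, h1, -⟩ := SLE.aut_two P.τ_mul P.τ_ne
  refine h1 σ fun v hv => ?_
  obtain ⟨c, rfl⟩ := (P.fix v).1 hv
  exact h c

theorem exists_res (σ : K ≃+* K) : ∃ σ₀ : F ≃+* F, (∀ c, σ (P.f c) = P.f (σ₀ c)) ∧
    (∀ v, P.T (σ v) = σ₀ (P.T v)) ∧ ∀ v, P.N (σ v) = σ₀ (P.N v) := by
  choose g hg using fun c => (P.fix (σ (P.f c))).1 (by rw [← P.comm, P.τf])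
  let φ : F →+* F :=
    { toFun := g
      map_one' := P.inj (by rw [← hg, map_one, map_one])
      map_mul' := fun a b => P.inj (by rw [map_mul, ← hg, ← hg, ← hg, map_mul, map_mul])
      map_zero' := P.inj (by rw [← hg, map_zero, map_zero])
      map_add' := fun a b => P.inj (by rw [map_add, ← hg, ← hg, ← hg, map_add, map_add]) }
  refine ⟨RingEquiv.ofBijective φ (Finite.injective_iff_bijective.1 φ.injective), hg,
    fun v => P.inj ?_, fun v => P.inj ?_⟩
  · exact ((hg (P.T v)).symm.trans (by rw [P.hT, P.hT, map_add, P.comm])).symm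
  · exact ((hg (P.N v)).symm.trans (by rw [P.hN, P.hN, map_mul, P.comm])).symm

theorem indep {a b c : K} (h : ∀ v, v * a + P.τ v * b + v * P.τ v * c = 0) :
    a = 0 ∧ b = 0 ∧ c = 0 := by
  have h1 := h 1
  have h2 := h P.ω
  have h3 := h (P.τ P.ω)
  rw [map_one] at h1
  rw [P.τ2] at h3
  have hω := P.hω
  have hab : a + b = 0 := by
    linear_combination h2 + h3 - (a + b) * hω - P.add_selfK (P.ω * P.τ P.ω * c)
  have hc : c = 0 := by linear_combination h1 - hab
  have hb : b = 0 := by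
    linear_combination h2 - P.ω * hab - (P.ω * P.τ P.ω) * hc - b * hω + P.add_selfK (P.ω * b)
  exact ⟨by linear_combination hab - hb, hb, hc⟩

theorem hil90 {d : K} (h : d * P.τ d = 1) : (∃ c, c ≠ 0 ∧ d * P.τ c = c) ∧
    ∀ c, d * P.τ c = c → ∃ a, c = a + d * P.τ a := by
  obtain ⟨q, -, -, -, -, -, -, h1⟩ := SLE.aut_two P.τ_mul P.τ_ne
  exact h1 d h

theorem exists_root {c : F} (hc : ∀ e : F, e * e + e ≠ c) :
    ∃ w : K, w * w + w = P.f c ∧ P.τ w = w + 1 := by
  let φ : F →+ F :=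
    { toFun := fun e => e * e + e
      map_zero' := by simp
      map_add' := fun a b => by linear_combination P.add_selfF (a * b) }
  have hk : Nat.card φ.ker = 2 := by
    rw [Nat.card_eq_two_iff]
    refine ⟨⟨0, by simp⟩, ⟨1, show (1 : F) * 1 + 1 = 0 by rw [mul_one, P.add_selfF]⟩,
      fun e => zero_ne_one (congrArg Subtype.val e), ?_⟩
    ext ⟨e, he⟩
    simp only [Set.mem_insert_iff, Set.mem_singleton_iff, Set.mem_univ, iff_true, Subtype.ext_iff]
    have h0 : e * e + e = 0 := he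
    have h1 : e * (e + 1) = 0 := by linear_combination h0
    refine (mul_eq_zero.1 h1).imp id fun h2 => ?_
    linear_combination h2 - P.add_selfF 1
  have hi : φ.range.index = 2 := by
    have h1 := φ.range.card_mul_index
    have h2 := φ.ker.card_mul_index
    rw [AddSubgroup.index_ker, hk, ← h1, mul_comm] at h2
    exact (Nat.eq_of_mul_eq_mul_left Nat.card_pos h2).symm
  have hn : P.f (P.N P.ω) = P.ω * P.ω + P.ω := by
    rw [P.hN]
    linear_combination P.ω * P.hω - P.add_selfK (P.ω * P.ω)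
  have h0 : P.N P.ω ∉ φ.range := by
    rintro ⟨e, he⟩
    have h1 : P.f (e * e + e) = P.ω * P.ω + P.ω := (congrArg P.f he).trans hn
    rw [map_add, map_mul] at h1
    have h2 : (P.ω + P.f e) * (P.ω + P.f e + 1) = 0 := by
      linear_combination -h1 + P.add_selfK (P.ω * P.f e + P.f e * P.f e + P.f e)
    have h3 : ∀ x, P.ω ≠ P.f x := fun x e => by
      have h4 := P.hω
      rw [e, P.τf, P.add_selfK] at h4
      exact zero_ne_one h4
    rcases mul_eq_zero.1 h2 with h4 | h4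
    · exact h3 e (by linear_combination h4 - P.add_selfK (P.f e))
    · exact h3 (e + 1) (by rw [map_add, map_one]; linear_combination h4 - P.add_selfK (P.f e + 1))
  have h1 : c ∉ φ.range := fun ⟨e, he⟩ => hc e he
  obtain ⟨e, he⟩ : c + P.N P.ω ∈ φ.range :=
    (AddSubgroup.add_mem_iff_of_index_two hi).2 (iff_of_false h1 h0)
  have h2 : P.f (e * e + e) = P.f (c + P.N P.ω) := congrArg P.f he
  rw [map_add, map_mul, map_add, hn] at h2
  refine ⟨P.ω + P.f e, ?_, ?_⟩
  · linear_combination h2 + P.add_selfK (P.ω * P.ω + P.ω + P.ω * P.f e)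
  · rw [map_add, P.τf]
    linear_combination P.hω - P.add_selfK P.ω

theorem card_aut : Nat.card (K ≃+* K) = 2 * Nat.card (F ≃+* F) := by
  have h1 := P.card
  rw [SLE.card_aut (F := K), SLE.card_aut (F := F), ← pow_mul] at h1
  rw [Nat.pow_right_injective le_rfl h1, mul_comm]

theorem aut_two (hq : Nat.card F = 2) (σ : K ≃+* K) : σ = 1 ∨ σ = P.τ := by
  refine P.eq_of_fix fun c => ?_
  obtain ⟨x, -, hx⟩ := (Nat.card_eq_two_iff' (0 : F)).1 hq
  by_cases h : c = 0
  · rw [h, map_zero, map_zero]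
  · rw [hx c h, ← hx 1 one_ne_zero, map_one, map_one]

end Field

end QE

/-- a field with `q²` elements is a quadratic extension -/
theorem exists_qe {K : Type} [Field K] [Finite K] [CharP K 2] {n : ℕ} (hn : 1 ≤ n)
    (hK : Nat.card K = (2 ^ n) ^ 2) : ∃ (F : Type) (_ : Field F) (_ : Finite F) (_ : CharP F 2)
      (_ : QE F K), Nat.card F = 2 ^ n := by
  have _ := hn
  have := SLE.finite_aut (F := K)
  have h1 := SLE.card_aut (F := K)
  rw [hK, ← pow_mul] at h1
  obtain ⟨σ, hσ⟩ := exists_prime_orderOf_dvd_card' (G := K ≃+* K) 2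
    (by rw [← Nat.pow_right_injective le_rfl h1]; exact dvd_mul_left 2 n)
  have s2 : σ * σ = 1 := by rw [← pow_two, ← hσ, pow_orderOf_eq_one]
  have s1 : σ ≠ 1 := by
    rintro rfl
    rw [orderOf_one] at hσ
    omega
  have ss : ∀ v, σ (σ v) = v := fun v => DFunLike.congr_fun s2 v
  obtain ⟨q, -, -, h2, -, h3, -, h4⟩ := SLE.aut_two s2 s1
  obtain ⟨ω, hω⟩ := (h4 1 (by rw [map_one, one_mul])).2 1 (by rw [map_one, one_mul])
  let F : Subfield K := RingHom.eqLocusField (σ : K →+* K) (RingHom.id K)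
  have mF : ∀ v, v ∈ F ↔ σ v = v := fun _ => Iff.rfl
  refine ⟨F, inferInstance, inferInstance, inferInstance,
    { f := F.subtype
      τ := σ
      ω := ω
      T := fun v => ⟨v + σ v, (mF _).2 (by rw [map_add, ss, add_comm])⟩
      N := fun v => ⟨v * σ v, (mF _).2 (by rw [map_mul, ss, mul_comm])⟩
      two := CharTwo.two_eq_zero
      inj := Subtype.val_injective
      τ2 := ss
      fix := fun v => ⟨fun h => ⟨⟨v, h⟩, rfl⟩, fun ⟨c, e⟩ => e ▸ c.2⟩
      hω := by rw [one_mul] at hω; exact hω.symm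
      hT := fun _ => rfl
      hN := fun _ => rfl }, ?_⟩
  rw [hK] at h2
  exact (show Nat.card F = q from h3).trans (Nat.pow_left_injective two_ne_zero h2).symm

end CfsgLib.SLT
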