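import Mathlib
import Cfsg.Agent.Lib.SLT.Defs

/-!
# The twisted Weyl group
-/

set_option autoImplicit false
set_option linter.unusedSectionVars false

namespace CfsgLib.SLT

open CfsgLib.RGD CfsgLib.Stein CfsgLib.SLE Subgroup
open scoped commutatorElement Pointwise

universe u


variable {ι κ : Type} [Fintype κ] [DecidableEq κ] [Finite ι] {Φ : RootSys ι κ} {E : ER Φ}

theorem rt_rf' (E : ER Φ) (d a : ι) (j : κ) :
    Φ.rt (rf Φ d a) j = Φ.rt a j - ip Φ d a * Φ.rt d j :=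
  rt_rf d a (by rw [E.ip_self]) j

theorem ip_rf (E : ER Φ) (d a v : ι) : ip Φ (rf Φ d a) v = ip Φ a v - ip Φ d a * ip Φ d v := by
  rw [ip_comb (r := a) (s := d) (a := 1) (b := -ip Φ d a) (fun j => by rw [rt_rf' E]; ring) v]
  ring

theorem ht_rf (E : ER Φ) (d a : ι) : Φ.ht (rf Φ d a) = Φ.ht a - ip Φ d a * Φ.ht d := by
  simp only [RootSys.ht, rt_rf' E, Finset.sum_sub_distrib, Finset.mul_sum]

theorem rf_comm (E : ER Φ) {d e : ι} (h : ip Φ d e = 0) (a : ι) :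
    rf Φ d (rf Φ e a) = rf Φ e (rf Φ d a) := Φ.rt_inj _ _ (funext fun j => by
  rw [rt_rf' E, rt_rf' E, rt_rf' E, rt_rf' E, ip_comm d, ip_comm e (rf Φ d a), ip_rf E, ip_rf E, h,
    ip_comm e d, h, ip_comm a d, ip_comm a e]
  ring)

theorem rf_rf (E : ER Φ) (d a : ι) : rf Φ d (rf Φ d a) = a := Φ.rt_inj _ _ (funext fun j => by
  rw [rt_rf' E, rt_rf' E, ip_comm d (rf Φ d a), ip_rf E, E.ip_self, ip_comm a d]
  ring)

theorem rf_neg (E : ER Φ) (d : ι) : rf Φ (Φ.neg d) = rf Φ d :=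
  Equiv.ext fun a => Φ.rt_inj _ _ (funext fun j => by
    rw [rt_rf' E, rt_rf' E, ip_neg_left, Φ.rt_neg]
    ring)

theorem γ_rf (E : ER Φ) (d a : ι) : E.γ (rf Φ d a) = rf Φ (E.γ d) (E.γ a) := by
  rcases E.ip_cases d a with ⟨rfl, -⟩ | h | h | h | ⟨rfl, -⟩
  · rw [(E.rf_self a).1, (E.rf_self _).1, E.γn]
  · obtain ⟨b, hb⟩ := E.exists_sub h
    rw [(E.rf_add hb.symm).2, (E.rf_add (E.γa _ _ _ hb.symm)).2]
  · rw [E.rf_orth h, E.rf_orth ((E.γip d a).trans h)]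
  · obtain ⟨k, hk⟩ := E.exists_add ((ip_comm a d).trans h)
    rw [(E.rf_add hk).1, (E.rf_add (E.γa _ _ _ hk)).1]
  · rw [(E.rf_self d).2, E.γn, (E.rf_self _).2]

theorem γ_neg (E : ER Φ) (r : ι) : Φ.Neg (E.γ r) ↔ Φ.Neg r := by
  rw [Φ.neg_iff_not_pos, Φ.neg_iff_not_pos, E.γ_pos]

theorem ip_γ (E : ER Φ) (a b : ι) : ip Φ (E.γ a) b = ip Φ a (E.γ b) := by
  rw [← E.γip a, E.γ2]

theorem γ_eq_iff (E : ER Φ) {a b : ι} : E.γ a = b ↔ a = E.γ b :=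
  ⟨fun e => by rw [← e, E.γ2], fun e => by rw [e, E.γ2]⟩

theorem WT_le (Ψ : Set ι) : WT E Ψ ≤ Φ.W := (closure_le _).2 <| by
  rintro _ ⟨d, -, ⟨-, rfl⟩ | ⟨-, rfl⟩⟩
  exacts [rf_mem d, mul_mem (rf_mem d) (rf_mem _)]

theorem WT_mono {Ψ Ψ' : Set ι} (h : Ψ ⊆ Ψ') : WT E Ψ ≤ WT E Ψ' :=
  closure_mono fun _ ⟨d, hd, e⟩ => ⟨d, h hd, e⟩

theorem WT_γ {Ψ : Set ι} {w : Equiv.Perm ι} (hw : w ∈ WT E Ψ) (r : ι) : E.γ (w r) = w (E.γ r) := by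
  have : WT E Ψ ≤ centralizer {E.γ} := (closure_le _).2 <| by
    rintro _ ⟨d, -, ⟨h, rfl⟩ | ⟨h, rfl⟩⟩ <;> refine mem_centralizer_singleton_iff.2 (Equiv.ext fun a => ?_)
    · simp [γ_rf, h]
    · simp only [Equiv.Perm.mul_apply, γ_rf, E.γ2]
      exact rf_comm E (E.γ_orth h) _
  exact (congrArg (· r) (mem_centralizer_singleton_iff.1 (this hw))).symm

theorem WT_ip {Ψ : Set ι} {w : Equiv.Perm ι} (hw : w ∈ WT E Ψ) (r r' : ι) :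
    ip Φ (w r) (w r') = ip Φ r r' := ip_apply (WT_le Ψ hw) r r'

theorem WT_long {Ψ : Set ι} {w : Equiv.Perm ι} (hw : w ∈ WT E Ψ) (r : ι) :
    E.γ (w r) = w r ↔ E.γ r = r := by rw [WT_γ hw, w.apply_eq_iff_eq]

theorem WT_fix {Ψ : Set ι} {w : Equiv.Perm ι} (hw : w ∈ WT E Ψ) {r : ι} (hr : E.γ r = r)
    (h : ∀ d ∈ Ψ, ip Φ d r = 0) : w r = r := by
  refine (closure_le (MulAction.stabilizer (Equiv.Perm ι) r)).2 ?_ hw
  rintro _ ⟨d, hd, ⟨-, rfl⟩ | ⟨-, rfl⟩⟩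
  · exact E.rf_orth (h d hd)
  · change rf Φ d (rf Φ (E.γ d) r) = r
    rw [E.rf_orth (d := E.γ d) (by rw [ip_γ, hr, h d hd]), E.rf_orth (h d hd)]

theorem rf_mem_WT {Ψ : Set ι} {d : ι} (hd : d ∈ Ψ) (h : E.γ d = d) : rf Φ d ∈ WT E Ψ :=
  subset_closure ⟨d, hd, .inl ⟨h, rfl⟩⟩

theorem rf2_mem_WT {Ψ : Set ι} {d : ι} (hd : d ∈ Ψ) (h : E.γ d ≠ d) :
    rf Φ d * rf Φ (E.γ d) ∈ WT E Ψ := subset_closure ⟨d, hd, .inr ⟨h, rfl⟩⟩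

/-- the elements of `W_J` commuting with `γ` -/
theorem mem_WT {J : Set κ} {w : Equiv.Perm ι} (hw : w ∈ Φ.WJ J) (h : ∀ r, E.γ (w r) = w (E.γ r)) :
    w ∈ WT E (Φ.simple '' J) := by
  induction hn : Φ.len w using Nat.strong_induction_on generalizing w with
  | _ n ih =>
  subst hn
  by_cases h1 : w = 1
  · exact h1 ▸ one_mem _
  obtain ⟨i, hi, hneg⟩ := Φ.exists_neg_simple hw h1
  have hW := Φ.WJ_le_W J hw
  have key : ∀ g ∈ WT E (Φ.simple '' J), g ∈ Φ.WJ J → Φ.len (w * g) < Φ.len w →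
      w ∈ WT E (Φ.simple '' J) := fun g hg hg' hl => (mul_mem_cancel_right hg).1
    (ih _ hl (mul_mem hw hg') (fun r => by simp [h, WT_γ hg]) rfl)
  have l1 := Φ.len_mul_s_of_neg hW hneg
  by_cases e : E.γ (Φ.simple i) = Φ.simple i
  · exact key (Φ.s i) (E.rf_simple i ▸ rf_mem_WT ⟨i, hi, rfl⟩ e) (Φ.s_mem_WJ hi) (by omega)
  obtain ⟨j, hj⟩ := E.γs i
  have nj : Φ.Neg (w (Φ.simple j)) := by rw [← hj, ← h, γ_neg]; exact hneg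
  have l2 := Φ.len_mul_s_of_neg (mul_mem hW (Φ.s_mem_W i)) (i := j) (by
    rwa [Equiv.Perm.mul_apply, ← E.rf_simple, E.rf_orth (hj ▸ E.γ_orth e)])
  refine key (Φ.s i * Φ.s j) ?_ (mul_mem (Φ.s_mem_WJ hi) (Φ.s_mem_WJ
    (Φ.inSub_simple_iff.1 (Φ.Inv_subset_of_mem_WJ hw ⟨Φ.pos_simple j, nj⟩)))) (by
      rw [← mul_assoc]; omega)
  rw [← E.rf_simple, ← E.rf_simple, ← hj]
  exact rf2_mem_WT ⟨i, hi, rfl⟩ e

theorem mem_WT_univ {w : Equiv.Perm ι} (hw : w ∈ Φ.W) (h : ∀ r, E.γ (w r) = w (E.γ r)) :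
    w ∈ WT E (Set.range Φ.simple) := Set.image_univ ▸ mem_WT (Φ.W_eq_WJ ▸ hw) h

/-- a long root can be made dominant for `J` -/
theorem exists_dom_long (J : Set κ) {r : ι} (hr : E.γ r = r) :
    ∃ w ∈ WT E (Φ.simple '' J), ∀ i ∈ J, 0 ≤ ip Φ (w r) (Φ.simple i) := by
  obtain ⟨⟨w, hw⟩, h⟩ := Finite.exists_max fun w : WT E (Φ.simple '' J) => Φ.ht (w.1 r)
  refine ⟨w, hw, fun i hi => not_lt.1 fun k => ?_⟩
  rw [ip_comm] at k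
  by_cases e : E.γ (Φ.simple i) = Φ.simple i
  · have := h ⟨_, mul_mem (rf_mem_WT ⟨i, hi, rfl⟩ e) hw⟩
    simp only [Equiv.Perm.mul_apply, ht_rf E, Φ.ht_simple] at this
    omega
  · have := h ⟨_, mul_mem (rf2_mem_WT ⟨i, hi, rfl⟩ e) hw⟩
    simp only [Equiv.Perm.mul_apply] at this
    rw [ht_rf E, ht_rf E, E.γ_ht, Φ.ht_simple, ip_comm (Φ.simple i), ip_rf E, ip_γ,
      (WT_long hw r).2 hr, ip_comm (E.γ _), E.γ_orth e, ip_comm (w r)] at this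
    omega

theorem trans_long {r : ι} (hr : E.γ r = r) : ∃ w ∈ WT E Set.univ, w E.θ = r := by
  obtain ⟨w, hw, h⟩ := exists_dom_long Set.univ hr
  refine ⟨w⁻¹, inv_mem (WT_mono (Set.subset_univ _) hw),
    Equiv.Perm.inv_eq_iff_eq.2 (by_contra fun k => ?_)⟩
  obtain ⟨i, hi⟩ := E.up (w r) (Ne.symm k)
  exact hi.not_ge (h i trivial)

theorem ptrans_long {r r' : ι} (hr : E.γ r = r) (hr' : E.γ r' = r') (h : ip Φ r r' = 1) :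
    ∃ w ∈ WT E Set.univ, w E.θ = r ∧ w E.β = r' := by
  obtain ⟨v, hv, rfl⟩ := trans_long hr
  obtain ⟨s, rfl⟩ := v.surjective r'
  rw [WT_long hv] at hr'
  rw [WT_ip hv, ip_comm] at h
  obtain ⟨w, hw, k⟩ := exists_dom_long {i | i ≠ E.i₀} hr'
  have e : w E.θ = E.θ := WT_fix hw E.γ_θ (by rintro _ ⟨i, hi, rfl⟩; rw [E.top, if_neg hi])
  have e2 : w s = E.β := by_contra fun h3 => by
    obtain ⟨i, m, hi, hm⟩ := E.up_V (by rw [← e, WT_ip hw, h]) h3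
    have := k i hi
    rw [(E.radd_ip hm).1] at this
    omega
  refine ⟨v * w⁻¹, mul_mem hv (inv_mem (WT_mono (Set.subset_univ _) hw)), ?_, ?_⟩
  · rw [Equiv.Perm.mul_apply, Equiv.Perm.inv_eq_iff_eq.2 e.symm]
  · rw [Equiv.Perm.mul_apply, Equiv.Perm.inv_eq_iff_eq.2 e2.symm]

theorem inv_orth_θ {w : Equiv.Perm ι} (hw : w ∈ Φ.W) (h : w E.θ = E.θ) {r : ι} (hr : r ∈ Φ.Inv w) :
    ip Φ r E.θ = 0 := by
  have e1 := E.nonneg_θ hr.1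
  have e2 := E.nonneg_θ (Φ.pos_neg_iff.2 hr.2)
  rw [ip_neg_left, ← h, ip_apply hw] at e2
  omega

theorem stab_θ {w : Equiv.Perm ι} (hw : w ∈ WT E Set.univ) (h : w E.θ = E.θ) :
    w ∈ WT E {d | ip Φ d E.θ = 0} :=
  WT_mono (by rintro _ ⟨i, hi, rfl⟩; exact (E.top i).trans (if_neg hi))
    (mem_WT (J := {i | i ≠ E.i₀}) (Φ.mem_WJ_of_Inv (WT_le _ hw) fun r hr =>
      (E.orth_θ_iff r).1 (inv_orth_θ (WT_le _ hw) h hr)) (WT_γ hw))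

theorem stab_θβ {w : Equiv.Perm ι} (hw : w ∈ WT E Set.univ) (h : w E.θ = E.θ) (h' : w E.β = E.β) :
    w ∈ WT E {d | ip Φ d E.θ = 0 ∧ ip Φ d E.β = 0} := by
  refine WT_mono (by rintro _ ⟨i, hi, rfl⟩; exact hi)
    (mem_WT (J := {i | ip Φ (Φ.simple i) E.θ = 0 ∧ ip Φ (Φ.simple i) E.β = 0})
      (Φ.mem_WJ_of_Inv (WT_le _ hw) fun r hr => (E.orth_θβ_iff r).1 ?_) (WT_γ hw))
  have e0 := inv_orth_θ (WT_le _ hw) h hr
  have e1 := E.nonneg_β hr.1 fun e => by rw [e, E.ip_αθ] at e0; omega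
  have e2 := E.nonneg_β (Φ.pos_neg_iff.2 hr.2) fun e => by
    have := E.ip_αθ
    rw [← e, ip_neg_left, ← h, WT_ip hw, e0] at this
    omega
  rw [ip_neg_left, ← h', WT_ip hw] at e2
  exact ⟨e0, by omega⟩

theorem exists_simple_pos {r : ι} (hr : Φ.Pos r) :
    ∃ w ∈ WT E (Set.range Φ.simple), ∃ i, w r = Φ.simple i := by
  have : Nonempty {w : WT E (Set.range Φ.simple) // Φ.Pos (w.1 r)} := ⟨⟨1, hr⟩⟩
  obtain ⟨⟨⟨w, hw⟩, hp⟩, h⟩ :=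
    Finite.exists_min fun w : {w : WT E (Set.range Φ.simple) // Φ.Pos (w.1 r)} => Φ.ht (w.1.1 r)
  refine ⟨w, hw, by_contra fun hn => ?_⟩
  push Not at hn
  dsimp only at hp h
  have key : ∀ g ∈ WT E (Set.range Φ.simple), Φ.Pos (g (w r)) → Φ.ht (w r) ≤ Φ.ht (g (w r)) :=
    fun g hg k => h ⟨⟨g * w, mul_mem hg hw⟩, k⟩
  generalize w r = x at *
  obtain ⟨i, hi⟩ : ∃ i, 0 < ip Φ (Φ.simple i) x + ip Φ (Φ.simple i) (E.γ x) := by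
    by_contra! k
    have e1 : ip Φ x x + ip Φ x (E.γ x) ≤ 0 := by
      rw [ip_sum x x, ip_sum x, ← Finset.sum_add_distrib]
      exact Finset.sum_nonpos fun i _ => by
        rw [← mul_add]; exact mul_nonpos_of_nonneg_of_nonpos (hp i) (k i)
    have := E.γo x
    rw [E.ip_self] at e1
    omega
  rw [← ip_γ] at hi
  by_cases e : E.γ (Φ.simple i) = Φ.simple i
  · have := key _ (rf_mem_WT ⟨i, rfl⟩ e) (E.rf_simple i ▸ Φ.pos_s hp (hn i))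
    rw [ht_rf E, Φ.ht_simple] at this
    rw [e] at hi
    omega
  obtain ⟨j, hj⟩ := E.γs i
  have o := E.γ_orth e
  have := key _ (rf2_mem_WT ⟨i, rfl⟩ e) (by
    rw [Equiv.Perm.mul_apply, E.rf_simple i]
    refine Φ.pos_s (by rw [hj, E.rf_simple]; exact Φ.pos_s hp (hn j)) fun k => hn i ?_
    rw [← rf_rf E (E.γ (Φ.simple i)) x, k, E.rf_orth (by rw [ip_comm, o])])
  rw [Equiv.Perm.mul_apply, ht_rf E, ht_rf E, E.γ_ht, Φ.ht_simple, ip_comm (Φ.simple i), ip_rf E,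
    ip_comm (E.γ _) (Φ.simple i), o, ip_comm x] at this
  omega

theorem exists_simple (r : ι) : ∃ w ∈ WT E (Set.range Φ.simple), ∃ i, w (Φ.simple i) = r := by
  rcases Φ.pos_or_neg r with h | h
  · obtain ⟨w, hw, i, e⟩ := exists_simple_pos (E := E) h
    exact ⟨w⁻¹, inv_mem hw, i, Equiv.Perm.inv_eq_iff_eq.2 e.symm⟩
  obtain ⟨w, hw, i, e⟩ := exists_simple_pos (E := E) (Φ.pos_neg_iff.2 h)
  obtain ⟨g, hg, k⟩ : ∃ g ∈ WT E (Set.range Φ.simple), g (Φ.simple i) = Φ.neg (Φ.simple i) := by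
    by_cases k : E.γ (Φ.simple i) = Φ.simple i
    · exact ⟨_, rf_mem_WT ⟨i, rfl⟩ k, (E.rf_self _).1⟩
    · exact ⟨_, rf2_mem_WT ⟨i, rfl⟩ k, by
        rw [Equiv.Perm.mul_apply, E.rf_orth (d := E.γ _) (by rw [ip_comm, E.γ_orth k]),
          (E.rf_self _).1]⟩
  refine ⟨w⁻¹ * g, mul_mem (inv_mem hw) hg, i, ?_⟩
  rw [Equiv.Perm.mul_apply, k, ← e, ← Φ.apply_neg (WT_le _ hw), Φ.neg_neg]
  simp

theorem γ_conj_mem {w : Equiv.Perm ι} (hw : w ∈ Φ.W) : E.γ * w * E.γ⁻¹ ∈ Φ.W := by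
  refine (closure_le (Φ.W.comap (MulAut.conj E.γ).toMonoidHom)).2 ?_ hw
  rintro _ ⟨i, rfl⟩
  have : E.γ * Φ.s i * E.γ⁻¹ = rf Φ (E.γ (Φ.simple i)) := Equiv.ext fun a => by
    simp [← E.rf_simple, γ_rf]
  change E.γ * Φ.s i * E.γ⁻¹ ∈ Φ.W
  exact this ▸ rf_mem _

/-- the longest element of a `γ`-stable parabolic subgroup -/
theorem exists_wJ {J : Set κ} (hJ : ∀ r, Φ.InSub J r → Φ.InSub J (E.γ r)) :
    ∃ w ∈ WT E {r | Φ.InSub J r}, (∀ r, Φ.InSub J r → Φ.Pos r → Φ.Neg (w r)) ∧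
      (∀ r, Φ.InSub J (w r) ↔ Φ.InSub J r) ∧ ∀ r, ¬ Φ.InSub J r → (Φ.Pos (w r) ↔ Φ.Pos r) := by
  obtain ⟨w, hw, h⟩ := Φ.exists_longest J
  have hW := Φ.WJ_le_W J hw
  have hI : ∀ r, r ∈ Φ.Inv w ↔ Φ.Pos r ∧ Φ.InSub J r := fun r =>
    ⟨fun k => ⟨k.1, Φ.Inv_subset_of_mem_WJ hw k⟩, fun k => ⟨k.1, h r k.1 k.2⟩⟩
  have e := Φ.eq_of_Inv_eq (γ_conj_mem (E := E) hW) hW (Set.ext fun r => by
    obtain ⟨r, rfl⟩ := E.γ.surjective r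
    rw [hI, Φ.mem_Inv]
    simp only [Equiv.Perm.mul_apply, Equiv.Perm.coe_inv, Equiv.symm_apply_apply, γ_neg, E.γ_pos]
    rw [← Φ.mem_Inv, hI]
    exact and_congr_right fun _ => ⟨hJ r, fun k => E.γ2 r ▸ hJ _ k⟩)
  refine ⟨w, WT_mono (by rintro _ ⟨i, hi, rfl⟩; exact Φ.inSub_simple_iff.2 hi)
    (mem_WT hw fun r => by simpa using congrArg (· (E.γ r)) e), fun r k1 k2 => h r k2 k1,
    fun r => Φ.inSub_apply_iff hw, fun r k => ⟨fun k1 => by_contra fun k2 => ?_,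
      fun k1 => Φ.pos_apply_of_not_inSub hw k1 k⟩⟩
  have := Φ.pos_apply_of_not_inSub hw (Φ.pos_neg_iff.2 (Φ.neg_iff_not_pos.2 k2))
    (mt Φ.inSub_neg_iff.1 k)
  rw [Φ.apply_neg hW, Φ.pos_neg_iff] at this
  exact Φ.not_neg_of_pos k1 this

theorem idl_diff2 (i : κ) : Idl Φ ({r | Φ.Pos r} \ {Φ.simple i, E.γ (Φ.simple i)}) := by
  obtain ⟨j, hj⟩ := E.γs i
  refine ⟨fun _ h => h.1, fun _ h _ ha _ hk => ⟨radd_pos hk h.1 ha, ?_⟩⟩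
  rintro (e | e)
  exacts [hk.isSum.ne_simple h.1 ha i e, hk.isSum.ne_simple h.1 ha j (e.trans hj)]

theorem gen_diff2 (i : κ) : Gen Φ ({r | Φ.Pos r} \ {Φ.simple i, E.γ (Φ.simple i)}) := fun T h1 h2 h3 => by
  refine E.gen_simple T ?_ h2 h3
  rintro _ ⟨j, rfl⟩
  by_cases e : Φ.simple j ∈ ({Φ.simple i, E.γ (Φ.simple i)} : Set ι)
  · obtain ⟨l, m, hm⟩ := E.up_pos (Φ.pos_simple j)
      (E.hβ.isSum.ne_simple (Φ.pos_simple _) E.pos_β j).symm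
    obtain ⟨i', hi⟩ := E.γs i
    refine h3 m (h1 ⟨radd_pos hm (Φ.pos_simple j) (Φ.pos_simple l), ?_⟩) _
      (h2 _ (h1 ⟨Φ.pos_simple l, fun k => ?_⟩)) _ hm.sub
    · rintro (k | k)
      exacts [hm.isSum.ne_simple (Φ.pos_simple j) (Φ.pos_simple l) i k,
        hm.isSum.ne_simple (Φ.pos_simple j) (Φ.pos_simple l) i' (k.trans hi)]
    · have k1 := (E.radd_ip hm).1
      have k2 := E.γo (Φ.simple i)
      rcases e with e | e <;> rcases k with k | k <;> rw [e, k] at k1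
      · rw [E.ip_self] at k1; omega
      · omega
      · rw [ip_comm] at k1; omega
      · rw [E.ip_self] at k1; omega
  · exact h1 ⟨Φ.pos_simple j, e⟩

theorem cl_of_idl {Ψ : Set ι} (h : Idl Φ Ψ) (hγ : ∀ r ∈ Ψ, E.γ r ∈ Ψ) : Cl E Ψ :=
  ⟨h.1, fun a ha b hb k hk => h.2 a ha b (h.1 b hb) k hk, hγ⟩

theorem ip_γ_long {r : ι} (hr : E.γ r = r) (a : ι) : ip Φ (E.γ a) r = ip Φ a r := by rw [ip_γ, hr]

theorem cl_pos : Cl E {r | Φ.Pos r} := cl_of_idl E.idl_pos fun r h => (E.γ_pos r).2 h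

theorem cl_Q : Cl E {r | 1 ≤ ip Φ r E.θ} :=
  cl_of_idl E.idl_Q fun r h => Eq.trans_ge (ip_γ_long E.γ_θ r) h

theorem cl_R : Cl E ({r | Φ.Pos r} \ {E.α}) := cl_of_idl (E.idl_diff E.i₀) fun r h =>
  ⟨(E.γ_pos r).2 h.1, fun e => h.2 (((γ_eq_iff E).1 e).trans E.γ_α)⟩

theorem cl_R2 : Cl E {r | 0 ≤ ip Φ r E.θ ∧ 0 ≤ ip Φ r E.β ∧ 1 ≤ ip Φ r E.θ + ip Φ r E.β} := by
  refine ⟨fun r h => E.pos_θβ h.2.2, fun a ha b hb k hk => ?_, fun r h => ?_⟩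
  · simp only [Set.mem_ofPred_eq, hk.ip_left] at ha hb ⊢
    omega
  · simpa only [Set.mem_ofPred_eq, ip_γ_long E.γ_θ, ip_γ_long E.γ_β] using h

theorem cl_W : Cl E {E.θ, E.β} := by
  refine ⟨?_, fun a ha b hb k hk => ?_, ?_⟩
  · rintro _ (rfl | rfl)
    exacts [E.pos_θ, E.pos_β]
  · have k1 := (E.radd_ip hk).1
    have k2 := E.ip_βθ
    rcases ha with rfl | rfl <;> rcases hb with rfl | rfl
    · rw [E.ip_self] at k1; omega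
    · rw [ip_comm] at k1; omega
    · omega
    · rw [E.ip_self] at k1; omega
  · rintro _ (rfl | rfl)
    exacts [.inl E.γ_θ, .inr E.γ_β]

theorem cl_Z : Cl E {E.θ} := by
  refine ⟨?_, ?_, ?_⟩
  · rintro _ rfl
    exact E.pos_θ
  · rintro _ rfl _ rfl k hk
    exact absurd hk.isSum (Φ.not_isSum_self _ _)
  · rintro _ rfl
    exact E.γ_θ

theorem cl_Rj (i : κ) : Cl E ({r | Φ.Pos r} \ {Φ.simple i, E.γ (Φ.simple i)}) :=
  cl_of_idl (idl_diff2 i) fun r h => ⟨(E.γ_pos r).2 h.1, fun e => h.2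
    (e.elim (fun k => .inr ((γ_eq_iff E).1 k)) fun k => .inl (E.γ.injective k))⟩

theorem cl_ht (m : ℤ) : Cl E {r | Φ.Pos r ∧ m ≤ Φ.ht r} :=
  cl_of_idl (E.idl_ht m) fun r h => ⟨(E.γ_pos r).2 h.1, (E.γ_ht r).symm ▸ h.2⟩

theorem cl_Inv {w : Equiv.Perm ι} (hw : w ∈ WT E Set.univ) : Cl E (Φ.Inv w) :=
  ⟨fun _ h => h.1, fun _ ha _ hb _ hk => ⟨radd_pos hk ha.1 hb.1,
    (hk.apply (WT_le _ hw)).isSum.neg_root ha.2 hb.2⟩,
    fun r h => ⟨(E.γ_pos r).2 h.1, WT_γ hw r ▸ (γ_neg E _).2 h.2⟩⟩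

theorem Cl.closed {Ψ : Set ι} (h : Cl E Ψ) : Φ.Closed Ψ := E.closed_of h.pos h.add

theorem long_add {a b k : ι} (h : RAdd Φ a b k) (ha : E.γ a = a) (hb : E.γ b = b) : E.γ k = k := by
  have := E.γa _ _ _ h
  rw [ha, hb] at this
  exact this.unique' h

theorem long_neg {r : ι} : E.γ (Φ.neg r) = Φ.neg r ↔ E.γ r = r := by
  rw [E.γn, Φ.neg_injective.eq_iff]

namespace Tup

variable {r a b k : ι} (h : Tup E r a b k)
include h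

theorem hb' : RAdd Φ r (E.γ a) (E.γ b) := by simpa only [h.lr] using E.γa _ _ _ h.hb

theorem mb : E.γ b ≠ b := fun e => h.ma ((e ▸ h.hb').unique h.hb)

theorem hk' : RAdd Φ a (E.γ b) k := fun j => by rw [h.hk j, h.hb j, h.hb' j]; ring

theorem lk : E.γ k = k := by
  have := E.γa _ _ _ h.hk
  rw [E.γ2] at this
  exact this.unique' h.hk'.symm

/-- all inner products -/
theorem ips : ip Φ r a = -1 ∧ ip Φ r b = 1 ∧ ip Φ r k = 0 ∧ ip Φ a b = 1 ∧ ip Φ a k = 1 ∧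
    ip Φ b k = 1 ∧ ip Φ a (E.γ b) = -1 ∧ ip Φ a (E.γ a) = 0 ∧ ip Φ b (E.γ b) = 0 := by
  obtain ⟨e1, e2, e3⟩ := E.radd_ip h.hb
  refine ⟨e1, e2, ?_, e3, (E.radd_ip h.hk').2.1, (E.radd_ip h.hk).2.1, (E.radd_ip h.hk').1,
    E.γ_orth h.ma, E.γ_orth h.mb⟩
  rw [h.hk.ip_right, e2, (E.radd_ip h.hb').1]; rfl

theorem γ : Tup E r (E.γ a) (E.γ b) k :=
  ⟨h.lr, by rw [E.γ2]; exact h.ma.symm, h.hb', by rw [E.γ2]; exact h.hk'.symm⟩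

theorem dual : Tup E k (Φ.neg (E.γ a)) b r :=
  ⟨h.lk, mt long_neg.1 h.γ.ma, h.hk.sub, by rw [E.γn, E.γ2]; exact h.hb.sub⟩

theorem apply {w : Equiv.Perm ι} (hw : w ∈ WT E Set.univ) : Tup E (w r) (w a) (w b) (w k) :=
  ⟨(WT_long hw r).2 h.lr, mt (WT_long hw a).1 h.ma, h.hb.apply (WT_le _ hw),
    by rw [WT_γ hw]; exact h.hk.apply (WT_le _ hw)⟩

end Tup

theorem exists_tup {r a : ι} (hr : E.γ r = r) (ha : E.γ a ≠ a) (h : ip Φ r a = -1) :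
    ∃ b k, Tup E r a b k := by
  obtain ⟨b, hb⟩ := E.exists_add h
  obtain ⟨k, hk⟩ := E.exists_add (a := b) (b := E.γ a) (by
    rw [hb.ip_left, E.γ_orth ha, ← ip_γ, hr, h]; rfl)
  exact ⟨b, k, hr, ha, hb, hk⟩

theorem exists_tup' {r b : ι} (hr : E.γ r = r) (hb : E.γ b ≠ b) (h : ip Φ r b = 1) :
    ∃ a k, Tup E r a b k := by
  obtain ⟨a, ha⟩ := E.exists_sub h
  obtain ⟨b', k, t⟩ := exists_tup hr (fun e => hb (long_add ha hr e)) (E.radd_ip ha).1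
  exact ⟨a, k, ha.unique' t.hb ▸ t⟩

/-- the five kinds of pairs of roots -/
theorem TR.cases (h : TR E) {a b : ι} (h1 : b ≠ Φ.neg a) (h2 : E.γ b ≠ Φ.neg a) :
    (0 ≤ ip Φ a b ∧ 0 ≤ ip Φ a (E.γ b)) ∨
    (∃ k, RAdd Φ a b k ∧ 0 ≤ ip Φ a (E.γ b)) ∨ (∃ k, RAdd Φ a (E.γ b) k ∧ 0 ≤ ip Φ a b) ∨
    (∃ k, RAdd Φ a b k ∧ E.γ a = a ∧ E.γ b = b) ∨ (∃ m k, Tup E a b m k) ∨ ∃ m k, Tup E b a m k := by
  have e1 : -1 ≤ ip Φ a b := not_lt.1 fun k => h1 (E.eq_neg_of_ip (by omega))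
  have e2 : -1 ≤ ip Φ a (E.γ b) := not_lt.1 fun k => h2 (E.eq_neg_of_ip (by omega))
  by_cases k1 : 0 ≤ ip Φ a b <;> by_cases k2 : 0 ≤ ip Φ a (E.γ b)
  · exact .inl ⟨k1, k2⟩
  · obtain ⟨k, hk⟩ := E.exists_add (by omega : ip Φ a (E.γ b) = -1)
    exact .inr (.inr (.inl ⟨k, hk, k1⟩))
  · obtain ⟨k, hk⟩ := E.exists_add (by omega : ip Φ a b = -1)
    exact .inr (.inl ⟨k, hk, k2⟩)
  have e3 : ip Φ a b = -1 := by omega
  refine .inr (.inr (.inr ?_))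
  by_cases ha : E.γ a = a <;> by_cases hb : E.γ b = b
  · obtain ⟨k, hk⟩ := E.exists_add e3
    exact .inl ⟨k, hk, ha, hb⟩
  · exact .inr (.inl (exists_tup ha hb e3))
  · exact .inr (.inr (exists_tup hb ha ((ip_comm b a).trans e3)))
  · exact absurd (h.mm a b ha hb e3) k2

end CfsgLib.SLT
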