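import Mathlib
import Cfsg.Agent.Lib.SLT.Alg
import Cfsg.Agent.Lib.SLT.Rt
import Cfsg.Agent.Lib.Core.Commutator

/-!
# Consequences of the twisted relations
-/

set_option autoImplicit false
set_option linter.unusedSectionVars false

namespace CfsgLib.SLT

open CfsgLib.RGD CfsgLib.Stein CfsgLib.SLE Subgroup
open scoped commutatorElement Pointwise

universe u


variable {ι κ : Type} [Fintype κ] [DecidableEq κ] [Finite ι] {Φ : RootSys ι κ} {E : ER Φ}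

theorem mem_tL {K : Type} {G : Type u} [Group G] (X : ι → K → G) (a : ι) (u : K) : X a u ∈ tL X :=
  mem_UUx X (Set.mem_univ a) u

theorem UU_le_tL {K : Type} {G : Type u} [Group G] (X : ι → K → G) (Ψ : Set ι) : UUx X Ψ ≤ tL X :=
  UUx_mono X (Set.subset_univ Ψ)

theorem UUx_le_iff {K : Type} {G : Type u} [Group G] {X : ι → K → G} {Ψ : Set ι} {H : Subgroup G} :
    UUx X Ψ ≤ H ↔ ∀ a ∈ Ψ, ∀ u, X a u ∈ H :=
  (closure_le H).trans ⟨fun h a ha u => h ⟨a, ha, u, rfl⟩, fun h _ ⟨a, ha, u, e⟩ => e ▸ h a ha u⟩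

theorem mem_cent_UUx {K : Type} {G : Type u} [Group G] {X : ι → K → G} {Ψ : Set ι} {g : G} :
    g ∈ centralizer (UUx X Ψ : Set G) ↔ ∀ a ∈ Ψ, ∀ u, X a u * g = g * X a u :=
  ⟨fun h _ ha u => h _ (mem_UUx X ha u), fun h _ hv => mem_centralizer_singleton_iff.1
    (UUx_le_iff.2 (fun a ha u => mem_centralizer_singleton_iff.2 (h a ha u)) hv)⟩

theorem tExa.conj_mem {K : Type} {G : Type u} [Group G] {X : ι → K → G} {g : G} {w : Equiv.Perm ι}
    (h : tExa X g w) {Ψ Ψ' : Set ι} (hΨ : ∀ r ∈ Ψ, w r ∈ Ψ') {v : G} (hv : v ∈ UUx X Ψ) :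
    g * v * g⁻¹ ∈ UUx X Ψ' :=
  (UUx_le_iff (H := (UUx X Ψ').comap (MulAut.conj g).toMonoidHom)).2
    (fun a ha u => show g * X a u * g⁻¹ ∈ UUx X Ψ' from h a u ▸ mem_UUx X (hΨ a ha) u) hv

theorem tExa.mul {K : Type} {G : Type u} [Group G] {X : ι → K → G} {g k : G} {v w : Equiv.Perm ι}
    (h : tExa X g v) (h' : tExa X k w) : tExa X (g * k) (v * w) := fun a u => by
  rw [Equiv.Perm.mul_apply, ← h, ← h']; group

theorem tExa.inv {K : Type} {G : Type u} [Group G] {X : ι → K → G} {g : G} {w : Equiv.Perm ι}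
    (h : tExa X g w) : tExa X g⁻¹ w⁻¹ := fun a u => by
  obtain ⟨a, rfl⟩ := w.surjective a
  rw [← h]; simp [mul_assoc]

namespace TRel

section Ring

variable {F K : Type} [CommRing F] [CommRing K] {P : QE F K} {G : Type u} [Group G]
  {X : ι → K → G} (h : TRel E P X)
include h

theorem zero (a : ι) : X a 0 = 1 := by
  have := h.add a 0 0
  rwa [add_zero, left_eq_mul] at this

theorem sq (a : ι) (u : K) : X a u * X a u = 1 := by rw [← h.add, P.add_selfK, h.zero]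

theorem inv (a : ι) (u : K) : (X a u)⁻¹ = X a u := inv_eq_of_mul_eq_one_right (h.sq a u)

theorem gam' (a : ι) (u : K) : X (E.γ a) (P.τ u) = X a u := by rw [h.gam, P.τ2]

theorem lng {r : ι} (hr : E.γ r = r) (u : K) : X r u = xl P X r (P.T u) := by
  have e : ∀ c, X r (P.f c) = 1 := fun c => by
    have e1 : P.f c = P.ω * P.f c + P.τ (P.ω * P.f c) := by
      rw [map_mul, P.τf, ← add_mul, P.hω, one_mul]
    rw [e1, h.add, ← h.gam, hr, h.sq]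
  conv_lhs => rw [P.dec u, h.add, e, one_mul]
  rfl

theorem xl_add (r : ι) (p q : F) : xl P X r (p + q) = xl P X r p * xl P X r q := by
  rw [xl, map_add, mul_add, h.add]; rfl

theorem xl_zero (r : ι) : xl P X r 0 = 1 := by rw [xl, map_zero, mul_zero, h.zero]

theorem xl_sq (r : ι) (p : F) : xl P X r p * xl P X r p = 1 := h.sq _ _

theorem xl_inv (r : ι) (p : F) : (xl P X r p)⁻¹ = xl P X r p := h.inv _ _

theorem mem_tZ' {r : ι} {g : G} : g ∈ tZ X r ↔ ∃ u, g = X r u := by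
  refine ⟨fun hg => ?_, fun ⟨u, e⟩ => e ▸ mem_UUx X (Set.mem_singleton r) u⟩
  induction hg using closure_induction with
  | mem x hx => obtain ⟨_, rfl, u, e⟩ := hx; exact ⟨u, e⟩
  | one => exact ⟨0, (h.zero r).symm⟩
  | mul _ _ _ _ a b => obtain ⟨u, rfl⟩ := a; obtain ⟨v, rfl⟩ := b; exact ⟨u + v, (h.add r u v).symm⟩
  | inv _ _ a => obtain ⟨u, rfl⟩ := a; exact ⟨u, h.inv r u⟩

theorem mem_tZ {r : ι} (hr : E.γ r = r) {g : G} : g ∈ tZ X r ↔ ∃ c, g = xl P X r c :=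
  h.mem_tZ'.trans ⟨fun ⟨u, e⟩ => ⟨_, e.trans (h.lng hr u)⟩, fun ⟨_, e⟩ => ⟨_, e⟩⟩

theorem tZ_eq {r : ι} (hr : E.γ r = r) : tZ X r = HX.X (xl P X r) :=
  le_antisymm (fun _ hg => ((h.mem_tZ hr).1 hg).elim fun c e =>
      Subgroup.subset_closure (Set.mem_range.2 ⟨c, e.symm⟩))
    ((closure_le _).2 fun _ ⟨c, e⟩ => (h.mem_tZ hr).2 ⟨c, e.symm⟩)

/-- a long root element commutes -/
theorem com_l {a r : ι} (hr : E.γ r = r) (h0 : 0 ≤ ip Φ a r) (u v : K) :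
    X a u * X r v = X r v * X a u := h.com a r h0 (hr.symm ▸ h0) u v

theorem conj_cm {a b k : ι} (hk : RAdd Φ a b k) (h0 : 0 ≤ ip Φ a (E.γ b)) (u v : K) :
    X a u * X b v * (X a u)⁻¹ = X b v * X k (u * v) := by
  rw [h.com b k (by rw [(E.radd_ip hk).2.2]; decide) (by
    rw [(E.γa _ _ _ hk).ip_right, ← ip_γ, ip_comm]; exact add_nonneg h0 (E.γo b)), ← h.cm a b k hk h0,
    inv_mul_cancel_right]

theorem conj_ll {a b k : ι} (ha : E.γ a = a) (hb : E.γ b = b) (hk : RAdd Φ a b k) (p q : F) :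
    xl P X a p * xl P X b q * (xl P X a p)⁻¹ = xl P X b q * xl P X k (p * q) := by
  rw [← inv_mul_cancel_right (_ * _ * _) (xl P X b q), h.ll a b k ha hb hk]
  exact (h.com_l (long_add hk ha hb) (by rw [(E.radd_ip hk).2.2]; decide) _ _).symm

/-- the action of a long root element on a moved one -/
theorem conj_sl {r a b k : ι} (ht : Tup E r a b k) (p : F) (v : K) :
    xl P X r p * X a v * (xl P X r p)⁻¹ = X a v * X b (P.f p * v) * xl P X k (p * P.N v) := by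
  have e := h.ls r a b k ht v p
  have c : X b (P.f p * v) * xl P X k (p * P.N v) = xl P X k (p * P.N v) * X b (P.f p * v) :=
    h.com_l ht.lk (by rw [ht.ips.2.2.2.2.2.1]; decide) _ _
  rw [mul_assoc (xl P X r p) (X b _), ← inv_mul_eq_iff_eq_mul] at e
  rw [mul_assoc (X a v), c, ← h.xl_inv k, ← h.inv b, ← mul_inv_rev, ← e, h.xl_inv, h.inv]
  simp [mul_assoc, h.inv, h.xl_inv, ← mul_assoc (X a v) (X a v), h.sq]

theorem map {G' : Type*} [Group G'] (φ : G →* G') : TRel E P fun a u => φ (X a u) where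
  add a u v := by rw [h.add, map_mul]
  gam a u := by rw [h.gam]
  com a b h1 h2 u v := by rw [← map_mul, h.com a b h1 h2, map_mul]
  cm a b k h1 h2 u v := by simpa only [map_mul, map_inv] using congrArg φ (h.cm a b k h1 h2 u v)
  ll a b k h1 h2 h3 p q := by
    simpa only [map_mul, map_inv, xl] using congrArg φ (h.ll a b k h1 h2 h3 p q)
  ls r a b k ht v p := by simpa only [map_mul, map_inv, xl] using congrArg φ (h.ls r a b k ht v p)

theorem cj (g : G) : TRel E P (cjX g X) := h.map (MulAut.conj g).toMonoidHom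

/-- the general commutator: `X a u` conjugates `X b v` into the group of the roots `b + ...` -/
theorem conj_mem (hR : TR E) {a b : ι} {Ψ : Set ι} (h1 : b ≠ Φ.neg a) (h2 : E.γ b ≠ Φ.neg a)
    (hγ : ∀ r ∈ Ψ, E.γ r ∈ Ψ) (h3 : ∀ k, RAdd Φ a b k ∨ RAdd Φ a (E.γ b) k → k ∈ Ψ)
    (h4 : ∀ m ∈ Ψ, ∀ k, RAdd Φ a m k ∨ RAdd Φ b m k → k ∈ Ψ) (u v : K) :
    (X b v)⁻¹ * (X a u * X b v * (X a u)⁻¹) ∈ UUx X Ψ := by
  rcases hR.cases h1 h2 with ⟨k1, k2⟩ | ⟨k, hk, k2⟩ | ⟨k, hk, k2⟩ | ⟨k, hk, ha, hb⟩ | ⟨m, k, t⟩ |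
    ⟨m, k, t⟩
  · rw [h.com a b k1 k2]; simp
  · rw [h.conj_cm hk k2, inv_mul_cancel_left]
    exact mem_UUx X (h3 k (.inl hk)) _
  · rw [← h.gam' b, h.conj_cm hk (by rwa [E.γ2]), inv_mul_cancel_left]
    exact mem_UUx X (h3 k (.inr hk)) _
  · rw [h.lng ha, h.lng hb, h.conj_ll ha hb hk, inv_mul_cancel_left]
    exact mem_UUx X (h3 k (.inl hk)) _
  · have hm := h3 m (.inl t.hb)
    rw [h.lng t.lr, h.conj_sl t, mul_assoc, inv_mul_cancel_left]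
    exact mul_mem (mem_UUx X hm _) (mem_UUx X (h4 _ (hγ m hm) k (.inr t.hk')) _)
  · have hm := h3 m (.inl t.hb.symm)
    rw [h.lng t.lr, h.ls _ _ _ _ t, mul_assoc, inv_mul_cancel_left]
    exact mul_mem (mem_UUx X hm _) (mem_UUx X (h4 _ (hγ m hm) k (.inl t.hk')) _)

theorem norm_UU (hR : TR E) {Ψ : Set ι} (hγ : ∀ r ∈ Ψ, E.γ r ∈ Ψ)
    (hc : ∀ a ∈ Ψ, ∀ b ∈ Ψ, ∀ k, RAdd Φ a b k → k ∈ Ψ) {a : ι} (h1 : ∀ b ∈ Ψ, b ≠ Φ.neg a)
    (h2 : ∀ b ∈ Ψ, ∀ k, RAdd Φ a b k → k ∈ Ψ) (u : K) :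
    X a u ∈ normalizer (UUx X Ψ : Set G) := by
  have k : UUx X Ψ ≤ (UUx X Ψ).comap (MulAut.conj (X a u)).toMonoidHom :=
    UUx_le_iff.2 fun b hb v => (mul_mem_cancel_left (inv_mem (mem_UUx X hb v))).1
      (h.conj_mem hR (h1 b hb) (h1 _ (hγ b hb)) hγ
        (fun k hk => hk.elim (h2 b hb k) (h2 _ (hγ b hb) k))
        (fun m hm k hk => hk.elim (h2 m hm k) (hc b hb m hm k)) u v)
  refine mem_normalizer_iff.2 fun g => ⟨fun hg => k hg, fun hg => ?_⟩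
  have : X a u * (X a u * g * (X a u)⁻¹) * (X a u)⁻¹ ∈ UUx X Ψ := k hg
  simpa [mul_assoc, h.inv, ← mul_assoc (X a u) (X a u), h.sq] using this

theorem mem_comm {Ψ Ψ' : Set ι} {a b d : ι} (ha : a ∈ Ψ) (hb : b ∈ Ψ') (e : RAdd Φ a b d)
    (hd : Dec E a b) (u : K) : X d u ∈ ⁅UUx X Ψ, UUx X Ψ'⁆ := by
  rcases hd with ⟨k1, k2⟩ | k
  · rw [h.lng (long_add e k1 k2), ← mul_one (P.T u), ← h.ll a b d k1 k2 e]
    exact commutator_mem_commutator (mem_UUx X ha _) (mem_UUx X hb _)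
  · rw [← mul_one u, ← h.cm a b d e k]
    exact commutator_mem_commutator (mem_UUx X ha _) (mem_UUx X hb _)

theorem pf_UU {Ψ : Set ι} (hΨ : ∀ d ∈ Ψ, ∃ a ∈ Ψ, ∃ b ∈ Ψ, RAdd Φ a b d ∧ Dec E a b) :
    Pf (UUx X Ψ) :=
  ⟨UUx_le_iff.2 fun d hd u => let ⟨_, ha, _, hb, e, k⟩ := hΨ d hd; h.mem_comm ha hb e k u,
    UUx_le_iff.2 fun d hd u => subset_closure ⟨mem_UUx X hd u, h.sq d u⟩⟩

theorem pf_L : Pf (tL X) := h.pf_UU fun d _ => by
  obtain ⟨a, b, e, k1, k2⟩ := E.gdec d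
  refine ⟨a, trivial, b, trivial, e, ?_⟩
  by_cases k : E.γ d = d
  · exact .inl ⟨k1 k, long_add e.symm.sub k (long_neg.2 (k1 k))⟩
  · exact .inr (k2 k)

theorem Y_le_cent {r : ι} (hr : E.γ r = r) : tY Φ X r ≤ centralizer (tZ X r : Set G) :=
  UUx_le_iff.2 fun _ ha u => mem_cent_UUx.2 fun _ hb v => hb ▸ (h.com_l hr ha u v).symm

theorem Y_le_Yc {r : ι} (hr : E.γ r = r) : tY Φ X r ≤ tYc X r :=
  le_inf (UU_le_tL X _) (h.Y_le_cent hr)

theorem pf_Y (hR : TR E) {r : ι} (hr : E.γ r = r) : Pf (tY Φ X r) := by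
  obtain ⟨w, hw, rfl⟩ := trans_long hr
  refine h.pf_UU (w.surjective.forall.2 fun d hd => ?_)
  obtain ⟨a, b, ha, hb, e, k⟩ := hR.tdec1 d (WT_ip hw d _ ▸ hd)
  refine ⟨w a, (WT_ip hw a _).ge.trans' ha, w b, (WT_ip hw b _).ge.trans' hb, e.apply (WT_le _ hw), ?_⟩
  rwa [Dec, WT_long hw, WT_long hw, WT_γ hw, WT_ip hw]

theorem pf_Y2 (hR : TR E) : Pf (tY2 E X) := h.pf_UU fun d hd => by
  obtain ⟨a, b, h1, h2, h3, h4, e⟩ := hR.tdec2 d hd.1 hd.2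
  exact ⟨a, ⟨h1, h2⟩, b, ⟨h3, h4⟩, e⟩

theorem Q_le_comm (hR : TR E) : tQ Φ X E.θ ≤ ⁅tQ Φ X E.θ, tY Φ X E.θ⁆ :=
  UUx_le_iff.2 fun d hd u => let ⟨_, _, ha, hb, e, k⟩ := hR.tdecQ d hd; h.mem_comm ha hb e k u

theorem Y_norm_Q (hR : TR E) {r : ι} (hr : E.γ r = r) :
    tY Φ X r ≤ normalizer (tQ Φ X r : Set G) := by
  refine UUx_le_iff.2 fun a ha u => h.norm_UU (Ψ := {s | 1 ≤ ip Φ s r}) hR
    (fun b hb => (ip_γ_long hr b).trans_ge hb) (fun a ha b hb k hk => ?_) (fun b hb e => ?_) (fun b hb k hk => ?_) u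
  · simp only [Set.mem_ofPred_eq, hk.ip_left] at ha hb ⊢; omega
  · simp only [Set.mem_ofPred_eq, e, ip_neg_left] at ha hb; omega
  · simp only [Set.mem_ofPred_eq, hk.ip_left] at ha hb ⊢; omega

theorem Y2_norm_R2 (hR : TR E) : tY2 E X ≤ normalizer (tR2 E X : Set G) := by
  refine UUx_le_iff.2 fun a ha u => h.norm_UU hR cl_R2.gam cl_R2.add (fun b hb e => ?_)
    (fun b hb k hk => ?_) u
  · simp only [Set.mem_ofPred_eq, e, ip_neg_left] at ha hb; omega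
  · simp only [Set.mem_ofPred_eq, hk.ip_left] at ha hb ⊢; omega

/-- `Q / Z` is elementary abelian -/
theorem comm_Q (hR : TR E) {r : ι} (hr : E.γ r = r) {u v : G} (hu : u ∈ tQ Φ X r) (hv : v ∈ tQ Φ X r) :
    u * v * u⁻¹ * v⁻¹ ∈ tZ X r := by
  have hn : ∀ x ∈ {g | ∃ a ∈ {s | 1 ≤ ip Φ s r}, ∃ t, g = X a t}, x ∈ normalizer (tZ X r : Set G) := by
    rintro _ ⟨a, ha, t, rfl⟩
    exact centralizer_le_normalizer _ (h.Y_le_cent hr
      (mem_UUx X (show 0 ≤ ip Φ a r from le_trans zero_le_one ha) t))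
  refine Core.commutator_closure_left_le (C := tQ Φ X r) hn (fun x hx c hc => ?_)
    (commutator_mem_commutator hu hv)
  rw [← inv_mem_iff, commutatorElement_inv]
  refine Core.commutator_closure_left_le (C := zpowers x) hn (fun y hy c hc => ?_)
    (commutator_mem_commutator hc (mem_zpowers x))
  obtain ⟨b, hb, v, rfl⟩ := hx
  obtain ⟨a, ha, u, rfl⟩ := hy
  have k : (X b v)⁻¹ * (X a u * X b v * (X a u)⁻¹) ∈ tZ X r := by
    refine UUx_mono X (Ψ := {s | 2 ≤ ip Φ s r}) (fun s hs => (E.eq_of_ip hs).symm)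
      (h.conj_mem (Ψ := {s | 2 ≤ ip Φ s r}) hR (fun e => ?_) (fun e => ?_)
        (fun b hb => (ip_γ_long hr b).trans_ge hb)
        (fun k hk => ?_) (fun m hm k hk => ?_) u v)
    · simp only [Set.mem_ofPred_eq, e, ip_neg_left] at ha hb; omega
    · rw [Set.mem_ofPred_eq, ← ip_γ_long hr, e, ip_neg_left] at hb
      rw [Set.mem_ofPred_eq] at ha; omega
    · rcases hk with hk | hk <;> simp only [Set.mem_ofPred_eq, hk.ip_left, ip_γ_long hr] at ha hb ⊢ <;>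
        omega
    · rcases hk with hk | hk <;> simp only [Set.mem_ofPred_eq, hk.ip_left] at ha hb hm ⊢ <;> omega
  obtain ⟨n, rfl⟩ := mem_zpowers_iff.1 hc
  have k2 : (X b v) ^ (2 : ℤ) = 1 := by rw [zpow_two, h.sq]
  rcases Int.emod_two_eq_zero_or_one n with e | e <;> rw [zpow_eq_zpow_emod n k2, e]
  · simp
  · simpa [commutatorElement_def, mul_assoc] using
      (mem_normalizer_iff.1 (hn _ ⟨b, hb, v, rfl⟩) _).1 k

theorem U_norm (hR : TR E) {Ψ : Set ι} (h1 : Idl Φ Ψ) (hγ : ∀ r ∈ Ψ, E.γ r ∈ Ψ) :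
    tU Φ X ≤ normalizer (UUx X Ψ : Set G) :=
  UUx_le_iff.2 fun _ ha u => h.norm_UU hR hγ (cl_of_idl h1 hγ).add
    (fun b hb => Φ.ne_neg_of_pos ha (h1.1 b hb)) (fun b hb k hk => h1.2 b hb _ ha k hk.symm) u

end Ring

end TRel

section Incl

variable {K : Type} {G : Type u} [Group G] (X : ι → K → G)

theorem U_le_Y : tU Φ X ≤ tY Φ X E.θ := UUx_mono X fun _ h => E.nonneg_θ h

theorem Q_le_U : tQ Φ X E.θ ≤ tU Φ X := UUx_mono X fun _ h => E.pos_of_θ h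

theorem Q_le_Y (r : ι) : tQ Φ X r ≤ tY Φ X r := 
  UUx_mono X fun a h => show 0 ≤ ip Φ a r from le_trans zero_le_one h

theorem Z_le_Q (E : ER Φ) (r : ι) : tZ X r ≤ tQ Φ X r :=
  UUx_mono X fun _ h => h ▸ (E.ip_self r).trans_ge one_le_two

theorem R_le_U : tR E X ≤ tU Φ X := UUx_mono X fun _ h => h.1

theorem R_le_Y2 : tR E X ≤ tY2 E X := UUx_mono X fun _ h => ⟨E.nonneg_θ h.1, E.nonneg_β h.1 h.2⟩

theorem R2_le_R : tR2 E X ≤ tR E X := UUx_mono X fun _ h => ⟨E.pos_θβ h.2.2, fun e => by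
  have := h.2.1
  rw [e, E.ip_αβ] at this
  omega⟩

theorem W_le_R2 : tW E X ≤ tR2 E X := UUx_mono X <| by
  rintro _ (rfl | rfl) <;> simp [E.ip_self, E.ip_βθ, ip_comm E.θ E.β]

theorem W_le_Q : tW E X ≤ tQ Φ X E.θ := UUx_mono X <| by
  rintro _ (rfl | rfl) <;> simp [E.ip_self, E.ip_βθ]

theorem Y2_le_Y : tY2 E X ≤ tY Φ X E.θ ⊓ tY Φ X E.β :=
  le_inf (UUx_mono X fun _ h => h.1) (UUx_mono X fun _ h => h.2)

end Incl

variable {F K : Type} [Field F] [Finite F] [CharP F 2] [Field K] [Finite K] [CharP K 2] {P : QE F K}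
  {G : Type u} [Group G] [Finite G] {T : StSys Φ K G} {s : G}

namespace Tw

variable (h : Tw E P T s)
include h

theorem std : StdD T s E.γ (fun _ => 1) P.τ :=
  ⟨fun _ => one_mul 1, fun r c => by rw [one_mul, h.sx]⟩

theorem tx_eq (a : ι) (u : K) : tx E P T a u = T.x (E.γ a) (P.τ u) * T.x a u :=
  h.amb.com (E.γo a) _ _

theorem tx_long {r : ι} (hr : E.γ r = r) (u : K) : tx E P T r u = T.x r (P.f (P.T u)) := by
  rw [tx, hr, P.hT, T.x_add]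

theorem xl_tx {r : ι} (hr : E.γ r = r) (c : F) : xl P (tx E P T) r c = T.x r (P.f c) := by
  rw [xl, h.tx_long hr, P.T_ω]

theorem rel : TRel E P (tx E P T) where
  add a u v := by
    simp only [tx, map_add, T.x_add, mul_assoc]
    rw [← mul_assoc (T.x a v), h.amb.com (E.γo a), mul_assoc]
  gam a u := by rw [h.tx_eq, E.γ2, tx, P.τ2]
  com a b h1 h2 u v := by
    have c : ∀ {a b}, 0 ≤ ip Φ a b → ∀ u v, Commute (T.x a u) (T.x b v) := fun k => h.amb.com k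
    exact (((c h1 _ _).mul_right (c h2 _ _)).mul_left
      ((c ((ip_γ E a b).trans_ge h2) _ _).mul_right (c ((E.γip a b).trans_ge h1) _ _))).eq
  cm a b k hk h0 u v := by
    have hk' := E.γa _ _ _ hk
    have c1 := h.amb.com ((ip_γ E a b).trans_ge h0) (P.τ u) v
    have c2 := h.amb.com h0 u (P.τ v)
    have c3 := h.amb.com (a := a) (b := E.γ k) (hk'.ip_right a ▸ add_nonneg (E.γo a) h0) u
      (P.τ (u * v))
    have c4 := h.amb.com (a := b) (b := E.γ k) (by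
      rw [hk'.ip_right, ← ip_γ, ip_comm]; exact add_nonneg h0 (E.γo b)) v (P.τ (u * v))
    have c6 := h.amb.com (E.γo k) (u * v) (P.τ (u * v))
    have e1 := h.amb.rel.cm a b k hk u v
    have e2 := h.amb.rel.cm _ _ _ hk' (P.τ u) (P.τ v)
    rw [← map_mul] at e2
    simp only [tx]
    generalize T.x a u = A, T.x (E.γ a) (P.τ u) = A', T.x b v = B, T.x (E.γ b) (P.τ v) = B',
      T.x k (u * v) = C, T.x (E.γ k) (P.τ (u * v)) = C' at *
    calc _ = A * (A' * B) * A'⁻¹ * (A' * B' * A'⁻¹ * B'⁻¹) * (B' * A⁻¹ * B'⁻¹) * B⁻¹ := by group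
      _ = A * B * C' * (B' * A⁻¹ * B'⁻¹) * B⁻¹ := by rw [c1, e2]; group
      _ = A * B * C' * (B' * (B' * A)⁻¹ * B' * B'⁻¹) * B' * B'⁻¹ * B⁻¹ * 1 := by group
      _ = A * B * C' * (B' * (A * B')⁻¹ * B' * B'⁻¹) * B' * B'⁻¹ * B⁻¹ * 1 := by rw [c2]
      _ = A * (B * C') * A⁻¹ * B⁻¹ := by group
      _ = (A * C') * A⁻¹ * (A * B * A⁻¹ * B⁻¹) := by rw [c4]; group
      _ = C' * C := by rw [c3, e1]; group
      _ = _ := c6.symm
  ll a b k ha hb hk p q := by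
    rw [h.xl_tx ha, h.xl_tx hb, h.xl_tx (long_add hk ha hb), h.amb.rel.cm a b k hk, map_mul]
  ls r a b k t v p := by
    rw [h.xl_tx t.lr, h.xl_tx t.lk, tx, tx, map_mul, map_mul, P.τf, P.hN]
    calc _ = T.x a v * (T.x (E.γ a) (P.τ v) * T.x r (P.f p) * (T.x (E.γ a) (P.τ v))⁻¹) * (T.x a v)⁻¹ := by
          group
      _ = (T.x a v * T.x r (P.f p) * (T.x a v)⁻¹) *
          (T.x a v * T.x (E.γ b) (P.τ v * P.f p) * (T.x a v)⁻¹) := by
          rw [h.amb.conj_x t.hb'.symm]; group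
      _ = _ := by
          rw [h.amb.conj_x t.hb.symm, h.amb.conj_x t.hk', mul_comm v (P.f p), mul_comm (P.τ v),
            mul_left_comm v]
          group

theorem tx_cent (a : ι) (u : K) : s * tx E P T a u = tx E P T a u * s := by
  rw [← mul_inv_eq_iff_eq_mul]
  conv_lhs => rw [h.tx_eq a, ← conj_mul, h.sx, h.sx, E.γ2, P.τ2]
  rfl

theorem UU_le {Ψ : Set ι} (hγ : ∀ r ∈ Ψ, E.γ r ∈ Ψ) :
    UUx (tx E P T) Ψ ≤ T.UU Ψ ⊓ centralizer {s} := UUx_le_iff.2 fun a ha u =>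
  ⟨mul_mem (T.x_mem_UU ha _) (T.x_mem_UU (hγ a ha) _),
    mem_centralizer_singleton_iff.2 (h.tx_cent a u).symm⟩

theorem L_le : tL (tx E P T) ≤ T.grp ⊓ centralizer {s} := h.UU_le fun _ _ => trivial

theorem twG_eq {Ψ : Set ι} : twG T E.γ (fun _ => 1) P.τ Ψ = UUx (tx E P T) Ψ := by
  refine le_antisymm ((closure_le _).2 ?_) (UUx_le_iff.2 fun r hr u => subset_closure ?_)
  · rintro _ ⟨r, hr, c, ⟨k1, k2, rfl⟩ | ⟨-, rfl⟩⟩
    · obtain ⟨c, rfl⟩ := (P.fix c).1 ((one_mul _).symm.trans k2)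
      exact h.xl_tx k1 c ▸ mem_UUx _ hr _
    · rw [one_mul]
      exact mem_UUx (tx E P T) hr c
  · by_cases k : E.γ r = r
    · exact ⟨r, hr, _, .inl ⟨k, by rw [one_mul, P.τf], h.tx_long k u⟩⟩
    · exact ⟨r, hr, u, .inr ⟨k, by rw [one_mul, tx]⟩⟩

theorem n_long {d : ι} (hd : E.γ d = d) (c : F) :
    T.n d (P.f c) ∈ UUx (tx E P T) {d, Φ.neg d} := by
  rw [StSys.n, ← map_inv₀, ← map_neg, ← h.xl_tx hd, ← h.xl_tx (long_neg.2 hd)]
  exact mul_mem (mul_mem (mem_UUx _ (.inl rfl) _) (mem_UUx _ (.inr rfl) _)) (mem_UUx _ (.inl rfl) _)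

theorem n_comm {d : ι} (hd : E.γ d ≠ d) (u v : K) : Commute (T.n d u) (T.n (E.γ d) v) := by
  have c : ∀ {a b}, ip Φ a b = 0 → ∀ u v, Commute (T.x a u) (T.x b v) := fun k => h.amb.com k.ge
  have o := E.γ_orth hd
  have k : ∀ a, ip Φ a (E.γ d) = 0 → ∀ u, Commute (T.x a u) (T.n (E.γ d) v) := fun a e u =>
    ((c e _ _).mul_right (c (by rw [ip_neg_right, e, neg_zero]) _ _)).mul_right (c e _ _)
  exact ((k d o _).mul_left (k _ (by rw [ip_neg_left, o, neg_zero]) _)).mul_left (k d o _)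

theorem n_moved {d : ι} (hd : E.γ d ≠ d) (v : K) :
    T.n d v * T.n (E.γ d) (P.τ v) ∈ UUx (tx E P T) {d, Φ.neg d} := by
  have o := E.γ_orth hd
  have c1 := h.amb.com o.ge v (P.τ v)
  have c2 := h.amb.com (a := Φ.neg d) (b := E.γ d) (by rw [ip_neg_left, o, neg_zero]) (-v⁻¹) (P.τ v)
  have c3 := h.amb.com (a := d) (b := Φ.neg (E.γ d)) (by rw [ip_neg_right, o, neg_zero]) v (-(P.τ v)⁻¹)
  have e : T.n d v * T.n (E.γ d) (P.τ v) =
      tx E P T d v * tx E P T (Φ.neg d) (-v⁻¹) * tx E P T d v := by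
    simp only [StSys.n, tx, E.γn, map_neg, map_inv₀]
    generalize T.x d v = A, T.x (E.γ d) (P.τ v) = A', T.x (Φ.neg d) (-v⁻¹) = B,
      T.x (Φ.neg (E.γ d)) (-(P.τ v)⁻¹) = B' at *
    calc _ = A * B * (A * A') * B' * A' := by group
      _ = A * (B * A') * (A * B') * A' := by rw [c1]; group
      _ = _ := by rw [c2, c3]; group
  rw [e]
  exact mul_mem (mul_mem (mem_UUx _ (.inl rfl) _) (mem_UUx _ (.inr rfl) _)) (mem_UUx _ (.inl rfl) _)

/-- the twisted Weyl group is realised by exact elements -/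
theorem exists_exa {Ψ : Set ι} (hΨ : ∀ r ∈ Ψ, Φ.neg r ∈ Ψ) {w : Equiv.Perm ι} (hw : w ∈ WT E Ψ) :
    ∃ n ∈ UUx (tx E P T) Ψ, n ∈ T.N ∧ Exa T n w := by
  induction hw using closure_induction with
  | mem x hx =>
    obtain ⟨d, hd, k⟩ := hx
    have le : UUx (tx E P T) {d, Φ.neg d} ≤ UUx (tx E P T) Ψ :=
      UUx_mono _ (by rintro _ (rfl | rfl); exacts [hd, hΨ d hd])
    obtain ⟨k, rfl⟩ | ⟨k, rfl⟩ := k
    · exact ⟨_, le (map_one P.f ▸ h.n_long k 1), T.n_one_mem_N d, h.amb.exa_n d⟩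
    · exact ⟨_, le (by simpa only [map_one] using h.n_moved k 1), mul_mem (T.n_one_mem_N d) (T.n_one_mem_N _),
        (h.amb.exa_n d).mul (h.amb.exa_n _)⟩
  | one => exact ⟨1, one_mem _, one_mem _, fun r c => by simp⟩
  | mul _ _ _ _ a b =>
    obtain ⟨n, k1, k2, k3⟩ := a
    obtain ⟨n', l1, l2, l3⟩ := b
    exact ⟨n * n', mul_mem k1 l1, mul_mem k2 l2, k3.mul l3⟩
  | inv _ _ a =>
    obtain ⟨n, k1, k2, k3⟩ := a
    exact ⟨n⁻¹, inv_mem k1, inv_mem k2, k3.inv⟩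

theorem exa_tx {n : G} {w : Equiv.Perm ι} (hw : w ∈ WT E Set.univ) (hn : Exa T n w) :
    tExa (tx E P T) n w := fun a u => by rw [tx, ← conj_mul, hn, hn, tx, WT_γ hw]

theorem h_long {d : ι} (hd : E.γ d = d) {c : F} (hc : c ≠ 0) :
    T.h d (P.f c) ∈ UUx (tx E P T) {d, Φ.neg d} := by
  rw [T.h_eq]
  exact mul_mem (h.n_long hd c) (inv_mem (map_one P.f ▸ h.n_long hd 1))

theorem h_moved (d : ι) {v : K} (hv : v ≠ 0) :
    T.h d v * T.h (E.γ d) (P.τ v) ∈ UUx (tx E P T) {d, Φ.neg d} := by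
  by_cases hd : E.γ d = d
  · rw [hd, h.amb.r3 d v _ hv ((map_ne_zero _).2 hv), ← P.hN]
    exact h.h_long hd (P.N_ne hv)
  have e : T.h d v * T.h (E.γ d) (P.τ v) =
      T.n d v * T.n (E.γ d) (P.τ v) * (T.n d (-1) * T.n (E.γ d) (P.τ (-1))) := by
    rw [StSys.h, StSys.h, map_neg, map_one, mul_assoc, ← mul_assoc (T.n d (-1)), (h.n_comm hd _ _).eq]
    group
  exact e ▸ mul_mem (h.n_moved hd v) (h.n_moved hd _)

end Tw

end CfsgLib.SLT
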