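import Mathlib
import Cfsg.Agent.Lib.SLT.Rel
import Cfsg.Agent.Lib.SLE.AutA
import Cfsg.Agent.Lib.HX.Base

/-!
# Transfer from the ambient group
-/

set_option autoImplicit false
set_option linter.unusedSectionVars false

namespace CfsgLib.SLT

open CfsgLib.RGD CfsgLib.Stein CfsgLib.SLE Subgroup
open scoped commutatorElement Pointwise

universe u

variable {ι κ : Type} [Fintype κ] [DecidableEq κ] [Finite ι] {Φ : RootSys ι κ} {E : ER Φ}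
  {F K : Type} [Field F] [Finite F] [CharP F 2] [Field K] [Finite K] [CharP K 2] {P : QE F K}
  {G : Type u} [Group G] [Finite G] {A : Type} [Group A] [Finite A] {T : StSys Φ K A} {s : A}
  {X : ι → K → G} {ρ : G → A} {t : G}

theorem cjX_UU (g : G) (X : ι → K → G) (Ψ : Set ι) : UUx (cjX g X) Ψ = MulAut.conj g • UUx X Ψ := map_UUx X (cjX g X) (MulAut.conj g).toMonoidHom Ψ (fun _ _ _ => rfl) ▸ rfl

theorem mem_cj_UU {g x : G} {Ψ : Set ι} : x ∈ UUx (cjX g X) Ψ ↔ g⁻¹ * x * g ∈ UUx X Ψ := by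
  rw [cjX_UU, mem_pointwise_smul_iff_inv_smul_mem]
  simp [mul_assoc]

theorem conj_mem_cj {g x : G} {Ψ : Set ι} (hx : x ∈ UUx X Ψ) : g * x * g⁻¹ ∈ UUx (cjX g X) Ψ := mem_cj_UU.2 (by simpa [mul_assoc] using hx)

theorem cjX_cjX (g k : G) : cjX g (cjX k X) = cjX (g * k) X := by
  funext a u
  simp only [cjX]
  group

theorem cjρ_cjρ (g k : G) : cjρ g (cjρ k ρ) = cjρ (g * k) ρ := by
  funext x
  simp only [cjρ]
  congr 1
  group

theorem xl_cj (g : G) (r : ι) (c : F) : xl P (cjX g X) r c = g * xl P X r c * g⁻¹ := rfl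

theorem tL_cj_of_mem {g : G} (hg : g ∈ tN X) : tL (cjX g X) = tL X := by
  ext x
  exact mem_cj_UU.trans (mem_normalizer_iff''.1 hg x).symm

theorem mem_cj_N {g x : G} : x ∈ tN (cjX g X) ↔ g⁻¹ * x * g ∈ tN X := by
  have e : tL (cjX g X) = (tL X).map (MulAut.conj g).toMonoidHom := cjX_UU g X _
  rw [tN, tN, e, ← BA.norm_map (MulAut.conj g) (x := g⁻¹ * x * g)]
  simp [mul_assoc]

theorem mem_cj_C {g x : G} : x ∈ tC (cjX g X) ↔ g⁻¹ * x * g ∈ tC X := by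
  have e : tL (cjX g X) = (tL X).map (MulAut.conj g).toMonoidHom := cjX_UU g X _
  rw [tC, tC, e, ← BA.cent_map (MulAut.conj g) (x := g⁻¹ * x * g)]
  simp [mul_assoc]

theorem L_le_N : tL X ≤ tN X := le_normalizer

theorem C_le_N : tC X ≤ tN X := centralizer_le_normalizer _

theorem conj_mem_L {g l : G} (hg : g ∈ tN X) (hl : l ∈ tL X) : g * l * g⁻¹ ∈ tL X := (mem_normalizer_iff.1 hg l).1 hl

theorem conj_mem_C {g c : G} (hg : g ∈ tN X) (hc : c ∈ tC X) : g * c * g⁻¹ ∈ tC X := by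
  refine mem_centralizer_iff.2 fun l hl => ?_
  have := mem_centralizer_iff.1 hc _ (conj_mem_L (inv_mem hg) hl)
  calc l * (g * c * g⁻¹) = g * (g⁻¹ * l * g⁻¹⁻¹ * c) * g⁻¹ := by group
    _ = g * c * g⁻¹ * l := by rw [this]; group

theorem exists_mul_LC {g : G} (h : g ∈ tL X ⊔ tC X) : ∃ l ∈ tL X, ∃ c ∈ tC X, g = l * c := by
  rw [← SetLike.mem_coe, coe_mul_of_right_le_normalizer_left _ _ C_le_N] at h
  obtain ⟨l, hl, c, hc, e⟩ := h
  exact ⟨l, hl, c, hc, e.symm⟩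

theorem sy_pg_iff {g : G} : IsPGroup 2 (zpowers g) ↔ ∃ k, g ^ 2 ^ k = 1 := by
  refine ⟨fun h => (h ⟨g, mem_zpowers g⟩).imp fun k e => congrArg Subtype.val e, ?_⟩
  rintro ⟨k, e⟩ ⟨_, n, rfl⟩
  refine ⟨k, Subtype.ext ?_⟩
  change (g ^ n) ^ 2 ^ k = 1
  rw [← zpow_natCast, ← zpow_mul, mul_comm, zpow_mul, zpow_natCast, e, one_zpow]

theorem sy_pg_conj {a : G} (h : IsPGroup 2 (zpowers a)) (g : G) :
    IsPGroup 2 (zpowers (g * a * g⁻¹)) := by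
  obtain ⟨k, e⟩ := sy_pg_iff.1 h
  exact sy_pg_iff.2 ⟨k, by rw [conj_pow, e]; group⟩

theorem sy_sq {a b : G} (h : a * b = b * a) (a2 : a * a = 1) (b2 : b * b = 1) :
    a * b * (a * b) = 1 := by
  rw [show a * b * (a * b) = a * (b * a) * b by group, ← h,
    show a * (a * b) * b = a * a * (b * b) by group, a2, b2, one_mul]

namespace Sys

variable (h : Sys E P T s X ρ)
include h

theorem one : ρ 1 = 1 := (h.ker 1 (one_mem _)).2 (one_mem _)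

theorem inv {g : G} (hg : g ∈ tN X) : ρ g⁻¹ = (ρ g)⁻¹ := by
  rw [eq_inv_iff_mul_eq_one, ← h.mul _ (inv_mem hg) _ hg, inv_mul_cancel, h.one]

theorem conj {g k : G} (hg : g ∈ tN X) (hk : k ∈ tN X) : ρ (g * k * g⁻¹) = ρ g * ρ k * (ρ g)⁻¹ := by
  rw [h.mul _ (mul_mem hg hk) _ (inv_mem hg), h.mul _ hg _ hk, h.inv hg]

theorem exists_hom : ∃ φ : tN X →* A, ∀ g : tN X, φ g = ρ g := ⟨MonoidHom.mk' (fun g => ρ g) fun g k => h.mul _ g.2 _ k.2, fun _ => rfl⟩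

theorem eq_iff {g k : G} (hg : g ∈ tN X) (hk : k ∈ tN X) : ρ g = ρ k ↔ g⁻¹ * k ∈ tC X := by
  rw [← h.ker _ (mul_mem (inv_mem hg) hk), h.mul _ (inv_mem hg) _ hk, h.inv hg, inv_mul_eq_one]

theorem map_mem {Ψ : Set ι} {g : G} (hg : g ∈ UUx X Ψ) : ρ g ∈ UUx (tx E P T) Ψ := by
  induction hg using closure_induction with
  | mem x hx =>
    obtain ⟨r, hr, u, rfl⟩ := hx
    rw [h.map]
    exact mem_UUx _ hr u
  | one => rw [h.one]; exact one_mem _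
  | mul x y hx hy h1 h2 =>
    rw [h.mul _ (L_le_N (UU_le_tL X Ψ hx)) _ (L_le_N (UU_le_tL X Ψ hy))]
    exact mul_mem h1 h2
  | inv x hx h1 =>
    rw [h.inv (L_le_N (UU_le_tL X Ψ hx))]
    exact inv_mem h1

theorem map_mem_UU {Ψ : Set ι} (hγ : ∀ r ∈ Ψ, E.γ r ∈ Ψ) {g : G} (hg : g ∈ UUx X Ψ) :
    ρ g ∈ T.UU Ψ := (h.UU_le hγ (h.map_mem hg)).1

theorem exists_lift {Ψ : Set ι} {m : A} (hm : m ∈ UUx (tx E P T) Ψ) : ∃ g ∈ UUx X Ψ, ρ g = m := by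
  induction hm using closure_induction with
  | mem x hx =>
    obtain ⟨r, hr, u, rfl⟩ := hx
    exact ⟨_, mem_UUx X hr u, h.map r u⟩
  | one => exact ⟨1, one_mem _, h.one⟩
  | mul x y _ _ h1 h2 =>
    obtain ⟨a, ha, rfl⟩ := h1
    obtain ⟨b, hb, rfl⟩ := h2
    exact ⟨_, mul_mem ha hb, h.mul _ (L_le_N (UU_le_tL X Ψ ha)) _ (L_le_N (UU_le_tL X Ψ hb))⟩
  | inv x _ h1 =>
    obtain ⟨a, ha, rfl⟩ := h1
    exact ⟨_, inv_mem ha, h.inv (L_le_N (UU_le_tL X Ψ ha))⟩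

theorem mem_NL {g : G} (hg : g ∈ tN X) : ρ g ∈ NL T := by
  obtain ⟨l, hl, d, σ, e⟩ := h.dec g hg
  have := e.mem_NL
  rw [h.mul _ (L_le_N hl) _ hg] at this
  exact (mul_mem_cancel_left (aa_grp_le (h.L_le (h.map_mem hl)).1)).1 this

theorem map_xl {r : ι} (hr : E.γ r = r) (c : F) : ρ (xl P X r c) = T.x r (P.f c) := (h.map _ _).trans (h.xl_tx hr c)

/-- 2-elements of `L` are determined by their images -/
theorem eq_of_two {a b : G} (ha : a ∈ tL X) (hb : b ∈ tL X) (pa : IsPGroup 2 (zpowers a))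
    (pb : IsPGroup 2 (zpowers b)) (e : ρ a = ρ b) : a = b := by
  have hz := (h.eq_iff (L_le_N ha) (L_le_N hb)).1 e
  have ho := h.odd _ (mul_mem (inv_mem ha) hb) hz
  obtain ⟨i, hi⟩ := sy_pg_iff.1 pa
  obtain ⟨j, hj⟩ := sy_pg_iff.1 pb
  have hc : Commute a (a⁻¹ * b) := mem_centralizer_iff.1 hz a ha
  have h1 : (a⁻¹ * b) ^ 2 ^ (i + j) = 1 := by
    have := hc.mul_pow (2 ^ (i + j))
    rwa [mul_inv_cancel_left, pow_add, mul_comm (2 ^ i), pow_mul b, hj, one_pow, mul_comm (2 ^ j),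
      pow_mul a, hi, one_pow, one_mul, ← pow_add, eq_comm] at this
  have h2 := (Nat.Coprime.pow_right (i + j) (Nat.coprime_two_right.2 ho)).eq_one_of_dvd
    (orderOf_dvd_of_pow_eq_one h1)
  exact inv_mul_eq_one.1 (orderOf_eq_one_iff.1 h2)

theorem eq_of_sq {a b : G} (ha : a ∈ tL X) (hb : b ∈ tL X) (a2 : a * a = 1) (b2 : b * b = 1)
    (e : ρ a = ρ b) : a = b := h.eq_of_two ha hb (UFP.pgroup_zpowers_of_sq a2) (UFP.pgroup_zpowers_of_sq b2) e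

theorem eq_one {g : G} (h1 : g ∈ tL X) (h2 : g ∈ tC X) (hp : IsPGroup 2 (zpowers g)) : g = 1 := h.eq_of_two h1 (one_mem _) hp (UFP.pgroup_zpowers_of_sq (one_mul 1))
    (((h.ker g (L_le_N h1)).2 h2).trans h.one.symm)

theorem conj_eq {g a b : G} (hg : g ∈ tN X) (ha : a ∈ tL X) (hb : b ∈ tL X)
    (pa : IsPGroup 2 (zpowers a)) (pb : IsPGroup 2 (zpowers b)) (e : ρ g * ρ a * (ρ g)⁻¹ = ρ b) :
    g * a * g⁻¹ = b := h.eq_of_two (conj_mem_L hg ha) hb (sy_pg_conj pa g) pb ((h.conj hg (L_le_N ha)).trans e)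

theorem commute_of {g a : G} (hg : g ∈ tN X) (ha : a ∈ tL X) (pa : IsPGroup 2 (zpowers a))
    (e : ρ g * ρ a = ρ a * ρ g) : g * a = a * g := mul_inv_eq_iff_eq_mul.1 (h.conj_eq hg ha ha pa pa (mul_inv_eq_iff_eq_mul.2 e))

theorem rel : TRel E P X := by
  have R := h.toTw.rel
  have m := fun a u => L_le_N (mem_tL X a u)
  have pg := fun a u => UFP.pgroup_zpowers_of_sq (h.sq a u)
  have com : ∀ a b, 0 ≤ ip Φ a b → 0 ≤ ip Φ a (E.γ b) → ∀ u v, X a u * X b v = X b v * X a u :=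
    fun a b h1 h2 u v => h.commute_of (m a u) (mem_tL X b v) (pg b v)
      (by rw [h.map, h.map]; exact R.com a b h1 h2 u v)
  have cm : ∀ a b k, 0 ≤ ip Φ k b → 0 ≤ ip Φ k (E.γ b) → ∀ u v w,
      tx E P T a u * tx E P T b v * (tx E P T a u)⁻¹ * (tx E P T b v)⁻¹ = tx E P T k w →
      X a u * X b v * (X a u)⁻¹ * (X b v)⁻¹ = X k w := fun a b k h1 h2 u v w e => by
    rw [mul_inv_eq_iff_eq_mul] at e ⊢
    refine h.conj_eq (m a u) (mem_tL X b v) (mul_mem (mem_tL X k w) (mem_tL X b v)) (pg b v)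
      (UFP.pgroup_zpowers_of_sq (sy_sq (com k b h1 h2 w v) (h.sq _ _) (h.sq _ _))) ?_
    rw [h.mul _ (m _ _) _ (m _ _), h.map, h.map, h.map, e]
  refine ⟨fun a u v => ?_, fun a u => ?_, com, fun a b k hk h0 u v => ?_,
    fun a b k ha hb hk p q => ?_, fun r a b k ht v p => ?_⟩
  · refine h.eq_of_sq (mem_tL X _ _) (mul_mem (mem_tL X _ _) (mem_tL X _ _)) (h.sq _ _)
      (sy_sq (com a a (ip_pos a).le (E.γo a) u v) (h.sq _ _) (h.sq _ _)) ?_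
    rw [h.mul _ (m _ _) _ (m _ _), h.map, h.map, h.map, R.add]
  · refine h.eq_of_sq (mem_tL X _ _) (mem_tL X _ _) (h.sq _ _) (h.sq _ _) ?_
    rw [h.map, h.map, R.gam]
  · refine cm a b k ?_ ?_ u v _ (R.cm a b k hk h0 u v)
    · rw [ip_comm, (E.radd_ip hk).2.2]; exact zero_le_one
    · rw [hk.ip_left]; exact add_nonneg h0 (E.γo b)
  · have e : 0 ≤ ip Φ k b := by rw [ip_comm, (E.radd_ip hk).2.2]; exact zero_le_one
    exact cm a b k e (hb.symm ▸ e) _ _ _ (R.ll a b k ha hb hk p q)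
  · obtain ⟨-, i1, i2, -, -, i3, -⟩ := ht.ips
    have c1 : ∀ u w, X b u * X r w = X r w * X b u := com b r (by rw [ip_comm, i1]; exact zero_le_one)
      (by rw [ht.lr, ip_comm, i1]; exact zero_le_one)
    have c2 : ∀ u w, X r u * X k w = X k w * X r u := com r k i2.ge (by rw [ht.lk]; exact i2.ge)
    have c3 : ∀ u w, X b u * X k w = X k w * X b u := com b k (by rw [i3]; exact zero_le_one)
      (by rw [ht.lk, i3]; exact zero_le_one)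
    refine h.conj_eq (m a v) (mem_tL X _ _)
      (mul_mem (mul_mem (mem_tL X _ _) (mem_tL X _ _)) (mem_tL X _ _)) (pg _ _)
      (UFP.pgroup_zpowers_of_sq (sy_sq ?_ (sy_sq (c1 _ _).symm (h.sq _ _) (h.sq _ _)) (h.sq _ _))) ?_
    · simp only [xl]
      rw [mul_assoc, c3, ← mul_assoc, c2, mul_assoc]
    · simp only [xl]
      rw [h.mul _ (mul_mem (m _ _) (m _ _)) _ (m _ _), h.mul _ (m _ _) _ (m _ _), h.map, h.map, h.map,
        h.map]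
      exact R.ls r a b k ht v p

theorem X_eq_one {a : ι} (ha : E.γ a ≠ a) {u : K} : X a u = 1 ↔ u = 0 := by
  refine ⟨fun e => by_contra fun hu => ha ?_, fun e => e ▸ h.rel.zero a⟩
  have := h.map a u
  rw [e, h.one, tx, eq_comm, mul_eq_one_iff_eq_inv, h.amb.x_inv] at this
  exact (h.amb.x_inj hu this).1.symm

theorem xl_eq_one {r : ι} (hr : E.γ r = r) {c : F} : xl P X r c = 1 ↔ c = 0 := by
  refine ⟨fun e => ?_, fun e => e ▸ h.rel.xl_zero r⟩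
  have := h.map_xl hr c
  rw [e, h.one, eq_comm, h.amb.x_eq_one] at this
  exact P.inj (this.trans (map_zero _).symm)

theorem xl_inj {r r' : ι} (hr : E.γ r = r) (hr' : E.γ r' = r') {c c' : F} (hc : c ≠ 0)
    (e : xl P X r c = xl P X r' c') : r = r' ∧ c = c' := by
  have := h.map_xl hr c
  rw [e, h.map_xl hr', eq_comm] at this
  have := h.amb.x_inj ((map_ne_zero P.f).2 hc) this
  exact ⟨this.1, P.inj this.2⟩

theorem xl_mem_C {r : ι} (hr : E.γ r = r) {c : F} (e : xl P X r c ∈ tC X) : c = 0 := (h.xl_eq_one hr).1 (h.eq_one (mem_tL X _ _) e (UFP.pgroup_zpowers_of_sq (h.sq _ _)))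

/-- a 2-subgroup of the twisted group lifts -/
theorem lift_pgroup {R : Subgroup A} (hR : IsPGroup 2 R) (h1 : R ≤ tL (tx E P T)) :
    ∃ R' ≤ tL X, IsPGroup 2 R' ∧ Nat.card R' = Nat.card R ∧ (∀ g ∈ R', ρ g ∈ R) ∧
      ∀ m ∈ R, ∃ g ∈ R', ρ g = m := by
  obtain ⟨φ, hφ⟩ := h.exists_hom
  let R₁ : Subgroup (tN X) := R.comap φ ⊓ (tL X).subgroupOf (tN X)
  let ψ : R₁ →* R := (φ.comp R₁.subtype).codRestrict R fun x => x.2.1
  have hs : Function.Surjective ψ := fun m => by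
    obtain ⟨g, hg, e⟩ := h.exists_lift (h1 m.2)
    exact ⟨⟨⟨g, L_le_N hg⟩, by simp [hφ, e], hg⟩, Subtype.ext ((hφ _).trans e)⟩
  let S : Sylow 2 R₁ := default
  have ht : (⊤ : Subgroup R) = S.mapSurjective hs :=
    (S.mapSurjective hs).is_maximal' (hR.to_subgroup ⊤) le_top
  let j : R₁ →* G := (tN X).subtype.comp R₁.subtype
  have pg : IsPGroup 2 ((S : Subgroup R₁).map j) := S.isPGroup'.map j
  have hL : (S : Subgroup R₁).map j ≤ tL X := by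
    rintro _ ⟨x, -, rfl⟩
    exact x.2.2
  have hm : ∀ g ∈ (S : Subgroup R₁).map j, ρ g ∈ R := by
    rintro _ ⟨x, -, rfl⟩
    exact (hφ x.1) ▸ x.2.1
  have hu : ∀ m ∈ R, ∃ g ∈ (S : Subgroup R₁).map j, ρ g = m := fun m hm => by
    obtain ⟨x, hx, e⟩ : (⟨m, hm⟩ : R) ∈ (S : Subgroup R₁).map ψ := by
      rw [← Sylow.coe_mapSurjective hs, ← ht]; trivial
    exact ⟨_, ⟨x, hx, rfl⟩, (hφ x.1).symm.trans (congrArg Subtype.val e)⟩
  refine ⟨_, hL, pg, Nat.card_eq_of_bijective (fun g => ⟨ρ g, hm g g.2⟩) ⟨fun a b e => ?_, fun m => ?_⟩,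
    hm, hu⟩
  · exact Subtype.ext (h.eq_of_two (hL a.2) (hL b.2) (pg.to_le (zpowers_le.2 a.2))
      (pg.to_le (zpowers_le.2 b.2)) (congrArg Subtype.val e))
  · obtain ⟨g, hg, e⟩ := hu m m.2
    exact ⟨⟨g, hg⟩, Subtype.ext e⟩

theorem cj (g : G) : Sys E P T s (cjX g X) (cjρ g ρ) := by
  refine ⟨h.toVir, fun a u => ?_, fun a u => ?_, fun x hx y hy => ?_, fun x hx => ?_,
    fun x hx => h.com _ (mem_cj_N.1 hx), fun x hx => ?_, fun z h1 h2 => ?_⟩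
  · rw [cjX, conj_mul, h.sq]; group
  · rw [← h.map, cjρ, cjX]; congr 1; group
  · rw [cjρ, cjρ, cjρ, ← h.mul _ (mem_cj_N.1 hx) _ (mem_cj_N.1 hy)]; congr 1; group
  · rw [mem_cj_C]; exact h.ker _ (mem_cj_N.1 hx)
  · obtain ⟨l, hl, d, σ, e⟩ := h.dec _ (mem_cj_N.1 hx)
    refine ⟨_, conj_mem_cj hl, d, σ, ?_⟩
    rwa [cjρ, show g⁻¹ * (g * l * g⁻¹ * x) * g = l * (g⁻¹ * x * g) by group]
  · have := h.odd _ (mem_cj_UU.1 h1) (mem_cj_C.1 h2)
    rwa [show g⁻¹ * z * g = MulAut.conj g⁻¹ z by simp, MulEquiv.orderOf_eq] at this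

theorem le_or_eq {M : Subgroup G} (h1 : M ≤ tL X) (h2 : tL X ≤ normalizer (M : Set G)) :
    M ≤ tC X ∨ M = tL X := by
  obtain ⟨φ, hφ⟩ := h.exists_hom
  let ψ : tL X →* tL (tx E P T) := (φ.comp (inclusion L_le_N)).codRestrict _
    fun x => (hφ _).symm ▸ h.map_mem x.2
  have hψ : ∀ x : tL X, (ψ x : A) = ρ x := fun x => hφ _
  have hs : Function.Surjective ψ := fun m => by
    obtain ⟨g, hg, e⟩ := h.exists_lift m.2
    exact ⟨⟨g, hg⟩, Subtype.ext ((hψ _).trans e)⟩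
  have hn : (M.subgroupOf (tL X)).Normal := (normal_subgroupOf_iff_le_normalizer h1).2 h2
  have := h.simp
  rcases (hn.map ψ hs).eq_bot_or_eq_top with e | e
  · refine .inl fun m hm => (h.ker _ (L_le_N (h1 hm))).1 ?_
    have : ψ ⟨m, h1 hm⟩ ∈ (M.subgroupOf (tL X)).map ψ := mem_map_of_mem _ hm
    rw [e, mem_bot] at this
    rw [← hψ ⟨m, h1 hm⟩, this]; rfl
  · have key : ∀ a ∈ tL X, ∃ m ∈ M, ∃ z ∈ tC X, a = m * z := fun a ha => by
      obtain ⟨m, hm, e'⟩ : ψ ⟨a, ha⟩ ∈ (M.subgroupOf (tL X)).map ψ := by rw [e]; trivial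
      refine ⟨m, hm, _, (h.eq_iff (L_le_N m.2) (L_le_N ha)).1 ?_, (mul_inv_cancel_left _ _).symm⟩
      rw [← hψ, e', hψ]
    refine .inr (h1.antisymm (h.rel.pf_L.1.trans (commutator_le.2 fun a ha b hb => ?_)))
    obtain ⟨m, hm, z, hz, rfl⟩ := key a ha
    have c := mem_centralizer_iff.1 hz b hb
    rw [commutatorElement_def, show m * z * b * (m * z)⁻¹ * b⁻¹ = m * (z * b * z⁻¹) * m⁻¹ * b⁻¹ by group,
      ← c, show m * (b * z * z⁻¹) * m⁻¹ * b⁻¹ = m * (b * m⁻¹ * b⁻¹) by group]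
    exact mul_mem hm ((mem_normalizer_iff.1 (h2 hb) _).1 (inv_mem hm))

theorem exists_exa {Ψ : Set ι} (hΨ : ∀ r ∈ Ψ, Φ.neg r ∈ Ψ) {w : Equiv.Perm ι} (hw : w ∈ WT E Ψ) :
    ∃ n ∈ UUx X Ψ, tExa X n w ∧ Exa T (ρ n) w ∧ ρ n ∈ T.N := by
  obtain ⟨m, hm, h1, h2⟩ := h.toTw.exists_exa hΨ hw
  obtain ⟨n, hn, rfl⟩ := h.exists_lift hm
  refine ⟨n, hn, fun a u => h.conj_eq (L_le_N (UU_le_tL X Ψ hn)) (mem_tL X _ _) (mem_tL X _ _)
    (UFP.pgroup_zpowers_of_sq (h.sq _ _)) (UFP.pgroup_zpowers_of_sq (h.sq _ _)) ?_, h2, h1⟩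
  rw [h.map, h.map]
  exact h.exa_tx (WT_mono (Set.subset_univ _) hw) h2 a u

theorem L_le_of_simple {M : Subgroup G} (h1 : ∀ i u, X (Φ.simple i) u ∈ M)
    (h2 : ∀ i u, X (Φ.neg (Φ.simple i)) u ∈ M) : tL X ≤ M := by
  refine (closure_le _).2 ?_
  rintro _ ⟨r, -, u, rfl⟩
  obtain ⟨w, hw, i, rfl⟩ := exists_simple (E := E) r
  obtain ⟨n, hn, e, -⟩ := h.exists_exa (Ψ := {r | ∃ i, r = Φ.simple i ∨ r = Φ.neg (Φ.simple i)})
    (by
      rintro _ ⟨i, rfl | rfl⟩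
      exacts [⟨i, .inr rfl⟩, ⟨i, .inl (Φ.neg_neg _)⟩])
    (WT_mono (by rintro _ ⟨i, rfl⟩; exact ⟨i, .inl rfl⟩) hw)
  have hM : n ∈ M := (closure_le _).2 (by
    rintro _ ⟨_, ⟨i, rfl | rfl⟩, u, rfl⟩
    exacts [h1 i u, h2 i u]) hn
  rw [SetLike.mem_coe, ← e]
  exact mul_mem (mul_mem hM (h1 i u)) (inv_mem hM)

theorem not_le_C : ¬ tL X ≤ tC X := fun e =>
  one_ne_zero (h.xl_mem_C E.γ_θ (c := 1) (e (mem_tL X _ _)))

theorem sy_odd {a : G} (ha : a ∈ tL X) (h1 : ρ a ∈ T.H) : Odd (orderOf a) := by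
  obtain ⟨φ, hφ⟩ := h.exists_hom
  have e : ρ (a ^ (Nat.card K - 1)) = 1 := by
    rw [← h.amb.H_pow h1, ← hφ ⟨a, L_le_N ha⟩, ← map_pow, hφ]; rfl
  have := h.odd _ (pow_mem ha _) ((h.ker _ (L_le_N (pow_mem ha _))).1 e)
  refine ((BA.odd_q K).mul this).of_dvd_nat (orderOf_dvd_of_pow_eq_one ?_)
  rw [pow_mul, pow_orderOf_eq_one]

/-- the torus element of a long root -/
theorem exists_hl {d : ι} (hd : E.γ d = d) {c : F} (hc : c ≠ 0) : ∃ a ∈ UUx X {d, Φ.neg d},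
    ρ a ∈ T.H ∧ Odd (orderOf a) ∧ St T X ρ a (fun r => P.f (c ^ ip Φ d r)) 1 := by
  have hc' : P.f c ≠ 0 := (map_ne_zero P.f).2 hc
  obtain ⟨a, ha, e⟩ := h.exists_lift (h.h_long hd hc)
  have hH : ρ a ∈ T.H := e ▸ subset_closure ⟨d, _, hc', rfl⟩
  refine ⟨a, ha, hH, h.sy_odd (UU_le_tL X _ ha) hH, L_le_N (UU_le_tL X _ ha), fun r => ?_, fun r u => ?_⟩
  · rw [← map_mul, ip_neg_right, ← zpow_add₀ hc, add_neg_cancel, zpow_zero, map_one]
  · rw [e, h.amb.h_conj d r hc', ← map_zpow₀]; rfl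

/-- the torus element of a root -/
theorem exists_hs (d : ι) {v : K} (hv : v ≠ 0) : ∃ a ∈ UUx X {d, Φ.neg d},
    ρ a ∈ T.H ∧ Odd (orderOf a) ∧
      St T X ρ a (fun r => v ^ ip Φ d r * P.τ v ^ ip Φ d (E.γ r)) 1 := by
  have hv' : P.τ v ≠ 0 := (map_ne_zero P.τ).2 hv
  obtain ⟨a, ha, e⟩ := h.exists_lift (h.h_moved d hv)
  have hH : ρ a ∈ T.H :=
    e ▸ mul_mem (subset_closure ⟨d, _, hv, rfl⟩) (subset_closure ⟨_, _, hv', rfl⟩)
  refine ⟨a, ha, hH, h.sy_odd (UU_le_tL X _ ha) hH, L_le_N (UU_le_tL X _ ha), fun r => ?_, fun r u => ?_⟩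
  · beta_reduce
    rw [E.γn, ip_neg_right, ip_neg_right, mul_mul_mul_comm, ← zpow_add₀ hv, ← zpow_add₀ hv']
    simp
  · rw [e, show ∀ a b x : A, a * b * x * (a * b)⁻¹ = a * (b * x * b⁻¹) * a⁻¹ from fun _ _ _ => by group,
      h.amb.h_conj _ r hv', h.amb.h_conj _ r hv, ← mul_assoc, ← E.γip (E.γ d), E.γ2]
    rfl

theorem odd_of_H {a : G} (ha : a ∈ tL X) (h1 : ρ a ∈ T.H) : Odd (orderOf a) := h.sy_odd ha h1

theorem st_of_H {a : G} (ha : a ∈ tN X) (h1 : ρ a ∈ T.H) : ∃ d, St T X ρ a d 1 := (std_of_mem_H h1).imp fun _ e => ⟨ha, e⟩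

theorem st_of_C {c : G} (hc : c ∈ tC X) : St T X ρ c (fun _ => 1) 1 := ⟨C_le_N hc, std_of_mem_CL (by rw [(h.ker _ (C_le_N hc)).2 hc]; exact one_mem _)⟩

variable {g k : G} {d d' : ι → K} {σ σ' : K ≃+* K}

theorem st_γ (hg : St T X ρ g d σ) (r : ι) : d (E.γ r) = P.τ (d r) := by
  have e1 := hg.2.2 (E.γ r) 1
  have e2 := h.sx r (d r * σ 1)
  have e3 := h.sx r 1
  rw [map_one] at e3
  rw [← e3, show ρ g * (s * T.x r 1 * s⁻¹) * (ρ g)⁻¹ = ρ g * s * T.x r 1 * (ρ g * s)⁻¹ by group,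
    ← h.com g hg.1, show s * ρ g * T.x r 1 * (s * ρ g)⁻¹ = s * (ρ g * T.x r 1 * (ρ g)⁻¹) * s⁻¹ by group,
    hg.2.2, Equiv.Perm.one_apply, e2, map_one, mul_one, mul_one] at e1
  exact (h.amb.x_inj ((map_ne_zero P.τ).2 (hg.2.ne_zero r)) e1).2.symm

theorem st_conj (hg : St T X ρ g d σ) (a : ι) (u : K) : g * X a u * g⁻¹ = X a (d a * σ u) := by
  refine h.conj_eq hg.1 (mem_tL X _ _) (mem_tL X _ _) (UFP.pgroup_zpowers_of_sq (h.sq _ _))
    (UFP.pgroup_zpowers_of_sq (h.sq _ _)) ?_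
  rw [h.map, h.map, tx, tx, ← conj_mul, hg.2.2, hg.2.2, h.st_γ hg, P.comm, map_mul]
  rfl

theorem st_long (hg : St T X ρ g d σ) {r : ι} (hr : E.γ r = r) : ∃ c, c ≠ 0 ∧ d r = P.f c := by
  obtain ⟨c, e⟩ := (P.fix (d r)).1 (by rw [← h.st_γ hg, hr])
  exact ⟨c, fun e' => hg.2.ne_zero r (by rw [e, e', map_zero]), e⟩

theorem st_xl (hg : St T X ρ g d σ) {r : ι} (hr : E.γ r = r) {c₀ c c' : F} (h0 : d r = P.f c₀)
    (h1 : σ (P.f c) = P.f c') : g * xl P X r c * g⁻¹ = xl P X r (c₀ * c') := by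
  rw [xl, h.st_conj hg, h.rel.lng hr, h0, map_mul, h1]
  congr 1
  apply P.inj
  rw [P.hT, map_mul, map_mul, map_mul, P.τf, P.τf, ← P.comm, ← mul_add, ← add_mul, ← map_add, P.hω,
    map_one, one_mul]

theorem st_mul (hg : St T X ρ g d σ) (hk : St T X ρ k d' σ') :
    St T X ρ (g * k) (fun r => d r * σ (d' r)) (σ * σ') := ⟨mul_mem hg.1 hk.1, by rw [h.mul _ hg.1 _ hk.1]; exact hg.2.mul hk.2 fun _ => rfl⟩

theorem st_inv (hg : St T X ρ g d σ) : St T X ρ g⁻¹ (fun r => σ⁻¹ (d r)⁻¹) σ⁻¹ := ⟨inv_mem hg.1, by rw [h.inv hg.1]; exact hg.2.inv fun _ => rfl⟩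

theorem st_norm (hg : St T X ρ g d σ) (Ψ : Set ι) : g ∈ normalizer (UUx X Ψ : Set G) := by
  have key : ∀ {g d σ}, St T X ρ g d σ → ∀ m ∈ UUx X Ψ, g * m * g⁻¹ ∈ UUx X Ψ := fun {g d σ} hg =>
    show UUx X Ψ ≤ (UUx X Ψ).comap (MulAut.conj g).toMonoidHom from (closure_le _).2 (by
      rintro _ ⟨a, ha, u, rfl⟩
      exact (h.st_conj hg a u).symm.subst (motive := (· ∈ UUx X Ψ)) (mem_UUx X ha _))
  exact mem_normalizer_iff.2 fun m =>
    ⟨key hg m, fun e => by simpa [mul_assoc] using key (h.st_inv hg) _ e⟩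

theorem st_add (hg : St T X ρ g d σ) {a b r : ι} (hr : RAdd Φ a b r) : d r = d a * d b := h.amb.d_add hg.2 (E.gp (.inl rfl)) hr

end Sys

namespace Sit

variable (h : Sit E P T s X ρ t)
include h

theorem cj (g : G) : Sit E P T s (cjX g X) (cjρ g ρ) (g * t * g⁻¹) := { h.toSys.cj g with
    toStd := (show tL (cjX g X) = MulAut.conj g • tL X from cjX_UU g X _).symm ▸ h.toStd.cj g }

theorem cj_mem {l : G} (hl : l ∈ tL X) : Sit E P T s (cjX l X) (cjρ l ρ) t := by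
  have := h.cj l
  rwa [h.tC l hl, mul_inv_cancel_right] at this

theorem t_not_mem : t ∉ tL X := fun e =>
  h.t1 (h.eq_one e h.tC (UFP.pgroup_zpowers_of_sq h.t2))

theorem comL {l : G} (hl : l ∈ tL X) : l * t = t * l := h.tC l hl

theorem mem_N {g : G} (hc : g * t = t * g) : g ∈ tN X := h.CN (mem_centralizer_singleton_iff.2 hc)

theorem eq_t {c : G} (hc : c ∈ SLT.tC X) (c2 : c * c = 1) (ct : c * t = t * c) : c = 1 ∨ c = t :=
  h.toStd.invol hc ct c2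

end Sit

end CfsgLib.SLT
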