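import Mathlib
import Cfsg.Agent.Lib.SLT.Sys
import Cfsg.Agent.Lib.SLE.SemiA

/-!
# Fixed points, Bruhat decomposition, Sylow subgroups
-/

set_option autoImplicit false
set_option linter.unusedSectionVars false

namespace CfsgLib.SLT

open CfsgLib.RGD CfsgLib.Stein CfsgLib.SLE Subgroup
open scoped commutatorElement Pointwise

universe u


variable {ι κ : Type} [Fintype κ] [DecidableEq κ] [Finite ι] {Φ : RootSys ι κ} {E : ER Φ}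
  {F K : Type} [Field F] [Finite F] [CharP F 2] [Field K] [Finite K] [CharP K 2] {P : QE F K}
  {G : Type u} [Group G] [Finite G]

theorem box_lay {Ψ : Set ι} (hΨ : Cl E Ψ) (m : ℤ) :
    Lay Φ {r | r ∈ Ψ ∧ m ≤ Φ.ht r} {r | r ∈ Ψ ∧ m + 1 ≤ Φ.ht r} :=
  ⟨fun r h => hΨ.pos r h.1, fun _ h => ⟨h.1, by have := h.2; omega⟩, fun a h b h' k e =>
    ⟨hΨ.add a h.1 b h'.1 k e, by
      have := Φ.ht_pos (hΨ.pos b h'.1)
      have := h.2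
      rw [radd_ht e]
      omega⟩⟩

theorem box_γ {Ψ : Set ι} (hΨ : Cl E Ψ) (m : ℤ) (r : ι) :
    E.γ r ∈ {r | r ∈ Ψ ∧ m ≤ Φ.ht r} ↔ r ∈ {r | r ∈ Ψ ∧ m ≤ Φ.ht r} :=
  ⟨fun h => ⟨E.γ2 r ▸ hΨ.gam _ h.1, E.γ_ht r ▸ h.2⟩, fun h => ⟨hΨ.gam _ h.1, (E.γ_ht r).symm ▸ h.2⟩⟩

theorem box_top (Ψ : Set ι) : {r | r ∈ Ψ ∧ Φ.ht E.θ + 1 - ((0 : ℕ) : ℤ) ≤ Φ.ht r} = ∅ := by
  refine Set.eq_empty_of_forall_notMem fun r hr => ?_
  have h1 := hr.2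
  by_cases h0 : r = E.θ
  · rw [h0] at h1; omega
  · have := E.ht_lt_θ h0; omega

theorem box_bot {Ψ : Set ι} (hΨ : Cl E Ψ) :
    {r | r ∈ Ψ ∧ Φ.ht E.θ + 1 - ((Φ.ht E.θ).toNat : ℤ) ≤ Φ.ht r} = Ψ := by
  have := Φ.ht_pos E.pos_θ
  exact Set.ext fun r => ⟨fun h => h.1, fun h => ⟨h, by have := Φ.ht_pos (hΨ.pos r h); omega⟩⟩

namespace Tw

variable {T : StSys Φ K G} {s : G} (h : Tw E P T s)
include h

theorem box_tr {Ψ : Set ι} (hΨ : Cl E Ψ) {m : ℤ} {x : G} (hx : x ∈ T.UU {r | r ∈ Ψ ∧ m ≤ Φ.ht r})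
    (hf : s * x * s⁻¹ * x⁻¹ ∈ T.UU {r | r ∈ Ψ ∧ m + 1 ≤ Φ.ht r}) :
    ∃ y ∈ T.UU {r | r ∈ Ψ ∧ m ≤ Φ.ht r}, ∀ k, k ∉ {r | r ∈ Ψ ∧ m + 1 ≤ Φ.ht r} →
      cf T x k = cf T y k + cf T (s * y * s⁻¹) k := by
  have L := box_lay hΨ m
  obtain ⟨y, hy, e⟩ := h.amb.sm_scale L P.ω hx
  refine ⟨y, hy, fun k hk => ?_⟩
  have hk' := mt (box_γ hΨ (m + 1) k).1 hk
  have c := fun u hu => h.amb.cf_std L h.std (box_γ hΨ _) (box_γ hΨ _) (u := u) hu hk'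
  have h1 := h.amb.cf_eq_zero (h.amb.lay_closed' L) (fun r hr => hΨ.pos r hr.1) hf hk
  rw [E.γ2] at c
  rw [h.amb.cf_mul L (h.std.conj_mem (fun r => (box_γ hΨ m r).2) hx) (inv_mem hx) hk,
    h.amb.cf_inv L hx hk, c x hx] at h1
  rw [c y hy, e k hk, e _ hk', map_mul]
  linear_combination (-P.τ P.ω) * h1 - cf T x k * P.hω + (P.τ P.ω * cf T x k) * P.two

theorem fixU {Ψ : Set ι} (hΨ : Cl E Ψ) : T.UU Ψ ⊓ centralizer {s} = UUx (tx E P T) Ψ := by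
  refine le_antisymm ?_ (h.UU_le hΨ.gam)
  have key : ∀ n : ℕ, ∀ u ∈ T.UU {r | r ∈ Ψ ∧ Φ.ht E.θ + 1 - n ≤ Φ.ht r}, u ∈ centralizer {s} →
      u ∈ UUx (tx E P T) Ψ := by
    intro n
    induction n with
    | zero =>
      intro u hu _
      rw [box_top, T.UU_empty, mem_bot] at hu
      rw [hu]; exact one_mem _
    | succ n ih =>
      intro u hu hc
      rw [show Φ.ht E.θ + 1 - (n : ℤ) = Φ.ht E.θ + 1 - ((n + 1 : ℕ) : ℤ) + 1 by push_cast; ring] at ih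
      generalize Φ.ht E.θ + 1 - ((n + 1 : ℕ) : ℤ) = m at ih hu
      have L := box_lay hΨ m
      have hle := h.UU_le fun r => (box_γ hΨ m r).2
      have hs := fun u => h.std.conj_mem (u := u) fun r => (box_γ hΨ m r).2
      obtain ⟨y, hy, e1⟩ := h.box_tr hΨ hu (by rw [← mem_centralizer_singleton_iff.1 hc]; simp)
      obtain ⟨z, hz, e2⟩ : ∃ z ∈ UUx (tx E P T) {r | r ∈ Ψ ∧ m ≤ Φ.ht r},
          ∀ k, k ∉ {r | r ∈ Ψ ∧ m + 1 ≤ Φ.ht r} → cf T z k = cf T y k + cf T (s * y * s⁻¹) k := by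
        refine T.UU_induction (p := fun y => ∃ z ∈ UUx (tx E P T) {r | r ∈ Ψ ∧ m ≤ Φ.ht r},
          ∀ k, k ∉ {r | r ∈ Ψ ∧ m + 1 ≤ Φ.ht r} → cf T z k = cf T y k + cf T (s * y * s⁻¹) k)
          ⟨1, one_mem _, fun k _ => by simp [h.amb.cf_one]⟩ ?_ hy
        rintro r hr t g hg ⟨z, hz, e⟩
        have hx := T.x_mem_UU hr t
        refine ⟨_, mul_mem hz (mem_UUx _ hr t), fun k hk => ?_⟩
        rw [tx, ← h.sx, h.amb.cf_mul L (hle hz).1 (mul_mem hx (hs _ hx)) hk, h.amb.cf_mul L hx (hs _ hx) hk,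
          e k hk, h.amb.cf_mul L hg hx hk, ← conj_mul, h.amb.cf_mul L (hs _ hg) (hs _ hx) hk]
        ring
      have h3 := ih (u * z⁻¹) (h.amb.mul_inv_mem L hu (hle hz).1 fun r _ hr => by rw [e1 r hr, e2 r hr])
        (mul_mem hc (inv_mem (hle hz).2))
      have := mul_mem h3 (UUx_mono _ (fun _ h => h.1) hz)
      rwa [inv_mul_cancel_right] at this
  exact fun u hu => key (Φ.ht E.θ).toNat u (by rw [box_bot hΨ]; exact hu.1) hu.2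

theorem card_UU {Ψ : Set ι} (hΨ : Cl E Ψ) : Nat.card (UUx (tx E P T) Ψ) = Nat.card F ^ Ψ.ncard := by
  have e : ∀ i : ℕ, Φ.ht E.θ + 1 - (i : ℤ) = Φ.ht E.θ + 1 - ((i + 1 : ℕ) : ℤ) + 1 := fun i => by
    push_cast; ring
  have c : UFP.Chain s (T.UU Ψ) (Φ.ht E.θ).toNat
      fun i => T.UU {r | r ∈ Ψ ∧ Φ.ht E.θ + 1 - i ≤ Φ.ht r} := by
    refine ⟨by simp only [box_top, T.UU_empty], by simp only [box_bot hΨ], fun i _ => ?_,
      fun i _ => h.amb.std_norm ⟨_, h.std⟩ fun r => (box_γ hΨ _ r).2, fun i _ u hu x hx => ?_,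
      fun i _ x hx => ?_, fun i _ x hx hf => ?_⟩
    · simp only [e i]
      exact T.UU_mono (box_lay hΨ _).sub
    · simp only [e i]
      have k : ∀ a ∈ Ψ, ∀ m, ∀ b ∈ {r | r ∈ Ψ ∧ m ≤ Φ.ht r}, ∀ k, RAdd Φ a b k →
          k ∈ {r | r ∈ Ψ ∧ m + 1 ≤ Φ.ht r} := fun a ha m b hb k e => ⟨hΨ.add a ha b hb.1 k e, by
        have := Φ.ht_pos (hΨ.pos a ha)
        have := hb.2
        rw [radd_ht e]
        omega⟩
      have n := h.amb.le_norm hΨ.pos (fun r hr => hΨ.pos r hr.1) fun a ha b hb j e =>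
        (box_lay hΨ (Φ.ht E.θ + 1 - ((i + 1 : ℕ) : ℤ) + 1)).sub (k a ha _ b hb j e)
      exact h.amb.comm_UU (fun a ha b hb => Φ.ne_neg_of_pos (hΨ.pos a ha) (hΨ.pos b hb.1))
        (fun a ha => k a ha _) n ((T.UU_mono fun _ h => h.1).trans n) hu hx
    · simp only [e i]
      refine h.amb.mem_of_cf (T.UU_le_U (fun r hr => hΨ.pos r hr.1) (mul_mem hx hx)) fun r _ hr => ?_
      rw [h.amb.cf_mul (box_lay hΨ _) hx hx hr, CharTwo.add_self_eq_zero]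
    · simp only [e i] at hf ⊢
      obtain ⟨y, hy, hk⟩ := h.box_tr hΨ hx hf
      have hs := h.std.conj_mem (fun r => (box_γ hΨ _ r).2) hy
      have L := box_lay hΨ (Φ.ht E.θ + 1 - ((i + 1 : ℕ) : ℤ))
      refine ⟨y, hy, h.amb.mem_of_cf (T.UU_le_U L.pos (mul_mem hx (mul_mem hs (inv_mem hy))))
        fun r _ hr => ?_⟩
      rw [h.amb.cf_mul L hx (mul_mem hs (inv_mem hy)) hr, h.amb.cf_mul L hs (inv_mem hy) hr,
        h.amb.cf_inv L hy hr, hk r hr]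
      linear_combination (cf T y r + cf T (s * y * s⁻¹) r) * P.two
  have := sm_chain_card h.s2 c
  rw [h.fixU hΨ, h.amb.nd.card_UU hΨ.closed hΨ.pos, P.card, ← pow_mul, mul_comm, pow_mul] at this
  exact Nat.pow_left_injective two_ne_zero this

theorem box_H {p : G → Prop} (h1 : p 1) (hm : ∀ a ∈ T.H, ∀ b ∈ T.H, p a → p b → p (a * b))
    (hg : ∀ i c, c ≠ 0 → p (T.h (Φ.simple i) c * T.h (E.γ (Φ.simple i)) (P.τ c))) {a : G} (ha : a ∈ T.H)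
    (hs : s * a = a * s) : p a := by
  have key : ∀ t L, s * hprod T L t * s⁻¹ ∈ T.H ∧ p (hprod T L t * (s * hprod T L t * s⁻¹)) := fun t L => by
    induction L with
    | nil => simpa [hprod_nil] using h1
    | cons i L ih =>
      have c0 := (t i).ne_zero
      have k1 := T.h_mem_H (Φ.simple i) c0
      have k2 := T.h_mem_H (E.γ (Φ.simple i)) ((map_ne_zero P.τ).2 c0)
      have k3 := hprod_mem_H T L t
      rw [hprod_cons, ← conj_mul, h.amb.std_conj_h ⟨_, h.std⟩ (E.gp (.inr rfl)) _ c0]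
      refine ⟨mul_mem k2 ih.1, ?_⟩
      rw [mul_assoc, ← mul_assoc (hprod T L t), h.amb.r3.comm k3 k2, mul_assoc, ← mul_assoc]
      exact hm _ (mul_mem k1 k2) _ (mul_mem k3 ih.1) (hg i _ c0) ih.2
  obtain ⟨k, hk⟩ := BA.odd_q K
  obtain ⟨t, e⟩ := (h.amb.r3.range_hHom (Finset.nodup_toList Finset.univ) (by simp)).ge
    (pow_mem ha (k + 1))
  have := (key t Finset.univ.toList).2
  rwa [show hprod T _ t = _ from e, ((show Commute s a from hs).pow_right _).eq, mul_inv_cancel_right,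
    ← pow_add, show k + 1 + (k + 1) = 2 * k + 1 + 1 by ring, ← hk, pow_succ, h.amb.H_pow ha,
    one_mul] at this

theorem box_hN {r : ι} (hr : E.γ r = r) {c : K} (hc : c ≠ 0) :
    T.h r c * T.h (E.γ r) (P.τ c) = T.h r (P.f (P.N c)) := by
  rw [hr, h.amb.r3 _ _ _ hc ((map_ne_zero P.τ).2 hc), P.hN]

theorem exists_H_eq {a : G} (ha : a ∈ T.H) (hs : s * a = a * s) : ∃ c, c ≠ 0 ∧
    ∃ y ∈ T.H ⊓ UUx (tx E P T) {d | ip Φ d E.θ = 0}, a = T.h E.α (P.f c) * y := by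
  refine h.box_H (p := fun a => ∃ c, c ≠ 0 ∧ ∃ y ∈ T.H ⊓ UUx (tx E P T) {d | ip Φ d E.θ = 0},
    a = T.h E.α (P.f c) * y) ⟨1, one_ne_zero, 1, one_mem _, by simp [T.h_one]⟩ ?_ (fun i c hc => ?_) ha hs
  · rintro _ - _ - ⟨c, hc, y, hy, rfl⟩ ⟨c', hc', y', hy', rfl⟩
    have k := (map_ne_zero P.f).2 hc'
    refine ⟨_, mul_ne_zero hc hc', _, mul_mem hy hy', ?_⟩
    rw [map_mul, ← h.amb.r3 _ _ _ ((map_ne_zero P.f).2 hc) k, mul_assoc, ← mul_assoc y,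
      h.amb.r3.comm hy.1 (T.h_mem_H _ k)]
    group
  · by_cases e : i = E.i₀
    · exact ⟨_, P.N_ne hc, 1, one_mem _, by rw [mul_one, e]; exact h.box_hN E.γ_α hc⟩
    · refine ⟨1, one_ne_zero, _, ⟨mul_mem (T.h_mem_H _ hc) (T.h_mem_H _ ((map_ne_zero P.τ).2 hc)),
        UUx_mono _ ?_ (h.h_moved _ hc)⟩, by rw [map_one, T.h_one, one_mul]⟩
      have : ip Φ (Φ.simple i) E.θ = 0 := by rw [E.top, if_neg e]
      rintro _ (rfl | rfl)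
      exacts [this, by rw [Set.mem_ofPred_eq, ip_neg_left, this, neg_zero]]

theorem H_le {a : G} (ha : a ∈ T.H) (hs : s * a = a * s) : a ∈ tL (tx E P T) := by
  obtain ⟨c, hc, y, hy, rfl⟩ := h.exists_H_eq ha hs
  exact mul_mem (UU_le_tL _ _ (h.h_long E.γ_α hc)) (UU_le_tL _ _ hy.2)

theorem H_le_Y2 (hq : Nat.card F = 2) {a : G} (ha : a ∈ T.H) (hs : s * a = a * s) :
    a ∈ UUx (tx E P T) {d | ip Φ d E.θ = 0 ∧ ip Φ d E.β = 0} := by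
  refine h.box_H (p := (· ∈ UUx (tx E P T) {d | ip Φ d E.θ = 0 ∧ ip Φ d E.β = 0})) (one_mem _)
    (fun _ _ _ _ => mul_mem) (fun i c hc => ?_) ha hs
  by_cases e : E.γ (Φ.simple i) = Φ.simple i
  · obtain ⟨y, -, hy⟩ := (Nat.card_eq_two_iff' (0 : F)).1 hq
    rw [h.box_hN e hc, hy _ (P.N_ne hc), ← hy 1 one_ne_zero, map_one, T.h_one]
    exact one_mem _
  · refine UUx_mono _ ?_ (h.h_moved _ hc)
    have k1 : ip Φ (Φ.simple i) E.θ = 0 := by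
      rw [E.top, if_neg]
      rintro rfl
      exact e E.γ_α
    have k2 := h.tr.smβ i e
    rintro _ (rfl | rfl)
    exacts [⟨k1, k2⟩, by rw [Set.mem_ofPred_eq, ip_neg_left, ip_neg_left, k1, k2]; simp]

theorem bruhat {m : G} (hm : m ∈ T.grp) (hs : s * m = m * s) : ∃ u ∈ tU Φ (tx E P T),
    ∃ w ∈ WT E Set.univ, ∃ n ∈ T.N, T.Acts n w ∧ s * n = n * s ∧
      ∃ u' ∈ UUx (tx E P T) (Φ.Inv w), m = u * n * u' := by
  obtain ⟨u, hu, n, hn, w, hw, ha, u', hu', e⟩ := h.amb.nd.exists_bruhat hm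
  have gp := E.gp (.inr rfl : E.γ = 1 ∨ E.γ = E.γ)
  have kN : s * n * s⁻¹ ∈ T.N := by
    refine (show T.N ≤ T.N.comap (MulAut.conj s).toMonoidHom from sup_le ((closure_le _).2 ?_)
      ((closure_le _).2 ?_)) hn
    · rintro _ ⟨r, c, hc, rfl⟩
      exact (h.amb.std_conj_h ⟨_, h.std⟩ gp r hc).symm.subst (motive := (· ∈ T.N))
        (T.H_le_N (T.h_mem_H _ ((map_ne_zero P.τ).2 hc)))
    · rintro _ ⟨r, rfl⟩
      refine (Amb.std_conj_n h.std E.γn r 1).symm.subst (motive := (· ∈ T.N)) ?_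
      rw [map_one, mul_one]
      exact mem_sup_right (subset_closure ⟨_, rfl⟩)
  have kA : T.Acts (s * n * s⁻¹) (E.γ * w * E.γ⁻¹) := by
    obtain ⟨l, h1, h2⟩ := id ha
    have := (h.std.mul (⟨h1, h2⟩ : StdD T n w l 1) (Φ.apply_neg hw)).mul (h.std.inv E.γn)
      (aa_neg_inv E.γn)
    rw [mul_one, mul_inv_cancel] at this
    exact ⟨_, this.1, this.2⟩
  have kU : s * u' * s⁻¹ ∈ T.UU (Φ.Inv (E.γ * w * E.γ⁻¹)) := h.std.conj_mem (fun r hr => by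
    refine ⟨(E.γ_pos r).2 hr.1, ?_⟩
    simpa using (Φ.pos_or_neg _).resolve_left fun e => Φ.not_neg_of_pos ((E.γ_pos _).1 e) hr.2) hu'
  obtain ⟨e1, e2, e3, e4⟩ := h.amb.nd.bruhat_unique kN hn kA ha
    (h.std.conj_mem (fun r hr => (E.γ_pos r).2 hr) hu) kU hu hu' (by
      rw [conj_mul, conj_mul, ← e, hs, mul_inv_cancel_right])
  have hw' : w ∈ WT E Set.univ := WT_mono (Set.subset_univ _) (mem_WT_univ hw fun r =>
    congrArg (· r) (mul_inv_eq_iff_eq_mul.1 e1))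
  exact ⟨u, (h.fixU cl_pos).le ⟨hu, mem_centralizer_singleton_iff.2 (mul_inv_eq_iff_eq_mul.1 e2).symm⟩,
    w, hw', n, hn, ha, mul_inv_eq_iff_eq_mul.1 e3, u', (h.fixU (cl_Inv hw')).le
      ⟨hu', mem_centralizer_singleton_iff.2 (mul_inv_eq_iff_eq_mul.1 e4).symm⟩, e⟩

theorem fix : T.grp ⊓ centralizer {s} = tL (tx E P T) := by
  refine le_antisymm (fun m hm => ?_) h.L_le
  obtain ⟨u, hu, w, hw, n, hn, ha, hs, u', hu', rfl⟩ :=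
    h.bruhat hm.1 (mem_centralizer_singleton_iff.1 hm.2).symm
  obtain ⟨n', k1, k2, k3⟩ := h.exists_exa (Ψ := Set.univ) (fun _ _ => trivial) hw
  refine mul_mem (mul_mem (UU_le_tL _ _ hu) ((mul_mem_cancel_left (inv_mem k1)).1
    (h.H_le (h.amb.nd.inv_mul_mem_H k2 hn k3.acts ha) ?_))) (UU_le_tL _ _ hu')
  exact ((show Commute s n' from (mem_centralizer_singleton_iff.1 (h.L_le k1).2).symm).inv_right.mul_right
    hs).eq

end Tw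

variable {A : Type} [Group A] [Finite A] {T : StSys Φ K A} {s : A} {X : ι → K → G} {ρ : G → A}

namespace Sys

variable (h : Sys E P T s X ρ)
include h

theorem box_pg {Ψ : Set ι} {R : Subgroup A} (hR : IsPGroup 2 R) (h1 : ∀ a ∈ Ψ, ∀ u, tx E P T a u ∈ R) :
    IsPGroup 2 (UUx X Ψ) := by
  obtain ⟨R', k1, k2, -, -, k3⟩ := h.lift_pgroup (hR.to_inf_left (K := tL (tx E P T))) inf_le_right
  refine k2.to_le ((closure_le _).2 ?_)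
  rintro _ ⟨a, ha, u, rfl⟩
  obtain ⟨g, hg, e⟩ := k3 _ ⟨h1 a ha u, mem_tL _ a u⟩
  rwa [← h.eq_of_two (k1 hg) (mem_tL X a u) (k2.to_le (zpowers_le.2 hg))
    (UFP.pgroup_zpowers_of_sq (h.sq a u)) (e.trans (h.map a u).symm)]

theorem pg_UU {Ψ : Set ι} (hΨ : ∀ r ∈ Ψ, Φ.Pos r) : IsPGroup 2 (UUx X Ψ) :=
  h.box_pg h.amb.pg_U fun a ha _ =>
    mul_mem (T.x_mem_U (hΨ a ha) _) (T.x_mem_U ((E.γ_pos a).2 (hΨ a ha)) _)

theorem pg_U : IsPGroup 2 (tU Φ X) := h.pg_UU fun _ k => k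

theorem pg_Q {r : ι} (hr : E.γ r = r) : IsPGroup 2 (tQ Φ X r) :=
  h.box_pg (h.amb.pg_Q r) fun a ha _ => mul_mem (T.x_mem_UU ha _)
    (T.x_mem_UU (show 1 ≤ ip Φ (E.γ a) r by rwa [ip_γ_long hr]) _)

theorem card_UU {Ψ : Set ι} (hΨ : Cl E Ψ) : Nat.card (UUx X Ψ) = Nat.card F ^ Ψ.ncard := by
  have pg := h.pg_UU hΨ.pos
  rw [← h.toTw.card_UU hΨ]
  refine Nat.card_eq_of_bijective (fun g => ⟨ρ g, h.map_mem g.2⟩) ⟨fun a b e => ?_, fun m => ?_⟩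
  · exact Subtype.ext (h.eq_of_two (UU_le_tL X Ψ a.2) (UU_le_tL X Ψ b.2) (pg.to_le (zpowers_le.2 a.2))
      (pg.to_le (zpowers_le.2 b.2)) (congrArg Subtype.val e))
  · obtain ⟨g, hg, e⟩ := h.exists_lift m.2
    exact ⟨⟨g, hg⟩, Subtype.ext e⟩

theorem card_U : Nat.card (tU Φ X) = Nat.card F ^ NP Φ := h.card_UU cl_pos

theorem box_lift {Ψ : Set ι} (hΨ : Cl E Ψ) {g : G} (hg : g ∈ tN X) (h1 : ρ g ∈ T.UU Ψ) :
    ∃ u ∈ UUx X Ψ, ρ u = ρ g :=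
  h.exists_lift (h.fixU hΨ ▸ ⟨h1, mem_centralizer_singleton_iff.2 (h.com g hg).symm⟩)

/-- an element of `L` over `U_Ψ` lies in `U_Ψ` up to the centre -/
theorem exists_of_map {Ψ : Set ι} (hΨ : Cl E Ψ) {g : G} (hg : g ∈ tN X) (h1 : ρ g ∈ T.UU Ψ) :
    ∃ u ∈ UUx X Ψ, ∃ k ∈ tC X, g = u * k := by
  obtain ⟨u, hu, e⟩ := h.box_lift hΨ hg h1
  exact ⟨u, hu, _, (h.eq_iff (L_le_N (UU_le_tL X Ψ hu)) hg).1 e, (mul_inv_cancel_left _ _).symm⟩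

theorem mem_UX_iff {Ψ : Set ι} (hΨ : Cl E Ψ) {g : G} (hg : g ∈ tL X) (hp : IsPGroup 2 (zpowers g)) :
    g ∈ UUx X Ψ ↔ ρ g ∈ T.UU Ψ := by
  refine ⟨h.map_mem_UU hΨ.gam, fun h1 => ?_⟩
  obtain ⟨u, hu, e⟩ := h.box_lift hΨ (L_le_N hg) h1
  rwa [← h.eq_of_two (UU_le_tL X Ψ hu) hg ((h.pg_UU hΨ.pos).to_le (zpowers_le.2 hu)) hp e]

theorem mem_UX_of_U {Ψ : Set ι} (hΨ : Cl E Ψ) {g : G} (hg : g ∈ tU Φ X) (h1 : ρ g ∈ T.UU Ψ) :
    g ∈ UUx X Ψ :=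
  (h.mem_UX_iff hΨ (UU_le_tL X _ hg) (h.pg_U.to_le (zpowers_le.2 hg))).2 h1

theorem exists_of_grp {g : G} (hg : g ∈ tN X) (h1 : ρ g ∈ T.grp) :
    ∃ l ∈ tL X, ∃ k ∈ tC X, g = l * k := by
  obtain ⟨l, hl, e⟩ := h.exists_lift (Ψ := Set.univ) (m := ρ g)
    (h.fix.le ⟨h1, mem_centralizer_singleton_iff.2 (h.com g hg).symm⟩)
  exact ⟨l, hl, _, (h.eq_iff (L_le_N hl) hg).1 e, (mul_inv_cancel_left _ _).symm⟩

theorem bruhat {l : G} (hl : l ∈ tL X) : ∃ u ∈ tU Φ X, ∃ w ∈ WT E Set.univ, ∃ n ∈ tL X,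
    tExa X n w ∧ Exa T (ρ n) w ∧ ∃ a ∈ tL X, ρ a ∈ T.H ∧ ∃ u' ∈ UUx X (Φ.Inv w),
      l = u * n * a * u' := by
  obtain ⟨u, hu, w, hw, n, hn, ha, -, u', hu', e⟩ :=
    h.toTw.bruhat (h.L_le (h.map_mem hl)).1 (h.com l (L_le_N hl))
  obtain ⟨v, hv, rfl⟩ := h.exists_lift hu
  obtain ⟨v', hv', rfl⟩ := h.exists_lift hu'
  obtain ⟨m, hm, k1, k2, k3⟩ := h.exists_exa (Ψ := Set.univ) (fun _ _ => trivial) hw
  have q := UU_le_tL X _ hv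
  have q' := UU_le_tL X _ hv'
  refine ⟨v, hv, w, hw, m, hm, k1, k2, m⁻¹ * (v⁻¹ * l * v'⁻¹),
    mul_mem (inv_mem hm) (mul_mem (mul_mem (inv_mem q) hl) (inv_mem q')), ?_, v', hv', by group⟩
  rw [h.mul _ (L_le_N (inv_mem hm)) _ (L_le_N (mul_mem (mul_mem (inv_mem q) hl) (inv_mem q'))),
    h.mul _ (L_le_N (mul_mem (inv_mem q) hl)) _ (L_le_N (inv_mem q')),
    h.mul _ (L_le_N (inv_mem q)) _ (L_le_N hl), h.inv (L_le_N hm), h.inv (L_le_N q), h.inv (L_le_N q'), e,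
    show (ρ v)⁻¹ * (ρ v * n * ρ v') * (ρ v')⁻¹ = n by group]
  exact h.amb.nd.inv_mul_mem_H k3 hn k2.acts ha

theorem box_pos {r : ι} (e : X r P.ω ∈ tU Φ X) : Φ.Pos r := by
  refine (Φ.pos_or_neg r).resolve_right fun hn => ?_
  have k1 := h.map_mem_UU (fun r hr => (E.γ_pos r).2 hr) e
  have k2 : ρ (X r P.ω) ∈ T.V := h.map_mem_UU (Ψ := {r | Φ.Neg r}) (fun r (hr : Φ.Neg r) =>
    (Φ.pos_or_neg _).resolve_left fun e => Φ.not_neg_of_pos ((E.γ_pos r).1 e) hr) (mem_UUx X hn _)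
  have k3 := h.eq_of_sq (mem_tL X _ _) (one_mem _) (h.sq _ _) (one_mul 1)
    ((h.amb.nd.eq_one_of_mem_B_of_mem_V (T.U_le_B k1) k2).trans h.one.symm)
  by_cases hr : E.γ r = r
  · exact one_ne_zero ((h.xl_eq_one hr (c := 1)).1 (by rwa [xl, map_one, mul_one]))
  · have := P.hω
    rw [(h.X_eq_one hr).1 k3, map_zero, add_zero] at this
    exact zero_ne_one this

/-- the normaliser of `U` in `L` -/
theorem exists_B {l : G} (hl : l ∈ tL X) (hU : l ∈ normalizer (tU Φ X : Set G)) :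
    ∃ u ∈ tU Φ X, ∃ a ∈ tL X, ρ a ∈ T.H ∧ l = u * a := by
  obtain ⟨u, hu, w, hw, n, hn, k1, k2, a, ha, hH, u', hu', rfl⟩ := h.bruhat hl
  have hu'' : u' ∈ tU Φ X := UUx_mono X (fun _ h => h.1) hu'
  obtain ⟨d, hd⟩ := h.st_of_H (L_le_N ha) hH
  have ka : a ∈ normalizer (tU Φ X : Set G) := h.st_norm hd _
  rw [mul_mem_cancel_right (le_normalizer hu''), mul_mem_cancel_right ka,
    mul_mem_cancel_left (le_normalizer hu)] at hU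
  obtain rfl : w = 1 := Φ.eq_one_of_pos_simple (WT_le _ hw) fun i => h.box_pos (by
    rw [← k1]
    exact (mem_normalizer_iff.1 hU _).1 (mem_UUx X (Φ.pos_simple i) _))
  have e : ρ n = 1 := by
    rw [← mem_bot, ← h.cl]
    exact aa_mem_CL k2
  refine ⟨u * (n * a * u' * (n * a)⁻¹), mul_mem hu ((mem_normalizer_iff.1 (mul_mem hU ka) _).1 hu''),
    n * a, mul_mem hn ha, ?_, by group⟩
  rwa [h.mul _ (L_le_N hn) _ (L_le_N ha), e, one_mul]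

theorem norm_TU {g : G} (hg : g ∈ tN X) (hU : g ∈ normalizer (tU Φ X : Set G)) :
    ρ g ∈ normalizer (T.U : Set A) := by
  obtain ⟨l, hl, d, σ, e⟩ := h.dec g hg
  have k := h.st_norm (Ψ := {r | Φ.Pos r}) ⟨mul_mem (L_le_N hl) hg, e⟩
  obtain ⟨u, hu, a, ha, hH, rfl⟩ := h.exists_B hl ((mul_mem_cancel_right hU).1 k)
  have k1 : _ ∈ normalizer (T.U : Set A) := h.amb.std_norm ⟨d, e⟩ fun _ h => h
  have k2 : ρ a ∈ normalizer (T.U : Set A) := h.amb.std_norm (std_of_mem_H hH) fun _ h => h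
  have k3 : ρ u ∈ normalizer (T.U : Set A) :=
    le_normalizer (h.map_mem_UU (fun r hr => (E.γ_pos r).2 hr) hu)
  rwa [h.mul _ (L_le_N hl) _ hg, h.mul _ (L_le_N (UU_le_tL X _ hu)) _ (L_le_N ha),
    mul_mem_cancel_left (mul_mem k3 k2)] at k1

theorem mem_U_of_norm {g : G} (hg : g ∈ tL X) (hp : IsPGroup 2 (zpowers g))
    (hU : g ∈ normalizer (tU Φ X : Set G)) : g ∈ tU Φ X := by
  refine (h.mem_UX_iff cl_pos hg hp).2
    (h.amb.mem_U_of_norm (h.L_le (h.map_mem hg)).1 ?_ (h.norm_TU (L_le_N hg) hU))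
  obtain ⟨φ, hφ⟩ := h.exists_hom
  obtain ⟨k, e⟩ := sy_pg_iff.1 hp
  refine sy_pg_iff.2 ⟨k, ?_⟩
  rw [← hφ ⟨g, L_le_N hg⟩, ← map_pow, ← map_one φ]
  exact congrArg φ (Subtype.ext e)

theorem le_U {R : Subgroup G} (hR : IsPGroup 2 R) (h1 : R ≤ tL X) (h2 : tU Φ X ≤ R) : R ≤ tU Φ X := by
  have := hR.isNilpotent
  by_contra hne
  have hlt : (tU Φ X).subgroupOf R < ⊤ := lt_top_iff_ne_top.2 fun e => hne (subgroupOf_eq_top.1 e)
  obtain ⟨g, hg, hg'⟩ := SetLike.exists_of_lt (Group.normalizerCondition_of_isNilpotent _ hlt)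
  refine hg' (h.mem_U_of_norm (h1 g.2) (hR.to_le (zpowers_le.2 g.2)) ?_)
  rwa [← subgroupOf_normalizer_eq h2] at hg

theorem syl_U : Tech.IsSylowIn 2 (tU Φ X) (tL X) := by
  obtain ⟨S, hS, hle⟩ := Tech.exists_isSylowIn_ge h.pg_U (UU_le_tL X _)
  exact (h.le_U hS.pgroup hS.le hle).antisymm hle ▸ hS

theorem exists_conj_U {R : Subgroup G} (hR : IsPGroup 2 R) (h1 : R ≤ tL X) :
    ∃ l ∈ tL X, ∀ p ∈ R, l * p * l⁻¹ ∈ tU Φ X :=
  (h.syl_U.exists_cj_le hR h1).imp fun _ k => ⟨k.1, Tech.cj_le_iff.1 k.2⟩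

theorem card_le_U {R : Subgroup G} (hR : IsPGroup 2 R) (h1 : R ≤ tL X) :
    Nat.card R ≤ Nat.card F ^ NP Φ := h.card_U ▸ h.syl_U.card_le hR h1

theorem eq_cj_U {R : Subgroup G} (hR : IsPGroup 2 R) (h1 : R ≤ tL X)
    (h2 : Nat.card F ^ NP Φ ≤ Nat.card R) : ∃ l ∈ tL X, R = tU Φ (cjX l X) := by
  obtain ⟨l, hl, e⟩ := h.syl_U.exists_cj_eq (h.syl_U.of_card_le hR h1 (h.card_U ▸ h2))
  refine ⟨l, hl, ext fun x => ?_⟩
  rw [← e, Tech.mem_cj]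
  exact mem_cj_UU.symm

end Sys

end CfsgLib.SLT
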