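import Mathlib
import Cfsg.Agent.Lib.SLT.Box
import Cfsg.Agent.Lib.SLE.CenA
import Cfsg.Agent.Lib.SLE.Pre

/-!
# Centralisers in the ambient group
-/

set_option autoImplicit false
set_option linter.unusedSectionVars false

namespace CfsgLib.SLT

open CfsgLib.RGD CfsgLib.Stein CfsgLib.SLE Subgroup
open scoped commutatorElement Pointwise

universe u

variable {ι κ : Type} [Fintype κ] [DecidableEq κ] [Finite ι] {Φ : RootSys ι κ} {E : ER Φ}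
  {F K : Type} [Field F] [Finite F] [CharP F 2] [Field K] [Finite K] [CharP K 2] {P : QE F K}
  {G : Type u} [Group G] [Finite G] {T : StSys Φ K G} {s : G}

theorem cena_idl {Ψ : Set ι} (h1 : Idl Φ Ψ) (m : ℤ) : Idl Φ {k | k ∈ Ψ ∧ m < Φ.ht k} :=
  ⟨fun r hr => h1.1 r hr.1, fun r hr a ha k hk => ⟨h1.2 r hr.1 a ha k hk, by
    have := hr.2
    have := Φ.ht_pos ha
    rw [radd_ht hk]
    omega⟩⟩

namespace Tw

variable (h : Tw E P T s) {g u : G}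
include h

theorem cena_mem {Ψ : Set ι} {r : ι} (h1 : r ∈ Ψ) (h2 : E.γ r ∈ Ψ) (v : K) : tx E P T r v ∈ T.UU Ψ :=
  mul_mem (T.x_mem_UU h1 _) (T.x_mem_UU h2 _)

theorem cena_conj {Ψ : Set ι} (h1 : Idl Φ Ψ) (h3 : ∀ r ∈ Ψ, E.γ r ∈ Ψ) {r : ι} (hr : r ∈ Ψ) {v : K}
    {y : G} (hu : u ∈ T.U) (hy : y * (tx E P T r v)⁻¹ ∈ T.UU {k | k ∈ Ψ ∧ Φ.ht r < Φ.ht k}) :
    u * y * u⁻¹ * (tx E P T r v)⁻¹ ∈ T.UU {k | k ∈ Ψ ∧ Φ.ht r < Φ.ht k} := by
  have I := cena_idl h1 (Φ.ht r)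
  have k1 := ca_conj E h1 hr (c := v) (y := T.x r v) hu (by simp)
  have k2 := ca_conj E h1 (h3 r hr) (c := P.τ v) (y := T.x (E.γ r) (P.τ v)) hu (by simp)
  rw [E.γ_ht] at k2
  have := mul_mem (mul_mem (Pre.conj_idl E I hu hy) k1) (Pre.conj_idl E I (T.x_mem_U (h1.1 r hr) v) k2)
  convert this using 1
  rw [tx]
  group

/-- the leading coefficients of two root elements of the same height -/
theorem cena_cf {a b k : ι} (ha : Φ.Pos a) (hb : Φ.Pos b) {m : ℤ} (h1 : m ≤ Φ.ht a) (h2 : m ≤ Φ.ht b)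
    (hk : Φ.ht k ≤ m) (c e : K) :
    cf T (T.x a c * T.x b e) k = cf T (T.x a c) k + cf T (T.x b e) k :=
  h.amb.cf_mul (sm_lay m) (T.x_mem_UU (by exact ⟨ha, h1⟩) c) (T.x_mem_UU (by exact ⟨hb, h2⟩) e)
    fun e => by have := e.2; omega

theorem cena_cf_ω {r : ι} (hr : Φ.Pos r) : cf T (tx E P T r P.ω) r ≠ 0 := by
  rw [tx, h.cena_cf hr ((E.γ_pos r).2 hr) le_rfl (E.γ_ht r).ge le_rfl, h.amb.cf_x_self hr]
  by_cases e : E.γ r = r
  · rw [e, h.amb.cf_x_self hr, P.hω]; exact one_ne_zero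
  · rw [h.amb.cf_x_ne ((E.γ_pos r).2 hr) (Ne.symm e), add_zero]
    intro e'
    have := P.hω
    rw [e', map_zero, add_zero] at this
    exact zero_ne_one this

theorem cena_congr {Ψ : Set ι} (h1 : Idl Φ Ψ) {r : ι} (hr : Φ.Pos r) {v : K} {y : G}
    (hy : y * (tx E P T r v)⁻¹ ∈ T.UU {k | k ∈ Ψ ∧ Φ.ht r < Φ.ht k}) :
    y ∈ T.UU (SmH Φ (Φ.ht r)) ∧ cf T y r = cf T (tx E P T r v) r := by
  have k1 : tx E P T r v ∈ T.UU (SmH Φ (Φ.ht r)) :=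
    h.cena_mem (by exact ⟨hr, le_rfl⟩) (by exact ⟨(E.γ_pos r).2 hr, (E.γ_ht r).ge⟩) v
  have k2 : y * (tx E P T r v)⁻¹ ∈ T.UU (SmH Φ (Φ.ht r + 1)) :=
    T.UU_mono (fun k hk => by exact ⟨h1.1 k hk.1, hk.2⟩) hy
  have k3 := T.UU_mono (sm_lay _).sub k2
  have k4 : r ∉ SmH Φ (Φ.ht r + 1) := fun e => by have := e.2; omega
  refine ⟨by simpa using mul_mem k3 k1, ?_⟩
  have := h.amb.cf_mul (sm_lay _) k3 k1 k4
  rwa [inv_mul_cancel_right, h.amb.sm_cf_zero k2 k4, zero_add] at this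

theorem cena_step {Ψ : Set ι} (h1 : Idl Φ Ψ) {n δ y : G} {w π : Equiv.Perm ι} {d : ι → K}
    {σ : K ≃+* K} (hw : w ∈ Φ.W) (hn : T.Acts n w) (hδ : StdD T δ π d σ) (p : E.Gp π) {r : ι}
    (hy : y ∈ T.UU (SmH Φ (Φ.ht r))) (h0 : cf T y r ≠ 0)
    (hy' : n * δ * y * (n * δ)⁻¹ ∈ T.UU {s | s ∈ Ψ ∧ Φ.ht r ≤ Φ.ht s}) :
    w (π r) ∈ Ψ ∧ Φ.ht r ≤ Φ.ht (w (π r)) := by
  by_contra hne
  have e : n⁻¹ * (n * δ * y * (n * δ)⁻¹) * n⁻¹⁻¹ = δ * y * δ⁻¹ := by group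
  have k1 := h.amb.nd.mem_UU_inter (ca_closed' (Φ.ht r)) (fun _ h => h.1)
    (Ψ' := {s | s ∈ Ψ ∧ Φ.ht r ≤ Φ.ht s}) (fun a ha b hb k hk =>
      ⟨((ca_ideal E h1 (h1.1 a ha.1) hb.1).2 k hk).1,
        hb.2.trans ((ca_ideal E h1 (h1.1 a ha.1) hb.1).2 k hk).2.le⟩)
    (fun s hs => h1.1 s hs.1) (inv_mem hw) (hn.inv hw) hy' (by
      rw [e]
      exact hδ.conj_mem (fun s hs => (p.sm_mem _ s).2 hs) hy)
  rw [e, inv_inv] at k1
  have k2 : δ * y * δ⁻¹ ∈ T.UU {s | Φ.Pos s ∧ Φ.ht r ≤ Φ.ht s ∧ s ≠ π r} :=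
    T.UU_mono (fun s hs => by exact ⟨hs.1.1, hs.1.2, by rintro rfl; exact hne hs.2⟩) k1
  have k3 := h.amb.cf_eq_zero (ca_closed _ (p.ht r).le) (fun _ h => h.1) k2 (r := π r) fun h => h.2.2 rfl
  rw [h.amb.cf_std (sm_lay _) hδ (p.sm_mem _) (p.sm_mem _) hy fun e => by have := e.2; omega] at k3
  exact mul_ne_zero (hδ.ne_zero r) ((map_ne_zero σ).2 h0) k3

theorem cena_one {Ψ : Set ι} (h1 : Idl Φ Ψ) (h2 : Gen Φ Ψ) {ε : G} {d : ι → K} {σ : K ≃+* K}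
    (hε : StdD T ε 1 d σ) (hc : ∀ r ∈ Ψ, ∀ v,
      cf T (ε * tx E P T r v * ε⁻¹) r = cf T (tx E P T r v) r) : ε ∈ CL T := by
  have key : ∀ r ∈ Ψ, ∀ v, d r * σ v + cf T (T.x (E.γ r) (d (E.γ r) * σ (P.τ v))) r =
      v + cf T (T.x (E.γ r) (P.τ v)) r := fun r hr v => by
    have hp := h1.1 r hr
    have := hc r hr v
    rwa [tx, ← conj_mul, hε.2, hε.2, Equiv.Perm.one_apply, Equiv.Perm.one_apply,
      h.cena_cf hp ((E.γ_pos r).2 hp) le_rfl (E.γ_ht r).ge le_rfl,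
      h.cena_cf hp ((E.γ_pos r).2 hp) le_rfl (E.γ_ht r).ge le_rfl, h.amb.cf_x_self hp,
      h.amb.cf_x_self hp] at this
  have mv : ∀ r ∈ Ψ, E.γ r ≠ r → ∀ v, d r * σ v = v := fun r hr e v => by
    have := key r hr v
    have hp := (E.γ_pos r).2 (h1.1 r hr)
    rwa [h.amb.cf_x_ne hp e.symm, h.amb.cf_x_ne hp e.symm, add_zero, add_zero] at this
  have k1 : ∀ r ∈ Ψ, d r = 1 := fun r hr => by
    by_cases e : E.γ r = r
    · have := key r hr P.ω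
      rwa [e, h.amb.cf_x_self (h1.1 r hr), h.amb.cf_x_self (h1.1 r hr), ← mul_add, ← map_add, P.hω,
        map_one, mul_one] at this
    · simpa using mv r hr e 1
  obtain ⟨r, hr, e⟩ : ∃ r ∈ Ψ, E.γ r ≠ r := by
    by_contra hne
    push Not at hne
    refine h.tr.ne (Equiv.ext fun r => h2 {r | E.γ r = r} hne (fun r hr => long_neg.2 hr)
      (fun a ha b hb k hk => long_add hk ha hb) r)
  refine aa_mem_CL fun a c => ?_
  have := mv r hr e c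
  rw [k1 r hr, one_mul] at this
  rw [hε.2, h.amb.d_eq_one hε h2 k1, one_mul, this]
  rfl

/-- **CENU** -/
theorem cenU {Ψ : Set ι} (h1 : Idl Φ Ψ) (h2 : Gen Φ Ψ) (h3 : ∀ r ∈ Ψ, E.γ r ∈ Ψ) (hg : g ∈ NL T)
    (hc : ∀ r ∈ Ψ, ∀ v, g * tx E P T r v * g⁻¹ * (tx E P T r v)⁻¹ ∈
      T.UU {k | k ∈ Ψ ∧ Φ.ht r < Φ.ht k}) : ∃ u ∈ T.U, u * g ∈ CL T ∨ u * g * s ∈ CL T := by
  obtain ⟨π, σ, hπ, l, hl, d, hδ⟩ := h.amb.aut g hg
  have p := E.gp hπ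
  obtain ⟨u, hu, n, -, w, hw, hn, u', hu', e⟩ := h.amb.nd.exists_bruhat (inv_mem hl)
  have hδU : l * g ∈ normalizer (T.U : Set G) := h.amb.std_norm ⟨d, hδ⟩ fun r hr => (p.pos r).2 hr
  have hv : (l * g)⁻¹ * u' * (l * g) ∈ T.U := by
    simpa using (mem_normalizer_iff.1 (inv_mem hδU) u').1 (T.UU_le_U (fun _ h => h.1) hu')
  generalize hv' : (l * g)⁻¹ * u' * (l * g) = v at hv
  have eg : g = u * (n * (l * g)) * v := by
    rw [← hv']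
    calc g = l⁻¹ * (l * g) := by group
      _ = _ := by rw [e]; group
  obtain ⟨a, ha1, ha2⟩ := id hn
  have hε := StdD.mul (⟨ha1, ha2⟩ : StdD T n w a 1) hδ p.neg
  generalize (fun r => a (π r) * (1 : K ≃+* K) (d r)) = b at hε
  rw [one_mul] at hε
  have k1 : ∀ r ∈ Ψ, ∀ z, v * tx E P T r z * v⁻¹ * (tx E P T r z)⁻¹ ∈
      T.UU {s | s ∈ Ψ ∧ Φ.ht r < Φ.ht s} := fun r hr z => h.cena_conj h1 h3 hr hv (by simp)
  have k2 : ∀ r ∈ Ψ, ∀ z, n * (l * g) * (v * tx E P T r z * v⁻¹) * (n * (l * g))⁻¹ * (tx E P T r z)⁻¹ ∈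
      T.UU {s | s ∈ Ψ ∧ Φ.ht r < Φ.ht s} := fun r hr z => by
    have := h.cena_conj h1 h3 hr (inv_mem hu) (hc r hr z)
    generalize n * (l * g) = ε at eg
    rw [eg] at this
    simpa [mul_assoc] using this
  have k3 : ∀ r ∈ Ψ, (w * π) r ∈ Ψ ∧ Φ.ht r ≤ Φ.ht ((w * π) r) := fun r hr => by
    have c := h.cena_congr h1 (h1.1 r hr) (k1 r hr P.ω)
    refine h.cena_step h1 hw hn hδ p c.1 (c.2 ▸ h.cena_cf_ω (h1.1 r hr)) ?_
    have := mul_mem (T.UU_mono (fun s hs => by exact ⟨hs.1, hs.2.le⟩) (k2 r hr P.ω))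
      (h.cena_mem (Ψ := {s | s ∈ Ψ ∧ Φ.ht r ≤ Φ.ht s}) ⟨hr, le_rfl⟩ ⟨h3 r hr, (E.γ_ht r).ge⟩ P.ω)
    rwa [inv_mul_cancel_right] at this
  generalize n * (l * g) = ε at eg hε k2
  have k4 : ∀ r ∈ Ψ, ∀ z, cf T (ε * tx E P T r z * ε⁻¹) r = cf T (tx E P T r z) r := fun r hr z => by
    refine (h.cena_congr h1 (h1.1 r hr) ?_).2
    have := mul_mem (inv_mem (hε.conj_mem (T' := {s | s ∈ Ψ ∧ Φ.ht r < Φ.ht s})
      (fun s hs => ⟨(k3 s hs.1).1, hs.2.trans_le (k3 s hs.1).2⟩) (k1 r hr z))) (k2 r hr z)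
    convert this using 1
    group
  have k5 : ∀ r ∈ Ψ, (w * π) r = r ∨ (w * π) (E.γ r) = r := fun r hr => by
    by_contra hne
    push Not at hne
    have q1 := k3 r hr
    have q2 := k3 _ (h3 r hr)
    have := k4 r hr P.ω
    rw [tx, ← conj_mul, hε.2, hε.2, h.cena_cf (h1.1 _ q1.1) (h1.1 _ q2.1) q1.2 ((E.γ_ht r).ge.trans q2.2)
      le_rfl, h.amb.cf_x_ne (h1.1 _ q1.1) hne.1.symm, h.amb.cf_x_ne (h1.1 _ q2.1) hne.2.symm,
      add_zero] at this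
    exact h.cena_cf_ω (h1.1 r hr) this.symm
  have k6 : ∀ r, Φ.ht (w (π r)) = Φ.ht r := h2 {r | Φ.ht (w (π r)) = Φ.ht r} (fun r hr => by
      show Φ.ht ((w * π) r) = Φ.ht r
      rcases k5 r hr with e | e
      · rw [e]
      · rcases k5 _ (h3 r hr) with e' | e'
        · rw [e'] at e
          rw [e] at e'
          rw [e']
        · rw [E.γ2] at e'
          rw [e', E.γ_ht])
    (fun r hr => by
      show Φ.ht (w (π (Φ.neg r))) = Φ.ht (Φ.neg r)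
      rw [p.neg, Φ.apply_neg hw, Φ.ht_neg, Φ.ht_neg, show Φ.ht (w (π r)) = Φ.ht r from hr])
    fun a h1 b h2 k hk => by
      show Φ.ht (w (π k)) = Φ.ht k
      rw [radd_ht ((p.add _ _ _ hk).apply hw), radd_ht hk, show Φ.ht (w (π a)) = Φ.ht a from h1,
        show Φ.ht (w (π b)) = Φ.ht b from h2]
  obtain rfl : w = 1 := Φ.eq_one_of_pos_simple hw fun i => by
    have := k6 (π (Φ.simple i))
    rw [p.sq, p.ht] at this
    rw [pos_iff_ht, this]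
    exact Φ.ht_pos (Φ.pos_simple i)
  rw [one_mul] at hε
  refine ⟨(u * (ε * v * ε⁻¹))⁻¹, inv_mem (mul_mem hu (hε.conj_mem (fun r h => (p.pos r).2 h) hv)), ?_⟩
  rw [show (u * (ε * v * ε⁻¹))⁻¹ * g = ε by rw [eg]; group]
  rcases hπ with rfl | rfl
  · exact .inl (h.cena_one h1 h2 hε k4)
  · have := hε.mul h.std E.γn
    rw [E.γ_mul] at this
    refine .inr (h.cena_one h1 h2 this fun r hr z => ?_)
    rw [← k4 r hr z, mul_assoc ε, h.tx_cent]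
    congr 1
    group

/-- elimination for a `γ`-invariant weight -/
theorem telim (lam : ι → ℤ) (hp : ∀ r, Φ.Pos r → 0 < lam r)
    (ha : ∀ a b k, RAdd Φ a b k → lam k = lam a + lam b) (hγ : ∀ r, lam (E.γ r) = lam r) {Ψ : Set ι}
    (hΨ : ∀ r ∈ Ψ, ∀ k, Φ.Pos k → lam r < lam k → k ∈ Ψ) (hu : u ∈ T.U)
    (he : ∀ r, Φ.Pos r → r ∉ Ψ → ∃ a k, Φ.Pos a ∧ RAdd Φ r a k ∧
      ∀ v, cf T (u * tx E P T a v * u⁻¹ * (tx E P T a v)⁻¹) k = 0) : u ∈ T.UU Ψ := by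
  refine h.amb.mem_of_cf hu fun r => ?_
  induction hn : (lam r).toNat using Nat.strong_induction_on generalizing r with
  | _ n ih =>
    intro hr hr'
    obtain ⟨a, k, h1, h2, h3⟩ := he r hr hr'
    have h4 : u ∈ T.UU {s | Φ.Pos s ∧ lam r ≤ lam s} := h.amb.mem_of_cf hu fun s hs hs' => by
      have h5 : lam s < lam r := not_le.1 fun e => hs' ⟨hs, e⟩
      exact ih _ (by have := hp s hs; omega) s rfl hs fun e => hr' (hΨ s e r hr h5)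
    have h1' := (E.γ_pos a).2 h1
    have hk := ha _ _ _ h2
    obtain ⟨c, hc⟩ : ∃ c, ∀ v, cf T (u * T.x (E.γ a) v * u⁻¹ * (T.x (E.γ a) v)⁻¹) k = v * c := by
      have := h.amb.cf_comm lam hp ha h4 h1' (k := k) (by rw [hγ, hk])
      by_cases e : ∃ s, RAdd Φ s (E.γ a) k
      · exact ⟨_, fun v => (this v).1 _ e.choose_spec⟩
      · exact ⟨0, fun v => by rw [(this v).2 (not_exists.1 e), mul_zero]⟩
    refine (P.indep (b := c) (c := 0) fun v => ?_).1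
    have L := lay_wt lam hp ha (lam r + lam a)
    have hk' : k ∉ {s | Φ.Pos s ∧ lam r + lam a + 1 ≤ lam s} := fun e => by have := e.2; omega
    have q1 := h.amb.comm_mem_wt lam hp ha h4
      (T.x_mem_UU (Ψ := {s | Φ.Pos s ∧ lam a ≤ lam s}) ⟨h1, le_rfl⟩ v)
    have q2 := h.amb.comm_mem_wt lam hp ha h4
      (T.x_mem_UU (Ψ := {s | Φ.Pos s ∧ lam a ≤ lam s}) ⟨h1', (hγ a).ge⟩ (P.τ v))
    have q3 := h.amb.comm_mem_wt lam hp ha (inv_mem q2)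
      (T.x_mem_UU (Ψ := {s | Φ.Pos s ∧ 1 ≤ lam s}) ⟨h1, hp a h1⟩ v)
    have q4 := mul_mem q2 (T.UU_mono L.sub q3)
    rw [mul_zero, add_zero, ← h3 v, ← hc, ← (h.amb.cf_comm lam hp ha h4 h1 hk v).1 r h2,
      h.amb.cf_congr L q2 q4 (by rwa [inv_mul_cancel_left]) hk', ← h.amb.cf_mul L q1 q4 hk', tx]
    congr 1
    group

theorem telim_gr (gr : ι → ℤ) (hp : ∀ r, Φ.Pos r → 0 ≤ gr r)
    (ha : ∀ a b k, RAdd Φ a b k → gr k = gr a + gr b) (hγ : ∀ r, gr (E.γ r) = gr r) (m : ℤ)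
    (hu : u ∈ T.U) (he : ∀ r, Φ.Pos r → gr r < m → ∃ a k, Φ.Pos a ∧ RAdd Φ r a k ∧
      ∀ v, cf T (u * tx E P T a v * u⁻¹ * (tx E P T a v)⁻¹) k = 0) :
    u ∈ T.UU {r | Φ.Pos r ∧ m ≤ gr r} := by
  have k : ∀ r, Φ.ht r ≤ Φ.ht E.θ := fun r =>
    (eq_or_ne r E.θ).elim (fun e => e ▸ le_rfl) fun e => (E.ht_lt_θ e).le
  have k0 := Φ.ht_pos E.pos_θ
  refine h.telim (fun r => Φ.ht E.θ * gr r + Φ.ht r) (fun r hr => ?_) (fun a b c e => ?_)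
    (fun r => by rw [hγ, E.γ_ht]) (fun r hr s hs e => ?_) hu
    fun r hr hr' => he r hr (not_le.1 fun e => hr' ⟨hr, e⟩)
  · have := hp r hr
    have := Φ.ht_pos hr
    positivity
  · rw [ha a b c e, radd_ht e]; ring
  · refine ⟨hs, hr.2.trans (not_lt.1 fun e' => ?_)⟩
    have := Φ.ht_pos hr.1
    have := k s
    nlinarith [mul_le_mul_of_nonneg_left (Int.add_one_le_of_lt e') k0.le]

/-- a vector of a layer which is fixed by the group `X_a` -/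
theorem cf_zero_of_fix {Ψ Ψ' : Set ι} (hL : Lay Φ Ψ Ψ') {a : ι} (s1 : Stab Φ a Ψ) (s2 : Stab Φ a Ψ')
    (s3 : Stab Φ (E.γ a) Ψ) (s4 : Stab Φ (E.γ a) Ψ') (hu : u ∈ T.UU Ψ) {r k : ι} (hk : RAdd Φ r a k)
    (hk' : k ∉ Ψ') (he : ∀ v, cf T (tx E P T a v * u * (tx E P T a v)⁻¹) k = cf T u k) :
    cf T u r = 0 := by
  have key : ∀ j, j ∉ Ψ' → ∃ c, ∀ v,
      cf T (T.x (E.γ a) v * u * (T.x (E.γ a) v)⁻¹) j = cf T u j + v * c := fun j hj => by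
    by_cases e : ∃ s, RAdd Φ s (E.γ a) j
    · exact ⟨_, fun v => h.amb.cf_conj_add hL s3 s4 v hu e.choose_spec hj⟩
    · exact ⟨0, fun v => by
        rw [h.amb.cf_conj_fix hL s3 s4 v hu (fun s _ => not_exists.1 e s) hj, mul_zero, add_zero]⟩
  obtain ⟨c₁, e1⟩ := key k hk'
  obtain ⟨c₂, e2⟩ := key r fun e => hk' (s2.2 r e k hk)
  refine (P.indep (b := c₁) (c := c₂) fun v => ?_).1
  have := he v
  rw [tx, show ∀ a b : G, a * b * u * (a * b)⁻¹ = a * (b * u * b⁻¹) * a⁻¹ from fun _ _ => by group,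
    h.amb.cf_conj_add hL s1 s2 v (h.amb.x_conj_mem s3 _ hu) hk hk', e1, e2] at this
  linear_combination this

theorem cena_cf0 {a : ι} {v : K} (e : u * tx E P T a v = tx E P T a v * u) (k : ι) :
    cf T (u * tx E P T a v * u⁻¹ * (tx E P T a v)⁻¹) k = 0 := by
  rw [e, mul_inv_cancel_right, mul_inv_cancel, h.amb.cf_one]

theorem cena_elimZ (hu : u ∈ T.U) (he : ∀ r, Φ.Pos r → r ≠ E.θ → ∃ a k, Φ.Pos a ∧ RAdd Φ r a k ∧
    ∀ v, cf T (u * tx E P T a v * u⁻¹ * (tx E P T a v)⁻¹) k = 0) : u ∈ T.X E.θ := by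
  refine h.telim Φ.ht (fun _ h => Φ.ht_pos h) (fun _ _ _ h => radd_ht h) E.γ_ht ?_ hu he
  rintro r rfl s - hs
  by_contra hne
  exact lt_asymm hs (E.ht_lt_θ hne)

theorem cena_elimW (hu : u ∈ T.U) (he : ∀ r, Φ.Pos r → r ≠ E.θ → r ≠ E.β → ∃ a k, Φ.Pos a ∧
    RAdd Φ r a k ∧ ∀ v, cf T (u * tx E P T a v * u⁻¹ * (tx E P T a v)⁻¹) k = 0) :
    u ∈ T.UU {E.θ, E.β} := by
  refine h.telim Φ.ht (fun _ h => Φ.ht_pos h) (fun _ _ _ h => radd_ht h) E.γ_ht ?_ hu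
    fun r hr hT => he r hr (fun e => hT (Or.inl e)) fun e => hT (Or.inr e)
  intro r hr s _ hs
  by_contra hne
  have h1 := E.ht_lt_β (fun e => hne (Or.inl e)) fun e => hne (Or.inr e)
  have h2 := h.amb.ht_β_lt
  rcases hr with rfl | rfl <;> omega

theorem tZ_of_simple (hu : u ∈ T.U)
    (hc : ∀ i v, u * tx E P T (Φ.simple i) v = tx E P T (Φ.simple i) v * u) : u ∈ T.X E.θ :=
  h.cena_elimZ hu fun r hr hθ => by
    obtain ⟨i, k, hk⟩ := E.up_pos hr hθ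
    exact ⟨_, k, Φ.pos_simple i, hk, fun v => h.cena_cf0 (hc i v) k⟩

theorem tZ_of_Q (hu : u ∈ T.U)
    (hc : ∀ r, 1 ≤ ip Φ r E.θ → ∀ v, u * tx E P T r v = tx E P T r v * u) : u ∈ T.X E.θ :=
  h.cena_elimZ hu fun r hr hθ => by
    have h0 := E.nonneg_θ hr
    rcases E.ip_cases r E.θ with h1 | h1 | h1 | h1 | h1
    · exact absurd h1.1.symm hθ
    · obtain ⟨b, hb⟩ := E.exists_sub h1
      have h2 := (E.radd_ip hb).2.2.ge
      exact ⟨b, _, E.pos_of_θ h2, hb, fun v => h.cena_cf0 (hc b h2 v) _⟩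
    · obtain ⟨a, h2, h3⟩ := E.elQ r h1
      obtain ⟨k, hk⟩ := E.exists_add h3
      exact ⟨a, k, E.pos_of_θ h2.ge, hk, fun v => h.cena_cf0 (hc a h2.ge v) _⟩
    · omega
    · omega

theorem tW_of_R (hu : u ∈ T.U) (hc : ∀ r, Φ.Pos r → r ≠ E.α → ∀ v,
    u * tx E P T r v = tx E P T r v * u) : u ∈ T.UU {E.θ, E.β} :=
  h.cena_elimW hu fun r hr h1 h2 => by
    obtain ⟨a, h3, h4, h5⟩ := E.up2 r hr h1 h2
    obtain ⟨k, hk⟩ := E.exists_add h5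
    exact ⟨a, k, h3, hk, fun v => h.cena_cf0 (hc a h3 h4 v) _⟩

theorem tW_of_comm (hu : u ∈ T.U) (hc : ∀ i v, u * tx E P T (Φ.simple i) v * u⁻¹ *
    (tx E P T (Φ.simple i) v)⁻¹ ∈ T.X E.θ) : u ∈ T.UU {E.θ, E.β} :=
  h.cena_elimW hu fun r hr h1 h2 => by
    obtain ⟨i, k, hk⟩ := E.up_pos hr h1
    refine ⟨_, k, Φ.pos_simple i, hk, fun v => h.amb.ca_cf' (hc i v) ?_⟩
    rintro rfl
    have h3 := (E.radd_ip hk).2.2
    rw [E.top] at h3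
    obtain rfl : i = E.i₀ := by
      by_contra hne
      simp [hne] at h3
    exact h2 (hk.symm.unique E.hβ)

theorem tQ_of_comm (hu : u ∈ T.U) (hc : ∀ r, 1 ≤ ip Φ r E.θ → ∀ v,
    u * tx E P T r v * u⁻¹ * (tx E P T r v)⁻¹ ∈ T.X E.θ) : u ∈ Q T E.θ := by
  refine T.UU_mono (fun _ h => h.2) (h.telim_gr (fun r => ip Φ r E.θ) (fun _ h => E.nonneg_θ h)
    (fun _ _ _ h => h.ip_left _) (ip_γ_long E.γ_θ) 1 hu fun r hr h1 => ?_)
  have h0 := E.nonneg_θ hr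
  obtain ⟨a, h2, h3⟩ := E.elQ r (by omega)
  obtain ⟨k, hk⟩ := E.exists_add h3
  refine ⟨a, k, E.pos_of_θ h2.ge, hk, fun v => h.amb.ca_cf' (hc a h2.ge v) ?_⟩
  rintro rfl
  have h4 := (E.radd_ip hk).2.1
  omega

/-- the centraliser of the twisted group -/
theorem cent_M (hg : g ∈ NL T) (hc : g ∈ tC (tx E P T)) : g ∈ CL T ∨ g * s ∈ CL T := by
  have c : ∀ a v, tx E P T a v * g = g * tx E P T a v := fun a v =>
    mem_centralizer_iff.1 hc _ (mem_tL _ a v)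
  obtain ⟨u, hu, e⟩ := h.cenU E.idl_pos (fun T' h1 => E.gen_simple T' (by
      rintro _ ⟨i, rfl⟩
      exact h1 (Φ.pos_simple i))) (fun r hr => (E.γ_pos r).2 hr) hg
    fun r _ v => by rw [← c, mul_inv_cancel_right, mul_inv_cancel]; exact one_mem _
  have cu : ∀ a v, u * tx E P T a v = tx E P T a v * u := fun a v => by
    have m := (h.L_le (mem_tL _ a v)).1
    rcases e with e | e
    · have := aa_CL_comm e m
      rw [mul_assoc, ← c, ← mul_assoc, ← mul_assoc] at this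
      exact (mul_right_cancel this).symm
    · have := aa_CL_comm e m
      rw [mul_assoc (u * g), h.tx_cent, ← mul_assoc, ← mul_assoc, ← mul_assoc, mul_assoc u, ← c,
        ← mul_assoc] at this
      exact (mul_right_cancel (mul_right_cancel this)).symm
  obtain ⟨c, rfl⟩ := T.mem_X_iff.1 (h.tZ_of_simple hu fun i => cu _)
  have := cu (Φ.neg E.α) P.ω
  rw [h.tx_long (long_neg.2 E.γ_α), P.hT, P.hω] at this
  have e' := h.amb.rel.cm _ _ _ E.hβ.symm.sub c 1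
  rw [show Φ.simple E.i₀ = E.α from rfl, this, mul_inv_cancel_right, mul_inv_cancel, mul_one, eq_comm,
    h.amb.x_eq_one] at e'
  rwa [e', T.x_zero, one_mul] at e

end Tw

end CfsgLib.SLT
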