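import Mathlib
import Cfsg.Agent.Lib.SLT.Box
import Cfsg.Agent.Lib.SLT.CenA
import Cfsg.Agent.Lib.SLE.Aut
import Cfsg.Agent.Lib.SLE.NG

/-!
# Types of automorphisms, 2-elements of `N(L)`
-/

set_option autoImplicit false
set_option linter.unusedSectionVars false

namespace CfsgLib.SLT

open CfsgLib.RGD CfsgLib.Stein CfsgLib.SLE Subgroup
open scoped commutatorElement Pointwise

universe u

variable {ι κ : Type} [Fintype κ] [DecidableEq κ] [Finite ι] {Φ : RootSys ι κ} {E : ER Φ}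
  {F K : Type} [Field F] [Finite F] [CharP F 2] [Field K] [Finite K] [CharP K 2] {P : QE F K}
  {G : Type u} [Group G] [Finite G] {A : Type} [Group A] [Finite A] {T : StSys Φ K A} {s : A}
  {X : ι → K → G} {ρ : G → A} {t : G}

theorem St.ty {g : G} {d : ι → K} {σ : K ≃+* K} (h : St T X ρ g d σ) : Ty T X ρ g σ :=
  ⟨1, one_mem _, d, by rwa [one_mul]⟩

theorem Ty.mem {g : G} {σ : K ≃+* K} (h : Ty T X ρ g σ) : g ∈ tN X := by
  obtain ⟨l, hl, d, h1, -⟩ := h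
  simpa using mul_mem (inv_mem (L_le_N hl)) h1

theorem Ty.cj {g : G} {σ : K ≃+* K} (h : Ty T X ρ g σ) (a : G) :
    Ty T (cjX a X) (cjρ a ρ) (a * g * a⁻¹) σ := by
  obtain ⟨l, hl, d, h1, h2⟩ := h
  have e : a⁻¹ * (a * l * a⁻¹ * (a * g * a⁻¹)) * a = l * g := by group
  exact ⟨a * l * a⁻¹, conj_mem_cj hl, d, mem_cj_N.2 (by rwa [e]), by rwa [cjρ, e]⟩

namespace Sys

variable (h : Sys E P T s X ρ) {g k : G} {σ σ' : K ≃+* K}
include h

omit h in
theorem au_pow_mul' {L : Subgroup G} {l : G} (hl : l ∈ L) (hg : g ∈ normalizer (L : Set G)) (n : ℕ) :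
    ∃ m ∈ L, (l * g) ^ n = m * g ^ n := by
  induction n with
  | zero => exact ⟨1, one_mem _, by simp⟩
  | succ n ih =>
    obtain ⟨m, hm, e⟩ := ih
    refine ⟨m * (g ^ n * l * (g ^ n)⁻¹), mul_mem hm ((mem_normalizer_iff.1 (pow_mem hg n) l).1 hl), ?_⟩
    rw [pow_succ, e, pow_succ]
    group

theorem au_typ (hg : Ty T X ρ g σ) : Typ T (ρ g) 1 σ := by
  have hN := hg.mem
  obtain ⟨l, hl, d, -, h2⟩ := hg
  exact ⟨ρ l, h.map_mem_UU (Ψ := Set.univ) (fun _ _ => trivial) hl, d, by rwa [← h.mul l (L_le_N hl) g hN]⟩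

theorem Z_odd : Odd (Nat.card (tL X ⊓ tC X : Subgroup G)) := by
  rw [← Nat.not_even_iff_odd]
  intro h2
  obtain ⟨z, hz⟩ := exists_prime_orderOf_dvd_card' (G := (tL X ⊓ tC X : Subgroup G)) 2 h2.two_dvd
  have := h.odd z z.2.1 z.2.2
  rw [orderOf_coe, hz] at this
  exact absurd this (by decide)

omit h in
theorem pow_Z {z : G} (h1 : z ∈ tL X) (h2 : z ∈ tC X) : z ^ Nat.card (tL X ⊓ tC X : Subgroup G) = 1 :=
  orderOf_dvd_iff_pow_eq_one.1 (orderOf_dvd_natCard _ (mem_inf.2 ⟨h1, h2⟩))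

theorem au_pow (hg : g ∈ tN X) (n : ℕ) : ρ (g ^ n) = ρ g ^ n := by
  induction n with
  | zero => rw [pow_zero, pow_zero, h.one]
  | succ n ih => rw [pow_succ, h.mul _ (pow_mem hg n) _ hg, ih, pow_succ]

theorem st_pow {d : ι → K} (hg : St T X ρ g d 1) : g ^ (Nat.card K - 1) ∈ tC X := by
  have := Amb.std_pow' ⟨d, hg.2⟩
  rw [h.cl, mem_bot, ← h.au_pow hg.1] at this
  exact (h.ker _ (pow_mem hg.1 _)).1 this

theorem exists_ty (hg : g ∈ tN X) : ∃ σ, Ty T X ρ g σ := by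
  obtain ⟨l, hl, d, σ, h1⟩ := h.dec g hg
  exact ⟨σ, l, hl, d, mul_mem (L_le_N hl) hg, h1⟩

theorem ty_iff (hg : g ∈ tN X) : Ty T X ρ g σ ↔ Typ T (ρ g) 1 σ := by
  refine ⟨h.au_typ, fun h1 => ?_⟩
  obtain ⟨σ', h2⟩ := h.exists_ty hg
  rwa [(h.amb.typ_unique h1 (h.au_typ h2) (Or.inl rfl) (Or.inl rfl)).2]

theorem ty_mul (hg : Ty T X ρ g σ) (hk : Ty T X ρ k σ') : Ty T X ρ (g * k) (σ * σ') := by
  rw [h.ty_iff (mul_mem hg.mem hk.mem), h.mul _ hg.mem _ hk.mem]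
  simpa using (h.au_typ hg).mul (h.au_typ hk) fun _ => rfl

theorem ty_inv (hg : Ty T X ρ g σ) : Ty T X ρ g⁻¹ σ⁻¹ := by
  rw [h.ty_iff (inv_mem hg.mem), h.inv hg.mem]
  simpa using (h.au_typ hg).inv fun _ => rfl

theorem ty_conj (hg : Ty T X ρ g σ) (hk : k ∈ tN X) : Ty T X ρ (k * g * k⁻¹) σ := by
  obtain ⟨σ', h1⟩ := h.exists_ty hk
  have := h.ty_mul (h.ty_mul h1 hg) (h.ty_inv h1)
  rwa [aut_mul_comm σ' σ, mul_inv_cancel_right] at this

theorem ty_unique (hg : Ty T X ρ g σ) (hg' : Ty T X ρ g σ') : σ = σ' := (h.amb.typ_unique (h.au_typ hg) (h.au_typ hg') (Or.inl rfl) (Or.inl rfl)).2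

theorem ty_of_mem (hg : g ∈ tL X ⊔ tC X) : Ty T X ρ g 1 := by
  obtain ⟨l, hl, c, hc, rfl⟩ := exists_mul_LC hg
  exact ⟨l⁻¹, inv_mem hl, _, by rw [inv_mul_cancel_left]; exact h.st_of_C hc⟩

theorem ty_cj_iff {l : G} (hl : l ∈ tL X) : Ty T (cjX l X) (cjρ l ρ) g σ ↔ Ty T X ρ g σ := by
  refine ⟨fun h1 => ?_, fun h1 => ?_⟩
  · have h2 := h1.cj l⁻¹
    rw [cjX_cjX, cjρ_cjρ, inv_mul_cancel, show cjX 1 X = X by funext a u; simp [cjX],
      show cjρ 1 ρ = ρ by funext a; simp [cjρ]] at h2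
    simpa [mul_assoc] using h.ty_conj h2 (L_le_N hl)
  · simpa [mul_assoc] using (h.ty_conj h1 (inv_mem (L_le_N hl))).cj l

theorem mem_N0 : g ∈ tN0 T X ρ ↔ Ty T X ρ g 1 := by
  refine ⟨fun h1 => ?_, fun h1 => subset_closure h1⟩
  induction h1 using closure_induction with
  | mem x hx => exact hx
  | one => exact h.ty_of_mem (one_mem _)
  | mul x y _ _ hx hy => simpa using h.ty_mul hx hy
  | inv x _ hx => simpa using h.ty_inv hx

theorem N0_le : tN0 T X ρ ≤ tN X := fun _ hg => (h.mem_N0.1 hg).mem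

theorem le_N0 : tL X ⊔ tC X ≤ tN0 T X ρ := fun _ hg => h.mem_N0.2 (h.ty_of_mem hg)

theorem sq_of_ty (hg : Ty T X ρ g σ) (g2 : g * g ∈ tN0 T X ρ) : σ = 1 ∨ σ = P.τ := P.eq_of_sq (h.ty_unique (h.ty_mul hg hg) (h.mem_N0.1 g2))

theorem comm_mem_N0 (hg : g ∈ tN X) (hk : k ∈ tN X) : g * k * g⁻¹ * k⁻¹ ∈ tN0 T X ρ := by
  obtain ⟨σ, h1⟩ := h.exists_ty hk
  simpa using h.mem_N0.2 (by simpa using h.ty_mul (h.ty_conj h1 hg) (h.ty_inv h1))

theorem commutator_le_N0 : ⁅tN X, tN X⁆ ≤ tN0 T X ρ := commutator_le.2 fun _ ha _ hb => h.comm_mem_N0 ha hb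

theorem norm_N0 : tN X ≤ normalizer (tN0 T X ρ : Set G) := fun _ ha => mem_normalizer_fintype fun _ hn => h.mem_N0.2 (h.ty_conj (h.mem_N0.1 hn) ha)

theorem relIndex_N0 : (tN0 T X ρ).relIndex (tN X) ≤ Nat.card (K ≃+* K) := by
  have := SLE.finite_aut (F := K)
  choose σ h1 using fun a : tN X => h.exists_ty a.2
  refine Nat.card_le_card_of_injective (fun q : tN X ⧸ (tN0 T X ρ).subgroupOf (tN X) => σ q.out) fun q q' e => ?_
  have := h.ty_mul (h.ty_inv (h1 q.out)) (h1 q'.out)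
  rw [show σ q.out = σ q'.out from e, inv_mul_cancel] at this
  rw [← q.out_eq', ← q'.out_eq', QuotientGroup.eq]
  exact h.mem_N0.2 this

/-- 2-elements of `N0` induce inner automorphisms -/
theorem exists_mul_of_N0 (hg : g ∈ tN0 T X ρ) (hp : IsPGroup 2 (zpowers g)) : ∃ l ∈ tL X, ∃ c ∈ tC X,
    g = l * c ∧ IsPGroup 2 (zpowers l) ∧ IsPGroup 2 (zpowers c) := by
  obtain ⟨k, hk⟩ := Core.isPGroup_zpowers_iff.1 hp
  have hN := h.N0_le hg
  obtain ⟨l, hl, d, h0⟩ := h.mem_N0.1 hg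
  obtain ⟨m, hm, e⟩ := au_pow_mul' hl hN (Nat.card K - 1)
  have h1 : g ^ (Nat.card K - 1) ∈ tL X ⊔ tC X := by
    have := mul_mem (mem_sup_left (T := tC X) (inv_mem hm)) (mem_sup_right (h.st_pow h0))
    rwa [e, inv_mul_cancel_left] at this
  obtain ⟨a, ha⟩ := au_exists_pow hk (au_odd_q (F := K))
  obtain ⟨l, hl, c, hc, e⟩ := exists_mul_LC (ha ▸ pow_mem h1 a)
  have hlc : Commute l c := mem_centralizer_iff.1 hc l hl
  have e1 : l ^ 2 ^ k * c ^ 2 ^ k = 1 := by rw [← hlc.mul_pow, ← e, hk]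
  have e2 : l ^ 2 ^ k ∈ tC X := by
    rw [eq_inv_of_mul_eq_one_left e1]; exact inv_mem (pow_mem hc _)
  have e3 : c ^ 2 ^ k ∈ tL X := by
    rw [eq_inv_of_mul_eq_one_right e1]; exact inv_mem (pow_mem hl _)
  obtain ⟨b, hb⟩ := au_exists_pow hk h.Z_odd
  refine ⟨_, pow_mem (pow_mem hl (Nat.card (tL X ⊓ tC X : Subgroup G))) b, _,
    pow_mem (pow_mem hc (Nat.card (tL X ⊓ tC X : Subgroup G))) b, ?_, ?_, ?_⟩
  · rw [← (hlc.pow_pow _ _).mul_pow, ← hlc.mul_pow, ← e, hb]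
  · refine Core.isPGroup_zpowers_iff.2 ⟨k, ?_⟩
    rw [pow_right_comm, pow_right_comm l, pow_Z (pow_mem hl _) e2, one_pow]
  · refine Core.isPGroup_zpowers_iff.2 ⟨k, ?_⟩
    rw [pow_right_comm, pow_right_comm c, pow_Z e3 (pow_mem hc _), one_pow]

theorem inv_split (hg : g ∈ tN0 T X ρ) (g2 : g * g = 1) :
    ∃ l ∈ tL X, ∃ c ∈ tC X, g = l * c ∧ l * l = 1 ∧ c * c = 1 := by
  obtain ⟨l, hl, c, hc, e, p, -⟩ := h.exists_mul_of_N0 hg
    (Core.isPGroup_zpowers_iff.2 ⟨1, by simpa [pow_two] using g2⟩)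
  have hlc : Commute l c := mem_centralizer_iff.1 hc l hl
  have e1 : l * l * (c * c) = 1 := by rw [← g2, e, hlc.symm.mul_mul_mul_comm]
  have e2 : l * l = 1 := h.eq_one (mul_mem hl hl)
    (by rw [eq_inv_of_mul_eq_one_left e1]; exact inv_mem (mul_mem hc hc))
    (p.to_le (zpowers_le.2 (mul_mem (mem_zpowers l) (mem_zpowers l))))
  exact ⟨l, hl, c, hc, e, e2, by rwa [e2, one_mul] at e1⟩

theorem split_unique {l l' c c' : G} (hl : l ∈ tL X) (hl' : l' ∈ tL X) (hc : c ∈ tC X)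
    (hc' : c' ∈ tC X) (p : IsPGroup 2 (zpowers l)) (p' : IsPGroup 2 (zpowers l'))
    (e : l * c = l' * c') : l = l' ∧ c = c' := by
  have e4 : l = l' := h.eq_of_two hl hl' p p' ((h.eq_iff (L_le_N hl) (L_le_N hl')).2 (by
    rw [show l⁻¹ * l' = c * c'⁻¹ by rw [inv_mul_eq_iff_eq_mul, ← mul_assoc, e, mul_inv_cancel_right]]
    exact mul_mem hc (inv_mem hc')))
  exact ⟨e4, by rw [e4] at e; exact mul_left_cancel e⟩

/-- **PERF** -/
theorem pf_le (hc : ∀ R ≤ tC X, IsPGroup 2 R → IsCyclic R) {M : Subgroup G} (hM : Pf M)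
    (h1 : M ≤ tN X) : M ≤ tL X := by
  have h0 : M ≤ tN0 T X ρ := hM.1.trans ((commutator_mono h1 h1).trans h.commutator_le_N0)
  have h1 : M ≤ tL X ⊔ tC X := hM.2.trans ((closure_le _).2 fun g hg => by
    obtain ⟨l, hl, c, hc, rfl, -⟩ := h.inv_split (h0 hg.1) hg.2
    exact mul_mem (mem_sup_left hl) (mem_sup_right hc))
  obtain ⟨O, hO, ho, hcm⟩ := au_odd_comm (tC X) hc
  have h2 : M ≤ tL X ⊔ O := hM.1.trans (commutator_le.2 fun a ha b hb => by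
    obtain ⟨l, hl, c, hc, rfl⟩ := exists_mul_LC (h1 ha)
    obtain ⟨l', hl', c', hc', rfl⟩ := exists_mul_LC (h1 hb)
    have k1 : Commute l c := mem_centralizer_iff.1 hc l hl
    have k2 : Commute l' c := mem_centralizer_iff.1 hc l' hl'
    have k3 : Commute l c' := mem_centralizer_iff.1 hc' l hl
    have k4 : Commute l' c' := mem_centralizer_iff.1 hc' l' hl'
    have e : ⁅l * c, l' * c'⁆ = l * l' * l⁻¹ * l'⁻¹ * (c * c' * c⁻¹ * c'⁻¹) := by
      rw [commutatorElement_def, k1.mul_inv, k4.mul_inv, k2.symm.mul_mul_mul_comm,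
        ((k1.symm.mul_left k3.symm).inv_right).mul_mul_mul_comm,
        (((k2.symm.mul_left k4.symm).mul_left k2.symm.inv_left).inv_right).mul_mul_mul_comm]
    rw [e]
    exact mul_mem (mem_sup_left (mul_mem (mul_mem (mul_mem hl hl') (inv_mem hl)) (inv_mem hl')))
      (mem_sup_right (hcm c hc c' hc')))
  refine hM.2.trans ((closure_le _).2 fun g hg => ?_)
  obtain ⟨l, hl, c, hc, e, -, c2⟩ := h.inv_split (h0 hg.1) hg.2
  obtain ⟨l', hl', o, hoO, e'⟩ :=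
    (Core.mem_sup_of_le_normalizer_left (hO.trans C_le_N)).1 (h2 hg.1)
  have e1 : c = l⁻¹ * l' * o := by rw [mul_assoc, e', e, inv_mul_cancel_left]
  have hz : l⁻¹ * l' ∈ tC X := by
    rw [← mul_inv_eq_iff_eq_mul.2 e1]; exact mul_mem hc (inv_mem (hO hoO))
  have hz' := mul_mem (inv_mem hl) hl'
  have hcm : Commute (l⁻¹ * l') o := mem_centralizer_iff.1 (hO hoO) _ hz'
  obtain ⟨a, ha⟩ := au_exists_pow (g := c) (k := 1) (by simpa [pow_two] using c2)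
    (h.Z_odd.mul (ho o hoO))
  have e2 : c ^ (Nat.card (tL X ⊓ tC X : Subgroup G) * orderOf o) = 1 := by
    rw [e1, hcm.mul_pow, pow_mul, pow_Z hz' hz, mul_comm _ (orderOf o), pow_mul, pow_orderOf_eq_one]
    simp
  rw [e2, one_pow] at ha
  rw [e, ← ha, mul_one]
  exact hl

/-- **SYL** -/
theorem exists_norm_U {R : Subgroup G} (hR : IsPGroup 2 R) (h1 : R ≤ tN X) :
    ∃ l ∈ tL X, ∀ p ∈ R, l * p * l⁻¹ ∈ normalizer (tU Φ X : Set G) := by
  obtain ⟨T, hT⟩ := (hR.comap_subtype (K := tN X)).exists_le_sylow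
  obtain ⟨T', hT'⟩ := (h.pg_U.comap_subtype (K := tN X)).exists_le_sylow
  obtain ⟨k, hk⟩ := MulAction.exists_smul_eq (tN X) T T'
  have hL : tU Φ X ≤ tL X := UU_le_tL X _
  have hU : ∀ u ∈ tU Φ X, u ∈ T'.1.map (tN X).subtype := fun u hu =>
    ⟨⟨u, L_le_N (hL hu)⟩, hT' hu, rfl⟩
  have h0 : T'.1.map (tN X).subtype ⊓ tL X ≤ tU Φ X :=
    h.le_U (T'.2.map _).to_inf_left inf_le_right (le_inf hU hL)
  have h2 : T'.1.map (tN X).subtype ≤ normalizer (tU Φ X : Set G) := fun t ht =>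
    mem_normalizer_fintype fun u hu => h0 (mem_inf.2 ⟨mul_mem (mul_mem ht (hU u hu)) (inv_mem ht),
      conj_mem_L (map_subtype_le _ ht) (hL hu)⟩)
  obtain ⟨l, hl, h3⟩ := h.exists_conj_U (h.pg_U.map (MulAut.conj (k : G)⁻¹).toMonoidHom)
    (by rintro _ ⟨u, hu, rfl⟩; exact conj_mem_L (inv_mem k.2) (hL hu))
  have h4 : l * (k : G)⁻¹ ∈ normalizer (tU Φ X : Set G) := mem_normalizer_fintype fun u hu => by
    have := h3 _ ⟨u, hu, rfl⟩
    simpa [mul_assoc] using this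
  refine ⟨l, hl, fun p hp => ?_⟩
  have h5 : (k : G) * p * (k : G)⁻¹ ∈ T'.1.map (tN X).subtype := by
    refine ⟨k * ⟨p, h1 hp⟩ * k⁻¹, ?_, rfl⟩
    rw [← hk]
    exact smul_mem_pointwise_smul (⟨p, h1 hp⟩ : tN X) (MulAut.conj k) T.1 (hT hp)
  have := mul_mem (mul_mem h4 (h2 h5)) (inv_mem h4)
  simpa [mul_assoc] using this

theorem exists_norm_cj {R : Subgroup G} (hR : IsPGroup 2 R) (h1 : R ≤ tN X) :
    ∃ l ∈ tL X, R ≤ normalizer (tU Φ (cjX l X) : Set G) := by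
  obtain ⟨l, hl, h2⟩ := h.exists_norm_U hR h1
  refine ⟨l⁻¹, inv_mem hl, fun p hp => mem_normalizer_fintype fun u hu => ?_⟩
  have := (mem_normalizer_iff.1 (h2 p hp) _).1 (SLT.mem_cj_UU.1 hu)
  exact SLT.mem_cj_UU.2 (by simpa [mul_assoc, tU] using this)

theorem exists_std (hg : Ty T X ρ g σ) (hU : g ∈ normalizer (tU Φ X : Set G)) :
    ∃ u ∈ tU Φ X, ∃ d, St T X ρ (u * g) d σ := by
  obtain ⟨l, hl, d, h0⟩ := hg
  obtain ⟨u, hu, a, ha, haH, rfl⟩ := h.exists_B hl (by simpa [tU] using mul_mem (h.st_norm h0 _) (inv_mem hU))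
  obtain ⟨d', h1⟩ := h.st_of_H (L_le_N ha) haH
  have h2 := h.st_mul (h.st_inv h1) h0
  rw [inv_one, one_mul] at h2
  exact ⟨a⁻¹ * u * a, (mem_normalizer_iff''.1 (h.st_norm h1 _) u).1 hu, _, by simpa only [mul_assoc] using h2⟩

/-- the standard part of an involution is an involution -/
theorem exists_std_inv (hg : Ty T X ρ g σ) (hU : g ∈ normalizer (tU Φ X : Set G)) (g2 : g * g = 1) :
    ∃ u ∈ tU Φ X, ∃ d, St T X ρ (u * g) d σ ∧ u * g * (u * g) = 1 := by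
  obtain ⟨u, hu, d, h1⟩ := h.exists_std hg hU
  have h2 : u * g * (u * g) ∈ tU Φ X := by
    rw [show u * g * (u * g) = u * (g * u * g⁻¹) * (g * g) by group, g2, mul_one]
    exact mul_mem hu ((mem_normalizer_iff.1 hU u).1 hu)
  have h3 := h.st_mul h1 h1
  exact ⟨u, hu, d, h1, h.eq_one (UU_le_tL X _ h2) ((h.ker _ h3.1).1 (h.amb.eq_one_of_std ⟨_, h3.2⟩ (E.gp (Or.inl rfl))
    (h.map_mem_UU (fun r hr => (E.γ_pos r).2 hr) h2))) (pg_zpowers h.pg_U h2)⟩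

theorem au_norm (hg : g ∈ tN X) (hU : g ∈ normalizer (tU Φ X : Set G)) {Ψ : Set ι}
    (h1 : tU Φ X ≤ normalizer (UUx X Ψ : Set G)) : g ∈ normalizer (UUx X Ψ : Set G) := by
  obtain ⟨σ, h2⟩ := h.exists_ty hg
  obtain ⟨u, hu, d, h3⟩ := h.exists_std h2 hU
  simpa using mul_mem (inv_mem (h1 hu)) (h.st_norm h3 Ψ)

omit h in
theorem idl_W : Idl Φ {E.θ, E.β} := by
  refine ⟨by rintro _ (rfl | rfl); exacts [E.pos_θ, E.pos_β], fun r hr a ha k hk => ?_⟩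
  by_contra hne
  simp only [Set.mem_insert_iff, Set.mem_singleton_iff, not_or] at hne
  have h1 := E.ht_lt_β hne.1 hne.2
  have h2 := radd_ht hk
  have h3 := pos_iff_ht.1 ha
  have h4 := E.ht_θ
  rcases hr with rfl | rfl <;> omega

/-- an element normalising `U` normalises the groups of all stable ideals -/
theorem norm_idl (hg : g ∈ tN X) (hU : g ∈ normalizer (tU Φ X : Set G)) {Ψ : Set ι} (h1 : Idl Φ Ψ)
    (hγ : ∀ r ∈ Ψ, E.γ r ∈ Ψ) : g ∈ normalizer (UUx X Ψ : Set G) := h.au_norm hg hU (h.rel.U_norm h.tr h1 hγ)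

theorem norm_U_Z (hg : g ∈ tN X) (hU : g ∈ normalizer (tU Φ X : Set G)) :
    g ∈ normalizer (tZ X E.θ : Set G) ∧ g ∈ normalizer (tQ Φ X E.θ : Set G) ∧
      g ∈ normalizer (tY Φ X E.θ : Set G) ∧ g ∈ normalizer (tW E X : Set G) ∧
      g ∈ normalizer (tR E X : Set G) := ⟨h.au_norm hg hU ((U_le_Y (E := E) X).trans ((h.rel.Y_le_cent E.γ_θ).trans (centralizer_le_normalizer _))),
    h.au_norm hg hU ((U_le_Y (E := E) X).trans (h.rel.Y_norm_Q h.tr E.γ_θ)),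
    h.au_norm hg hU ((U_le_Y (E := E) X).trans le_normalizer), h.norm_idl hg hU idl_W cl_W.gam,
    h.norm_idl hg hU (E.idl_diff _) cl_R.gam⟩

/-- a 2-element normalising `U` which is `F`-linear centralises `Z` -/
theorem cent_Z (hg : Ty T X ρ g σ) (hσ : σ = 1 ∨ σ = P.τ) (hU : g ∈ normalizer (tU Φ X : Set G))
    (hp : IsPGroup 2 (zpowers g)) : g ∈ centralizer (tZ X E.θ : Set G) := by
  obtain ⟨u, hu, d, h1⟩ := h.exists_std hg hU
  obtain ⟨k, hk⟩ := Core.isPGroup_zpowers_iff.1 hp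
  obtain ⟨c₀, h0, e⟩ := h.st_long h1 E.γ_θ
  have hc : ∀ c, u * xl P X E.θ c = xl P X E.θ c * u := fun c =>
    (mem_cent_UUx.1 (h.rel.Y_le_cent E.γ_θ (U_le_Y (E := E) X hu)) _ rfl _).symm
  have k1 : ∀ c, g * xl P X E.θ c * g⁻¹ = xl P X E.θ (c₀ * c) := fun c => by
    have := h.st_xl h1 E.γ_θ e (c := c) (c' := c) (by rcases hσ with rfl | rfl; exacts [rfl, P.τf c])
    calc g * xl P X E.θ c * g⁻¹ = u⁻¹ * (u * g * xl P X E.θ c * (u * g)⁻¹) * u := by group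
      _ = _ := by rw [this, mul_assoc, ← hc, inv_mul_cancel_left]
  have k2 : ∀ n : ℕ, g ^ n * xl P X E.θ 1 * (g ^ n)⁻¹ = xl P X E.θ (c₀ ^ n) := fun n => by
    induction n with
    | zero => simp
    | succ n ih => rw [pow_succ' c₀, ← k1, ← ih, pow_succ']; group
  have k3 := k2 (2 ^ k)
  rw [hk, one_mul, inv_one, mul_one] at k3
  have k4 := au_eq_one_of_pow (h.xl_inj E.γ_θ E.γ_θ one_ne_zero k3).2.symm
  refine mem_cent_UUx.2 ?_
  rintro r rfl c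
  rw [h.rel.lng E.γ_θ, mul_inv_eq_iff_eq_mul.1 (k1 _), k4, one_mul]

/-- a subgroup normalised by `L` contains `L` or is centralised by it -/
theorem le_or_cent {M : Subgroup G} (h1 : tL X ≤ normalizer (M : Set G)) (h2 : M ≤ tN X) :
    tL X ≤ M ∨ M ≤ tC X := by
  rcases h.le_or_eq (M := M ⊓ tL X) inf_le_right
    ((le_inf h1 le_normalizer).trans inf_normalizer_le_normalizer_inf) with h0 | h0
  · refine Or.inr ?_
    have h3 : ⁅M, tL X⁆ ≤ tC X := (commutator_le.2 fun k hk l hl => by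
      rw [commutatorElement_def]
      refine mem_inf.2 ⟨?_, mul_mem (conj_mem_L (h2 hk) hl) (inv_mem hl)⟩
      have := mul_mem hk ((mem_normalizer_iff.1 (h1 hl) _).1 (inv_mem hk))
      rwa [← mul_assoc, ← mul_assoc] at this).trans h0
    have h4 : ⁅⁅M, tL X⁆, tL X⁆ = ⊥ := commutator_eq_bot_iff_le_centralizer.2 h3
    have h5 := commutator_commutator_eq_bot_of_rotate (by rw [commutator_comm (tL X) M]; exact h4) h4
    exact commutator_eq_bot_iff_le_centralizer.1 (by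
      rw [commutator_comm]; exact eq_bot_iff.2 ((commutator_mono h.rel.pf_L.1 le_rfl).trans h5.le))
  · exact Or.inl (h0.ge.trans inf_le_left)

theorem split (h1 : g ∈ tN0 T X ρ) (h2 : g ∈ normalizer (tU Φ X : Set G))
    (hp : IsPGroup 2 (zpowers g)) : ∃ l ∈ tU Φ X, ∃ c ∈ tC X, g = l * c := by
  obtain ⟨l, hl, c, hc, rfl, p, -⟩ := h.exists_mul_of_N0 h1 hp
  refine ⟨l, h.mem_U_of_norm hl p ?_, c, hc, rfl⟩
  simpa using mul_mem h2 (inv_mem (centralizer_le_normalizer _ (centralizer_le (UU_le_tL X _) hc)))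

theorem inf_le_U {R : Subgroup G} (hR : IsPGroup 2 R) (h1 : tU Φ X ≤ R) : R ⊓ tL X ≤ tU Φ X := h.le_U hR.to_inf_left inf_le_right (le_inf h1 (UU_le_tL X _))

theorem le_norm_U {R : Subgroup G} (hR : IsPGroup 2 R) (h1 : tU Φ X ≤ R) (h2 : g ∈ R)
    (h3 : g ∈ tN X) : g ∈ normalizer (tU Φ X : Set G) := mem_normalizer_fintype fun _ hu =>
  h.inf_le_U hR h1 (mem_inf.2 ⟨mul_mem (mul_mem h2 (h1 hu)) (inv_mem h2), conj_mem_L h3 (UU_le_tL X _ hu)⟩)

end Sys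

theorem Sit.card_le (h : Sit E P T s X ρ t) (h2 : HX.Two (tL X) t) {R : Subgroup G}
    (hR : IsPGroup 2 R) (h1 : R ≤ centralizer {t}) :
    Nat.card R ≤ 4 * Nat.card (F ≃+* F) * Nat.card F ^ NP Φ := by
  classical
  have hN : R ≤ tN X := h1.trans h.CN
  have hR1 : IsPGroup 2 (R ⊔ zpowers t : Subgroup G) := pg_sup_comm hR
    (Core.isPGroup_zpowers_iff.2 ⟨1, by simpa [pow_two] using h.t2⟩) fun a ha b hb => by
      obtain ⟨n, rfl⟩ := mem_zpowers_iff.1 hb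
      exact (Commute.zpow_right (mem_centralizer_singleton_iff.1 (h1 ha)) n).eq
  have h0 : ∀ g ∈ R ⊓ tN0 T X ρ, g ∉ tL X → g * t ∈ tL X := fun g hg hn => by
    obtain ⟨l, hl, c, hc, rfl, -, p⟩ := h.exists_mul_of_N0 hg.2 (pg_zpowers hR hg.1)
    have e := mem_centralizer_singleton_iff.1 (h1 hg.1)
    rw [← mul_assoc, ← h.comL hl, mul_assoc, mul_assoc, mul_right_inj] at e
    rcases h2 c hc e p with rfl | rfl
    · exact absurd (by simpa using hl) hn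
    · rwa [mul_assoc, h.t2, mul_one]
  have e5 : Nat.card (R ⊓ tN0 T X ρ : Subgroup G) ≤ Nat.card (((R ⊔ zpowers t) ⊓ tL X : Subgroup G) × Bool) := by
    refine Nat.card_le_card_of_injective (fun g => if hg : g.1 ∈ tL X then (⟨g.1, mem_sup_left g.2.1, hg⟩, true)
      else (⟨g.1 * t, mul_mem (mem_sup_left g.2.1) (mem_sup_right (mem_zpowers t)), h0 g.1 g.2 hg⟩, false))
      fun a b e => ?_
    dsimp only at e
    split_ifs at e <;> simp only [Prod.mk.injEq, Bool.true_eq_false, and_false, Bool.false_eq_true, and_true] at e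
    · exact Subtype.ext (congrArg Subtype.val e :)
    · exact Subtype.ext (mul_right_cancel (congrArg Subtype.val e :))
  rw [Nat.card_prod, Nat.card_eq_fintype_card (α := Bool), Fintype.card_bool] at e5
  have e6 := h.card_le_U (hR1.to_inf_left (K := tL X)) inf_le_right
  have e7 := (relIndex_le_of_le_right (H := tN0 T X ρ) hN FiniteIndex.index_ne_zero).trans h.relIndex_N0
  rw [P.card_aut] at e7
  rw [← Core.card_inf_mul_relIndex (tN0 T X ρ) R, inf_comm]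
  calc _ ≤ Nat.card F ^ NP Φ * 2 * (2 * Nat.card (F ≃+* F)) :=
        Nat.mul_le_mul (e5.trans (Nat.mul_le_mul_right _ e6)) e7
    _ = _ := by ring

theorem two_cj (h2 : HX.Two (tL X) t) (g : G) : HX.Two (tL (cjX g X)) (g * t * g⁻¹) := by
  intro c hc ct p
  have := h2 (g⁻¹ * c * g) (mem_cj_C.1 hc) (by
    rw [show g⁻¹ * c * g * t = g⁻¹ * (c * (g * t * g⁻¹)) * g by group, ct]; group) (by
    obtain ⟨k, hk⟩ := Core.isPGroup_zpowers_iff.1 p
    exact Core.isPGroup_zpowers_iff.2 ⟨k, by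
      rw [show g⁻¹ * c * g = g⁻¹ * c * g⁻¹⁻¹ by rw [inv_inv], conj_pow, hk, mul_one, mul_inv_cancel]⟩)
  refine this.imp (fun e => ?_) fun e => ?_
  · rw [show c = g * (g⁻¹ * c * g) * g⁻¹ by group, e, mul_one, mul_inv_cancel]
  · rw [← e]; group

end CfsgLib.SLT
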