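import Mathlib
import Cfsg.Agent.Lib.SLT.Aut
import Cfsg.Agent.Lib.SLE.Lev

/-!
# Centralisers
-/

set_option autoImplicit false
set_option linter.unusedSectionVars false

namespace CfsgLib.SLT

open CfsgLib.RGD CfsgLib.Stein CfsgLib.SLE Subgroup
open scoped commutatorElement Pointwise

universe u

variable {ι κ : Type} [Fintype κ] [DecidableEq κ] [Finite ι] {Φ : RootSys ι κ} {E : ER Φ}
  {F K : Type} [Field F] [Finite F] [CharP F 2] [Field K] [Finite K] [CharP K 2] {P : QE F K}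
  {G : Type u} [Group G] [Finite G] {A : Type} [Group A] [Finite A] {T : StSys Φ K A} {s : A}
  {X : ι → K → G} {ρ : G → A} {t : G}

namespace Sys

variable (h : Sys E P T s X ρ) {g : G}
include h

theorem cn_X {a : ι} {v : K} (hg : g ∈ tN X) : ρ (g * X a v * g⁻¹) = ρ g * tx E P T a v * (ρ g)⁻¹ := by
  rw [h.conj hg (L_le_N (mem_tL X a v)), h.map]

theorem cn_cm {a : ι} {v : K} (hg : g ∈ tN X) :
    ρ (g * X a v * g⁻¹ * (X a v)⁻¹) = ρ g * tx E P T a v * (ρ g)⁻¹ * (tx E P T a v)⁻¹ := by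
  have h1 := L_le_N (mem_tL X a v)
  rw [h.mul _ (mul_mem (mul_mem hg h1) (inv_mem hg)) _ (inv_mem h1), h.cn_X hg, h.inv h1, h.map]

theorem cn_com {a : ι} {v : K} (hg : g ∈ tN X) (e : g * X a v = X a v * g) :
    ρ g * tx E P T a v = tx E P T a v * ρ g := by
  rw [← mul_inv_eq_iff_eq_mul, ← h.cn_X hg, e, mul_inv_cancel_right, h.map]

theorem cn_TU {u : G} (hu : u ∈ tU Φ X) : ρ u ∈ T.U := h.map_mem_UU cl_pos.gam hu

omit h in
theorem cn_N {u : G} {Ψ : Set ι} (hu : u ∈ UUx X Ψ) : u ∈ tN X := L_le_N (UU_le_tL X _ hu)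

omit h in
theorem cn_C {k : G} (hk : k ∈ tC X) (a : ι) (v : K) : k * X a v = X a v * k :=
  (mem_centralizer_iff.1 hk _ (mem_tL X a v)).symm

omit h in
theorem cn_tmove {n : G} {w : Equiv.Perm ι} (hn : tExa X n w) {Ψ Ψ' : Set ι}
    (hT : ∀ r ∈ Ψ, w r ∈ Ψ') (hc : g ∈ centralizer (UUx X Ψ' : Set G)) :
    n⁻¹ * g * n ∈ centralizer (UUx X Ψ : Set G) := by
  refine mem_centralizer_iff.2 fun v hv => ?_
  have := mem_centralizer_iff.1 hc _ (hn.conj_mem hT hv)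
  calc v * (n⁻¹ * g * n) = n⁻¹ * (n * v * n⁻¹ * g) * n := by group
    _ = _ := by rw [this]; group

theorem cn_W_iff {w : G} : w ∈ tW E X ↔ ∃ c e, w = xl P X E.θ c * xl P X E.β e := by
  have R := h.rel
  have k : ∀ c e, xl P X E.β e * xl P X E.θ c = xl P X E.θ c * xl P X E.β e := fun c e =>
    R.com_l E.γ_θ (by rw [E.ip_βθ]; decide) _ _
  refine ⟨fun hw => ?_, ?_⟩
  · induction hw using closure_induction with
    | mem x hx =>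
      obtain ⟨r, rfl | rfl, u, rfl⟩ := hx
      · exact ⟨P.T u, 0, by rw [R.xl_zero, mul_one, R.lng E.γ_θ]⟩
      · exact ⟨0, P.T u, by rw [R.xl_zero, one_mul, R.lng E.γ_β]⟩
    | one => exact ⟨0, 0, by rw [R.xl_zero, R.xl_zero, mul_one]⟩
    | mul x y _ _ hx hy =>
      obtain ⟨c, e, rfl⟩ := hx
      obtain ⟨c', e', rfl⟩ := hy
      exact ⟨c + c', e + e', by rw [R.xl_add, R.xl_add, mul_assoc, mul_assoc, ← mul_assoc (xl P X E.β e), k, mul_assoc]⟩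
    | inv x _ hx =>
      obtain ⟨c, e, rfl⟩ := hx
      exact ⟨c, e, by rw [mul_inv_rev, R.xl_inv, R.xl_inv, k]⟩
  · rintro ⟨c, e, rfl⟩
    exact mul_mem (mem_UUx X (Or.inl rfl) _) (mem_UUx X (Or.inr rfl) _)

/-- **CENU** -/
theorem cenU {Ψ : Set ι} (h1 : Idl Φ Ψ) (h2 : Gen Φ Ψ) (h3 : ∀ r ∈ Ψ, E.γ r ∈ Ψ) (hg : g ∈ tN X)
    (hc : ∀ r ∈ Ψ, ∀ v, g * X r v * g⁻¹ * (X r v)⁻¹ ∈ UUx X {k | k ∈ Ψ ∧ Φ.ht r < Φ.ht k}) :
    ∃ u ∈ tU Φ X, u * g ∈ tC X := by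
  obtain ⟨u, hu, e⟩ := h.toTw.cenU h1 h2 h3 (h.mem_NL hg) fun r hr v => by
    rw [← h.cn_cm hg]
    exact h.map_mem_UU (fun k hk => by exact ⟨h3 k hk.1, by rw [E.γ_ht]; exact hk.2⟩) (hc r hr v)
  rw [h.cl, mem_bot, mem_bot] at e
  rcases e with e | e
  · obtain ⟨u', hu', k, hk, rfl⟩ := h.exists_of_map cl_pos hg (by
      rw [eq_inv_of_mul_eq_one_right e]; exact inv_mem hu)
    exact ⟨u'⁻¹, inv_mem hu', by rwa [inv_mul_cancel_left]⟩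
  · obtain ⟨σ, h4⟩ := h.exists_ty hg
    refine absurd (h.amb.typ_unique (σ' := P.τ) (h.au_typ h4) ⟨u, T.U_le_grp hu, fun _ => 1, ?_⟩ (Or.inl rfl)
      (Or.inr rfl)).1.symm h.tr.ne
    rw [eq_inv_of_mul_eq_one_left e, inv_eq_of_mul_eq_one_left h.s2]
    exact h.std

theorem Z_cent {z u : G} (hz : z ∈ tZ X E.θ) (hu : u ∈ tU Φ X) : u * z = z * u := (mem_centralizer_iff.1 (h.rel.Y_le_cent E.γ_θ (U_le_Y (E := E) X hu)) z hz).symm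

theorem center_U : tU Φ X ⊓ centralizer (tU Φ X : Set G) = tZ X E.θ := by
  refine le_antisymm (fun u hu => h.mem_UX_of_U cl_Z hu.1 (h.tZ_of_simple (h.cn_TU hu.1) fun i v =>
    h.cn_com (cn_N hu.1) (mem_centralizer_iff.1 hu.2 _ (mem_UUx X (Φ.pos_simple i) v)).symm)) (le_inf ?_ ?_)
  · exact (Z_le_Q X E _).trans (Q_le_U X)
  · exact fun z hz => mem_centralizer_iff.2 fun u hu => h.Z_cent hz hu

theorem cn_Q (hg : g ∈ tN X) (hc : g ∈ centralizer (tQ Φ X E.θ : Set G)) :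
    ∃ c, ∃ k ∈ tC X, g = xl P X E.θ c * k := by
  have h' := mem_cent_UUx.1 hc
  obtain ⟨u, hu, hk⟩ := h.cenU E.idl_Q E.gen_Q cl_Q.gam hg fun r hr c => cn_triv (h' r hr c).symm _
  obtain ⟨c, e⟩ := (h.rel.mem_tZ E.γ_θ).1 (inv_mem (h.mem_UX_of_U cl_Z hu (h.tZ_of_Q (h.cn_TU hu) fun r hr v =>
    h.cn_com (cn_N hu) (cn_comm (cn_C hk r v) (h' r hr v).symm))))
  exact ⟨c, _, hk, by rw [← e, inv_mul_cancel_left]⟩

theorem cen_U (hg : g ∈ tN X) (hc : g ∈ centralizer (tU Φ X : Set G)) :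
    ∃ c, ∃ k ∈ tC X, g = xl P X E.θ c * k := h.cn_Q hg (centralizer_le (Q_le_U X) hc)

theorem cen_Q {r : ι} (hr : E.γ r = r) (hg : g ∈ tN X) (hc : g ∈ centralizer (tQ Φ X r : Set G)) :
    ∃ c, ∃ k ∈ tC X, g = xl P X r c * k := by
  obtain ⟨w, hw, rfl⟩ := trans_long hr
  obtain ⟨n, hn, hx, -⟩ := h.exists_exa (Ψ := Set.univ) (fun _ _ => trivial) hw
  have hN := cn_N hn
  obtain ⟨c, k, hk, e1⟩ := h.cn_Q (mul_mem (mul_mem (inv_mem hN) hg) hN) (cn_tmove hx (fun r hr => by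
    show 1 ≤ ip Φ (w r) (w E.θ)
    rw [WT_ip hw]
    exact hr) hc)
  refine ⟨c, _, conj_mem_C hN hk, ?_⟩
  rw [xl, ← hx]
  calc g = n * (n⁻¹ * g * n) * n⁻¹ := by group
    _ = _ := by rw [e1, xl]; group

theorem cen_Y {r : ι} (hr : E.γ r = r) (hg : g ∈ tN X) (hc : g ∈ centralizer (tY Φ X r : Set G)) :
    ∃ c, ∃ k ∈ tC X, g = xl P X r c * k := h.cen_Q hr hg (centralizer_le (Q_le_Y X r) hc)

theorem cen_R (hg : g ∈ tN X) (hc : g ∈ centralizer (tR E X : Set G)) :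
    ∃ c e, ∃ k ∈ tC X, g = xl P X E.θ c * xl P X E.β e * k := by
  have h' := mem_cent_UUx.1 hc
  obtain ⟨u, hu, hk⟩ := h.cenU (E.idl_diff E.i₀) (E.gen_diff E.i₀) cl_R.gam hg
    fun r hr c => cn_triv (h' r hr c).symm _
  obtain ⟨c, e, e1⟩ := h.cn_W_iff.1 (inv_mem (h.mem_UX_of_U cl_W hu (h.tW_of_R (h.cn_TU hu) fun r h1 h2 v =>
    h.cn_com (cn_N hu) (cn_comm (cn_C hk r v) (h' r ⟨h1, h2⟩ v).symm))))
  exact ⟨c, e, _, hk, by rw [← e1, inv_mul_cancel_left]⟩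

/-- **CV** -/
theorem cen_V (hg : g ∈ tN X) (hc : ∀ v ∈ tQ Φ X E.θ, g * v * g⁻¹ * v⁻¹ ∈ tZ X E.θ) :
    ∃ v ∈ tQ Φ X E.θ, ∃ k ∈ tC X, g = v * k := by
  have hQ : ∀ r, 1 ≤ ip Φ r E.θ → ∀ c, X r c ∈ tQ Φ X E.θ := fun r hr c => mem_UUx X hr c
  have hz : ∀ z ∈ tZ X E.θ, ∀ v ∈ tQ Φ X E.θ, Commute z v := fun z hz v hv => (h.Z_cent hz (Q_le_U X hv)).symm
  have k1 : ∀ c, g * xl P X E.θ c = xl P X E.θ c * g := fun c => by
    have ha : xl P X E.α c ∈ _ := hQ _ E.ip_αθ.ge _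
    have hb : xl P X E.β 1 ∈ _ := hQ _ E.ip_βθ.ge _
    have e := h.rel.ll _ _ _ E.γ_α E.γ_β E.hβ c 1
    rw [mul_one] at e
    have e1 := hc _ ha
    have e2 := hc _ hb
    generalize xl P X E.α c = a at *
    generalize xl P X E.β 1 = b at *
    generalize hy : g * a * g⁻¹ * a⁻¹ = y at e1
    generalize hz' : g * b * g⁻¹ * b⁻¹ = z at e2
    have c1 := hz y e1
    have c2 := hz z e2
    have hzQ : z ∈ tQ Φ X E.θ := Z_le_Q X E _ e2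
    rw [← mul_inv_eq_iff_eq_mul, ← e]
    calc g * (a * b * a⁻¹ * b⁻¹) * g⁻¹ = (y * a) * (z * b) * (y * a)⁻¹ * (z * b)⁻¹ := by
          rw [← hy, ← hz']; group
      _ = y * (a * (z * b) * a⁻¹) * y⁻¹ * (z * b)⁻¹ := by group
      _ = a * (z * b) * a⁻¹ * (z * b)⁻¹ := by
          rw [(c1 _ (mul_mem (mul_mem ha (mul_mem hzQ hb)) (inv_mem ha))).eq, mul_inv_cancel_right]
      _ = z * (a * b * a⁻¹ * b⁻¹) * z⁻¹ := by rw [← mul_assoc a, ← (c2 a ha).eq]; group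
      _ = _ := by
          rw [(c2 _ (mul_mem (mul_mem (mul_mem ha hb) (inv_mem ha)) (inv_mem hb))).eq,
            mul_inv_cancel_right]
  obtain ⟨u, hu, hk⟩ := h.cenU E.idl_Q E.gen_Q cl_Q.gam hg fun r hr c => by
    by_cases hθ : r = E.θ
    · rw [hθ, h.rel.lng E.γ_θ]
      exact cn_triv (k1 _) _
    · refine UUx_mono X ?_ (hc _ (hQ r hr c))
      rintro s rfl
      exact ⟨by show (1 : ℤ) ≤ _; rw [E.ip_self]; omega, E.ht_lt_θ hθ⟩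
  refine ⟨u⁻¹, inv_mem (h.mem_UX_of_U cl_Q hu (h.tQ_of_comm (h.cn_TU hu) fun r hr v => ?_)), _, hk,
    by rw [inv_mul_cancel_left]⟩
  rw [← h.cn_cm (cn_N hu)]
  refine h.map_mem_UU cl_Z.gam ?_
  obtain ⟨t, ht⟩ := (h.rel.mem_tZ E.γ_θ).1 (hc _ (hQ r hr v))
  have e1 := mem_centralizer_iff.1 hk _ (conj_mem_L (inv_mem hg) (mem_tL X r v))
  have e2 : u * X r v * u⁻¹ = g⁻¹ * X r v * g⁻¹⁻¹ := by
    calc u * X r v * u⁻¹ = u * g * (g⁻¹ * X r v * g⁻¹⁻¹) * (u * g)⁻¹ := by group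
      _ = _ := by rw [← e1, mul_inv_cancel_right]
  have e3 : g⁻¹ * X r v * g⁻¹⁻¹ * (X r v)⁻¹ = (g⁻¹ * (g * X r v * g⁻¹ * (X r v)⁻¹) * g)⁻¹ := by
    group
  rw [e2, e3, ht, mul_assoc, ← k1, inv_mul_cancel_left]
  exact inv_mem (mem_UUx X (Set.mem_singleton _) _)

theorem mem_W_iff {w : G} : w ∈ tW E X ↔ ∃ c e, w = xl P X E.θ c * xl P X E.β e := h.cn_W_iff

/-- `Z₂(U)` -/
theorem mem_W_of_comm {u : G} (hu : u ∈ tU Φ X) (hc : ∀ i v,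
    u * X (Φ.simple i) v * u⁻¹ * (X (Φ.simple i) v)⁻¹ ∈ tZ X E.θ) : u ∈ tW E X := h.mem_UX_of_U cl_W hu (h.tW_of_comm (h.cn_TU hu) fun i v => by
    rw [← h.cn_cm (cn_N hu)]
    exact h.map_mem_UU cl_Z.gam (hc i v))

theorem cn_conj_x {r : ι} (hr : E.γ r = r) {c : F} (hc : c ≠ 0) :
    ∃ l ∈ tL X, l * xl P X E.θ 1 * l⁻¹ = xl P X r c ∧ ∀ y ∈ tY Φ X E.θ, l * y * l⁻¹ ∈ tY Φ X r := by
  obtain ⟨w, hw, rfl⟩ := trans_long hr
  obtain ⟨n, hn, hx, -⟩ := h.exists_exa (Ψ := Set.univ) (fun _ _ => trivial) hw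
  obtain ⟨a, ha, -, -, h1⟩ := h.exists_hl ((WT_long hw _).2 E.γ_β) hc
  refine ⟨a * n, mul_mem (UU_le_tL X _ ha) hn, ?_, fun y hy => ?_⟩
  · rw [show a * n * xl P X E.θ 1 * (a * n)⁻¹ = a * (n * xl P X E.θ 1 * n⁻¹) * a⁻¹ by group,
      show n * xl P X E.θ 1 * n⁻¹ = xl P X (w E.θ) 1 from hx _ _,
      h.st_xl h1 hr rfl (c := 1) (c' := 1) rfl, WT_ip hw, E.ip_βθ, zpow_one, mul_one]
  · rw [show a * n * y * (a * n)⁻¹ = a * (n * y * n⁻¹) * a⁻¹ by group]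
    exact (mem_normalizer_iff.1 (h.st_norm h1 _) _).1 (hx.conj_mem (fun r hr => by
      show 0 ≤ ip Φ (w r) (w E.θ)
      rw [WT_ip hw]
      exact hr) hy)

theorem exists_conj_x {r : ι} (hr : E.γ r = r) {c : F} (hc : c ≠ 0) :
    ∃ l ∈ tL X, l * xl P X E.θ 1 * l⁻¹ = xl P X r c := by
  obtain ⟨l, hl, e, -⟩ := h.cn_conj_x hr hc
  exact ⟨l, hl, e⟩

omit h in
theorem cn_pg (hp : IsPGroup 2 (zpowers g)) (a : G) : IsPGroup 2 (zpowers (a * g * a⁻¹)) := by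
  obtain ⟨k, hk⟩ := Core.isPGroup_zpowers_iff.1 hp
  exact Core.isPGroup_zpowers_iff.2 ⟨k, by rw [conj_pow, hk, mul_one, mul_inv_cancel]⟩

theorem mem_Q_iff {r : ι} (hr : E.γ r = r) (hg : g ∈ tL X) (hp : IsPGroup 2 (zpowers g)) :
    g ∈ tQ Φ X r ↔ ρ g ∈ Q T r := by
  refine ⟨h.map_mem_UU fun a ha => (ip_γ_long hr a).ge.trans' ha, fun h1 => ?_⟩
  obtain ⟨w, hw, rfl⟩ := trans_long hr
  obtain ⟨n, hn, hx, hx', -⟩ := h.exists_exa (Ψ := Set.univ) (fun _ _ => trivial) hw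
  have h2 := (h.mem_UX_iff cl_Q (conj_mem_L (inv_mem (cn_N hn)) hg) (cn_pg hp _)).2 (by
    rw [h.conj (inv_mem (cn_N hn)) (L_le_N hg), h.inv (cn_N hn)]
    refine hx'.inv.conj_mem (fun a ha => ?_) h1
    show 1 ≤ ip Φ (w⁻¹ a) E.θ
    rw [← WT_ip hw, show w (w⁻¹ a) = a by simp]
    exact ha)
  simpa [mul_assoc, tQ] using hx.conj_mem (Ψ' := {a | 1 ≤ ip Φ a (w E.θ)}) (fun r hr => by
    show 1 ≤ ip Φ (w r) (w E.θ)
    rw [WT_ip hw]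
    exact hr) h2

theorem cn_θ (hg : g ∈ tL X) (e : g ∈ centralizer {xl P X E.θ 1}) : g ∈ tY Φ X E.θ ⊔ tL X ⊓ tC X := by
  have k : tY Φ X E.θ ≤ centralizer {xl P X E.θ 1} := (h.rel.Y_le_cent E.γ_θ).trans
    (centralizer_le (Set.singleton_subset_iff.2 (mem_UUx X (Set.mem_singleton _) _)))
  have k' : UUx X {d | ip Φ d E.θ = 0} ≤ tY Φ X E.θ := UUx_mono X fun _ h => Eq.ge h
  obtain ⟨u, hu, w, hw, n, hn, hx, -, a, ha, haH, u', hu', rfl⟩ := h.bruhat hg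
  have h1 := U_le_Y (E := E) X hu
  have h2 := U_le_Y (E := E) X (UUx_mono X (fun _ h => h.1) hu')
  rw [mul_mem_cancel_right (k h2), mul_assoc, mul_mem_cancel_left (k h1), mem_centralizer_singleton_iff,
    ← mul_inv_eq_iff_eq_mul] at e
  obtain ⟨d, h3⟩ := h.st_of_H (L_le_N ha) haH
  obtain ⟨c₀, -, e0⟩ := h.st_long h3 E.γ_θ
  have e1 := h.st_xl h3 E.γ_θ e0 (c := 1) (c' := 1) rfl
  rw [show n * a * xl P X E.θ 1 * (n * a)⁻¹ = n * (a * xl P X E.θ 1 * a⁻¹) * n⁻¹ by group, e1,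
    show n * xl P X E.θ (c₀ * 1) * n⁻¹ = xl P X (w E.θ) (c₀ * 1) from hx _ _] at e
  obtain ⟨e2, e3⟩ := h.xl_inj E.γ_θ ((WT_long hw _).2 E.γ_θ) one_ne_zero e.symm
  refine mul_mem (mul_mem (mul_mem (mem_sup_left h1) ?_) ?_) (mem_sup_left h2)
  · obtain ⟨n', hn', hx', -⟩ := h.exists_exa (fun r hr => by
      show ip Φ (Φ.neg r) E.θ = 0
      rw [ip_neg_left, show ip Φ r E.θ = 0 from hr, neg_zero]) (stab_θ hw e2.symm)
    rw [← mul_inv_cancel_left n' n]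
    refine mul_mem (mem_sup_left (k' hn')) (mem_sup_right (mem_inf.2 ⟨mul_mem (inv_mem (UU_le_tL X _ hn')) hn,
      mem_cent_UUx.2 fun b _ v => ?_⟩))
    rw [mul_inv_eq_iff_eq_mul.1 (hx'.inv.mul hx b v), inv_mul_cancel]
    rfl
  · obtain ⟨c, hc, y, hy, e4⟩ := h.exists_H_eq haH (h.com a (L_le_N ha))
    obtain ⟨y', hy', rfl⟩ := h.exists_lift hy.2
    have hz : xl P X E.θ 1 ∈ tN X := L_le_N (mem_tL X _ _)
    have e5 : ρ y' * ρ (xl P X E.θ 1) * (ρ y')⁻¹ = ρ (xl P X E.θ 1) := by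
      rw [← h.conj (cn_N hy') hz, mem_centralizer_singleton_iff.1 (k (k' hy')), mul_inv_cancel_right]
    have e6 := h.conj (L_le_N ha) hz
    rw [e1, ← e3, e4, show ∀ p q z : A, p * q * z * (p * q)⁻¹ = p * (q * z * q⁻¹) * p⁻¹ from fun _ _ _ => by group,
      e5, h.map_xl E.γ_θ, h.amb.h_conj _ _ ((map_ne_zero P.f).2 hc), E.ip_αθ, zpow_one, map_one, mul_one] at e6
    rw [← h.amb.nd.x_injective _ e6, T.h_one, one_mul] at e4
    rw [← mul_inv_cancel_left y' a]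
    exact mul_mem (mem_sup_left (k' hy')) (mem_sup_right (mem_inf.2 ⟨mul_mem (inv_mem (UU_le_tL X _ hy')) ha,
      (h.eq_iff (cn_N hy') (L_le_N ha)).1 e4.symm⟩))

/-- the centraliser of a long root element -/
theorem cent_x {r : ι} (hr : E.γ r = r) {c : F} (hc : c ≠ 0) (hg : g ∈ tL X)
    (e : g * xl P X r c = xl P X r c * g) :
    ∃ y ∈ tY Φ X r, ∃ z ∈ tL X, z ∈ tC X ∧ g = y * z := by
  obtain ⟨l, hl, e1, h1⟩ := h.cn_conj_x hr hc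
  obtain ⟨y, hy, z, hz, e2⟩ := mem_sup_comm (A := tY Φ X E.θ) (B := tL X ⊓ tC X)
    (fun y hy z hz => mem_centralizer_iff.1 hz.2 y (UU_le_tL X _ hy))
    (h.cn_θ (mul_mem (mul_mem (inv_mem hl) hg) hl) (mem_centralizer_singleton_iff.2 (by
      rw [show l⁻¹ * g * l * xl P X E.θ 1 = l⁻¹ * (g * (l * xl P X E.θ 1 * l⁻¹)) * l by group, e1, e, ← e1]
      group)))
  refine ⟨_, h1 y hy, l * z * l⁻¹, conj_mem_L (L_le_N hl) hz.1, conj_mem_C (L_le_N hl) hz.2, ?_⟩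
  rw [conj_mul, ← e2]
  group

theorem cent_x_Yc {r : ι} (hr : E.γ r = r) {c : F} (hc : c ≠ 0) (hg : g ∈ tL X)
    (e : g * xl P X r c = xl P X r c * g) : g ∈ tYc X r := by
  obtain ⟨y, hy, z, h1, h2, rfl⟩ := h.cent_x hr hc hg e
  exact mul_mem (h.rel.Y_le_Yc hr hy) (mem_inf.2 ⟨h1, centralizer_le (UU_le_tL X _) h2⟩)

theorem cn_pf {M : Subgroup G} (hM : M ≤ ⁅M, M⁆) (h1 : M ≤ tL X) {r : ι} (hr : E.γ r = r) {c : F} (h0 : c ≠ 0)
    (hz : M ≤ centralizer {xl P X r c}) : M ≤ tY Φ X r := by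
  refine hM.trans (commutator_le.2 fun a ha b hb => ?_)
  obtain ⟨y, hy, z, -, h2, rfl⟩ := h.cent_x hr h0 (h1 ha) (mem_centralizer_singleton_iff.1 (hz ha))
  obtain ⟨y', hy', z', h3, h4, rfl⟩ := h.cent_x hr h0 (h1 hb) (mem_centralizer_singleton_iff.1 (hz hb))
  have k1 := mem_centralizer_iff.1 h2 _ (h1 hb)
  have k2 := mem_centralizer_iff.1 h4 _ (UU_le_tL X _ (inv_mem hy))
  rw [commutatorElement_def, mul_assoc y z, ← k1, show y * (y' * z' * z) * (y * z)⁻¹ * (y' * z')⁻¹ =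
    y * y' * (z' * y⁻¹) * z'⁻¹ * y'⁻¹ by group, ← k2, ← mul_assoc, mul_inv_cancel_right]
  exact mul_mem (mul_mem (mul_mem hy hy') (inv_mem hy)) (inv_mem hy')

/-- perfect subgroups of `C(z)` -/
theorem pf_le_Y (hc : ∀ R ≤ tC X, IsPGroup 2 R → IsCyclic R) {M : Subgroup G} (hM : Pf M)
    (h1 : M ≤ tN X) {r : ι} (hr : E.γ r = r) {c : F} (h0 : c ≠ 0)
    (hz : M ≤ centralizer {xl P X r c}) : M ≤ tY Φ X r := h.cn_pf hM.1 (h.pf_le hc hM h1) hr h0 hz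

/-- long root groups are trivial intersection sets -/
theorem norm_of_conj_x (hg : g ∈ tN X) {r r' : ι} (hr : E.γ r = r) (hr' : E.γ r' = r') {c e : F}
    (hc : c ≠ 0) (h1 : g * xl P X r c * g⁻¹ = xl P X r' e) :
    (∀ x ∈ tZ X r, g * x * g⁻¹ ∈ tZ X r') ∧ (∀ x ∈ tQ Φ X r, g * x * g⁻¹ ∈ tQ Φ X r') ∧
      ∀ x ∈ tY Φ X r, g * x * g⁻¹ ∈ tY Φ X r' := by
  have he : e ≠ 0 := fun e0 => hc ((h.xl_eq_one hr).1 (by
    rwa [e0, h.rel.xl_zero, conj_eq_one_iff] at h1))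
  obtain ⟨k1, k2, -⟩ := h.amb.norm_of_conj_x (h.mem_NL hg) ((map_ne_zero P.f).2 hc) (s := r') (e := P.f e) (by
    rw [← h.map_xl hr, ← h.map_xl hr', ← h1]
    exact (h.conj hg (L_le_N (mem_tL X _ _))).symm)
  refine ⟨fun x hx => ?_, fun x hx => ?_, fun x hx => ?_⟩
  · have hL := conj_mem_L hg (UU_le_tL X _ hx)
    obtain ⟨v, e1⟩ := T.mem_X_iff.1 (k1 _ (h.map_mem_UU (by rintro _ rfl; exact hr) hx))
    rw [← h.conj hg (cn_N hx)] at e1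
    have e2 := h.com _ (L_le_N hL)
    rw [e1, ← mul_inv_eq_iff_eq_mul, h.sx, hr'] at e2
    obtain ⟨c', rfl⟩ := (P.fix v).1 (h.amb.nd.x_injective _ e2)
    obtain ⟨c'', rfl⟩ := (h.rel.mem_tZ hr).1 hx
    rw [h.eq_of_sq hL (mem_tL X r' _) (by rw [conj_mul, h.rel.xl_sq, mul_one, mul_inv_cancel]) (h.rel.xl_sq r' c')
      (e1.trans (h.map_xl hr' c').symm)]
    exact mem_UUx X (Set.mem_singleton _) _
  · have p := pg_zpowers (h.pg_Q hr) hx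
    refine (h.mem_Q_iff hr' (conj_mem_L hg (UU_le_tL X _ hx)) (cn_pg p g)).2 ?_
    rw [h.conj hg (cn_N hx)]
    exact k2 _ ((h.mem_Q_iff hr (UU_le_tL X _ hx) p).1 hx)
  · refine h.cn_pf ((h.rel.pf_Y h.tr hr).conj g).1 ?_ hr' he ?_ (smul_mem_pointwise_smul x (MulAut.conj g) _ hx)
    · rintro _ ⟨y, hy, rfl⟩
      exact conj_mem_L hg (UU_le_tL X _ hy)
    · rintro _ ⟨y, hy, rfl⟩
      refine mem_centralizer_singleton_iff.2 ?_
      show g * y * g⁻¹ * _ = _ * (g * y * g⁻¹)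
      rw [← h1, conj_mul, conj_mul, mem_centralizer_iff.1 (h.rel.Y_le_cent hr hy) (xl P X r c)
        (mem_UUx X (Set.mem_singleton _) _)]

theorem norm_of_cent_x (hg : g ∈ tN X) {r : ι} (hr : E.γ r = r) {c : F} (hc : c ≠ 0)
    (h1 : g * xl P X r c = xl P X r c * g) : g ∈ normalizer (tZ X r : Set G) ∧
      g ∈ normalizer (tQ Φ X r : Set G) ∧ g ∈ normalizer (tY Φ X r : Set G) := by
  obtain ⟨k1, k2, k3⟩ := h.norm_of_conj_x hg hr hr hc (mul_inv_eq_iff_eq_mul.2 h1)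
  exact ⟨mem_normalizer_fintype k1, mem_normalizer_fintype k2, mem_normalizer_fintype k3⟩

end Sys

end CfsgLib.SLT
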