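import Mathlib
import Cfsg.Agent.Lib.SLT.Cen
import Cfsg.Agent.Lib.SLE.Vec

/-!
# The long root data
-/

set_option autoImplicit false
set_option linter.unusedSectionVars false

namespace CfsgLib.SLT

open CfsgLib.RGD CfsgLib.Stein CfsgLib.SLE Subgroup
open scoped commutatorElement Pointwise

universe u

variable {ι κ : Type} [Fintype κ] [DecidableEq κ] [Finite ι] {Φ : RootSys ι κ} {E : ER Φ}
  {F K : Type} [Field F] [Finite F] [CharP F 2] [Field K] [Finite K] [CharP K 2] {P : QE F K}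
  {G : Type u} [Group G] [Finite G] {A : Type} [Group A] [Finite A] {T : StSys Φ K A} {s : A}
  {X : ι → K → G} {ρ : G → A} {t : G}

theorem r6_long (k : ZMod 6) : E.γ (r6 E k) = r6 E k := by
  fin_cases k
  exacts [E.γ_α, E.γ_θ, E.γ_β, long_neg.2 E.γ_α, long_neg.2 E.γ_θ, long_neg.2 E.γ_β]

theorem r6_add (k : ZMod 6) : RAdd Φ (r6 E k) (r6 E (k + 2)) (r6 E (k + 1)) := by
  have h : RAdd Φ E.α E.β E.θ := E.hβ
  have h0 : RAdd Φ E.θ (Φ.neg E.α) E.β := h.symm.sub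
  have h1 : RAdd Φ E.β (Φ.neg E.θ) (Φ.neg E.α) := h0.symm.sub
  have h2 : RAdd Φ (Φ.neg E.α) (Φ.neg E.β) (Φ.neg E.θ) := h1.symm.sub
  have h3 : RAdd Φ (Φ.neg E.θ) E.α (Φ.neg E.β) := by
    have := h2.symm.sub
    rwa [Φ.neg_neg] at this
  have h4 : RAdd Φ (Φ.neg E.β) E.θ E.α := by
    have := h3.symm.sub
    rwa [Φ.neg_neg] at this
  fin_cases k
  exacts [h, h0, h1, h2, h3, h4]

theorem r6_ip (k : ZMod 6) : ip Φ (r6 E k) (r6 E (k + 1)) = 1 := (E.radd_ip (r6_add k)).2.1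

theorem lri_ext {f g : ZMod 6 → ι} (hf : ∀ k, RAdd Φ (f k) (f (k + 2)) (f (k + 1)))
    (hg : ∀ k, RAdd Φ (g k) (g (k + 2)) (g (k + 1))) (h0 : f 0 = g 0) (h1 : f 1 = g 1) (k : ZMod 6) :
    f k = g k := by
  have st : ∀ k, f k = g k → f (k + 1) = g (k + 1) → f (k + 2) = g (k + 2) := fun k a b => by
    have := hf k
    rw [a, b] at this
    exact this.unique (hg k)
  have h2 : f 2 = g 2 := st 0 h0 h1
  have h3 : f 3 = g 3 := st 1 h1 h2
  have h4 : f 4 = g 4 := st 2 h2 h3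
  have h5 : f 5 = g 5 := st 3 h3 h4
  fin_cases k
  exacts [h0, h1, h2, h3, h4, h5]

theorem Sys.Yk_eq (h : Sys E P T s X ρ) (k : ZMod 6) :
    HX.Yk (tL X) (a6 E P X) k = tYc X (r6 E k) := by
  rw [HX.Yk, tYc, h.rel.tZ_eq (r6_long k)]
  rfl

open Classical in
/-- the coordinates on `Q / Z` -/
noncomputable def lriV (E : ER Φ) (T : StSys Φ K A) (u : A) (r : ι) : K :=
  if ip Φ r E.θ = 1 then cf T u r else 0

theorem lri_mul (hA : Amb E T) {u v : A} (hu : u ∈ Q T E.θ) (hv : v ∈ Q T E.θ) (r : ι) :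
    lriV E T (u * v) r = lriV E T u r + lriV E T v r := by
  unfold lriV
  split_ifs with h
  exacts [hA.vec_mul hu hv h, (add_zero _).symm]

theorem lri_bf [Fintype ι] (hA : Amb E T) {σ : ι → ι} (hσ : ∀ b, ip Φ b E.θ = 1 → RAdd Φ (σ b) b E.θ) {u v : A}
    (hu : u ∈ Q T E.θ) (hv : v ∈ Q T E.θ) : bf E T u v = ∑ b, lriV E T u (σ b) * lriV E T v b := by
  refine hA.eq_of_add (f := fun v => bf E T u v) (g := fun v => ∑ b, lriV E T u (σ b) * lriV E T v b)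
    (fun v hv w hw => ?_) (fun v hv w hw => ?_) (fun r hr c => ?_) hv
  · rw [hA.bf_comm hu (mul_mem hv hw), hA.bf_mul_left hv hw hu, hA.bf_comm hv hu, hA.bf_comm hw hu]
  · simp only [lri_mul hA hv hw, mul_add, Finset.sum_add_distrib]
  · have hp : Φ.Pos r := E.pos_of_θ hr
    by_cases e : r = E.θ
    · subst e
      rw [hA.vec_bf_zero (mul_inv_eq_iff_eq_mul.1 (hA.vec_cZ (hA.vec_Q_le_Y hu) (T.x_mem_X _ c)))]
      refine (Finset.sum_eq_zero fun b _ => ?_).symm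
      rw [show lriV E T (T.x E.θ c) b = 0 from ite_eq_right_iff.2 fun h2 => hA.cf_x_ne hp (vec_ne h2) c, mul_zero]
    · have h1 := vec_one hr e
      rw [hA.bf_x (hσ r h1) hu, Finset.sum_eq_single r (fun b _ hb => ?_) fun k => absurd (Finset.mem_univ _) k,
        lriV, lriV, if_pos h1, if_pos (E.radd_ip (hσ r h1)).2.1, hA.cf_x_self hp, mul_comm]
      rw [show lriV E T (T.x r c) b = 0 from ite_eq_right_iff.2 fun _ => hA.cf_x_ne hp hb c, mul_zero]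

theorem lri_γ (r : ι) : ip Φ (E.γ r) E.θ = ip Φ r E.θ := ip_γ_long E.γ_θ r

theorem lri_γθ (r : ι) : E.γ r ∈ ({E.θ} : Set ι) ↔ r ∈ ({E.θ} : Set ι) := by
  simp only [Set.mem_singleton_iff]
  exact ⟨fun e => by rw [← E.γ2 r, e, E.γ_θ], fun e => by rw [e, E.γ_θ]⟩

theorem lri_s (h : Tw E P T s) {u : A} (hu : u ∈ Q T E.θ) {r : ι} (hr : ip Φ r E.θ = 1) :
    cf T (s * u * s⁻¹) (E.γ r) = P.τ (cf T u r) := by
  rw [h.amb.cf_std h.amb.lay_Q h.std (fun r => by simp only [Set.mem_ofPred_eq, lri_γ]) lri_γθ hu (vec_ne hr),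
    one_mul]

theorem lri_surj (h : Tw E P T s) {v : ι → K} (hv : ∀ r, v (E.γ r) = P.τ (v r)) :
    ∃ m ∈ tQ Φ (tx E P T) E.θ, ∀ r, ip Φ r E.θ = 1 → cf T m r = v r := by
  have hA := h.amb
  obtain ⟨m, hm, h1⟩ := hA.exists_Q v
  have hm' : s * m * s⁻¹ ∈ Q T E.θ := h.std.conj_mem (fun r hr => by
    rw [Set.mem_ofPred_eq, lri_γ]; exact hr) hm
  obtain ⟨c, hc⟩ := T.mem_X_iff.1 (hA.vec_mem_Z hm' hm fun r hr => by
    have h2 : ip Φ (E.γ r) E.θ = 1 := by rwa [lri_γ]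
    have := lri_s h hm h2
    rwa [E.γ2, h1 _ h2, hv, P.τ2, ← h1 r hr] at this)
  rw [mul_inv_eq_iff_eq_mul] at hc
  have h2 : P.τ c = c := by
    have : s * (s * m * s⁻¹) * s⁻¹ = m := by
      rw [show s * (s * m * s⁻¹) * s⁻¹ = s * s * m * (s * s)⁻¹ by group, h.s2, one_mul, inv_one, mul_one]
    rwa [hc, ← conj_mul, h.sx, E.γ_θ, hc, ← mul_assoc, ← T.x_add, mul_eq_right, hA.x_eq_one,
      CharTwo.add_eq_zero] at this
  have hx : T.x E.θ (P.ω * c) ∈ Q T E.θ := hA.Z_le_Q (T.x_mem_X _ _)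
  refine ⟨T.x E.θ (P.ω * c) * m, (h.fixU cl_Q).le ⟨mul_mem hx hm, mem_centralizer_singleton_iff.2 ?_⟩,
    fun r hr => by rw [hA.vec_mul hx hm hr, hA.cf_x_ne E.pos_θ (vec_ne hr), zero_add, h1 r hr]⟩
  rw [eq_comm, ← mul_inv_eq_iff_eq_mul, ← conj_mul, h.sx, E.γ_θ, hc, ← mul_assoc, ← T.x_add, map_mul, h2]
  congr 2
  linear_combination c * P.hω + (c - P.ω * c) * P.two

namespace Sys

variable (h : Sys E P T s X ρ)
include h

theorem lri_Q {x : G} (hx : x ∈ tQ Φ X E.θ) : ρ x ∈ Q T E.θ := h.map_mem_UU cl_Q.gam hx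

theorem lri_comm {x y : G} (hx : x ∈ tQ Φ X E.θ) (hy : y ∈ tQ Φ X E.θ) :
    x * y * x⁻¹ * y⁻¹ = xl P X E.θ (P.T (P.ω * bf E T (ρ x) (ρ y))) := by
  obtain ⟨c, hc⟩ := (h.rel.mem_tZ E.γ_θ).1 (h.rel.comm_Q h.tr E.γ_θ hx hy)
  have xN := L_le_N (UU_le_tL X _ hx)
  have yN := L_le_N (UU_le_tL X _ hy)
  have := h.amb.comm_Q (h.lri_Q hx) (h.lri_Q hy)
  rw [← h.conj xN yN, ← h.inv yN, ← h.mul _ (mul_mem (mul_mem xN yN) (inv_mem xN)) _ (inv_mem yN), hc,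
    h.map_xl E.γ_θ, ← mul_inv_eq_one, h.amb.x_inv, ← T.x_add, h.amb.x_eq_one, CharTwo.add_eq_zero] at this
  rw [hc, ← this, P.T_ω]

theorem lri_ker {x : G} (hx : x ∈ tQ Φ X E.θ) :
    (∀ r, ip Φ r E.θ = 1 → cf T (ρ x) r = 0) ↔ ∃ c, x = xl P X E.θ c := by
  rw [← h.amb.mem_Z_iff (h.lri_Q hx), ← h.rel.mem_tZ E.γ_θ]
  exact ⟨h.mem_UX_of_U cl_Z (Q_le_U X hx), h.map_mem_UU cl_Z.gam⟩

theorem lri_line {a b : ι} (ha : E.γ a = a) (hb : E.γ b = b) (hk : RAdd Φ b a E.θ) {x : G}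
    (hx : x ∈ tQ Φ X E.θ) : ∃ r, x * xl P X b r ∈ tYc X a := by
  have h1 : xl P X a 1 ∈ tQ Φ X E.θ := mem_UUx X (E.radd_ip hk).2.2.ge _
  obtain ⟨c, hc⟩ := (h.rel.mem_tZ E.γ_θ).1 (h.rel.comm_Q h.tr E.γ_θ hx h1)
  have h2 : x * xl P X E.θ c = xl P X E.θ c * x :=
    (h.rel.Y_le_cent E.γ_θ (Q_le_Y X _ hx) _ ((h.rel.mem_tZ E.γ_θ).2 ⟨c, rfl⟩)).symm
  have h3 : xl P X a 1 * xl P X E.θ c = xl P X E.θ c * xl P X a 1 :=
    h.rel.com_l E.γ_θ (by rw [(E.radd_ip hk).2.2]; decide) _ _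
  refine ⟨c, h.cent_x_Yc ha one_ne_zero (mul_mem (UU_le_tL X _ hx) (mem_tL X _ _)) ?_⟩
  rw [← mul_inv_eq_iff_eq_mul, show ∀ y z : G, x * y * z * (x * y)⁻¹ = x * (y * z * y⁻¹) * x⁻¹ from
    fun y z => by group, h.rel.conj_ll hb ha hk, mul_one, ← conj_mul, mul_inv_eq_iff_eq_mul.1 hc, h2,
    mul_inv_cancel_right, ← h3, mul_assoc, h.rel.xl_sq, mul_one]

theorem lri_braid {r : ι} (hr : E.γ r = r) {c : F} (hc : c ≠ 0) :
    xl P X r c * xl P X (Φ.neg r) c⁻¹ * xl P X r c =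
      xl P X (Φ.neg r) c⁻¹ * xl P X r c * xl P X (Φ.neg r) c⁻¹ := by
  have hr' : E.γ (Φ.neg r) = Φ.neg r := long_neg.2 hr
  have m1 : xl P X r c ∈ tL X := mem_tL X _ _
  have m2 : xl P X (Φ.neg r) c⁻¹ ∈ tL X := mem_tL X _ _
  have s1 := h.rel.xl_sq r c
  have s2 := h.rel.xl_sq (Φ.neg r) c⁻¹
  have hc' : P.f c ≠ 0 := (map_ne_zero _).2 hc
  have e := h.amb.n_conj r r hc' (P.f c)
  rw [(E.rf_self r).1, E.ip_self, StSys.n, CharTwo.neg_eq, show P.f c ^ (-2 : ℤ) * P.f c = (P.f c)⁻¹ by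
    rw [zpow_neg, zpow_two]; field_simp, ← map_inv₀, ← h.map_xl hr, ← h.map_xl hr', mul_inv_eq_iff_eq_mul,
    mul_assoc, ← h.mul _ (L_le_N m1) _ (L_le_N m1), s1, h.one, mul_one] at e
  generalize xl P X r c = x at *
  generalize xl P X (Φ.neg r) c⁻¹ = y at *
  have sq : ∀ {x y : G}, x * x = 1 → y * y = 1 → x * y * x * (x * y * x) = 1 := fun {x y} a b => by
    rw [show x * y * x * (x * y * x) = x * (y * (x * x) * y) * x by group, a, mul_one, b, mul_one, a]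
  refine h.eq_of_sq (mul_mem (mul_mem m1 m2) m1) (mul_mem (mul_mem m2 m1) m2) (sq s1 s2) (sq s2 s1) ?_
  rw [h.mul _ (L_le_N (mul_mem m1 m2)) _ (L_le_N m1), h.mul _ (L_le_N (mul_mem m2 m1)) _ (L_le_N m2),
    h.mul _ (L_le_N m1) _ (L_le_N m2), h.mul _ (L_le_N m2) _ (L_le_N m1), e, mul_assoc, mul_assoc,
    ← h.mul _ (L_le_N m1) _ (L_le_N m1), s1, h.one, mul_one, mul_assoc]

end Sys

theorem Sit.lr (h : Sit E P T s X ρ t) : ∃ (V : Type) (_ : AddCommGroup V) (_ : Module F V)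
    (π : G → V) (f : LinearMap.BilinForm F V),
      LR2 (tL X) (tY Φ X E.θ) (tQ Φ X E.θ) t (xl P X E.θ) π f := by
  classical
  let _ := P.f.toModule
  let _ := Fintype.ofFinite ι
  have hs : ∀ (c : F) (u : K), c • u = P.f c * u := fun _ _ => rfl
  have hA := h.amb
  have R := h.toSys.rel
  let V : Submodule F (ι → K) :=
    { carrier := {φ | (∀ r, ip Φ r E.θ ≠ 1 → φ r = 0) ∧ ∀ r, φ (E.γ r) = P.τ (φ r)}
      add_mem' := fun {a b} ha hb => ⟨fun r hr => by rw [Pi.add_apply, ha.1 r hr, hb.1 r hr, add_zero],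
        fun r => by rw [Pi.add_apply, Pi.add_apply, map_add, ha.2, hb.2]⟩
      zero_mem' := ⟨fun _ _ => rfl, fun _ => (map_zero _).symm⟩
      smul_mem' := fun c a ha => ⟨fun r hr => by rw [Pi.smul_apply, ha.1 r hr, smul_zero],
        fun r => by rw [Pi.smul_apply, Pi.smul_apply, hs, hs, map_mul, P.τf, ha.2]⟩ }
  have QN : ∀ x ∈ tQ Φ X E.θ, x ∈ tN X := fun x hx => L_le_N (UU_le_tL X _ hx)
  have hV : ∀ x ∈ tQ Φ X E.θ, lriV E T (ρ x) ∈ V := fun x hx =>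
    ⟨fun r hr => if_neg hr, fun r => by
      unfold lriV
      rw [lri_γ]
      split_ifs with h1
      · rw [← lri_s h.toTw (h.lri_Q hx) h1, h.com x (QN x hx), mul_inv_cancel_right]
      · exact (map_zero _).symm⟩
  obtain ⟨π, hπ⟩ : ∃ π : G → V, ∀ x ∈ tQ Φ X E.θ, (π x : ι → K) = lriV E T (ρ x) :=
    ⟨fun x => if hx : x ∈ tQ Φ X E.θ then ⟨_, hV x hx⟩ else 0, fun x hx => by simp only [dif_pos hx]⟩
  have hπ' : ∀ x ∈ tQ Φ X E.θ, ∀ r, ip Φ r E.θ = 1 → (π x : ι → K) r = cf T (ρ x) r := fun x hx r hr => by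
    rw [hπ x hx, lriV, if_pos hr]
  have ext : ∀ v w : V, (∀ r, ip Φ r E.θ = 1 → (v : ι → K) r = (w : ι → K) r) → v = w := fun v w e =>
    Subtype.ext (funext fun r => by
      by_cases hr : ip Φ r E.θ = 1
      exacts [e r hr, (v.2.1 r hr).trans (w.2.1 r hr).symm])
  have hσ : ∀ b, ∃ a, ip Φ b E.θ = 1 → RAdd Φ a b E.θ := fun b => by
    by_cases hb : ip Φ b E.θ = 1
    · obtain ⟨a, ha⟩ := E.exists_sub hb
      exact ⟨a, fun _ => ha.symm⟩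
    · exact ⟨b, fun k => absurd k hb⟩
  choose σ hσ using hσ
  let f : LinearMap.BilinForm F V := LinearMap.mk₂ F
    (fun x y => P.T (P.ω * ∑ b, (x : ι → K) (σ b) * (y : ι → K) b))
    (fun x y z => by
      simp only [Submodule.coe_add, Pi.add_apply, add_mul, Finset.sum_add_distrib, mul_add, P.T_add])
    (fun c x y => by
      simp only [Submodule.coe_smul, Pi.smul_apply, hs, mul_assoc, ← Finset.mul_sum, smul_eq_mul]
      rw [mul_left_comm, P.T_mul])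
    (fun x y z => by
      simp only [Submodule.coe_add, Pi.add_apply, mul_add, Finset.sum_add_distrib, P.T_add])
    (fun c x y => by
      simp only [Submodule.coe_smul, Pi.smul_apply, hs, mul_left_comm _ (P.f c), ← Finset.mul_sum, smul_eq_mul]
      rw [P.T_mul])
  have hf : ∀ x y : V, f x y = P.T (P.ω * ∑ b, (x : ι → K) (σ b) * (y : ι → K) b) := fun _ _ => rfl
  have hmul : ∀ x ∈ tQ Φ X E.θ, ∀ y ∈ tQ Φ X E.θ, π (x * y) = π x + π y := fun x hx y hy =>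
    Subtype.ext (funext fun r => by
      rw [Submodule.coe_add, Pi.add_apply, hπ _ (mul_mem hx hy), hπ x hx, hπ y hy, h.mul x (QN x hx) y (QN y hy),
        lri_mul hA (h.lri_Q hx) (h.lri_Q hy)])
  have hker : ∀ x ∈ tQ Φ X E.θ, π x = 0 ↔ ∃ c, x = xl P X E.θ c := fun x hx => by
    rw [← h.lri_ker hx]
    exact ⟨fun e r hr => by rw [← hπ' x hx r hr, e]; rfl, fun e => ext _ _ fun r hr => by
      rw [hπ' x hx r hr, e r hr]; rfl⟩
  have hsurj : ∀ v : V, ∃ x ∈ tQ Φ X E.θ, π x = v := fun v => by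
    obtain ⟨m, hm, h1⟩ := lri_surj h.toTw v.2.2
    obtain ⟨x, hx, rfl⟩ := h.exists_lift hm
    exact ⟨x, hx, ext _ _ fun r hr => by rw [hπ' x hx r hr, h1 r hr]⟩
  have hcomm : ∀ x ∈ tQ Φ X E.θ, ∀ y ∈ tQ Φ X E.θ, x * y * x⁻¹ * y⁻¹ = xl P X E.θ (f (π x) (π y)) :=
    fun x hx y hy => by rw [h.lri_comm hx hy, hf, hπ x hx, hπ y hy, lri_bf hA hσ (h.lri_Q hx) (h.lri_Q hy)]
  have hZ : ∀ c, xl P X E.θ c ∈ tZ X E.θ := fun c => (R.mem_tZ E.γ_θ).2 ⟨c, rfl⟩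
  have hQ : ∀ g, g * t = t * g → (∀ c, g * xl P X E.θ c = xl P X E.θ c * g) →
      g ∈ normalizer (tQ Φ X E.θ : Set G) := fun g e e' =>
    (h.norm_of_cent_x (h.mem_N e) E.γ_θ one_ne_zero (e' 1)).2.1
  refine ⟨V, _, _, π, f, { h.toStd with
    zadd := R.xl_add _
    zinj := fun c => (h.xl_eq_one E.γ_θ).1
    zQ := fun c => Z_le_Q X E _ (hZ c)
    πmul := hmul
    πsurj := hsurj
    πker := hker
    comm := hcomm
    sq := fun x hx => (hker _ (mul_mem hx hx)).1 ?_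
    nd := fun v hv => ?_
    two := P.twoF
    QY := Q_le_Y X _
    YH := UU_le_tL X _
    Yz := fun y hy c => (R.Y_le_cent E.γ_θ hy _ (hZ c)).symm
    YQ := R.Y_norm_Q h.tr E.γ_θ
    dim := fun v => ?_
    zC := fun c => h.xl_mem_C E.γ_θ
    perf := (R.pf_Y h.tr E.γ_θ).1
    qy := R.Q_le_comm h.tr
    cQ := fun g e => h.cen_Q E.γ_θ (h.mem_N e)
    nQ := hQ
    cV := fun g e e' hc => h.cen_V (h.mem_N e) fun x hx => (R.mem_tZ E.γ_θ).2 ?_
    tor := fun l hl => ?_ }⟩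
  · rw [hmul x hx x hx, ← two_smul F, P.twoF, zero_smul]
  · obtain ⟨x, hx, rfl⟩ := hsurj v
    obtain ⟨c, k, hk, e⟩ := h.cen_Q E.γ_θ (QN x hx) fun y hy => by
      have := hcomm x hx y hy
      rw [hv, R.xl_zero, mul_inv_eq_one, mul_inv_eq_iff_eq_mul] at this
      exact this.symm
    have h1 : k ∈ tQ Φ X E.θ := by
      rw [← inv_mul_eq_iff_eq_mul.2 e]
      exact mul_mem (inv_mem (Z_le_Q X E _ (hZ c))) hx
    obtain rfl := h.eq_one (UU_le_tL X _ h1) hk ((h.pg_Q E.γ_θ).to_le (zpowers_le.2 h1))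
    exact (hker x hx).2 ⟨c, e.trans (mul_one _)⟩
  · have pα : Φ.Pos E.α := E.pos_of_θ E.ip_αθ.ge
    have ne : E.α ≠ E.β := fun e => by
      have := E.ip_αβ
      rw [e, E.ip_self] at this
      exact absurd this (by decide)
    have mα : xl P X E.α 1 ∈ tQ Φ X E.θ := mem_UUx X E.ip_αθ.ge _
    have mβ : xl P X E.β 1 ∈ tQ Φ X E.θ := mem_UUx X E.ip_βθ.ge _
    by_cases hv : (v : ι → K) E.α = 0
    · refine ⟨π (xl P X E.α 1), fun c e => ?_⟩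
      have := hπ' _ mα _ E.ip_αθ
      rw [e, h.map_xl E.γ_α, hA.cf_x_self pα, map_one, Submodule.coe_smul, Pi.smul_apply, hv, smul_zero] at this
      exact zero_ne_one this
    · refine ⟨π (xl P X E.β 1), fun c e => ?_⟩
      have h1 := hπ' _ mβ _ E.ip_αθ
      have h2 := hπ' _ mβ _ E.ip_βθ
      rw [e, h.map_xl E.γ_β, hA.cf_x_ne E.pos_β ne, Submodule.coe_smul, Pi.smul_apply, hs, mul_eq_zero,
        or_iff_left hv] at h1
      rw [e, h.map_xl E.γ_β, hA.cf_x_self E.pos_β, map_one, Submodule.coe_smul, Pi.smul_apply, hs, h1,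
        zero_mul] at h2
      exact zero_ne_one h2
  · have h1 := (mem_normalizer_iff.1 (hQ g e e') x).1 hx
    rw [← hker _ (mul_mem h1 (inv_mem hx)), hmul _ h1 _ (inv_mem hx), hc x hx, ← hmul _ hx _ (inv_mem hx),
      mul_inv_cancel, hker _ (one_mem _)]
    exact ⟨0, (R.xl_zero _).symm⟩
  · obtain ⟨a, ha, -, -, h1⟩ := h.exists_hl E.γ_θ hl
    have nQ : a ∈ normalizer (tQ Φ X E.θ : Set G) := h.st_norm h1 _
    refine ⟨a, UU_le_tL X _ ha, h.st_norm h1 _, nQ, fun x hx => ext _ _ fun r hr => ?_, fun c => ?_⟩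
    · have := hA.cf_std hA.lay_Q h1.2 (fun _ => Iff.rfl) (fun _ => Iff.rfl) (h.lri_Q hx) (vec_ne hr)
      rw [hπ' _ ((mem_normalizer_iff.1 nQ x).1 hx) r hr, h.conj h1.1 (QN x hx), Submodule.coe_smul, Pi.smul_apply,
        hπ' x hx r hr, hs]
      rw [ip_comm, hr, zpow_one] at this
      exact this
    · rw [h.st_xl h1 E.γ_θ rfl rfl, E.ip_self, zpow_two]

theorem Sit.a2d (h : Sit E P T s X ρ t) :
    HX.A2D (tL X) (tQ Φ X E.θ) (tR E X) t (a6 E P X) := by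
  have R := h.toSys.rel
  have pα : Φ.Pos E.α := E.pos_of_θ E.ip_αθ.ge
  have c1 : ∀ c e, xl P X E.θ c * xl P X E.β e = xl P X E.β e * xl P X E.θ c := fun c e =>
    R.com_l E.γ_β (by rw [ip_comm, E.ip_βθ]; decide) _ _
  have hi : ∀ c e, xl P X E.θ c * xl P X E.β e = 1 → c = 0 ∧ e = 0 := fun c e k => by
    have hc : c = 0 := by
      by_contra hc
      have h1 := (h.xl_inj E.γ_θ E.γ_β hc ((eq_inv_of_mul_eq_one_left k).trans (R.xl_inv _ _))).1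
      have := E.ip_βθ
      rw [← h1, E.ip_self] at this
      exact absurd this (by decide)
    rw [hc, R.xl_zero, one_mul, h.xl_eq_one E.γ_β] at k
    exact ⟨hc, k⟩
  have mv : ∀ w ∈ WT E Set.univ, ∀ g : ZMod 6 → ZMod 6,
      (∀ k, RAdd Φ (r6 E (g k)) (r6 E (g (k + 2))) (r6 E (g (k + 1)))) → w E.α = r6 E (g 0) →
      w E.θ = r6 E (g 1) → ∃ n ∈ tL X, ∀ k c, n * a6 E P X k c * n⁻¹ = a6 E P X (g k) c :=
    fun w hw g hg h0 h1 => by
      obtain ⟨n, hn, h2, -⟩ := h.exists_exa (fun _ _ => Set.mem_univ _) hw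
      refine ⟨n, hn, fun k c => (h2 _ _).trans ?_⟩
      rw [lri_ext (f := fun k => w (r6 E k)) (fun k => (r6_add k).apply (WT_le _ hw)) hg h0 h1 k]
      rfl
  have Y1 : tY Φ X E.θ ≤ HX.Yk (tL X) (a6 E P X) 1 := (R.Y_le_Yc E.γ_θ).trans (h.Yk_eq 1).ge
  have Y2 : tY Φ X E.β ≤ HX.Yk (tL X) (a6 E P X) 2 := (R.Y_le_Yc E.γ_β).trans (h.Yk_eq 2).ge
  refine { h.toStd with
    two := P.twoF
    mem := fun k c => mem_tL X _ _
    add := fun k => R.xl_add _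
    aa1 := fun k c e => R.com_l (r6_long _) (by rw [r6_ip]; decide) _ _
    aa2 := fun k c e => ?_
    inj := hi
    zC := fun c e k => hi c e (h.eq_one (mul_mem (mem_tL X _ _) (mem_tL X _ _)) k
      (Core.isPGroup_zpowers_iff.2 ⟨1, ?_⟩))
    rot := ?_
    refl := mv _ (rf_mem_WT (Set.mem_univ _) E.γ_α) (fun k => 3 - k) (fun k => ?_) (E.rf_self _).1
      (E.rf_add E.hβ.symm).2
    braid := fun c hc => h.lri_braid E.γ_α hc
    cY := fun l hl c hc e => (h.Yk_eq 1).ge (h.cent_x_Yc E.γ_θ hc hl e)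
    tor := fun l hl => ?_
    QY := (Q_le_Y X _).trans Y1
    a0Q := fun c => mem_UUx X E.ip_αθ.ge _
    a2Q := fun c => mem_UUx X E.ip_βθ.ge _
    Q0 := fun x hx => (h.lri_line E.γ_α E.γ_β E.hβ.symm hx).imp fun _ k => (h.Yk_eq 0).ge k
    Q2 := fun x hx => (h.lri_line E.γ_β E.γ_α E.hβ hx).imp fun _ k => (h.Yk_eq 2).ge k
    cQ := fun g e => h.cen_Q E.γ_θ (h.mem_N e)
    RY := ((R_le_Y2 X).trans (Y2_le_Y X)).trans (inf_le_inf Y1 Y2)
    ER := sup_le ((R.tZ_eq E.γ_θ).ge.trans (UUx_mono X ?_)) ((R.tZ_eq E.γ_β).ge.trans (UUx_mono X ?_))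
    nR := fun c => ⟨R.U_norm h.tr (E.idl_diff E.i₀) cl_R.gam (mem_UUx X pα _),
      R.norm_UU h.tr cl_R.gam cl_R.add (fun b hb e => hb.2 (e.trans (Φ.neg_neg _))) (fun b hb k hk => ?_) _⟩
    cR := fun g e hc => ?_ }
  · have := R.conj_ll (r6_long (k + 2)) (r6_long k) (r6_add k).symm e c
    rwa [R.xl_inv, mul_comm e] at this
  · change (xl P X E.θ c * xl P X E.β e) ^ 2 ^ 1 = 1
    rw [pow_one, pow_two, mul_assoc, ← mul_assoc (xl P X E.β e), ← c1, mul_assoc, R.xl_sq, mul_one, R.xl_sq]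
  · obtain ⟨w, hw, h0, h1⟩ := ptrans_long E.γ_α E.γ_θ E.ip_αθ
    refine mv _ (inv_mem hw) (fun k => k + 1) (fun k => ?_) (Equiv.Perm.inv_eq_iff_eq.2 h0.symm)
      (Equiv.Perm.inv_eq_iff_eq.2 h1.symm)
    have := r6_add (E := E) (k + 1)
    rwa [add_right_comm k 1 2] at this
  · have := (r6_add (E := E) (1 - k)).symm
    rwa [show 1 - k + 2 = 3 - k by ring, show 1 - k + 1 = 3 - (k + 1) by ring,
      show 1 - k = 3 - (k + 2) by ring] at this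
  · obtain ⟨a, ha, -, h0, h1⟩ := h.exists_hl E.γ_θ hl
    refine ⟨a, UU_le_tL X _ ha, h0, fun c => (h.st_xl h1 E.γ_α rfl rfl).trans ?_,
      fun c => (h.st_xl h1 E.γ_β rfl rfl).trans ?_, fun c => (h.st_xl h1 E.γ_θ rfl rfl).trans ?_⟩
    · rw [ip_comm, E.ip_αθ, zpow_one]; rfl
    · rw [ip_comm, E.ip_βθ, zpow_one]; rfl
    · rw [E.ip_self, zpow_two]; rfl
  · rintro _ rfl
    refine ⟨E.pos_θ, fun e => ?_⟩
    have := E.ip_αθ
    rw [← Set.mem_singleton_iff.1 e, E.ip_self] at this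
    exact absurd this (by decide)
  · rintro _ rfl
    refine ⟨E.pos_β, fun e => ?_⟩
    have := E.ip_αβ
    rw [← Set.mem_singleton_iff.1 e, E.ip_self] at this
    exact absurd this (by decide)
  · have h1 := radd_ht hk
    have h2 := Φ.ht_pos hb.1
    have h3 := ht_ne_zero (Φ := Φ) k
    rw [Φ.ht_neg, ER.α, Φ.ht_simple] at h1
    refine ⟨pos_iff_ht.2 (by omega), fun e => ?_⟩
    have := (E.radd_ip hk).2.1
    rw [Set.mem_singleton_iff.1 e, ip_neg_left, E.ip_self] at this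
    exact absurd this (by decide)
  · obtain ⟨c, d, k, hk, e'⟩ := h.cen_R (h.mem_N e) hc
    exact ⟨_, mul_mem (mem_sup_left (Subgroup.subset_closure ⟨c, rfl⟩))
      (mem_sup_right (Subgroup.subset_closure ⟨d, rfl⟩)), k, hk, e'⟩

end CfsgLib.SLT
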