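import Mathlib
import Cfsg.Agent.Lib.SLT.Lri
import Cfsg.Agent.Lib.HX.Hat
import Cfsg.Agent.Lib.SLE.NG

/-!
# The hats of all long root elements
-/

set_option autoImplicit false
set_option linter.unusedSectionVars false

namespace CfsgLib.SLT

open CfsgLib.RGD CfsgLib.Stein CfsgLib.SLE Subgroup
open scoped commutatorElement Pointwise

universe u

variable {ι κ : Type} [Fintype κ] [DecidableEq κ] [Finite ι] {Φ : RootSys ι κ} {E : ER Φ}
  {F K : Type} [Field F] [Finite F] [CharP F 2] [Field K] [Finite K] [CharP K 2] {P : QE F K}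
  {G : Type u} [Group G] [Finite G] {A : Type} [Group A] [Finite A] {T : StSys Φ K A} {s : A}
  {X : ι → K → G} {ρ : G → A} {t : G}

theorem hatl_cent (h : TRel E P X) {l g : G} {r r' : ι} (hr : E.γ r = r) (hr' : E.γ r' = r') (hl : l ∈ tL X)
    (e : ∀ p, l * xl P X r p * l⁻¹ = xl P X r' p) (hg : g ∈ centralizer (tYc X r : Set G)) :
    l * g * l⁻¹ ∈ centralizer (tYc X r' : Set G) := fun x hx => by
  have := hg (l⁻¹ * x * l) (mem_inf.2 ⟨mul_mem (mul_mem (inv_mem hl) hx.1) hl, fun z hz => by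
    obtain ⟨p, rfl⟩ := (h.mem_tZ hr).1 hz
    have := mem_centralizer_iff.1 hx.2 _ ((h.mem_tZ hr').2 ⟨p, rfl⟩)
    rw [← e] at this
    calc _ = l⁻¹ * (l * xl P X r p * l⁻¹ * x) * l := by group
      _ = _ := by rw [this]; group⟩)
  calc _ = l * (l⁻¹ * x * l * g) * l⁻¹ := by group
    _ = _ := by rw [this]; group

/-- `HatL` without the field `com` for orthogonal roots is obtained by transport -/
theorem Sit.hatL (h : Sit E P T s X ρ t) {y₀ : ZMod 6 → F → G} {c : F}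
    (hy : HX.Hats (tL X) t (a6 E P X) y₀ c) : ∃ y, HatL E P T s X ρ t y c := by
  have ex : ∀ w ∈ WT E Set.univ, ∃ n ∈ tL X, ∀ r p, n * xl P X r p * n⁻¹ = xl P X (w r) p := fun w hw => by
    obtain ⟨n, hn, he, -⟩ := h.exists_exa (fun _ _ => Set.mem_univ _) hw
    exact ⟨n, hn, fun r p => he r _⟩
  have k0 : ∀ r, ∃ l ∈ tL X, E.γ r = r → ∀ p, l * xl P X E.θ p * l⁻¹ = xl P X r p := fun r => by
    by_cases hr : E.γ r = r
    · obtain ⟨w, hw, rfl⟩ := trans_long hr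
      obtain ⟨n, hn, he⟩ := ex w hw
      exact ⟨n, hn, fun _ => he _⟩
    · exact ⟨1, one_mem _, fun e => absurd e hr⟩
  choose l hl k0 using k0
  have ct : ∀ {g}, g ∈ tL X → ∀ a b, a * t * a⁻¹ = t * b → g * a * g⁻¹ * t * (g * a * g⁻¹)⁻¹ = t * (g * b * g⁻¹) :=
    fun {g} hg a b e => by
      calc _ = g * (a * (g⁻¹ * t) * g * a⁻¹) * g⁻¹ := by group
        _ = g * t * b * g⁻¹ := by rw [h.comL (inv_mem hg), mul_assoc a, inv_mul_cancel_right, e, ← mul_assoc]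
        _ = _ := by rw [h.comL hg]; group
  obtain ⟨y, hd⟩ : ∃ y : ι → F → G, ∀ r p, y r p = l r * y₀ 1 p * (l r)⁻¹ := ⟨_, fun _ _ => rfl⟩
  have eqv : ∀ g ∈ tL X, ∀ r r', E.γ r = r → E.γ r' = r' → ∀ p p',
      g * xl P X r p * g⁻¹ = xl P X r' p' → g * y r p * g⁻¹ = y r' p' := fun g hg r r' hr hr' p p' e => by
    have := hy.eqv _ (mul_mem (mul_mem (inv_mem (hl r')) hg) (hl r)) 1 1 p p' (by
      rw [← k0 r hr, ← k0 r' hr'] at e
      calc _ = (l r')⁻¹ * (g * (l r * xl P X E.θ p * (l r)⁻¹) * g⁻¹) * l r' := by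
            rw [show a6 E P X 1 p = xl P X E.θ p from rfl]; group
        _ = xl P X E.θ p' := by rw [e]; group)
    rw [hd, hd, ← this]; group
  have y6 : ∀ k p, y (r6 E k) p = y₀ k p := fun k p =>
    (hd _ _).trans (hy.eqv _ (hl _) 1 k p p (k0 _ (r6_long k) p))
  have tr : ∀ a b k, E.γ b = b → E.γ k = k → RAdd Φ a b k → ∃ n ∈ tL X,
      (∀ p, n * a6 E P X 1 p * n⁻¹ = xl P X k p) ∧ (∀ p, n * a6 E P X 2 p * n⁻¹ = xl P X b p) ∧
      (∀ p, n * y₀ 0 p * n⁻¹ = y a p) ∧ (∀ p, n * y₀ 1 p * n⁻¹ = y k p) ∧ ∀ p, n * y₀ 2 p * n⁻¹ = y b p := by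
    intro a b k hb hk e
    obtain ⟨w, hw, rfl, rfl⟩ := ptrans_long hk hb ((ip_comm _ _).trans (E.radd_ip e).2.2)
    obtain rfl : w E.α = a := (E.hβ.apply (WT_le _ hw)).symm.unique e.symm
    obtain ⟨n, hn, he⟩ := ex w hw
    have k : ∀ j p, n * y₀ j p * n⁻¹ = y (w (r6 E j)) p := fun j p => by
      rw [← y6]
      exact eqv n hn _ _ (r6_long j) ((WT_long hw _).2 (r6_long j)) p p (he _ p)
    exact ⟨n, hn, he _, he _, k 0, k 1, k 2⟩
  have Yθ : HX.Yk (tL X) (a6 E P X) 1 = tYc X E.θ := h.Yk_eq 1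
  refine ⟨y, h, hy.two, fun r _ p q => ?_, fun r hr p => ⟨?_, ?_, fun o ho ot od => ?_⟩, eqv,
    fun a b ha hb e p q => ?_, fun a b k ha hb e p q => ?_, fun a b k ha hb e p q => ?_,
    fun r hr g g2 hg p e => ?_⟩
  · rw [hd, hd, hd, hy.add, conj_mul]
  · exact hd r p ▸ hatl_cent h.rel E.γ_θ hr (hl r) (k0 r hr) (Yθ ▸ (hy.mv 1 p).cY)
  · rw [hd, ← k0 r hr]
    exact ct (hl r) _ _ (hy.mv 1 p).pt
  · have c1 : Commute (l r) o := ho _ (hl r)
    exact hd r p ▸ (c1.mul_left ((hy.mv 1 p).co o ho ot od)).mul_left c1.inv_left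
  · obtain ⟨d, e'⟩ := E.exists_sub ((ip_comm _ _).trans e)
    obtain ⟨n, -, -, -, -, k1, k2⟩ := tr d b a hb ha e'.symm
    rw [← k1, ← k2]
    exact (hy.yy1 1 p q).map (MulAut.conj n)
  · obtain ⟨n, -, -, k2, k3, k4, -⟩ := tr a b k hb (long_add e ha hb) e
    rw [← k2, ← k3, ← k4, conj_mul, conj_mul, conj_mul]
    exact congrArg (n * · * n⁻¹) (hy.ya2 0 p q)
  · obtain ⟨n, -, k1, -, k3, k4, k5⟩ := tr a b k hb (long_add e ha hb) e
    rw [← k1, ← k3, ← k4, ← k5, conj_mul, conj_mul, conj_mul, conj_mul]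
    exact congrArg (n * · * n⁻¹) (hy.yy2 0 p q)
  · have k1 : ∀ p, (l r)⁻¹ * xl P X r p * (l r)⁻¹⁻¹ = xl P X E.θ p := fun p => by rw [← k0 r hr]; group
    have k2 := ct (inv_mem (hl r)) _ _ e
    rw [k1] at k2
    have k3 : g = l r * ((l r)⁻¹ * g * (l r)⁻¹⁻¹) * (l r)⁻¹ := by group
    refine (hy.chr 1 _ (by rw [conj_mul, g2]; group)
      (Yθ ▸ hatl_cent h.rel hr E.γ_θ (inv_mem (hl r)) k1 hg) p k2).imp (fun ⟨q, k⟩ => ⟨q, ?_⟩) fun ⟨q, k⟩ => ⟨q, ?_⟩
    · rw [k3, k, hd, ← k0 r hr, conj_mul]; rfl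
    · rw [k3, k, ← k0 r hr, ← conj_mul, h.comL (hl r), mul_inv_cancel_right]; rfl

namespace HatL

variable {y : ι → F → G} {c : F} (h : HatL E P T s X ρ t y c) {r : ι}
include h

theorem y0 (hr : E.γ r = r) : y r 0 = 1 :=
  left_eq_mul.1 ((congrArg _ (add_zero 0).symm).trans (h.add r hr 0 0))

theorem ysq (hr : E.γ r = r) (p : F) : y r p * y r p = 1 := by
  rw [← h.add r hr, P.add_selfF, h.y0 hr]

theorem yinv (hr : E.γ r = r) (p : F) : (y r p)⁻¹ = y r p := inv_eq_of_mul_eq_one_right (h.ysq hr p)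

theorem yt (hr : E.γ r = r) (p : F) : y r p * t * (y r p)⁻¹ = t * xl P X r p := (h.mv r hr p).pt

theorem ty (hr : E.γ r = r) (p : F) : t * y r p * t⁻¹ = y r p * xl P X r p := by
  have e := h.yt hr p
  have c : xl P X r p * y r p = _ := (h.mv r hr p).cY _ (h.rel.Y_le_Yc hr (mem_UUx X (ip_pos r).le _))
  rw [h.yinv hr] at e
  rw [← c, inv_eq_of_mul_eq_one_right h.t2, ← inv_mul_cancel_left t (xl P X r p), ← e,
    inv_eq_of_mul_eq_one_right h.t2, ← mul_assoc, ← mul_assoc, mul_assoc _ (y r p) (y r p), h.ysq hr, mul_one]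

theorem yco (hr : E.γ r = r) (p : F) : HX.CO (tL X) t (y r p) := (h.mv r hr p).co

theorem cY (hr : E.γ r = r) {g : G} (hg : g ∈ tY Φ X r) (p : F) : Commute g (y r p) :=
  (h.mv r hr p).cY g (h.rel.Y_le_Yc hr hg)

theorem cX (hr : E.γ r = r) {a : ι} (ha : 0 ≤ ip Φ a r) (u : K) (p : F) : Commute (X a u) (y r p) :=
  h.cY hr (mem_UUx X ha u) p

/-- an element of `L` commuting with `x_r(p)` commutes with the hats -/
theorem cfix (hr : E.γ r = r) {l : G} (hl : l ∈ tL X) {p : F} (hp : p ≠ 0)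
    (e : Commute l (xl P X r p)) (q : F) : Commute l (y r q) :=
  (h.mv r hr q).cY l (h.cent_x_Yc hr hp hl e)

theorem exa {n : G} (hn : n ∈ tL X) {w : Equiv.Perm ι} (hw : w ∈ WT E Set.univ) (he : tExa X n w)
    (hr : E.γ r = r) (p : F) : n * y r p * n⁻¹ = y (w r) p :=
  h.eqv n hn _ _ hr ((WT_long hw r).2 hr) p p (he r _)

theorem st {g : G} (hg : g ∈ tL X) {d : ι → K} (hd : St T X ρ g d 1) (hr : E.γ r = r) {c₀ : F}
    (h0 : d r = P.f c₀) (p : F) : g * y r p * g⁻¹ = y r (c₀ * p) :=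
  h.eqv g hg _ _ hr hr _ _ (h.st_xl hd hr h0 rfl)

theorem hatl_t (hr : E.γ r = r) (p q : F) :
    xl P X r p * y r q * t * (xl P X r p * y r q)⁻¹ = t * xl P X r q := by
  have c : Commute (xl P X r p) (t * xl P X r q) :=
    Commute.mul_right (h.toSit.comL (mem_tL X r _)) (h.rel.com_l hr (ip_pos r).le _ _)
  calc _ = xl P X r p * (y r q * t * (y r q)⁻¹) * (xl P X r p)⁻¹ := by group
    _ = _ := by rw [h.yt hr, c.eq, mul_inv_cancel_right]

/-- the hat group is `x_r(F) y_r(F)` -/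
theorem xy_inj (hr : E.γ r = r) {p q : F} (e : xl P X r p * y r q = 1) : p = 0 ∧ q = 0 := by
  have k := h.hatl_t hr p q
  rw [e, one_mul, inv_one, mul_one, left_eq_mul, h.xl_eq_one hr] at k
  rw [k, h.y0 hr, mul_one, h.xl_eq_one hr] at e
  exact ⟨e, k⟩

theorem xy_inj2 {r' : ι} (hr : E.γ r = r) (hr' : E.γ r' = r') (hne : r ≠ r') {p q p' q' : F}
    (e : xl P X r p * y r q = xl P X r' p' * y r' q') : p = 0 ∧ q = 0 ∧ p' = 0 ∧ q' = 0 := by
  have k0 : ∀ {p p'}, xl P X r p = xl P X r' p' → p = 0 ∧ p' = 0 := fun {p p'} e => by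
    obtain rfl : p = 0 := by_contra fun hp => hne (h.xl_inj hr hr' hp e).1
    exact ⟨rfl, (h.xl_eq_one hr').1 (e.symm.trans (h.rel.xl_zero r))⟩
  have k := h.hatl_t hr p q
  rw [e, h.hatl_t hr', mul_right_inj] at k
  obtain ⟨rfl, rfl⟩ := k0 k.symm
  rw [h.y0 hr, h.y0 hr', mul_one, mul_one] at e
  exact ⟨(k0 e).1, rfl, (k0 e).2, rfl⟩

theorem ay {a b k : ι} (ha : E.γ a = a) (hb : E.γ b = b) (hk : RAdd Φ a b k) (p q : F) :
    y a p * xl P X b q * y a p = xl P X b q * y k (p * q) := by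
  have c : Commute (xl P X b q) (y k (p * q)) :=
    h.cX (long_add hk ha hb) (by rw [(E.radd_ip hk).2.2]; decide) _ _
  calc _ = y a p * (xl P X b q * y a p * xl P X b q) * (xl P X b q)⁻¹ := by group
    _ = _ := by rw [h.ya a b k ha hb hk, ← mul_assoc, h.ysq ha, one_mul, h.rel.xl_inv, c.eq]

theorem y_mem (hr : E.γ r = r) (p : F) : y r p ∈ tG0 E X y := by
  have _ := h
  exact mem_sup_right (mem_UUx y (Ψ := {r | E.γ r = r}) hr p)

theorem L_le : tL X ≤ tG0 E X y := le_sup_left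

theorem t_norm : t ∈ normalizer (tG0 E X y : Set G) := by
  have : tG0 E X y ≤ (tG0 E X y).comap (MulAut.conj t).toMonoidHom := sup_le (fun l hl => by
    change t * l * t⁻¹ ∈ tG0 E X y
    rw [← h.toSit.comL hl, mul_inv_cancel_right]
    exact h.L_le hl) ((closure_le _).2 (by
      rintro _ ⟨r, hr, p, rfl⟩
      change t * y r p * t⁻¹ ∈ tG0 E X y
      rw [h.ty hr]
      exact mul_mem (h.y_mem hr p) (h.L_le (mem_tL X r _))))
  exact mem_normalizer_fintype fun n hn => this hn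

/-- an involution centralising `G0` does not commute with `t` -/
theorem eq_one_of_cent {z : G} (hz : z ∈ centralizer (tG0 E X y : Set G)) (z2 : z * z = 1)
    (zt : z * t = t * z) : z = 1 := by
  refine (h.toSit.eq_t (centralizer_le h.L_le hz) z2 zt).resolve_right ?_
  rintro rfl
  have e := h.yt E.γ_θ 1
  rw [hz _ (h.y_mem E.γ_θ 1), mul_inv_cancel_right, left_eq_mul, h.xl_eq_one E.γ_θ] at e
  exact one_ne_zero e

theorem odd_W : Odd (Nat.card (centralizer (tG0 E X y : Set G))) :=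
  odd_of_inv h.t2 (Core.normalizer_le_normalizer_centralizer _ h.t_norm) fun _ => h.eq_one_of_cent

end HatL

end CfsgLib.SLT
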