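import Mathlib
import Cfsg.Agent.Lib.SLT.HatL

/-!
# The action of hats on the radicals `Q_e`
-/

set_option autoImplicit false
set_option linter.unusedSectionVars false

namespace CfsgLib.SLT

open CfsgLib.RGD CfsgLib.Stein CfsgLib.SLE Subgroup
open scoped commutatorElement Pointwise

universe u

variable {ι κ : Type} [Fintype κ] [DecidableEq κ] [Finite ι] {Φ : RootSys ι κ} {E : ER Φ}
  {F K : Type} [Field F] [Finite F] [CharP F 2] [Field K] [Finite K] [CharP K 2] {P : QE F K}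
  {G : Type u} [Group G] [Finite G] {A : Type} [Group A] [Finite A] {T : StSys Φ K A} {s : A}
  {X : ι → K → G} {ρ : G → A} {t : G}

variable {y : ι → F → G} {c : F} {W : ι → K → G}

namespace HatL

variable (h : HatL E P T s X ρ t y c) {e : ι} {w w' p p' : G}
include h

theorem act_cx (he : E.γ e = e) {g : G} (hg : g ∈ tY Φ X e) (a : F) : Commute g (xl P X e a) :=
  (h.rel.Y_le_cent he hg _ ((h.rel.mem_tZ he).2 ⟨a, rfl⟩)).symm

theorem act_of_gen (he : E.γ e = e) (H : ∀ d, 1 ≤ ip Φ d e → ∀ u, ∃ a,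
    p * X d u * p⁻¹ * (X d u)⁻¹ = xl P X e a ∧ w * X d u * w⁻¹ * (X d u)⁻¹ = y e a) :
    Act Φ P X y e w p := by
  intro g hg
  induction hg using closure_induction with
  | mem x hx =>
    obtain ⟨d, hd, u, rfl⟩ := hx
    exact H d hd u
  | one => exact ⟨0, by rw [h.rel.xl_zero]; group, by rw [h.y0 he]; group⟩
  | mul g k hg hk ih ih' =>
    obtain ⟨a, e1, e2⟩ := ih
    obtain ⟨b, e3, e4⟩ := ih'
    have c1 := h.act_cx he (Q_le_Y X e hg) b
    have c2 := h.cY he (Q_le_Y X e hg) b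
    refine ⟨a + b, ?_, ?_⟩
    · calc _ = p * g * p⁻¹ * g⁻¹ * (g * (p * k * p⁻¹ * k⁻¹) * g⁻¹) := by group
        _ = _ := by rw [e1, e3, c1.eq, mul_inv_cancel_right, h.rel.xl_add]
    · calc _ = w * g * w⁻¹ * g⁻¹ * (g * (w * k * w⁻¹ * k⁻¹) * g⁻¹) := by group
        _ = _ := by rw [e2, e4, c2.eq, mul_inv_cancel_right, h.add e he]
  | inv g hg ih =>
    obtain ⟨a, e1, e2⟩ := ih
    have c1 := (h.act_cx he (Q_le_Y X e hg) a).inv_left
    have c2 := (h.cY he (Q_le_Y X e hg) a).inv_left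
    refine ⟨a, ?_, ?_⟩
    · calc _ = g⁻¹ * (p * g * p⁻¹ * g⁻¹)⁻¹ * g := by group
        _ = _ := by rw [e1, h.rel.xl_inv, c1.eq, inv_mul_cancel_right]
    · calc _ = g⁻¹ * (w * g * w⁻¹ * g⁻¹)⁻¹ * g := by group
        _ = _ := by rw [e2, h.yinv he, c2.eq, inv_mul_cancel_right]

theorem act_eq (he : E.γ e = e) (a1 : Act Φ P X y e w p) (a2 : Act Φ P X y e w' p) :
    w⁻¹ * w' ∈ centralizer (tQ Φ X e : Set G) := fun g hg => by
  obtain ⟨a, e1, e2⟩ := a1 g hg
  obtain ⟨b, e3, e4⟩ := a2 g hg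
  have k : a = b := by
    have := (h.xl_eq_one he).1 (show xl P X e (a + b) = 1 by
      rw [h.rel.xl_add, ← e1, e3, h.rel.xl_sq])
    rw [← add_zero a, ← P.add_selfF b, ← add_assoc, this, zero_add]
  rw [k, ← e4, mul_left_inj] at e2
  calc _ = w⁻¹ * (w * g * w⁻¹) * w' := by group
    _ = _ := by rw [e2]; group

theorem act_y (he : E.γ e = e) {r : ι} (hr : E.γ r = r) (h1 : ip Φ r e = 1) (q : F) :
    Act Φ P X y e (y r q) (xl P X r q) := by
  refine h.act_of_gen he fun d hd u => ?_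
  by_cases h0 : 0 ≤ ip Φ d r
  · refine ⟨0, ?_, ?_⟩
    · rw [h.rel.xl_zero, xl, ← h.rel.com_l hr h0]; group
    · rw [h.y0 he, ← (h.cX hr h0 u q).eq]; group
  have h2 : ip Φ r d = -1 := by
    rcases E.ip_cases r d with k | k | k | k | k
    · rw [ip_comm] at h0; omega
    · rw [ip_comm] at h0; omega
    · rw [ip_comm] at h0; omega
    · exact k
    · rw [k.1, ip_neg_left] at hd; omega
  obtain ⟨k, hk⟩ := E.exists_add h2
  obtain rfl : e = k := E.eq_of_ip (by rw [hk.ip_left]; omega)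
  have ld : E.γ d = d := by
    have := E.γa _ _ _ hk
    rw [hr, he] at this
    exact this.unique hk
  rw [h.rel.lng ld]
  refine ⟨q * P.T u, h.rel.ll _ _ _ hr ld hk _ _, ?_⟩
  rw [h.yinv hr, h.ay hr ld hk, xl, (h.cX he (by omega) _ _).eq, mul_inv_cancel_right]

theorem act_mul (he : E.γ e = e) (h1 : Act Φ P X y e w p) (h2 : Act Φ P X y e w' p')
    (hw : ∀ a, Commute w (y e a)) (hp : p ∈ tY Φ X e) : Act Φ P X y e (w * w') (p * p') := fun g hg => by
  obtain ⟨a, e1, e2⟩ := h1 g hg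
  obtain ⟨b, e3, e4⟩ := h2 g hg
  refine ⟨b + a, ?_, ?_⟩
  · calc _ = p * (p' * g * p'⁻¹ * g⁻¹) * p⁻¹ * (p * g * p⁻¹ * g⁻¹) := by group
      _ = _ := by rw [e1, e3, (h.act_cx he hp b).eq, mul_inv_cancel_right, h.rel.xl_add]
  · calc _ = w * (w' * g * w'⁻¹ * g⁻¹) * w⁻¹ * (w * g * w⁻¹ * g⁻¹) := by group
      _ = _ := by rw [e2, e4, (hw b).eq, mul_inv_cancel_right, h.add e he]

theorem act_conj (he : E.γ e = e) (h1 : Act Φ P X y e w p) {l : G} (hl : l ∈ tY Φ X e) :
    Act Φ P X y e (l * w * l⁻¹) (l * p * l⁻¹) := fun g hg => by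
  obtain ⟨a, e1, e2⟩ := h1 _ (Tech.conj_mem_of_mem_normalizer' (h.rel.Y_norm_Q h.tr he hl) hg)
  refine ⟨a, ?_, ?_⟩
  · calc _ = l * (p * (l⁻¹ * g * l) * p⁻¹ * (l⁻¹ * g * l)⁻¹) * l⁻¹ := by group
      _ = _ := by rw [e1, (h.act_cx he hl a).eq, mul_inv_cancel_right]
  · calc _ = l * (w * (l⁻¹ * g * l) * w⁻¹ * (l⁻¹ * g * l)⁻¹) * l⁻¹ := by group
      _ = _ := by rw [e2, (h.cY he hl a).eq, mul_inv_cancel_right]

/-- an involution is determined by its action on `t` and on two radicals -/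
theorem uniq_act {e' : ι} (he : E.γ e = e) (he' : E.γ e' = e') (hne : e ≠ e') (w2 : w * w = 1)
    (w2' : w' * w' = 1) (co : HX.CO (tL X) t w) (hp : p ∈ tL X) (p1 : p ≠ 1)
    (wt : w * t * w⁻¹ = t * p) (wt' : w' * t * w'⁻¹ = t * p) (a1 : Act Φ P X y e w p)
    (a2 : Act Φ P X y e w' p) (a3 : Act Φ P X y e' w p) (a4 : Act Φ P X y e' w' p) : w = w' := by
  have vt : w⁻¹ * w' * t = t * (w⁻¹ * w') := by
    calc _ = w⁻¹ * (w' * t * w'⁻¹) * w' := by group
      _ = _ := by rw [wt', ← wt]; group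
  have vN := h.mem_N vt
  obtain ⟨a, k, hk, e1⟩ := h.cen_Q he vN (h.act_eq he a1 a2)
  obtain ⟨b, k', hk', e2⟩ := h.cen_Q he' vN (h.act_eq he' a3 a4)
  have m : ∀ r a, xl P X r a ∈ tL X := fun r a => mem_tL X _ _
  have e3 : xl P X e a = xl P X e' b := by
    refine h.eq_of_sq (m _ _) (m _ _) (h.rel.xl_sq _ _) (h.rel.xl_sq _ _)
      ((h.eq_iff (L_le_N (m _ _)) (L_le_N (m _ _))).2 ?_)
    have : (xl P X e a)⁻¹ * xl P X e' b = k * k'⁻¹ := by
      rw [inv_mul_eq_iff_eq_mul, ← mul_assoc, ← e1, e2, mul_inv_cancel_right]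
    rw [this]
    exact mul_mem hk (inv_mem hk')
  have a0 : a = 0 := by_contra fun a0 => hne (h.xl_inj he he' a0 e3).1
  rw [a0, h.rel.xl_zero, one_mul] at e1
  rw [e1] at vt
  obtain ⟨o, ho, ot, od, eo⟩ := h.two.dec hk vt
  have wo : Commute w o := co o ho ot od
  have oo : ∀ {x : G}, x * x = 1 → x = (o * o)⁻¹ → x = 1 := fun {x} x2 ex => by
    have k1 : Odd (orderOf x) := by
      rw [ex, orderOf_inv, ← pow_two]
      exact od.of_dvd_nat (orderOf_pow_dvd 2)
    rw [← StdInt.odd_pow_sq x2 k1, pow_orderOf_eq_one]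
  rw [inv_mul_eq_iff_eq_mul] at e1
  rcases eo with rfl | rfl
  · rw [e1, wo.symm.mul_mul_mul_comm, w2, one_mul] at w2'
    have : k = 1 := by rw [← StdInt.odd_pow_sq w2' od, pow_orderOf_eq_one]
    rw [e1, this, mul_one]
  · have pt : p * t = t * p := h.comL hp
    have p2 : p * p = 1 := by
      have : t * p * (t * p) = 1 := by rw [← wt, conj_mul, h.t2, mul_one, mul_inv_cancel]
      rwa [mul_assoc, ← mul_assoc p, pt, ← mul_assoc, ← mul_assoc, h.t2, one_mul] at this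
    refine absurd (oo p2 (eq_inv_of_mul_eq_one_left ?_)) p1
    have wi : w⁻¹ = w := inv_eq_of_mul_eq_one_right w2
    calc p * (o * o) = t * p * t * (o * o) := by rw [mul_assoc t, pt, ← mul_assoc t, h.t2, one_mul]
      _ = w * t * w * (t * o) * o := by rw [← wt, wi]; group
      _ = w * t * (w * o) * t * o := by rw [← ot]; group
      _ = w' * w' := by rw [wo.eq, e1]; group
      _ = 1 := w2'

theorem comy {a b : ι} (ha : E.γ a = a) (hb : E.γ b = b) (h0 : 0 ≤ ip Φ a b) (p q : F) :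
    Commute (y a p) (y b q) := by
  rcases E.ip_cases a b with k | k | k | k | k
  · rw [k.1, Commute, SemiconjBy, ← h.add a ha, ← h.add a ha, add_comm]
  · exact h.com1 a b ha hb k p q
  · by_cases p0 : p = 0
    · rw [p0, h.y0 ha]; exact Commute.one_left _
    obtain ⟨e, e', hne, he, he', k1, k2, k3, k4⟩ := h.tr.epsL a b ha hb k
    have cx : Commute (xl P X a p) (xl P X b q) := h.rel.com_l hb h0 _ _
    have ex : xl P X b q * xl P X a p * xl P X b q = xl P X a p := by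
      rw [← cx.eq, mul_assoc, h.rel.xl_sq, mul_one]
    have ac : ∀ e, E.γ e = e → ip Φ e a = 1 → ip Φ e b = 1 → Act Φ P X y e (y a p) (xl P X a p) ∧
        Act Φ P X y e (y b q * y a p * y b q) (xl P X a p) := fun e he k1 k2 => by
      rw [ip_comm] at k1 k2
      have s1 := h.act_y he ha k1 p
      have s2 := h.act_y he hb k2 q
      have m1 : xl P X a p ∈ tY Φ X e := mem_UUx X (show 0 ≤ ip Φ a e by omega) _
      have m2 : xl P X b q ∈ tY Φ X e := mem_UUx X (show 0 ≤ ip Φ b e by omega) _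
      refine ⟨s1, ?_⟩
      rw [← ex]
      exact h.act_mul he (h.act_mul he s2 s1 (h.com1 b e hb he k2 q) m2) s2
        (fun r => (h.com1 b e hb he k2 q r).mul_left (h.com1 a e ha he k1 p r)) (mul_mem m2 m1)
    have c1 : Commute (xl P X b q) (y a p) := h.cX ha (by rwa [ip_comm]) _ _
    have c2 : Commute (xl P X a p) (y b q) := h.cX hb h0 _ _
    have c3 : Commute (xl P X b q) (y b q) := h.cX hb (by rw [E.ip_self]; omega) _ _
    have key := h.uniq_act he he' hne (h.ysq ha p) (w' := y b q * y a p * y b q) (p := xl P X a p) (by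
      calc _ = y b q * (y a p * (y b q * y b q) * y a p) * y b q := by group
        _ = 1 := by rw [h.ysq hb, mul_one, h.ysq ha, mul_one, h.ysq hb]) (h.yco ha p) (mem_tL X _ _)
      (mt (h.xl_eq_one ha).1 p0) (h.yt ha p) (by
        calc _ = y b q * (y a p * (y b q * t * (y b q)⁻¹) * (y a p)⁻¹) * (y b q)⁻¹ := by group
          _ = y b q * ((y a p * t * (y a p)⁻¹) * (y a p * xl P X b q * (y a p)⁻¹)) * (y b q)⁻¹ := by
            rw [h.yt hb]; group
          _ = (y b q * t * (y b q)⁻¹) * (y b q * (xl P X a p * xl P X b q) * (y b q)⁻¹) := by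
            rw [h.yt ha, ← c1.eq, mul_inv_cancel_right]; group
          _ = _ := by
            rw [h.yt hb, ← (c2.mul_left c3).eq, mul_inv_cancel_right, mul_assoc, ← mul_assoc (xl P X b q), ex])
      (ac e he k1 k2).1 (ac e he k1 k2).2 (ac e' he' k3 k4).1 (ac e' he' k3 k4).2
    rw [Commute, SemiconjBy]
    calc _ = y b q * y a p * y b q * y b q := by rw [← key]
      _ = _ := by rw [mul_assoc, h.ysq hb, mul_one]
  · omega
  · omega

end HatL

end CfsgLib.SLT
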