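import Mathlib
import Cfsg.Agent.Lib.SLT.Defs
import Cfsg.Agent.Lib.SLE.MDefs
import Cfsg.Agent.Lib.Twist.E6

/-!
# The model: definitions
-/

set_option autoImplicit false
set_option linter.unusedSectionVars false

namespace CfsgLib.SLT

open CfsgLib.RGD CfsgLib.Stein CfsgLib.SLE Subgroup
open scoped commutatorElement Pointwise

universe u


open Cfsg.Lie CfsgLib.Weyl CfsgLib.Chev

variable {E : ER (rootSys rtOKE6)} {F K : Type} [Field F] [Finite F] [CharP F 2] [Field K] [Finite K]
  [CharP K 2] {P : QE F K} {T : StSys (rootSys rtOKE6) K (MulAut (chevE6.group K))}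
  {s : MulAut (chevE6.group K)}

/-- the automorphism group of `E₆(K)` as the ambient group -/
structure ModT (E : ER (rootSys rtOKE6)) (P : QE F K)
    (T : StSys (rootSys rtOKE6) K (MulAut (chevE6.group K))) (s : MulAut (chevE6.group K)) : Prop
    extends Tw E P T s where
  mod : Mod chevE6 rtOKE6 E
  x : ∀ r c, T.x r c = MulAut.conj (xG chevE6 K r c)

end CfsgLib.SLT
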