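import Mathlib
import Cfsg.Agent.Lib.SLT.Defs
import Cfsg.Agent.Lib.SLE.Root
import Cfsg.Agent.Lib.SLE.Dce

/-!
# The roots of `E₆`
-/

set_option autoImplicit false
set_option linter.unusedSectionVars false
set_option warn.classDefReducibility false

namespace CfsgLib.SLT

open CfsgLib.RGD CfsgLib.Stein CfsgLib.SLE Subgroup
open scoped commutatorElement Pointwise

universe u


open Cfsg.Lie CfsgLib.Weyl CfsgLib.Chev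

variable {E : ER (rootSys rtOKE6)}

attribute [local instance high] decAll decEx

namespace RootX

/-- the numerical form of `TR` -/
structure NTR (N n : ℕ) (f : ℕ → ℕ → ℤ) (S : ℕ → ℕ) (θ β : ℕ) (g : ℕ → ℕ) : Prop where
  ne : ∃ r < N, g r ≠ r
  mm : ∀ a < N, g a ≠ a → ∀ b < N, g b ≠ b → f a b = -1 → 0 ≤ f a (g b)
  smβ : ∀ i < n, g (S i) ≠ S i → f (S i) β = 0
  tdec1 : ∀ d < N, 0 ≤ f d θ → ∃ a < N, f a d = 1 ∧ 0 ≤ f a θ ∧ ∃ b < N, NAdd f a b d ∧ 0 ≤ f b θ ∧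
    ((g a = a ∧ g b = b) ∨ 0 ≤ f a (g b))
  tdec2 : ∀ d < N, 0 ≤ f d θ → 0 ≤ f d β → ∃ a < N, f a d = 1 ∧ 0 ≤ f a θ ∧ 0 ≤ f a β ∧
    ∃ b < N, NAdd f a b d ∧ 0 ≤ f b θ ∧ 0 ≤ f b β ∧ ((g a = a ∧ g b = b) ∨ 0 ≤ f a (g b))
  tdecQ : ∀ d < N, 1 ≤ f d θ → ∃ a < N, f a d = 1 ∧ 1 ≤ f a θ ∧ ∃ b < N, NAdd f a b d ∧ 0 ≤ f b θ ∧
    ((g a = a ∧ g b = b) ∨ 0 ≤ f a (g b))
  ex2L : ∃ a < N, g a = a ∧ f a β = 1 ∧ f a θ = 1
  epsL : ∀ a < N, g a = a → ∀ b < N, f a b = 0 → g b = b → ∃ e < N, f e a = 1 ∧ f e b = 1 ∧ g e = e ∧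
    ∃ e' < N, f e' a = 1 ∧ f e' b = 1 ∧ g e' = e' ∧ e ≠ e'
  sl0 : ∀ b < N, g b ≠ b → ∃ r < N, g r = r ∧ f r b = 1
  sl2 : ∀ r < N, g r = r → ∀ b < N, f r b = 1 → g b ≠ b → ∃ e < N, f e b = 1 ∧ f e r = 1 ∧ g e = e
  sl4 : ∀ d < N, g d = d → ∀ b < N, f d b = 0 → g b ≠ b → ∃ r < N, f r b = 1 ∧ f r d = 0 ∧ g r = r
  ss1 : ∀ a < N, g a ≠ a → ∀ b < N, 0 ≤ f a b → g b ≠ b → 0 ≤ f a (g b) →
    a = b ∨ a = g b ∨ ∃ r < N, f r b = 1 ∧ f r a = 0 ∧ g r = r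
  ss2 : ∀ a < N, g a ≠ a → ∀ b < N, f a b = -1 → g b ≠ b → ∀ k < N, f a k = 1 → f b k = 1 → g k ≠ k →
    ∃ e < N, f e b = 1 ∧ f e k = 1 ∧ g e = e ∧ ∃ e' < N, f e' b = 1 ∧ f e' k = 1 ∧ g e' = e' ∧ e ≠ e'
  opp : ∀ a < N, g a ≠ a → ∃ c < N, f c (N - 1 - g a) = 1 ∧ f a c = 0
  lsV : ∀ a < N, f a θ = 1 → g a ≠ a → ∃ r < N, f r a = 1 ∧ g r = r ∧ ∃ d < N, NAdd f r d a ∧ f d θ = 0 ∧ f d β = 0
  pos1L : ∀ r < N, g r = r → N ≤ 2 * r → ∃ s < N, f r s = 1 ∧ N ≤ 2 * s ∧ g s = s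
  posS : ∀ a < N, N ≤ 2 * a → g a ≠ a → ∃ r < N, N ≤ 2 * r ∧ f a r = 1 ∧ g r = r ∧
    ∃ s < N, N ≤ 2 * s ∧ f r s = 1 ∧ 0 ≤ f a s ∧ g s = s
  sepT : ∀ i < n, ∀ j < n, S j ≠ S i → S j ≠ g (S i) →
    ∃ d < N, f d (S j) = 0 ∧ (f d (S i) = 1 ∨ f d (S i) = 2) ∧ g d = d
  two_orb : ∀ i < n, ∀ j < n, ∀ k < n, (g (S i) = S i ↔ g (S j) = S j) → (g (S j) = S j ↔ g (S k) = S k) →
    S j = S i ∨ S j = g (S i) ∨ S k = S i ∨ S k = g (S i) ∨ S k = S j ∨ S k = g (S j)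

set_option synthInstance.maxSize 4000

theorem ntr6 : NTR 72 6 (fN 72 tI6) (actT tSE6 0) 71 70 rhoE6 := by
  constructor <;> decide +kernel


/-- the numerical form of `TCert` -/
structure NTC (N n : ℕ) (f : ℕ → ℕ → ℤ) (S : ℕ → ℕ) (θ α : ℕ) (g : ℕ → ℕ) (B : List ℕ) (I : ℕ) :
    Prop where
  fix : ∀ b ∈ B, g b = b
  nd : B.Nodup
  ne : B ≠ []
  ort : ∀ b ∈ B, ∀ b' ∈ B, b ≠ b' → f b b' = 0
  one : ∀ b ∈ B, f b θ = 1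
  α0 : ∀ b ∈ B, f α b = 0
  dom : ∀ i < n, 0 ≤ grN f B (S i)
  ab : ∀ r < N, 2 ≤ grN f B r → ∀ s < N, 2 ≤ grN f B s → 0 ≤ f r s
  idl : ∀ r < N, I.testBit r = true → N ≤ 2 * r ∧ (∀ b ∈ B, 0 ≤ f r b) ∧ I.testBit (g r) = true ∧
    ∀ k < N, r < k → f r k = 1 → I.testBit k = true
  gen : ∀ i < n, ∃ a < N, I.testBit a = true ∧ f (S i) a = -1
  el : ∀ r < N, N ≤ 2 * r → grN f B r < 2 → ∃ a < N, N ≤ 2 * a ∧ f r a = -1 ∧ ∀ b ∈ B, 0 ≤ f a b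
  sv : ∀ r < N, 2 ≤ grN f B r → r ∈ B ∨ r = θ ∨ ∃ a < N, N ≤ 2 * a ∧ f r a = -1 ∧ ∀ b ∈ B, 0 ≤ f a b
  lb : N / 2 + 3 ≤ 2 * ((List.range N).filter fun a => decide (N ≤ 2 * a ∧ ∀ b ∈ B, 0 ≤ f a b)).length

theorem ntc2 : NTC 72 6 (fN 72 tI6) (actT tSE6 0) 71 (actT tSE6 0 1) rhoE6 [65, 69]
    0xfffff2225000000000 := by
  constructor <;> decide +kernel

theorem ntc3 : NTC 72 6 (fN 72 tI6) (actT tSE6 0) 71 (actT tSE6 0 1) rhoE6 [53, 65, 69]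
    0xff00e0000000000000 := by
  constructor <;> decide +kernel

variable {D : ChevalleyDatum} {h : RtOK D} {f : ℕ → ℕ → ℤ} {S : ℕ → ℕ} {g : ℕ → ℕ}

theorem tr_of (T : Tab h f S) (E : ER (rootSys h)) (hγ : ∀ r, (E.γ r : ℕ) = g r)
    (H : NTR D.nroots D.rank f S E.θ E.β g) : TR E := by
  have e1 : ∀ r : Fin D.nroots, E.γ r = r ↔ g r = r := fun r => by rw [Fin.ext_iff, hγ]
  have e2 : ∀ r : Fin D.nroots, E.γ r ≠ r ↔ g r ≠ r := fun r => by rw [ne_eq, e1]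
  have e3 : ∀ a b : Fin D.nroots, Dec E a b ↔ (g a = a ∧ g b = b) ∨ 0 ≤ f a (g b) := fun a b => by
    rw [Dec, e1, e1, T.ip, hγ]
  refine ⟨fun e => ?_, fun a b h1 h2 h3 => ?_, fun i h1 => ?_, fun d h1 => ?_, fun d h1 h2 => ?_,
    fun d h1 => ?_, ?_, fun a b h1 h2 h3 => ?_, fun b h1 => ?_, fun r b h1 h2 h3 => ?_,
    fun d b h1 h2 h3 => ?_, fun a b h1 h2 h3 h4 => ?_, fun a b k h1 h2 h3 h4 => ?_, fun a h1 => ?_,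
    fun a h1 h2 => ?_, fun r h1 h2 => ?_, fun a h1 h2 => ?_, fun i j h1 h2 => ?_,
    fun i j k h1 h2 => ?_⟩
  · obtain ⟨r, hr, k⟩ := H.ne
    exact k ((e1 ⟨r, hr⟩).1 (by rw [e]; rfl))
  · rw [T.ip, hγ]
    exact H.mm a a.2 ((e2 a).1 h1) b b.2 ((e2 b).1 h2) (by rwa [← T.ip])
  · rw [T.ip, T.simple]
    exact H.smβ i i.2 (by rwa [e2, T.simple] at h1)
  · obtain ⟨a, ha, -, k1, b, hb, k2, k3, k4⟩ := H.tdec1 d d.2 (by rwa [← T.ip])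
    exact ⟨⟨a, ha⟩, ⟨b, hb⟩, by rwa [T.ip], by rwa [T.ip], (T.radd _ _ _).2 k2, (e3 _ _).2 k4⟩
  · obtain ⟨a, ha, -, k1, k1', b, hb, k2, k3, k3', k4⟩ := H.tdec2 d d.2 (by rwa [← T.ip]) (by rwa [← T.ip])
    exact ⟨⟨a, ha⟩, ⟨b, hb⟩, by rwa [T.ip], by rwa [T.ip], by rwa [T.ip], by rwa [T.ip],
      (T.radd _ _ _).2 k2, (e3 _ _).2 k4⟩
  · obtain ⟨a, ha, -, k1, b, hb, k2, k3, k4⟩ := H.tdecQ d d.2 (by rwa [← T.ip])
    exact ⟨⟨a, ha⟩, ⟨b, hb⟩, by rwa [T.ip], by rwa [T.ip], (T.radd _ _ _).2 k2, (e3 _ _).2 k4⟩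
  · obtain ⟨a, ha, k1, k2, k3⟩ := H.ex2L
    exact ⟨⟨a, ha⟩, (e1 _).2 k1, by rwa [T.ip], by rwa [T.ip]⟩
  · obtain ⟨e, he, k1, k2, k3, e', he', k4, k5, k6, k7⟩ :=
      H.epsL a a.2 ((e1 a).1 h1) b b.2 (by rwa [← T.ip]) ((e1 b).1 h2)
    exact ⟨⟨e, he⟩, ⟨e', he'⟩, fun k => k7 (congrArg Fin.val k), (e1 _).2 k3, (e1 _).2 k6,
      by rwa [T.ip], by rwa [T.ip], by rwa [T.ip], by rwa [T.ip]⟩
  · obtain ⟨r, hr, k1, k2⟩ := H.sl0 b b.2 ((e2 b).1 h1)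
    exact ⟨⟨r, hr⟩, (e1 _).2 k1, by rwa [T.ip]⟩
  · obtain ⟨e, he, k1, k2, k3⟩ := H.sl2 r r.2 ((e1 r).1 h1) b b.2 (by rwa [← T.ip]) ((e2 b).1 h2)
    exact ⟨⟨e, he⟩, (e1 _).2 k3, by rwa [T.ip], by rwa [T.ip]⟩
  · obtain ⟨e, he, k1, k2, k3⟩ := H.sl4 d d.2 ((e1 d).1 h1) b b.2 (by rwa [← T.ip]) ((e2 b).1 h2)
    exact ⟨⟨e, he⟩, (e1 _).2 k3, by rwa [T.ip], by rwa [T.ip]⟩
  · rcases H.ss1 a a.2 ((e2 a).1 h1) b b.2 (by rwa [← T.ip]) ((e2 b).1 h2)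
      (by rwa [T.ip, hγ] at h4) with k | k | ⟨r, hr, k1, k2, k3⟩
    · exact .inl (Fin.ext k)
    · exact .inr (.inl (Fin.ext (k.trans (hγ b).symm)))
    · exact .inr (.inr ⟨⟨r, hr⟩, (e1 _).2 k3, by rwa [T.ip], by rwa [T.ip]⟩)
  · obtain ⟨m1, m2, m3⟩ := (T.radd _ _ _).1 h4
    obtain ⟨e, he, k1, k2, k3, e', he', k4, k5, k6, k7⟩ :=
      H.ss2 a a.2 ((e2 a).1 h1) b b.2 m1 ((e2 b).1 h2) k k.2 m2 m3 ((e2 k).1 h3)
    exact ⟨⟨e, he⟩, ⟨e', he'⟩, fun k => k7 (congrArg Fin.val k), (e1 _).2 k3, (e1 _).2 k6,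
      by rwa [T.ip], by rwa [T.ip], by rwa [T.ip], by rwa [T.ip]⟩
  · obtain ⟨c, hc, k1, k2⟩ := H.opp a a.2 ((e2 a).1 h1)
    exact ⟨⟨c, hc⟩, by rwa [T.ip, neg_val, hγ], by rwa [T.ip]⟩
  · obtain ⟨r, hr, -, k1, d, hd, k2, k3, k4⟩ := H.lsV a a.2 (by rwa [← T.ip]) ((e2 a).1 h1)
    exact ⟨⟨r, hr⟩, ⟨d, hd⟩, (e1 _).2 k1, (T.radd _ _ _).2 k2, by rwa [T.ip], by rwa [T.ip]⟩
  · obtain ⟨s, hs, k1, k2, k3⟩ := H.pos1L r r.2 ((e1 r).1 h1) ((pos_val r).1 h2)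
    exact ⟨⟨s, hs⟩, (e1 _).2 k3, (pos_val _).2 k2, by rwa [T.ip]⟩
  · obtain ⟨r, hr, k1, k2, k3, s, hs, k4, k5, k6, k7⟩ := H.posS a a.2 ((pos_val a).1 h2) ((e2 a).1 h1)
    exact ⟨⟨r, hr⟩, ⟨s, hs⟩, (e1 _).2 k3, (e1 _).2 k7, (pos_val _).2 k1, (pos_val _).2 k4,
      by rwa [T.ip], by rwa [T.ip], by rwa [T.ip]⟩
  · obtain ⟨d, hd, k1, k2, k3⟩ := H.sepT i i.2 j j.2
      (by rwa [ne_eq, Fin.ext_iff, T.simple, T.simple] at h1)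
      (by rwa [ne_eq, Fin.ext_iff, hγ, T.simple, T.simple] at h2)
    exact ⟨⟨d, hd⟩, (e1 _).2 k3, by rwa [T.ip, T.simple], by rwa [T.ip, T.simple]⟩
  · simp only [Fin.ext_iff, hγ, T.simple] at h1 h2 ⊢
    exact H.two_orb i i.2 j j.2 k k.2 h1 h2

theorem tcert_of (T : Tab h f S) (E : ER (rootSys h)) (hγ : ∀ r, (E.γ r : ℕ) = g r)
    {B : List (Fin D.nroots)} {I : ℕ} (H : NTC D.nroots D.rank f S E.θ E.α g (B.map (↑)) I) :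
    TCert E B := by
  have hm : ∀ r : Fin D.nroots, (r : ℕ) ∈ B.map (↑) ↔ r ∈ B := fun r =>
    List.mem_map_of_injective Fin.val_injective
  have hg : ∀ r, grB (rootSys h) B r = grN f (B.map (↑)) r := fun r => by
    simp only [grB, grN, List.map_map, T.ip, Function.comp_def]
  have hc : ∀ r, CmB (rootSys h) B r ↔ ∀ b ∈ B.map (↑), 0 ≤ f r b := fun r => by
    simp only [CmB, List.forall_mem_map, T.ip]
  have idl : Idl (rootSys h) {r | I.testBit r = true} :=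
    ⟨fun r hr => (pos_val r).2 (H.idl r r.2 hr).1, fun r hr a ha k hk => (H.idl r r.2 hr).2.2.2 k k.2
      (rootSys_lt_of_isSum h hk.isSum ((pos_val r).2 (H.idl r r.2 hr).1) ha) ((T.radd _ _ _).1 hk).2.1⟩
  refine ⟨fun b hb => ?_, H.nd.of_map _, fun e => H.ne (by rw [e]; rfl), fun b hb b' hb' e => ?_,
    fun b hb => ?_, fun b hb => ?_, fun i => ?_, fun r s h1 h2 => ?_,
    ⟨_, idl, lac_gen_of T.lac fun i => ?_, fun a ha => ?_, fun a ha => (hc a).2 (H.idl a a.2 ha).2.1⟩,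
    fun r h1 h2 => ?_, fun r hr => ?_, ?_⟩
  · exact Fin.ext ((hγ b).trans (H.fix b ((hm b).2 hb)))
  · rw [T.ip]; exact H.ort b ((hm b).2 hb) b' ((hm b').2 hb') (Fin.val_ne_of_ne e)
  · rw [T.ip]; exact H.one b ((hm b).2 hb)
  · rw [T.ip]; exact H.α0 b ((hm b).2 hb)
  · rw [hg, T.simple]; exact H.dom i i.2
  · rw [T.ip]; exact H.ab r r.2 (hg r ▸ h1) s s.2 (hg s ▸ h2)
  · obtain ⟨a, ha, k1, k2⟩ := H.gen i i.2
    obtain ⟨k, hk⟩ := T.lac.exists_radd_of_neg (a := (rootSys h).simple i) (b := ⟨a, ha⟩)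
      (by rw [T.ip, T.simple, k2]; rfl)
    exact ⟨⟨a, ha⟩, k1, k, idl.2 _ k1 _ ((rootSys h).pos_simple i) k hk.symm, hk⟩
  · rw [Set.mem_setOf_eq, hγ]
    exact (H.idl a a.2 ha).2.2.1
  · obtain ⟨a, ha, k1, k2, k3⟩ := H.el r r.2 ((pos_val r).1 h1) (hg r ▸ h2)
    exact ⟨⟨a, ha⟩, (pos_val _).2 k1, (hc _).2 k3, by rwa [T.ip]⟩
  · refine (H.sv r r.2 (hg r ▸ hr)).imp (hm r).1 (Or.imp Fin.ext ?_)
    rintro ⟨a, ha, k1, k2, k3⟩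
    exact ⟨⟨a, ha⟩, (pos_val _).2 k1, (hc _).2 k3, by rwa [T.ip]⟩
  · rw [NP, ncard_pos_rootSys]
    simp only [pos_val, hc]
    rw [ncard_fin fun a => D.nroots ≤ 2 * a ∧ ∀ b ∈ B.map Fin.val, 0 ≤ f a b]
    exact H.lb

/-- the action of a word in the generators of the twisted Weyl group -/
def actW (T : ℕ) (wd : List (ℕ × ℕ)) (r : ℕ) : ℕ :=
  wd.foldl (fun x p => if p.1 = p.2 then actT T p.1 x else actT T p.1 (actT T p.2 x)) r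

theorem exists_tword {C A S' T : ℕ} (ht : TablesOK D C A S' T) (T' : Tab h f S) (E : ER (rootSys h))
    (hγ : ∀ r, (E.γ r : ℕ) = g r) (wd : List (ℕ × ℕ))
    (hw : ∀ p ∈ wd, p.1 < D.rank ∧ p.2 < D.rank ∧ g (S p.1) = S p.2 ∧ (p.1 ≠ p.2 → S p.2 ≠ S p.1)) :
    ∃ w ∈ WT E Set.univ, ∀ r : Fin D.nroots, (w r : ℕ) = actW T wd r := by
  have hs : ∀ (i : Fin D.rank) (r : Fin D.nroots), (rf (rootSys h) ((rootSys h).simple i) r : ℕ) =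
      actT T i r := fun i r => by
    rw [E.rf_simple, rootSys_s,
      ht.refl_eq (fun j hj => ht.simple_eq j hj ▸ h.root.simple_lt j hj) i i.2 r r.2]
  induction wd with
  | nil => exact ⟨1, one_mem _, fun _ => rfl⟩
  | cons p wd ih =>
    obtain ⟨w, h1, h2⟩ := ih fun j hj => hw j (List.mem_cons_of_mem _ hj)
    obtain ⟨k1, k2, k3, k4⟩ := hw p List.mem_cons_self
    have k5 : E.γ ((rootSys h).simple ⟨p.1, k1⟩) = (rootSys h).simple ⟨p.2, k2⟩ :=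
      Fin.ext (by rw [hγ, T'.simple, T'.simple, k3])
    by_cases e : p.1 = p.2
    · refine ⟨w * rf (rootSys h) ((rootSys h).simple ⟨p.1, k1⟩), mul_mem h1 (subset_closure
        ⟨_, trivial, .inl ⟨k5.trans (by simp only [e]), rfl⟩⟩), fun r => ?_⟩
      rw [Equiv.Perm.mul_apply, h2, hs, actW, actW, List.foldl_cons, if_pos e]
    · refine ⟨w * (rf (rootSys h) ((rootSys h).simple ⟨p.1, k1⟩) *
        rf (rootSys h) (E.γ ((rootSys h).simple ⟨p.1, k1⟩))), mul_mem h1 (subset_closure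
        ⟨_, trivial, .inr ⟨fun e' => k4 e ?_, rfl⟩⟩), fun r => ?_⟩
      · rw [k5, Fin.ext_iff, T'.simple, T'.simple] at e'
        exact e'
      · rw [Equiv.Perm.mul_apply, Equiv.Perm.mul_apply, h2, k5, hs, hs, actW, actW, List.foldl_cons,
          if_neg e]

theorem mod_γ (hE : Mod chevE6 rtOKE6 E) (r : Fin chevE6.nroots) : (E.γ r : ℕ) = rhoE6 r := by
  rcases hE.typ with k | ⟨k | k, -⟩
  · exact k.2 r
  · exact absurd (congrArg ChevalleyDatum.rank k) (by decide +kernel)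
  · exact absurd (congrArg ChevalleyDatum.rank k) (by decide +kernel)

theorem mod_θ (hE : Mod chevE6 rtOKE6 E) : (E.θ : ℕ) = 71 := hE.θ

theorem mod_i₀ (hE : Mod chevE6 rtOKE6 E) : (E.i₀ : ℕ) = 1 := by
  have k := E.top E.i₀
  rw [if_pos rfl, (tab6 rtOKE6).ip, (tab6 rtOKE6).simple, mod_θ hE] at k
  exact (show ∀ i < 6, fN 72 tI6 (actT tSE6 0 i) 71 = 1 → i = 1 by decide +kernel) _ E.i₀.2 k

theorem mod_α (hE : Mod chevE6 rtOKE6 E) : (E.α : ℕ) = actT tSE6 0 1 := by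
  rw [ER.α, (tab6 rtOKE6).simple, mod_i₀ hE]

theorem mod_β (hE : Mod chevE6 rtOKE6 E) : (E.β : ℕ) = 70 := by
  have k := ((tab6 rtOKE6).radd _ _ _).1 E.hβ
  rw [(tab6 rtOKE6).simple, mod_θ hE, mod_i₀ hE] at k
  exact (show ∀ b < 72, NAdd (fN 72 tI6) (actT tSE6 0 1) b 71 → b = 70 by decide +kernel) _ E.β.2 k

end RootX

open RootX

theorem mod_tr (hE : Mod chevE6 rtOKE6 E) : TR E :=
  tr_of (tab6 rtOKE6) E (mod_γ hE) (by rw [mod_θ hE, mod_β hE]; exact ntr6)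

theorem mod_cert2 (hE : Mod chevE6 rtOKE6 E) : TCert E [⟨65, by decide⟩, ⟨69, by decide⟩] :=
  tcert_of (tab6 rtOKE6) E (mod_γ hE) (by rw [mod_θ hE, mod_α hE]; exact ntc2)

theorem mod_cert3 (hE : Mod chevE6 rtOKE6 E) :
    TCert E [⟨53, by decide⟩, ⟨65, by decide⟩, ⟨69, by decide⟩] :=
  tcert_of (tab6 rtOKE6) E (mod_γ hE) (by rw [mod_θ hE, mod_α hE]; exact ntc3)

/-- the representatives of the classes of involutions are `WT`-conjugate to long words -/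
theorem mod_word2 (hE : Mod chevE6 rtOKE6 E) : ∃ w ∈ WT E Set.univ,
    w ⟨43, by decide⟩ = ⟨68, by decide⟩ ∧ w ⟨40, by decide⟩ = ⟨66, by decide⟩ ∧
      w ⟨44, by decide⟩ = ⟨69, by decide⟩ := by
  obtain ⟨w, h1, h2⟩ := exists_tword tablesOKE6 (tab6 rtOKE6) E (mod_γ hE)
    [(1, 1), (0, 5), (2, 4), (3, 3), (2, 4), (0, 5)] (by decide +kernel)
  exact ⟨w, h1, Fin.ext ((h2 _).trans (by decide +kernel)), Fin.ext ((h2 _).trans (by decide +kernel)),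
    Fin.ext ((h2 _).trans (by decide +kernel))⟩

theorem mod_word3 (hE : Mod chevE6 rtOKE6 E) : ∃ w ∈ WT E Set.univ,
    w ⟨56, by decide⟩ = ⟨66, by decide⟩ ∧ w ⟨36, by decide⟩ = ⟨68, by decide⟩ ∧
      w ⟨46, by decide⟩ = ⟨53, by decide⟩ := by
  obtain ⟨w, h1, h2⟩ := exists_tword tablesOKE6 (tab6 rtOKE6) E (mod_γ hE)
    [(3, 3), (2, 4), (3, 3), (1, 1), (2, 4), (3, 3), (2, 4), (0, 5), (2, 4), (3, 3)] (by decide +kernel)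
  exact ⟨w, h1, Fin.ext ((h2 _).trans (by decide +kernel)), Fin.ext ((h2 _).trans (by decide +kernel)),
    Fin.ext ((h2 _).trans (by decide +kernel))⟩

theorem mod_tup (hE : Mod chevE6 rtOKE6 E) :
    Tup E ⟨65, by decide⟩ ((rootSys rtOKE6).simple ⟨2, by decide⟩) ⟨68, by decide⟩ ⟨69, by decide⟩ ∧
      E.γ ⟨68, by decide⟩ = ⟨66, by decide⟩ ∧
      ip (rootSys rtOKE6) ⟨53, by decide⟩ ((rootSys rtOKE6).simple ⟨2, by decide⟩) = 0 := by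
  refine ⟨⟨Fin.ext ((mod_γ hE _).trans (by decide +kernel)), fun e => ?_, ?_, ?_⟩,
    Fin.ext ((mod_γ hE _).trans (by decide +kernel)), ?_⟩
  · rw [Fin.ext_iff, mod_γ hE, (tab6 rtOKE6).simple] at e
    exact absurd e (by decide +kernel)
  · rw [(tab6 rtOKE6).radd, (tab6 rtOKE6).simple]
    decide +kernel
  · rw [(tab6 rtOKE6).radd, mod_γ hE, (tab6 rtOKE6).simple]
    decide +kernel
  · rw [(tab6 rtOKE6).ip, (tab6 rtOKE6).simple]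
    decide +kernel

end CfsgLib.SLT
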