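import Mathlib
import Cfsg.Agent.Lib.SLT.MDefs
import Cfsg.Agent.Lib.SLT.Box
import Cfsg.Agent.Lib.SLT.Root
import Cfsg.Agent.Lib.SLE.Br3

/-!
# The model
-/

set_option autoImplicit false
set_option linter.unusedSectionVars false

namespace CfsgLib.SLT

open CfsgLib.RGD CfsgLib.Stein CfsgLib.SLE Subgroup
open scoped commutatorElement Pointwise

universe u


open Cfsg.Lie CfsgLib.Weyl CfsgLib.Chev

variable {E : ER (rootSys rtOKE6)} {F K : Type} [Field F] [Finite F] [CharP F 2] [Field K] [Finite K]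
  [CharP K 2] {P : QE F K} {T : StSys (rootSys rtOKE6) K (MulAut (chevE6.group K))}
  {s : MulAut (chevE6.group K)}

namespace ModVX

theorem mul_conj {L : Type*} [Group L] (α : MulAut L) (g : L) :
    α * MulAut.conj g * α⁻¹ = MulAut.conj (α g) := by
  ext x
  simp

theorem conj_inj_of {L : Type*} [Group L] [IsSimpleGroup L] {a b : L} (hab : a * b * a⁻¹ * b⁻¹ ≠ 1) :
    Function.Injective (MulAut.conj : L →* MulAut L) := by
  rw [← MonoidHom.ker_eq_bot_iff]
  refine (MonoidHom.normal_ker (MulAut.conj : L →* MulAut L)).eq_bot_or_eq_top.resolve_right fun k => hab ?_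
  have := DFunLike.congr_fun (MonoidHom.mem_ker.1 (k.ge (mem_top a))) b
  rw [MulAut.conj_apply, MulAut.one_apply] at this
  rw [this, mul_inv_cancel]

theorem inj (hE : Mod chevE6 rtOKE6 E) :
    Function.Injective (MulAut.conj : chevE6.group K →* MulAut (chevE6.group K)) := by
  have := hE.simple (K := K)
  obtain ⟨a, b, hr⟩ := E.exists_radd E.θ
  refine conj_inj_of (a := xG chevE6 K a 1) (b := xG chevE6 K b 1) fun k => ?_
  have e := (hE.rel_xG (K := K)).cm a b E.θ hr 1 1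
  rw [k, ← ChevAut.xG_zero (D := chevE6) (F := K) E.θ] at e
  simpa using ChevAut.xG_inj E.θ.2 e

theorem end_xG (hE : Mod chevE6 rtOKE6 E) (φ : K →+* K) (r : Fin chevE6.nroots) (c : K) :
    Twist.endE6 φ (xG chevE6 K r c) = xG chevE6 K (E.γ r) (φ c) := by
  rw [Twist.endE6_xG φ r.2, RootX.mod_γ hE]
  rcases br2_eps r r.2 with e | e <;> simp [e, CharTwo.neg_eq]

end ModVX

theorem exists_modT (hE : Mod chevE6 rtOKE6 E) (P : QE F K) : ∃ T s, ModT E P T s := by
  have : Finite (MulAut (chevE6.group K)) :=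
    Finite.of_injective (fun α : MulAut (chevE6.group K) => (α : chevE6.group K → chevE6.group K))
      DFunLike.coe_injective
  obtain ⟨T, hx, hT⟩ := hE.kit K (MulAut (chevE6.group K)) (y := fun r c => MulAut.conj (xG chevE6 K r c))
    ⟨fun r u v => by rw [(hE.rel_xG (K := K)).add, map_mul], fun a b r k u v => by
      rw [← (hE.rel_xG (K := K)).cm a b r k]; simp only [map_mul, map_inv], fun a b k u v => by
      rw [← map_mul, (hE.rel_xG (K := K)).com a b k, map_mul]⟩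
    ⟨E.θ, 1, fun k => by
      rw [← map_one MulAut.conj, ← ChevAut.xG_zero (D := chevE6) (F := K) E.θ] at k
      simpa using ChevAut.xG_inj E.θ.2 (ModVX.inj hE k)⟩
  have e : (Twist.endE6 (P.τ : K →+* K)).comp (Twist.endE6 (P.τ : K →+* K)) = MonoidHom.id _ :=
    hom_ext_xG fun r hr t => by
      rw [MonoidHom.comp_apply, ModVX.end_xG hE _ ⟨r, hr⟩, ModVX.end_xG hE, E.γ2]
      simp [P.τ2]
  refine ⟨T, MonoidHom.toMulEquiv _ _ e e, ⟨mod_tr hE, hT, ?_, fun r u => ?_⟩, hE, fun r c => by rw [hx]⟩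
  · exact MulEquiv.ext fun g => DFunLike.congr_fun e g
  · simp only [hx]
    rw [ModVX.mul_conj, MonoidHom.toMulEquiv_apply, ModVX.end_xG hE]
    rfl

namespace ModT

variable (h : ModT E P T s)
include h

theorem mem_grp {α : MulAut (chevE6.group K)} : α ∈ T.grp ↔ ∃ g, α = MulAut.conj g := by
  have e : (⊤ : Subgroup (chevE6.group K)).map MulAut.conj = T.grp := by
    rw [← UUx_xG_eq_top]
    exact map_UUx _ T.x _ _ fun r _ t => (h.x r t).symm
  rw [← e]
  exact ⟨fun ⟨g, _, k⟩ => ⟨g, k.symm⟩, fun ⟨g, k⟩ => ⟨g, mem_top _, k.symm⟩⟩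

theorem conj_inj {g g' : chevE6.group K} (e : MulAut.conj g = MulAut.conj g') : g = g' := ModVX.inj h.mod e

theorem cl : CL T = ⊥ := by
  refine eq_bot_iff.2 fun α hα => mem_bot.2 (MulEquiv.ext fun g => h.conj_inj ?_)
  rw [← ModVX.mul_conj, ← hα _ (h.mem_grp.2 ⟨g, rfl⟩), mul_inv_cancel_right, MulAut.one_apply]

theorem s_xG (r : Fin chevE6.nroots) (c : K) : s (xG chevE6 K r c) = xG chevE6 K (E.γ r) (P.τ c) := h.conj_inj (by rw [← ModVX.mul_conj, ← h.x, ← h.x, h.sx])

theorem mem_iff (g : chevE6.group K) :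
    MulAut.conj g ∈ tL (tx E P T) ↔ (g : GL chevE6.Idx K) ∈ twistedE6 K (Nat.card F) := by
  have : Finite (MulAut (chevE6.group K)) :=
    Finite.of_injective (fun α : MulAut (chevE6.group K) => (α : chevE6.group K → chevE6.group K))
      DFunLike.coe_injective
  have e : s.toMonoidHom = Twist.endE6 (P.τ : K →+* K) := hom_ext_xG fun r hr t =>
    (h.s_xG ⟨r, hr⟩ t).trans (ModVX.end_xG h.mod (P.τ : K →+* K) ⟨r, hr⟩ t).symm
  have e1 : (Twist.twE6 (P.τ : K →+* K)).σ g = (s g : chevE6.group K) :=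
    (Twist.extend_apply _ g.2).trans (congrArg _ (DFunLike.congr_fun e g).symm)
  rw [← h.toTw.fix, Twist.eq_FixE6 (φ := (P.τ : K →+* K)) P.τ_eq P.τ2, Twist.Tw.mem_Fix, e1, stSys_grp,
    mem_inf, mem_centralizer_singleton_iff, eq_comm, ← mul_inv_eq_iff_eq_mul, ModVX.mul_conj]
  exact ⟨fun k => ⟨g.2, congrArg _ (h.conj_inj k.2)⟩,
    fun k => ⟨h.mem_grp.2 ⟨g, rfl⟩, congrArg _ (Subtype.ext k.2)⟩⟩

theorem exists_equiv : ∃ e : twistedE6 K (Nat.card F) ≃* tL (tx E P T),
    ∀ (g : twistedE6 K (Nat.card F)) (g' : chevE6.group K), (g : GL chevE6.Idx K) = g' →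
      (e g : MulAut (chevE6.group K)) = MulAut.conj g' := by
  have hle : twistedE6 K (Nat.card F) ≤ chevE6.group K := by
    rw [Twist.eq_FixE6 (φ := (P.τ : K →+* K)) P.τ_eq P.τ2, ← stSys_grp rtOKE6]
    exact Twist.Tw.Fix_le_grp _
  have : Finite (MulAut (chevE6.group K)) :=
    Finite.of_injective (fun α : MulAut (chevE6.group K) => (α : chevE6.group K → chevE6.group K))
      DFunLike.coe_injective
  refine ⟨MulEquiv.ofBijective ((MulAut.conj.comp (inclusion hle)).codRestrict _ fun g =>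
    (h.mem_iff _).2 g.2) ⟨fun a b k => inclusion_injective hle (h.conj_inj (Subtype.ext_iff.1 k)),
      fun α => ?_⟩, fun g g' k => congrArg MulAut.conj (Subtype.ext k)⟩
  obtain ⟨g, hg⟩ := h.mem_grp.1 (h.toTw.fix.ge α.2).1
  exact ⟨⟨g, (h.mem_iff g).1 (hg ▸ α.2)⟩, Subtype.ext hg.symm⟩

theorem simp : IsSimpleGroup (tL (tx E P T)) := by
  obtain ⟨e, -⟩ := h.exists_equiv
  have := Fintype.ofFinite K
  have := (Twist.simpleE6 (φ := (P.τ : K →+* K)) P.τ_eq (Nat.card_eq_fintype_card.symm.trans P.card)).1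
  exact e.symm.isSimpleGroup

end ModT

end CfsgLib.SLT
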