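import Mathlib
import Cfsg.Agent.Lib.SLT.ModV
import Cfsg.Agent.Lib.SLT.CenA
import Cfsg.Agent.Lib.ChevAut.TwOut

/-!
# The automorphisms of the model
-/

set_option autoImplicit false
set_option linter.unusedSectionVars false

namespace CfsgLib.SLT

open CfsgLib.RGD CfsgLib.Stein CfsgLib.SLE Subgroup
open scoped commutatorElement Pointwise

universe u

section Abs

variable {ι κ : Type} [Fintype κ] [DecidableEq κ] [Finite ι] {Φ : RootSys ι κ} {E : ER Φ}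
  {F K : Type} [Field F] [Finite F] [CharP F 2] [Field K] [Finite K] [CharP K 2] {P : QE F K}
  {G : Type u} [Group G] [Finite G] {T : StSys Φ K G} {s : G}

/-- the standard elements commuting with `s` -/
def autmD (T : StSys Φ K G) (s : G) : Subgroup G where
  carrier := {δ | (∃ σ, Std T δ 1 σ) ∧ s * δ = δ * s}
  one_mem' := ⟨⟨1, _, std_of_mem_CL (one_mem _)⟩, by simp⟩
  mul_mem' := fun {a b} ⟨⟨σ, h1⟩, h2⟩ ⟨⟨σ', h3⟩, h4⟩ =>
    ⟨⟨_, h1.mul h3 fun _ => rfl⟩, by rw [← mul_assoc, h2, mul_assoc, h4, mul_assoc]⟩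
  inv_mem' := fun {a} ⟨⟨σ, h1⟩, h2⟩ => ⟨⟨_, h1.inv fun _ => rfl⟩, (Commute.inv_right h2).eq⟩

namespace Tw

variable (h : Tw E P T s)
include h

theorem autm_com (hcl : CL T = ⊥) {δ : G} {d : ι → K} {σ : K ≃+* K} (hδ : StdD T δ 1 d σ)
    (hd : ∀ i, d (E.γ (Φ.simple i)) = P.τ (d (Φ.simple i))) : s * δ = δ * s := by
  have n : ∀ r, d (Φ.neg r) = (d r)⁻¹ := fun r => eq_inv_of_mul_eq_one_right (hδ.1 r)
  have a : ∀ {a b k}, RAdd Φ a b k → d k = d a * d b := h.amb.d_add hδ (E.gp (.inl rfl))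
  have k : ∀ r, d (E.γ r) = P.τ (d r) := E.gen_simple {r | d (E.γ r) = P.τ (d r)}
    (by rintro _ ⟨i, rfl⟩; exact hd i)
    (fun r (hr : d _ = _) => show d _ = _ by rw [E.γn, n, n, hr, map_inv₀])
    fun x (hx : d _ = _) y (hy : d _ = _) z e => show d _ = _ by
      rw [a (E.γa _ _ _ e), a e, hx, hy, map_mul]
  rw [eq_comm, ← inv_mul_eq_one, ← mem_bot, ← hcl]
  refine aa_mem_CL fun r c => ?_
  have e : s * (δ * T.x r c * δ⁻¹) * s⁻¹ = δ * (s * T.x r c * s⁻¹) * δ⁻¹ := by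
    rw [hδ.2, h.sx, h.sx, hδ.2, k, map_mul, P.comm]
    rfl
  calc _ = (δ * s)⁻¹ * (s * (δ * T.x r c * δ⁻¹) * s⁻¹) * (δ * s) := by group
    _ = _ := by rw [e]; group

theorem autm_le : autmD T s ≤ tN (tx E P T) := by
  have key : ∀ δ ∈ autmD T s, ∀ m ∈ tL (tx E P T), δ * m * δ⁻¹ ∈ tL (tx E P T) := by
    rintro δ ⟨⟨σ, h1⟩, h2⟩ m hm
    rw [← h.fix] at hm ⊢
    refine ⟨aa_conj_grp h1.mem_NL hm.1, ?_⟩
    have h3 : δ ∈ centralizer {s} := mem_centralizer_singleton_iff.2 h2.symm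
    exact (centralizer {s}).mul_mem (mul_mem h3 hm.2) (inv_mem h3)
  exact fun δ hδ => mem_normalizer_iff.2 fun m =>
    ⟨key δ hδ m, fun e => by simpa [mul_assoc] using key _ (inv_mem hδ) _ e⟩

theorem autm_ker (hcl : CL T = ⊥) {δ m : G} (hδ : δ ∈ autmD T s) (hm : m ∈ tL (tx E P T))
    (e : m⁻¹ * δ ∈ tC (tx E P T)) : δ ∈ T.H ⊓ tL (tx E P T) := by
  obtain ⟨⟨σ, h1⟩, -⟩ := hδ
  have hg := (h.L_le hm).1
  rcases h.cent_M (mul_mem (inv_mem (aa_grp_le hg)) h1.mem_NL) e with e | e <;> rw [hcl, mem_bot] at e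
  · obtain rfl := inv_mul_eq_one.1 e
    refine ⟨?_, hm⟩
    have hB : m ∈ T.B := by
      rw [← h.amb.nd.normalizer_U]
      exact ⟨h.amb.std_norm h1 fun r hr => hr, hg⟩
    obtain ⟨u, hu, a, ha, rfl⟩ := T.mem_B_iff.1 hB
    have h' := h1.mul (std_of_mem_H (inv_mem ha)) fun _ => rfl
    rw [mul_inv_cancel_right, mul_one] at h'
    rwa [h.amb.eq_one_of_std h' (E.gp (.inl rfl)) hu, one_mul]
  · have e' : m * s = δ := by
      rw [← h.s2, mul_left_inj] at e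
      rw [← e, mul_inv_cancel_left]
    exact absurd (h.amb.typ_unique ⟨m, hg, e' ▸ h1⟩ (Std.typ ⟨_, h.std⟩) (.inl rfl) (.inr rfl)).1.symm
      h.tr.ne

theorem autm (hcl : CL T = ⊥) (hn : Nat.card (Cfsg.Out (tL (tx E P T))) *
    Nat.card (T.H ⊓ tL (tx E P T) : Subgroup G) ≤ Nat.card (autmD T s)) (φ : MulAut (tL (tx E P T))) :
    ∃ m ∈ tL (tx E P T), ∃ δ d σ, StdD T δ 1 d σ ∧ s * δ = δ * s ∧
      ∀ x : tL (tx E P T), (φ x : G) = m * δ * x * (m * δ)⁻¹ := by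
  let χ : autmD T s →* MulAut (tL (tx E P T)) :=
    (tL (tx E P T)).normalizerMonoidHom.comp (inclusion h.autm_le)
  have hχ : ∀ δ x, (χ δ x : G) = δ * x * (δ : G)⁻¹ := fun _ _ => rfl
  let ψ : autmD T s →* Cfsg.Out (tL (tx E P T)) := (QuotientGroup.mk' _).comp χ
  have k1 : ∀ δ ∈ ψ.ker, (δ : G) ∈ T.H ⊓ tL (tx E P T) := fun δ hδ => by
    obtain ⟨m, e⟩ := (QuotientGroup.eq_one_iff _).1 hδ
    refine h.autm_ker hcl δ.2 m.2 (mem_centralizer_iff.2 fun x hx => ?_)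
    have : (m : G) * x * (m : G)⁻¹ = δ * x * (δ : G)⁻¹ :=
      (congrArg (fun θ : MulAut (tL (tx E P T)) => (θ ⟨x, hx⟩ : G)) e).trans (hχ δ ⟨x, hx⟩)
    calc x * ((m : G)⁻¹ * δ) = (m : G)⁻¹ * (m * x * (m : G)⁻¹) * δ := by group
      _ = _ := by rw [this]; group
  have k2 : Nat.card ψ.ker ≤ Nat.card (T.H ⊓ tL (tx E P T) : Subgroup G) :=
    Nat.card_le_card_of_injective (fun δ => ⟨δ.1, k1 δ δ.2⟩)
      fun a b e => Subtype.ext (Subtype.ext (Subtype.mk.inj e))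
  have k3 : ψ.range = ⊤ := by
    refine eq_top_of_le_card _ (Nat.le_of_mul_le_mul_right ?_ (Nat.card_pos (α := ψ.ker)))
    rw [← index_ker, index_mul_card]
    exact (Nat.mul_le_mul_left _ k2).trans hn
  obtain ⟨δ, e⟩ : QuotientGroup.mk' _ φ ∈ ψ.range := k3 ▸ mem_top _
  obtain ⟨m, e'⟩ := QuotientGroup.eq.1 e
  obtain ⟨⟨σ, d, h1⟩, h2⟩ := δ.2
  refine ⟨χ δ m, (χ δ m).2, δ, d, σ, h1, h2, fun x => ?_⟩
  rw [← mul_inv_cancel_left (χ δ) φ, ← e', MulAut.mul_apply, hχ, hχ]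
  simp only [MulAut.conj_apply, coe_mul, coe_inv]
  group

end Tw

end Abs

open Cfsg.Lie CfsgLib.Weyl CfsgLib.Chev CfsgLib.ChevAut CfsgLib.Twist

variable {E : ER (rootSys rtOKE6)} {F K : Type} [Field F] [Finite F] [CharP F 2] [Field K] [Finite K]
  [CharP K 2] {P : QE F K} {T : StSys (rootSys rtOKE6) K (MulAut (chevE6.group K))}
  {s : MulAut (chevE6.group K)}

theorem ModT.autm_std (h : ModT E P T s) (c : Fin chevE6.rank → Kˣ) (σ : K ≃+* K) :
    StdD T (diagOf rtOKE6 c * groupEquiv chevE6 σ) 1 (fun r => charOf chevE6 c r) σ := by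
  refine ⟨fun r => ?_, fun r t => ?_⟩
  · have := (isRootCharacter_charOf rtOKE6 c).1 r r.2
    change _ * ((charOf chevE6 c (chevE6.neg r) : Kˣ) : K) = 1
    rw [this, Units.mul_inv]
  · have e : (diagOf rtOKE6 c * groupEquiv chevE6 σ) (xG chevE6 K r t) =
        xG chevE6 K r (charOf chevE6 c r * σ t) :=
      (congrArg (diagOf rtOKE6 c) (groupEquiv_xG' σ r t)).trans (diagAut_xG _ _ _)
    rw [h.x, h.x, Equiv.Perm.one_apply, ← e]
    ext g
    simp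

theorem ModT.autm_H (h : ModT E P T s) {a : MulAut (chevE6.group K)} (ha : a ∈ T.H) :
    ∃ g : chevE6.group K, (g : GL chevE6.Idx K) ∈ (stSys rtOKE6 K).H ∧ a = MulAut.conj g := by
  have : T.H ≤ ((stSys rtOKE6 K).H.subgroupOf (chevE6.group K)).map MulAut.conj := by
    refine (closure_le _).2 ?_
    rintro _ ⟨r, c, hc, rfl⟩
    refine ⟨xG chevE6 K r c * xG chevE6 K ((rootSys rtOKE6).neg r) (-c⁻¹) * xG chevE6 K r c *
      (xG chevE6 K r (-1) * xG chevE6 K ((rootSys rtOKE6).neg r) (-(-1)⁻¹) * xG chevE6 K r (-1)),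
      subset_closure ⟨r, c, hc, rfl⟩, ?_⟩
    simp only [map_mul, ← h.x]
    rfl
  obtain ⟨g, hg, e⟩ := this ha
  exact ⟨g, hg, e.symm⟩

theorem ModT.aut (h : ModT E P T s) (φ : MulAut (tL (tx E P T))) : ∃ m ∈ tL (tx E P T), ∃ δ d σ,
    StdD T δ 1 d σ ∧ s * δ = δ * s ∧
      ∀ x : tL (tx E P T), (φ x : MulAut (chevE6.group K)) = m * δ * x * (m * δ)⁻¹ := by
  classical
  have := Fintype.ofFinite K
  have := Fintype.ofFinite F
  have := finite_aut (F := K)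
  have hK : Fintype.card K = Nat.card F ^ 2 := Nat.card_eq_fintype_card.symm.trans P.card
  have hφ : ∀ t, P.τ.toRingHom t = t ^ Nat.card F := P.τ_eq
  refine h.autm h.cl ?_ φ
  obtain ⟨e, -⟩ := h.exists_equiv
  have k1 : Nat.card (T.H ⊓ tL (tx E P T) : Subgroup _) ≤
      Nat.card ↥((stSys rtOKE6 K).H ⊓ twistedE6 K (Nat.card F)) := by
    choose g h1 h2 using fun a : (T.H ⊓ tL (tx E P T) : Subgroup _) => h.autm_H a.2.1
    refine Nat.card_le_card_of_injective (fun a => ⟨g a, h1 a, (h.mem_iff _).1 (h2 a ▸ a.2.2)⟩)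
      fun a b e => Subtype.ext ?_
    rw [h2 a, h2 b, show g a = g b from Subtype.ext (Subtype.mk.inj e)]
  let c : (Fˣ × Fˣ) × Kˣ × Kˣ → Fin chevE6.rank → Kˣ := fun p => vecE6 ![p.2.1,
    Units.map P.f.toMonoidHom p.1.1, p.2.2, Units.map P.f.toMonoidHom p.1.2,
    Units.map P.τ.toRingHom.toMonoidHom p.2.2, Units.map P.τ.toRingHom.toMonoidHom p.2.1]
  have hs : ∀ c' (i : Fin chevE6.rank), charOf chevE6 c' ((rootSys rtOKE6).simple i : ℕ) = (c' i : Kˣ) :=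
    charOf_simple rtOKE6
  have k2 : Nat.card (((Fˣ × Fˣ) × Kˣ × Kˣ) × (K ≃+* K)) ≤ Nat.card (autmD T s) := by
    refine Nat.card_le_card_of_injective (fun p => ⟨diagOf rtOKE6 (c p.1) * groupEquiv chevE6 p.2,
      ⟨_, _, h.autm_std _ _⟩, h.autm_com h.cl (h.autm_std _ _) fun i => ?_⟩) fun p p' e => ?_
    · rw [show E.γ ((rootSys rtOKE6).simple i) = (rootSys rtOKE6).simple (symE6.π i) from
        Fin.ext ((RootX.mod_γ h.mod _).trans (rhoE6_simple i).1), hs, hs]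
      revert i
      simp [forall_ndE6, piE6, c, vecE6_nd, P.τf, P.τ2]
    · have k : ∀ i t, (c p.1 i : K) * p.2 t = c p'.1 i * p'.2 t := fun i t => by
        have e1 := (h.autm_std (c p.1) p.2).2 ((rootSys rtOKE6).simple i) t
        rw [show diagOf rtOKE6 (c p.1) * groupEquiv chevE6 p.2 = _ from congrArg Subtype.val e,
          (h.autm_std (c p'.1) p'.2).2, ← mul_inv_eq_one, ← T.x_sub, h.amb.x_eq_one] at e1
        rw [← hs (c p.1), ← hs (c p'.1)]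
        exact (sub_eq_zero.1 e1).symm
      have k' : ∀ i, c p.1 i = c p'.1 i := fun i => Units.ext (by simpa using k i 1)
      refine Prod.ext (Prod.ext (Prod.ext ?_ ?_) (Prod.ext (k' (ndE6 0)) (k' (ndE6 2))))
        (RingEquiv.ext fun t => ?_)
      · exact Units.ext (P.inj (congrArg Units.val (k' (ndE6 1))))
      · exact Units.ext (P.inj (congrArg Units.val (k' (ndE6 3))))
      · have := k (ndE6 0) t
        rwa [k', mul_right_inj' (Units.ne_zero _)] at this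
  refine ((Nat.mul_le_mul_left _ k1).trans (le_of_eq ?_)).trans k2
  have hq := two_le_of_card hK
  rw [← HX.card_out_equiv e, card_out_twE6 hφ hK, mul_right_comm, card_HE6 hφ hK, Nat.card_prod,
    Nat.card_prod, Nat.card_prod, Nat.card_prod, card_units', card_units', hK, ← Nat.card_eq_fintype_card]
  congr 1
  zify [show 1 ≤ Nat.card F by omega, Nat.one_le_pow 2 (Nat.card F) (by omega)]
  ring

end CfsgLib.SLT
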