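import Mathlib
import Cfsg.Agent.Lib.SLT.Lri
import Cfsg.Agent.Lib.HX.Lin

/-!
# The hats of collinear root elements commute
-/

set_option autoImplicit false
set_option linter.unusedSectionVars false

namespace CfsgLib.SLT

open CfsgLib.RGD CfsgLib.Stein CfsgLib.SLE Subgroup
open scoped commutatorElement Pointwise

universe u

variable {ι κ : Type} [Fintype κ] [DecidableEq κ] [Finite ι] {Φ : RootSys ι κ} {E : ER Φ}
  {F K : Type} [Field F] [Finite F] [CharP F 2] [Field K] [Finite K] [CharP K 2] {P : QE F K}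
  {G : Type u} [Group G] [Finite G] {A : Type} [Group A] [Finite A] {T : StSys Φ K A} {s : A}
  {X : ι → K → G} {ρ : G → A} {t : G}

theorem cm2_conj (n g x : G) : n * (g * x * g⁻¹ * x⁻¹) * n⁻¹ =
    n * g * n⁻¹ * (n * x * n⁻¹) * (n * g * n⁻¹)⁻¹ * (n * x * n⁻¹)⁻¹ := by group

/-- the commutator `[g, x_b(1)]` has no component in `X_a` -/
theorem Sys.cm2_h1 (h : Sys E P T s X ρ) {a b r r' : ι} (ha : E.γ a = a) (hb : E.γ b = b)
    (hr' : E.γ r' = r') (hr : RAdd Φ a b r) (i2 : ip Φ r' a = 1) (i3 : ip Φ r' r = 1) {g g' : G}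
    (hg : g ∈ centralizer (tY Φ X a : Set G)) (hg' : g' ∈ centralizer (tY Φ X r : Set G)) {e : F}
    (h1 : g * xl P X b 1 * g⁻¹ * (xl P X b 1)⁻¹ = g' * xl P X a e) : e = 0 := by
  have A := h.rel
  have com : ∀ {g : G} {a : ι}, g ∈ centralizer (tY Φ X a : Set G) → ∀ {c : ι}, 0 ≤ ip Φ c a → ∀ u,
      Commute g (xl P X c u) := fun hg _ hc u => (hg _ (mem_UUx X hc _)).symm
  have lr : E.γ r = r := long_add hr ha hb
  obtain ⟨-, i1, -⟩ := E.radd_ip hr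
  obtain ⟨b', hb'⟩ := E.exists_sub ((ip_comm _ _).trans i2)
  obtain ⟨d, hd⟩ := E.exists_sub ((ip_comm _ _).trans i3)
  have lb' : E.γ b' = b' := long_add hb'.symm.sub hr' (long_neg.2 ha)
  have ld : E.γ d = d := long_add hd.symm.sub hr' (long_neg.2 lr)
  have hd' : RAdd Φ b d b' := fun j => by have := hr j; have := hb' j; have := hd j; omega
  have i4 : ip Φ d a = 0 := by have := hd.ip_left a; rw [ip_comm r] at this; omega
  have i5 : ip Φ b r' = 0 := by have := hr.ip_left r'; rw [ip_comm r, ip_comm a] at this; omega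
  have i6 : ip Φ b' r = 0 := by have := hb'.ip_left r; omega
  obtain ⟨n, n1, n3, -⟩ := h.exists_exa (Ψ := {d, Φ.neg d}) (by
    rintro r (rfl | rfl)
    · exact Or.inr rfl
    · exact Or.inl (Φ.neg_neg _)) (rf_mem_WT (Or.inl rfl) ld)
  have nx : ∀ c u, n * xl P X c u * n⁻¹ = xl P X (rf Φ d c) u := fun c u => n3 c _
  have gn : n * g = g * n := hg n (UUx_mono X (by
    rintro c (rfl | rfl)
    · exact i4.ge
    · exact show 0 ≤ ip Φ (Φ.neg d) a by rw [ip_neg_left, i4]; rfl) n1)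
  have h2 : n * g' * n⁻¹ ∈ centralizer (tY Φ X r' : Set G) := fun y hy => by
    have := hg' _ (n3.inv.conj_mem (Ψ' := {c | 0 ≤ ip Φ c r}) (fun c hc => show 0 ≤ ip Φ _ r by
      rw [← ip_apply (rf_mem d), (E.rf_add hd).1]; simpa using hc) hy)
    rw [show y * (n * g' * n⁻¹) = n * (n⁻¹ * y * n⁻¹⁻¹ * g') * n⁻¹ by group, this]
    group
  have h3 : g * xl P X b' 1 * g⁻¹ * (xl P X b' 1)⁻¹ = n * g' * n⁻¹ * xl P X a e := by
    rw [← E.rf_orth i4, ← nx a, conj_mul, ← h1, ← (E.rf_add hd').1, ← nx b, cm2_conj, gn,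
      mul_inv_cancel_right]
  generalize n * g' * n⁻¹ = g'' at h2 h3
  have h4 : xl P X d 1 * g' * (xl P X d 1)⁻¹ * xl P X a e = g' * g'' * xl P X r (1 * e) := by
    have e1 : xl P X d 1 * xl P X a e * (xl P X d 1)⁻¹ = xl P X a e := by
      rw [show xl P X d 1 * xl P X a e = xl P X a e * xl P X d 1 from A.com_l ha i4.ge _ _,
        mul_inv_cancel_right]
    rw [← e1, conj_mul, ← h1, cm2_conj, ← (com hg i4.ge 1).eq,
      mul_inv_cancel_right, A.conj_ll ld hb hd'.symm, one_mul,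
      show ∀ x y : G, g * (x * y) * g⁻¹ * (x * y)⁻¹ =
        g * x * g⁻¹ * x⁻¹ * (x * (g * y * g⁻¹ * y⁻¹) * x⁻¹) by intros; group, h1, h3,
      ← conj_mul (b := xl P X b 1), ← (com h2 i5.ge 1).eq, mul_inv_cancel_right,
      A.conj_ll hb ha hr.symm, ← mul_assoc g'',
      (com h2 (by rw [ip_comm, i2]; norm_num) e).eq, mul_assoc, mul_assoc, ← mul_assoc (xl P X a e),
      A.xl_sq, one_mul, mul_assoc]
  have c1 : Commute (xl P X d 1) (xl P X b' 1) :=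
    A.com_l lb' (by rw [(E.radd_ip hd').2.2]; norm_num) _ _
  have c2 := com hg' i6.ge 1
  have c3 : Commute (xl P X a e) (xl P X b' 1) := by
    rw [eq_inv_mul_of_mul_eq h4]
    exact ((c1.mul_left c2).mul_left c1.inv_left).inv_left.mul_left ((c2.mul_left
      (com h2 (by rw [(E.radd_ip hb').2.2]; norm_num) 1)).mul_left
        (A.com_l lb' ((ip_comm _ _).trans i6).ge _ _))
  rw [← mul_one e, ← h.xl_eq_one hr', ← A.ll a b' r' ha lb' hb', c3.eq]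
  group

theorem Sit.com2 (h : Sit E P T s X ρ t) (h2 : HX.Two (tL X) t)
    (hp : ∀ c, ∃ p, HX.Mv (tL X) (tYc X E.θ) t (xl P X E.θ c) p ∧ IsPGroup 2 (zpowers p))
    {p₁ p₂ : G} (h1 : HX.Mv (tL X) (tYc X E.θ) t (xl P X E.θ 1) p₁)
    (h1' : HX.Mv (tL X) (tYc X E.β) t (xl P X E.β 1) p₂) (e1 : p₁ * p₁ = 1) (e2 : p₂ * p₂ = 1) :
    Commute p₁ p₂ := by
  have D := h.a2d
  have A := h.rel
  have y1 : HX.Yk (tL X) (a6 E P X) 1 = tYc X E.θ := h.Yk_eq 1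
  have y2 : HX.Yk (tL X) (a6 E P X) 2 = tYc X E.β := h.Yk_eq 2
  have t1 : HX.Tr (tL X) (tR E X) t (a6 E P X 1 1) p₁ :=
    D.tr_mv1 (y1 ▸ h1) (HX.A2D.two_iff.2 (StdInt.two_of_sq e1))
  have t2 : HX.Tr (tL X) (tR E X) t (a6 E P X 2 1) p₂ :=
    D.tr_mv2 (y2 ▸ h1') (HX.A2D.two_iff.2 (StdInt.two_of_sq e2))
  have t3 := D.tr_conj t2 (mem_sup_left (HX.mem_X _ 1))
  rw [← D.e2, D.c0, zero_add, mul_one] at t3
  have t4 := D.tr_mul h2 (HX.a2_mem 1) (mul_mem (HX.a1_mem 1) (HX.a2_mem 1)) t2 t3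
  rw [(D.c12 1 1).eq, ← mul_assoc (a6 E P X 2 1), D.sq, one_mul] at t4
  have x2 : xl P X E.α 1 * xl P X E.α 1 = 1 := A.xl_sq _ _
  have pi : p₂⁻¹ = p₂ := inv_eq_of_mul_eq_one_right e2
  have ek : p₂ * (a6 E P X 0 1 * p₂ * (a6 E P X 0 1)⁻¹) =
      p₂ * xl P X E.α 1 * p₂⁻¹ * (xl P X E.α 1)⁻¹ := by
    rw [pi, ← mul_assoc, ← mul_assoc]; rfl
  rw [ek] at t4
  have Y1 := A.Y_le_Yc E.γ_θ
  have cα : xl P X E.α 1 ∈ tYc X E.θ := Y1 (mem_UUx X (show 0 ≤ ip Φ E.α E.θ by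
    rw [E.ip_αθ]; norm_num) _)
  have ck : Commute (xl P X E.α 1) (p₂ * xl P X E.α 1 * p₂⁻¹ * (xl P X E.α 1)⁻¹) := by
    obtain ⟨x, hx, e⟩ := D.tr_coset h2 (HX.a1_mem 1) t1 t4
    obtain ⟨c, v, rfl⟩ := D.mem_E.1 hx
    obtain ⟨q, e, hq⟩ : ∃ q, p₂ * xl P X E.α 1 * p₂⁻¹ * (xl P X E.α 1)⁻¹ =
        xl P X E.θ c * xl P X E.β v * q ∧ q ∈ centralizer (tYc X E.θ : Set G) :=
      e.elim (fun e => ⟨p₁, e, h1.cY⟩) fun e =>
        ⟨_, e, mul_mem (centralizer_le inf_le_left h.tC) h1.cY⟩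
    have hz : xl P X E.θ c * q ∈ centralizer (tYc X E.θ : Set G) :=
      mul_mem (fun y hy => (hy.2 _ ((A.mem_tZ E.γ_θ).2 ⟨c, rfl⟩)).symm) hq
    have cβ : xl P X E.β v ∈ tYc X E.θ := Y1 (mem_UUx X (show 0 ≤ ip Φ E.β E.θ by
      rw [E.ip_βθ]; norm_num) _)
    rw [mul_assoc (xl P X E.θ c), hq _ cβ, ← mul_assoc] at e
    obtain ⟨r', l, i2, i3⟩ := h.tr.ex2L
    have v0 := h.toSys.cm2_h1 E.γ_β E.γ_α l E.hβ.symm i2 i3
      (centralizer_le (A.Y_le_Yc E.γ_β) h1'.cY) (centralizer_le Y1 hz) e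
    rw [e, v0, A.xl_zero, mul_one]
    exact hz _ cα
  have xi : (xl P X E.α 1)⁻¹ = xl P X E.α 1 := inv_eq_of_mul_eq_one_right x2
  rw [pi, xi] at ck t4
  generalize xl P X E.α 1 = x at ck t4 x2
  have k2 : p₂ * x * p₂ * x * (p₂ * x * p₂ * x) = 1 := by
    calc _ = p₂ * x * p₂ * (x * (p₂ * x * p₂ * x)) := by group
      _ = p₂ * x * (p₂ * p₂) * x * p₂ * (x * x) := by rw [ck.eq]; group
      _ = _ := by rw [e2, x2, mul_one, mul_one, mul_assoc p₂, x2, mul_one, e2]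
  have pk : Commute p₂ (p₂ * x * p₂ * x) := by
    have e : p₂ * x * p₂ * x = x * p₂ * x * p₂ := by
      rw [eq_inv_of_mul_eq_one_left k2, mul_inv_rev, mul_inv_rev, mul_inv_rev, pi,
        inv_eq_of_mul_eq_one_right x2]
      group
    show p₂ * (p₂ * x * p₂ * x) = p₂ * x * p₂ * x * p₂
    conv_lhs => rw [e]
    group
  have m := D.same h2 (HX.a1_mem 1) (D.a1_ne one_ne_zero) t1 t4 e1 k2
  have := pk.inv_right.mul_right (D.tr_cE t2 m)
  rw [inv_mul_cancel_left] at this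
  exact this.symm

end CfsgLib.SLT
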