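import Mathlib
import Cfsg.Agent.Lib.SLT.Aut
import Cfsg.Agent.Lib.SLE.Top

/-!
# Covers of the twisted group
-/

set_option autoImplicit false
set_option linter.unusedSectionVars false

namespace CfsgLib.SLT

open CfsgLib.RGD CfsgLib.Stein CfsgLib.SLE Subgroup
open scoped commutatorElement Pointwise

universe u

variable {ι κ : Type} [Fintype κ] [DecidableEq κ] [Finite ι] {Φ : RootSys ι κ} {E : ER Φ}
  {F K : Type} [Field F] [Finite F] [CharP F 2] [Field K] [Finite K] [CharP K 2] {P : QE F K}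
  {G : Type u} [Group G] [Finite G] {A : Type} [Group A] [Finite A] {T : StSys Φ K A} {s : A}
  {X : ι → K → G} {ρ : G → A} {t : G}

theorem cov_eq_top {G : Type*} [Group G] {M Z : Subgroup G} (hZ : Z ≤ center G) (h : M ⊔ Z = ⊤)
    (h4 : commutator G = ⊤) : M = ⊤ := by
  have : Z.Normal := ⟨fun z hz g => by rwa [mem_center_iff.1 (hZ hz) g, mul_inv_cancel_right]⟩
  rw [eq_top_iff, ← h4, _root_.commutator_def, ← h, commutator_le]
  intro a ha b hb
  rw [← SetLike.mem_coe, mul_normal] at ha hb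
  obtain ⟨a, ha, z, hz, rfl⟩ := ha
  obtain ⟨b, hb, w, hw, rfl⟩ := hb
  have h1 := mem_center_iff.1 (hZ hz)
  have h2 := mem_center_iff.1 (hZ hw)
  have : ⁅a * z, b * w⁆ = ⁅a, b⁆ := by
    simp only [commutatorElement_def, mul_inv_rev]
    calc a * z * (b * w) * (z⁻¹ * a⁻¹) * (w⁻¹ * b⁻¹)
        = a * (z * (b * w)) * z⁻¹ * (a⁻¹ * w⁻¹) * b⁻¹ := by group
      _ = a * b * (w * a⁻¹) * w⁻¹ * b⁻¹ := by rw [← h1]; group
      _ = _ := by rw [← h2]; group
  rw [this, commutatorElement_def]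
  exact mul_mem (mul_mem (mul_mem ha hb) (inv_mem ha)) (inv_mem hb)

/-- an element of type `(1, σ)` centralising the twisted group is trivial -/
theorem Vir.cov_eq_one (h : Vir E P T s) {a : A} {σ : K ≃+* K} (h1 : Typ T a 1 σ) (h2 : a ∈ tC (tx E P T)) :
    a = 1 := by
  rcases h.cent_M h1.mem_NL h2 with k | k
  · rwa [h.cl, mem_bot] at k
  · have := h.amb.typ_unique (h1.mul (Std.typ ⟨_, h.std⟩) E.γn) (typ_of_mem (mem_sup_right k))
      (.inr (one_mul _)) (.inl rfl)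
    exact absurd ((one_mul _).symm.trans this.1) h.tr.ne

/-- `a` induces the action of `g` -/
def CovInd (X : ι → K → G) (θ : tL X →* A) (g : G) (a : A) : Prop :=
  ∀ l l' : tL X, (l' : G) = g * l * g⁻¹ → θ l' = a * θ l * a⁻¹

namespace TCov

variable {θ : tL X →* A} (h : TCov E P T s X θ)
include h

theorem range : θ.range = tL (tx E P T) := by
  have e : UUx (fun a u => (⟨X a u, mem_tL X a u⟩ : tL X)) Set.univ = ⊤ :=
    map_injective (tL X).subtype_injective (by
      rw [map_UUx _ X _ _ fun _ _ _ => rfl, ← MonoidHom.range_eq_map, range_subtype]; rfl)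
  rw [MonoidHom.range_eq_map, ← e]
  exact map_UUx _ _ _ _ fun a _ u => h.map a u

theorem mem (l : tL X) : θ l ∈ tL (tx E P T) := h.range ▸ ⟨l, rfl⟩

theorem typ (l : tL X) : Typ T (θ l) 1 1 := typ_of_mem (mem_sup_left (h.L_le (h.mem l)).1)

theorem eq_one {z : tL X} (hz : (z : G) ∈ tC X) : θ z = 1 := h.cov_eq_one (h.typ z) fun m hm => by
  obtain ⟨l, rfl⟩ := h.range.ge hm
  rw [← map_mul, ← map_mul]
  exact congrArg θ (Subtype.ext (hz l l.2))

theorem uniq {g : G} (hg : g ∈ tN X) {a a' : A} {σ σ' : K ≃+* K} (h1 : Typ T a 1 σ) (h2 : Typ T a' 1 σ')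
    (i1 : CovInd X θ g a) (i2 : CovInd X θ g a') : a = a' := by
  have k := (h1.inv fun _ => rfl).mul h2 fun _ => rfl
  rw [inv_one, one_mul] at k
  refine inv_mul_eq_one.1 (h.cov_eq_one k fun m hm => ?_)
  obtain ⟨l, rfl⟩ := h.range.ge hm
  have e := (i1 l ⟨_, conj_mem_L hg l.2⟩ rfl).symm.trans (i2 l ⟨_, conj_mem_L hg l.2⟩ rfl)
  calc θ l * (a⁻¹ * a') = a⁻¹ * (a * θ l * a⁻¹) * a' := by group
    _ = _ := by rw [e]; group

theorem exists_ind {g : G} (hg : g ∈ tN X) : ∃ a, CovInd X θ g a ∧ ∃ m ∈ tL (tx E P T), ∃ δ d σ,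
    StdD T δ 1 d σ ∧ s * δ = δ * s ∧ a = m * δ := by
  let θ' : tL X →* tL (tx E P T) := θ.codRestrict _ h.mem
  have hs : Function.Surjective θ' := fun m => by
    obtain ⟨l, e⟩ := h.range.ge m.2
    exact ⟨l, Subtype.ext e⟩
  let ψ : MulAut (tL X) := (tL X).normalizerMonoidHom ⟨g, hg⟩
  have hψ : ∀ l : tL X, (ψ l : G) = g * l * g⁻¹ := fun _ => rfl
  let φ := θ'.liftOfSurjective hs ⟨θ'.comp ψ.toMonoidHom, fun z hz => Subtype.ext (h.eq_one (z := ψ z)
    (hψ z ▸ conj_mem_C hg (h.ker z (congrArg Subtype.val hz)).1))⟩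
  have hφ : ∀ l, φ (θ' l) = θ' (ψ l) := fun l => θ'.liftOfRightInverse_comp_apply _ _ _ l
  have hb : Function.Bijective φ := Finite.surjective_iff_bijective.1 fun m => by
    obtain ⟨l, rfl⟩ := hs m
    exact ⟨θ' (ψ.symm l), by rw [hφ, MulEquiv.apply_symm_apply]⟩
  obtain ⟨m, hm, δ, d, σ, h1, h2, h3⟩ := h.aut (MulEquiv.ofBijective φ hb)
  refine ⟨m * δ, fun l l' e => ?_, m, hm, δ, d, σ, h1, h2, rfl⟩
  obtain rfl : l' = ψ l := Subtype.ext e
  exact (congrArg Subtype.val (hφ l)).symm.trans (h3 (θ' l))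

end TCov

theorem TCov.exists_sys {θ : tL X →* A} (h : TCov E P T s X θ) : ∃ ρ, Sys E P T s X ρ := by
  classical
  choose a ha m hm δ d σ h1 h2 h3 using fun g : tN X => h.exists_ind g.2
  have ty : ∀ g, Typ T (a g) 1 (σ g) := fun g =>
    ⟨(m g)⁻¹, inv_mem (h.L_le (hm g)).1, d g, by rw [h3, inv_mul_cancel_left]; exact h1 g⟩
  have hL : ∀ l : tL X, a ⟨l, L_le_N l.2⟩ = θ l := fun l => h.uniq (L_le_N l.2) (ty _) (h.typ l)
    (ha ⟨l, L_le_N l.2⟩) fun x x' e => by rw [← map_mul, ← map_inv, ← map_mul]; exact congrArg θ (Subtype.ext e)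
  have mul : ∀ g k : tN X, a (g * k) = a g * a k := fun g k => by
    have k1 := (ty g).mul (ty k) fun _ => rfl
    rw [one_mul] at k1
    refine h.uniq (g * k).2 (ty _) k1 (ha _) fun x x' e => ?_
    rw [ha g ⟨_, conj_mem_L k.2 x.2⟩ x' (by rw [e, coe_mul]; group), ha k x ⟨_, conj_mem_L k.2 x.2⟩ rfl]
    group
  refine ⟨fun g => if k : g ∈ tN X then a ⟨g, k⟩ else 1, h.toVir, h.sq, fun r u => ?_, fun g hg k hk => ?_,
    fun g hg => ?_, fun g hg => ?_, fun g hg => ?_, fun z hz hz' => ?_⟩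
  · rw [dif_pos (L_le_N (mem_tL X r u)), ← h.map]
    exact hL ⟨_, _⟩
  · rw [dif_pos hg, dif_pos hk, dif_pos (mul_mem hg hk), ← mul]
    rfl
  · rw [dif_pos hg]
    refine ⟨fun e => mem_cent_UUx.2 fun r _ u => ?_, fun hc => h.uniq hg (ty _) (typ_of_mem (one_mem _))
      (ha ⟨g, hg⟩) fun x x' e => ?_⟩
    · let x : tL X := ⟨X r u, mem_tL X r u⟩
      let x' : tL X := ⟨g * X r u * g⁻¹, conj_mem_L hg x.2⟩
      have k1 := ha ⟨g, hg⟩ x x' rfl
      rw [e, one_mul, inv_one, mul_one] at k1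
      obtain ⟨k2, k3⟩ := h.ker (x' * x⁻¹) (by rw [map_mul, map_inv, k1, mul_inv_cancel])
      have k4 := k2 _ x.2
      have k5 := h.sq r u
      have k6 : g * X r u * g⁻¹ * (g * X r u * g⁻¹) = 1 := by rw [conj_mul, k5]; simp
      change Odd (orderOf (g * X r u * g⁻¹ * (X r u)⁻¹)) at k3
      change X r u * (g * X r u * g⁻¹ * (X r u)⁻¹) = g * X r u * g⁻¹ * (X r u)⁻¹ * X r u at k4
      have k7 : g * X r u * g⁻¹ = g * X r u * g⁻¹ * (X r u)⁻¹ * X r u := by group
      have k8 : g * X r u * g⁻¹ * (X r u)⁻¹ = 1 := by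
        generalize g * X r u * g⁻¹ * (X r u)⁻¹ = z at *
        rw [k7, mul_assoc, ← mul_assoc (X r u), k4, mul_assoc, k5, mul_one, ← pow_two] at k6
        exact orderOf_eq_one_iff.1 (Nat.eq_one_of_dvd_coprimes (Nat.coprime_two_right.2 k3) dvd_rfl
          (orderOf_dvd_of_pow_eq_one k6))
      rw [mul_inv_eq_one, mul_inv_eq_iff_eq_mul] at k8
      exact k8.symm
    · rw [show x' = x from Subtype.ext (by rw [e, ← hc x x.2, mul_inv_cancel_right]), one_mul, inv_one, mul_one]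
  · rw [dif_pos hg, h3, ← mul_assoc, ← mem_centralizer_singleton_iff.1 (h.L_le (hm _)).2, mul_assoc, h2, mul_assoc]
  · obtain ⟨l, e⟩ := h.range.ge (inv_mem (hm ⟨g, hg⟩))
    refine ⟨l, l.2, d ⟨g, hg⟩, σ ⟨g, hg⟩, ?_⟩
    have := mul ⟨l, L_le_N l.2⟩ ⟨g, hg⟩
    rw [hL, e, h3 ⟨g, hg⟩, inv_mul_cancel_left] at this
    rw [dif_pos (mul_mem (L_le_N l.2) hg)]
    exact this ▸ h1 _
  · exact (h.ker ⟨z, hz⟩ (h.eq_one hz')).2

/-- lifting the root elements through a central kernel of odd order -/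
theorem Vir.exists_lift (h : Vir E P T s) (π : G →* A) (h1 : π.range = tL (tx E P T))
    (h2 : π.ker ≤ center G) (h3 : Odd (Nat.card π.ker)) (h4 : commutator G = ⊤) :
    ∃ X : ι → K → G, tL X = ⊤ ∧ (∀ a u, X a u * X a u = 1) ∧ ∀ a u, π (X a u) = tx E P T a u := by
  have pw : ∀ z : G, π z = 1 → z ^ Nat.card π.ker = 1 := fun z hz => by
    simpa using congrArg Subtype.val (pow_card_eq_one' (x := (⟨z, hz⟩ : π.ker)))
  obtain ⟨m, hm⟩ := h3
  have ex : ∀ a ∈ tL (tx E P T), a * a = 1 → ∃ b, b * b = 1 ∧ π b = a := fun a ha' ha => by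
    obtain ⟨b, rfl⟩ := h1.ge ha'
    refine ⟨b ^ Nat.card π.ker, ?_, ?_⟩
    · rw [← (Commute.refl b).mul_pow, pw _ (by rw [map_mul, ha])]
    · rw [map_pow, hm, pow_succ, pow_mul, pow_two, ha, one_pow, one_mul]
  choose y k1 k2 using fun r c => ex _ (mem_tL _ r c) (h.rel.sq r c)
  refine ⟨y, cov_eq_top h2 ?_ h4, k1, k2⟩
  rw [← comap_map_eq, tL, map_UUx y _ π _ fun r _ c => k2 r c, ← tL, ← h1, MonoidHom.comap_range_self]

/-- the situation inside `Gs ⟨t⟩` -/
theorem Vir.exists_sit (h : Vir E P T s) {L : Subgroup G} (hL : Cfsg.IsStandardSubgroup L)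
    (hR : ∀ R : Sylow 2 (centralizer (L : Set G)), IsCyclic (R : Subgroup (centralizer (L : Set G))))
    (e : (L ⧸ Cfsg.oddCore L) ≃* tL (tx E P T)) {H : Subgroup G} (hH : L ≤ H) {t : H}
    (tC : (t : G) ∈ centralizer (L : Set G)) (t2 : t * t = 1) (t1 : t ≠ 1) :
    ∃ (X : ι → K → H) (ρ : H → A), tL X = L.subgroupOf H ∧ Sit E P T s X ρ t := by
  set π₀ := e.toMonoidHom.comp (QuotientGroup.mk' (Cfsg.oddCore L)) with hπ₀
  have hs : Function.Surjective π₀ := e.surjective.comp (QuotientGroup.mk'_surjective _)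
  set π := (tL (tx E P T)).subtype.comp π₀ with hπ
  have hr : π.range = tL (tx E P T) := by
    rw [hπ, MonoidHom.range_comp, MonoidHom.range_eq_top.2 hs, ← MonoidHom.range_eq_map, range_subtype]
  have hk : π.ker = Cfsg.oddCore L := by
    rw [hπ, ← MonoidHom.comap_ker, ker_subtype, MonoidHom.comap_bot, hπ₀, ← MonoidHom.comap_ker,
      (MonoidHom.ker_eq_bot_iff _).2 e.injective]
    exact QuotientGroup.ker_mk' _
  have hc : π.ker ≤ center L := by
    have := hL.1.2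
    have := hL.1.1
    rcases ((inferInstance : π.ker.Normal).map _ (QuotientGroup.mk'_surjective (center L))).eq_bot_or_eq_top
      with k | k
    · rwa [Subgroup.map_eq_bot_iff, QuotientGroup.ker_mk'] at k
    · have k1 : π.ker ⊔ center L = ⊤ := by
        rw [← QuotientGroup.ker_mk' (center L), ← comap_map_eq, k, comap_top]
      have k2 := cov_eq_top le_rfl k1 hL.1.1.commutator_eq_top
      have := h.simp
      obtain ⟨b, hb⟩ := exists_ne (1 : tL (tx E P T))
      obtain ⟨b, rfl⟩ := hs b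
      exact (hb (Subtype.ext (k2.ge (mem_top b)))).elim
  have ho : Odd (Nat.card π.ker) := hk ▸ Core.odd_card_oddCore L
  obtain ⟨y, y1, y2, y3⟩ := h.exists_lift π hr hc ho hL.1.1.commutator_eq_top
  have e2 : tL (fun a u => inclusion hH (y a u)) = L.subgroupOf H := by
    rw [← inclusion_range hH, MonoidHom.range_eq_map, ← y1]
    exact (map_UUx y _ _ _ fun _ _ _ => rfl).symm
  have hC : ∀ g : H, g ∈ SLT.tC (fun a u => inclusion hH (y a u)) ↔ (g : G) ∈ centralizer (L : Set G) := fun g => by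
    rw [SLT.tC, e2]
    exact ⟨fun k l hl => congrArg Subtype.val (k ⟨l, hH hl⟩ hl), fun k l hl => Subtype.ext (k _ hl)⟩
  let ε := (MulEquiv.subgroupCongr e2).trans (subgroupOfEquivOfLe hH)
  have hε : ∀ z, (ε z : G) = z := fun _ => rfl
  obtain ⟨ρ, S⟩ := TCov.exists_sys (θ := π.comp ε.toMonoidHom) ⟨h, fun a u => by rw [← map_mul, y2, map_one],
    fun a u => y3 a u, fun z hz => ⟨(hC _).2 fun l hl => hε z ▸ congrArg Subtype.val
      (mem_center_iff.1 (hc (x := ε z) hz) ⟨l, hl⟩), by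
        rw [← orderOf_coe, ← hε, orderOf_coe]
        exact ho.of_dvd_nat (orderOf_dvd_natCard _ (show ε z ∈ π.ker from hz))⟩⟩
  refine ⟨_, ρ, e2, S, t2, t1, (hC t).2 tC, fun g hg => ?_, fun P h3 h4 => ?_⟩
  · have k : (g : G) ∈ normalizer (L : Set G) := by
      rw [hL.2.2.2]
      by_contra k
      have k1 := hL.2.1.2 g k
      have k2 : (t : G) ∈ centralizer (L : Set G) ⊓
          (centralizer (L : Set G)).map (MulAut.conj (g : G)).toMonoidHom := ⟨tC, t, tC, by
        have := congrArg Subtype.val (mem_centralizer_singleton_iff.1 hg)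
        simp only [coe_mul] at this
        simp [this]⟩
      have k3 := orderOf_dvd_natCard _ k2
      rw [orderOf_coe, Invol.orderOf_eq_two t1 t2] at k3
      exact Nat.not_even_iff_odd.2 k1 (even_iff_two_dvd.2 k3)
    rw [e2, mem_normalizer_iff]
    exact fun x => mem_normalizer_iff.1 k x
  · have k : P.map H.subtype ≤ centralizer (L : Set G) := by
      rintro _ ⟨g, hg, rfl⟩
      exact (hC g).1 (h3 hg)
    obtain ⟨R, hR'⟩ := ((h4.map H.subtype).comap_subtype (K := centralizer (L : Set G))).exists_le_sylow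
    have := hR R
    have : IsCyclic ((P.map H.subtype).subgroupOf (centralizer (L : Set G))) := isCyclic_of_le hR'
    have := isCyclic_of_surjective _ (subgroupOfEquivOfLe k).surjective
    exact isCyclic_of_surjective _ (P.equivMapOfInjective _ H.subtype_injective).symm.surjective

end CfsgLib.SLT
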