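import Mathlib
import Cfsg.Agent.Lib.SLT.Act

/-!
# The hats of the moved root elements
-/

set_option autoImplicit false
set_option linter.unusedSectionVars false

namespace CfsgLib.SLT

open CfsgLib.RGD CfsgLib.Stein CfsgLib.SLE Subgroup
open scoped commutatorElement Pointwise

universe u

variable {ι κ : Type} [Fintype κ] [DecidableEq κ] [Finite ι] {Φ : RootSys ι κ} {E : ER Φ}
  {F K : Type} [Field F] [Finite F] [CharP F 2] [Field K] [Finite K] [CharP K 2] {P : QE F K}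
  {G : Type u} [Group G] [Finite G] {A : Type} [Group A] [Finite A] {T : StSys Φ K A} {s : A}
  {X : ι → K → G} {ρ : G → A} {t : G}

variable {y : ι → F → G} {c : F} {W : ι → K → G}

theorem hs1_alg1 {g Y B Z M : G} (h1 : g * Y * g⁻¹ = Y * M) (h2 : Commute g B) (h3 : Commute g Z)
    (h4 : Commute M Y) (h5 : Commute M B) : Commute g (Y⁻¹ * (B * Y * B⁻¹) * Z⁻¹) := by
  have e : Commute M (Y⁻¹ * (B * Y * B⁻¹)) := h4.inv_right.mul_right ((h5.mul_right h4).mul_right h5.inv_right)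
  refine mul_inv_eq_iff_eq_mul.1 ?_
  calc g * (Y⁻¹ * (B * Y * B⁻¹) * Z⁻¹) * g⁻¹
      = (g * Y * g⁻¹)⁻¹ * (g * B * g⁻¹) * (g * Y * g⁻¹) * (g * B * g⁻¹)⁻¹ * (g * Z * g⁻¹)⁻¹ := by group
    _ = M⁻¹ * (Y⁻¹ * (B * Y) * (M * B⁻¹)) * Z⁻¹ := by
      rw [h1, h2.eq, h3.eq, mul_inv_cancel_right, mul_inv_cancel_right]; group
    _ = M⁻¹ * (Y⁻¹ * (B * Y * B⁻¹) * M) * Z⁻¹ := by rw [h5.inv_right.eq]; group
    _ = _ := by rw [← e.eq]; group

theorem hs1_alg2 {g Y B C Z M : G} (h1 : Commute g Y) (h2 : g * B * g⁻¹ = B * C) (h3 : g * Z * g⁻¹ = Z * M)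
    (h4 : C * Y * C⁻¹ = Y * M) (h5 : Commute M B) : Commute g (Y⁻¹ * (B * Y * B⁻¹) * Z⁻¹) := by
  refine mul_inv_eq_iff_eq_mul.1 ?_
  calc g * (Y⁻¹ * (B * Y * B⁻¹) * Z⁻¹) * g⁻¹
      = (g * Y * g⁻¹)⁻¹ * (g * B * g⁻¹) * (g * Y * g⁻¹) * (g * B * g⁻¹)⁻¹ * (g * Z * g⁻¹)⁻¹ := by group
    _ = Y⁻¹ * B * (C * Y * C⁻¹) * B⁻¹ * M⁻¹ * Z⁻¹ := by rw [h2, h3, h1.eq, mul_inv_cancel_right]; group
    _ = Y⁻¹ * B * Y * (M * B⁻¹) * M⁻¹ * Z⁻¹ := by rw [h4]; group
    _ = _ := by rw [h5.inv_right.eq]; group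

theorem hs1_alg3 {g Y B C Z : G} (h1 : Commute g Y) (h2 : g * B * g⁻¹ = B * C) (h3 : Commute g Z)
    (h4 : Commute C Y) : Commute g (Y⁻¹ * (B * Y * B⁻¹) * Z⁻¹) :=
  hs1_alg2 (M := 1) h1 h2 (by rw [h3.eq]; group) (by rw [h4.eq]; group) (Commute.one_left B)

theorem hs_γ_swap (d a : ι) : ip Φ (E.γ d) a = ip Φ d (E.γ a) := by rw [← E.γip, E.γ2]

theorem hs_γ_moved {d : ι} (hd : E.γ d ≠ d) : E.γ (E.γ d) ≠ E.γ d := fun e => hd (E.γ.injective e)

theorem TR.hs_mm (h : TR E) {d a : ι} (hd : E.γ d ≠ d) (ha : E.γ a ≠ a) (h1 : ip Φ d a = 1) :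
    ip Φ d (E.γ a) ≤ 0 := by
  have := h.mm d (Φ.neg a) hd (fun e => ha (long_neg.1 e)) (by rw [ip_neg_right, h1])
  rw [E.γn, ip_neg_right] at this
  omega

theorem hs_long_sub {a b k : ι} (h : RAdd Φ a b k) (ha : E.γ a = a) (hk : E.γ k = k) : E.γ b = b := by
  have := E.γa _ _ _ h
  rw [ha, hk] at this
  exact this.unique h

theorem Tup.hs_uniq {r a b k a' k' : ι} (h : Tup E r a b k) (h' : Tup E r a' b k') : a = a' ∧ k = k' := by
  obtain rfl := h.hb.unique h'.hb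
  exact ⟨rfl, h.hk.unique' h'.hk⟩

theorem Tup.hs_ip {r a b k d : ι} (h : Tup E r a b k) (hd : E.γ d = d) :
    ip Φ d r + ip Φ d k = 2 * ip Φ d b := by
  have h1 := h.hb.ip_right d
  have h2 := h.hk.ip_right d
  rw [← hs_γ_swap, hd] at h2
  omega

/-- the hat of a moved root element, defined through a long root -/
def hs1W (P : QE F K) (X : ι → K → G) (y : ι → F → G) (r a k : ι) (u : K) : G :=
  (y r 1)⁻¹ * (X a u * y r 1 * (X a u)⁻¹) * (y k (P.N u))⁻¹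

namespace HatL

variable (h : HatL E P T s X ρ t y c) {r a b k d : ι}
include h

theorem hs_rel : TRel E P X := h.toSit.toSys.rel

theorem hs1_iv (ht : Tup E r a b k) (hd : E.γ d ≠ d) (h1 : ip Φ d r = 1) (h2 : ip Φ d a = -1) (v u : K) :
    Commute (X d v) (hs1W P X y r a k u) := by
  obtain ⟨m, hm⟩ := E.exists_add h2
  have h3 := h.tr.mm d a hd ht.ma h2
  have h4 := hm.ip_left r
  have h5 := ht.hb.ip_right d
  have h6 := ht.hk.ip_right d
  rw [ip_comm a r, ht.ips.1] at h4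
  exact hs1_alg3 (h.cX ht.lr (by omega) _ _) (h.hs_rel.conj_cm hm h3 v u) (h.cX ht.lk (by omega) _ _)
    (h.cX ht.lr (by omega) _ _)

theorem hs1_xc (ht : Tup E r a b k) (h1 : 0 ≤ ip Φ d b) (h2 : 0 ≤ ip Φ d (E.γ b)) (v u : K) :
    Commute (X d v) (hs1W P X y r a k u) := by
  have R := h.hs_rel
  obtain ⟨i1, i2, i3, i4, i5, i6, i7, i8, i9⟩ := ht.ips
  have e1 := ht.hb.ip_right d
  have e2 := ht.γ.hb.ip_right d
  have e3 := ht.hk.ip_right d
  have i10 : ip Φ r (E.γ a) = -1 := ht.γ.ips.1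
  by_cases h0 : 0 ≤ ip Φ d r ∧ 0 ≤ ip Φ d a ∧ 0 ≤ ip Φ d (E.γ a)
  · exact hs1_alg3 (C := 1) (h.cX ht.lr h0.1 _ _) (by rw [R.com d a h0.2.1 h0.2.2]; group)
      (h.cX ht.lk (by omega) _ _) (Commute.one_left _)
  rcases E.ip_cases r d with ⟨rfl, -⟩ | c1 | c1 | c1 | ⟨rfl, -⟩
  · rw [R.lng ht.lr]
    refine hs1_alg3 (h.cX ht.lr (by rw [E.ip_self]; norm_num) _ _)
      ((R.conj_sl ht _ u).trans (mul_assoc _ _ _)) (h.cX ht.lk i3.ge _ _) ?_
    exact (h.cX ht.lr (by rw [ip_comm]; omega) _ _).mul_left (h.cX ht.lr (by rw [ip_comm]; omega) _ _)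
  · rw [ip_comm] at c1
    by_cases hd : E.γ d = d
    · have e4 : ip Φ d (E.γ a) = ip Φ d a := by rw [← hs_γ_swap, hd]
      obtain ⟨n₁, m, hm⟩ := exists_tup hd ht.ma (by omega)
      obtain ⟨j1, j2, j3, j4, j5, j6, -⟩ := hm.ips
      have f1 := hm.hb.ip_left r
      have f2 := hm.hk.ip_left r
      rw [ip_comm a r] at f1
      rw [ip_comm (E.γ a) r] at f2
      obtain ⟨n, hn⟩ := E.exists_add (a := r) (b := m) (by rw [ip_comm]; omega)
      have hn' : RAdd Φ k d n := fun j => by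
        have := hn j; have := hm.hb j; have := hm.hk j; have := ht.hb j; have := ht.hk j
        omega
      have ln := long_add hn ht.lr hm.lk
      have f3 := hn.ip_right n₁
      have f4 := hn.ip_right a
      rw [ip_comm a r] at f4
      rw [R.lng hd]
      refine hs1_alg2 (M := y n (P.T v * P.N u)) (h.cX ht.lr (by omega) _ _)
        ((R.conj_sl hm _ u).trans (mul_assoc _ _ _)) ?_ ?_ (h.cX ln (by omega) _ _).symm
      · rw [R.xl_inv, h.ya k d n ht.lk hd hn', mul_comm]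
      · have f5 := h.ya r m n ht.lr hm.lk hn 1 (P.T v * P.N u)
        have f6 : Commute (X n₁ (P.f (P.T v) * u)) (y r 1 * y n (P.T v * P.N u)) :=
          (h.cX ht.lr (by omega) _ _).mul_right (h.cX ln (by omega) _ _)
        rw [one_mul] at f5
        rw [mul_inv_rev, R.xl_inv]
        calc _ = X n₁ (P.f (P.T v) * u) * (xl P X m (P.T v * P.N u) * y r 1 * xl P X m (P.T v * P.N u)) *
            (X n₁ (P.f (P.T v) * u))⁻¹ := by group
          _ = _ := by rw [f5, f6.eq, mul_inv_cancel_right]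
    · by_cases ha : ip Φ d a = -1
      · exact h.hs1_iv ht hd c1 ha v u
      · have := h.hs1_iv ht (hs_γ_moved hd) (by rw [hs_γ_swap, ht.lr, c1]) (by rw [hs_γ_swap]; omega) (P.τ v) u
        rwa [R.gam, P.τ2] at this
  · rw [ip_comm] at c1
    omega
  · rw [ip_comm] at c1
    have a1 : ip Φ d a = 1 := by
      by_contra hn
      obtain rfl := E.eq_of_ip (r := d) (s := a) (by omega)
      omega
    have a2 : ip Φ d (E.γ a) = 1 := by
      by_contra hn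
      obtain rfl := E.eq_of_ip (r := d) (s := E.γ a) (by omega)
      rw [ip_comm] at a1
      omega
    have hd : E.γ d = d := by
      by_contra hn
      have := h.tr.hs_mm hn ht.ma a1
      omega
    obtain ⟨m, hm⟩ := E.exists_add (a := r) (b := d) (by rw [ip_comm]; omega)
    have lm := long_add hm ht.lr hd
    have f1 := hm.ip_right a
    rw [ip_comm a r, ip_comm a d] at f1
    rw [R.lng hd]
    refine hs1_alg1 (M := y m (1 * P.T v)) ?_ (R.com_l hd (by rw [ip_comm]; omega) _ _).symm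
      (h.cX ht.lk (by omega) _ _) (h.comy lm ht.lr (by rw [ip_comm, (E.radd_ip hm).2.1]; norm_num) _ _)
      (h.cX lm (by omega) _ _).symm
    rw [R.xl_inv, h.ya r d m ht.lr hd hm]
  · rw [ip_neg_left] at h1
    omega

theorem hs1_exa (ht : Tup E r a b k) {n : G} (hn : n ∈ tL X) {w : Equiv.Perm ι} (hw : w ∈ WT E Set.univ)
    (he : tExa X n w) (u : K) : n * hs1W P X y r a k u * n⁻¹ = hs1W P X y (w r) (w a) (w k) u := by
  rw [hs1W, hs1W, ← h.exa hn hw he ht.lr, ← h.exa hn hw he ht.lk, ← he a u]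
  group

theorem hs1_ind1 {r' a' k' : ι} (ht : Tup E r a b k) (ht' : Tup E r' a' b k') (h1 : ip Φ r' r = 1) (u : K) :
    hs1W P X y r a k u = hs1W P X y r' a' k' u := by
  obtain ⟨d, hd⟩ := E.exists_sub h1
  have ld := hs_long_sub hd ht'.lr ht.lr
  have e1 := hd.ip_left b
  rw [ht.ips.2.1, ht'.ips.2.1] at e1
  have e2 : ip Φ d b = 0 := by omega
  have hw : rf Φ d ∈ WT E {d, Φ.neg d} := rf_mem_WT (Or.inl rfl) ld
  have hw' := WT_mono (Set.subset_univ _) hw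
  obtain ⟨n, hn, he, -⟩ := h.toSit.toSys.exists_exa (Ψ := {d, Φ.neg d}) (by
    rintro _ (rfl | rfl)
    · exact Or.inr rfl
    · exact Or.inl (Φ.neg_neg _)) hw
  have hc : UUx X {d, Φ.neg d} ≤ centralizer {hs1W P X y r a k u} := by
    refine (closure_le _).2 ?_
    rintro _ ⟨e, rfl | rfl, v, rfl⟩
    · exact mem_centralizer_singleton_iff.2 (h.hs1_xc ht e2.ge (by rw [← hs_γ_swap, ld, e2]) v u)
    · exact mem_centralizer_singleton_iff.2 (h.hs1_xc ht (by rw [ip_neg_left, e2]; rfl)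
        (by rw [ip_neg_left, ← hs_γ_swap, ld, e2]; rfl) v u)
  have h2 := h.hs1_exa ht (UU_le_tL X _ hn) hw' he u
  have h3 := ht.apply hw'
  rw [(E.rf_add hd).2, E.rf_orth e2] at h3
  rw [mem_centralizer_singleton_iff.1 (hc hn), mul_inv_cancel_right, (E.rf_add hd).2, (h3.hs_uniq ht').1,
    (h3.hs_uniq ht').2] at h2
  exact h2

theorem hs1_ind {r' a' k' : ι} (ht : Tup E r a b k) (ht' : Tup E r' a' b k') (u : K) :
    hs1W P X y r a k u = hs1W P X y r' a' k' u := by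
  have e1 := ht.hs_ip ht'.lr
  rw [ht'.ips.2.1] at e1
  by_cases h1 : ip Φ r' r = 1
  · exact h.hs1_ind1 ht ht' h1 u
  by_cases h2 : 2 ≤ ip Φ r' r
  · obtain rfl := E.eq_of_ip h2
    rw [(ht.hs_uniq ht').1, (ht.hs_uniq ht').2]
  obtain rfl := E.eq_of_ip (r := r') (s := k) (by omega)
  obtain ⟨e, le, f1, f2⟩ := h.tr.sl2 r b ht.lr ht.mb ht.ips.2.1
  obtain ⟨a'', k'', ht''⟩ := exists_tup' le ht.mb f1
  have e2 := ht.hs_ip le
  rw [h.hs1_ind1 ht ht'' f2, h.hs1_ind1 ht' ht'' (by omega)]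

end HatL

theorem HatL.hs1 (h : HatL E P T s X ρ t y c) : ∃ W, HS1 E P T s X ρ t y c W := by
  classical
  have : ∀ b, ∃ p : ι × ι × ι, E.γ b ≠ b → Tup E p.1 p.2.1 b p.2.2 := fun b => by
    by_cases hb : E.γ b = b
    · exact ⟨(b, b, b), fun e => absurd hb e⟩
    · obtain ⟨r, hr, e⟩ := h.tr.sl0 b hb
      obtain ⟨a, k, ht⟩ := exists_tup' hr hb e
      exact ⟨(r, a, k), fun _ => ht⟩
  choose p hp using this
  refine ⟨fun b u => if E.γ b = b then y b (P.T u) else hs1W P X y (p b).1 (p b).2.1 (p b).2.2 u, h,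
    fun r hr u => if_pos hr, fun r a b k ht u => ?_, fun d b h1 h2 v u => ?_⟩
  · rw [if_neg ht.mb, h.hs1_ind (hp b ht.mb) ht, hs1W]
    group
  · by_cases hb : E.γ b = b
    · rw [if_pos hb]
      exact h.cX hb h1 _ _
    · rw [if_neg hb]
      exact h.hs1_xc (hp b hb) h1 h2 v u

end CfsgLib.SLT
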