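import Mathlib
import Cfsg.Agent.Lib.SLT.Act
import Cfsg.Agent.Lib.SLT.HS1

/-!
# The hats of the moved root elements: first relations
-/

set_option autoImplicit false
set_option linter.unusedSectionVars false

namespace CfsgLib.SLT

open CfsgLib.RGD CfsgLib.Stein CfsgLib.SLE Subgroup
open scoped commutatorElement Pointwise

universe u

variable {ι κ : Type} [Fintype κ] [DecidableEq κ] [Finite ι] {Φ : RootSys ι κ} {E : ER Φ}
  {F K : Type} [Field F] [Finite F] [CharP F 2] [Field K] [Finite K] [CharP K 2] {P : QE F K}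
  {G : Type u} [Group G] [Finite G] {A : Type} [Group A] [Finite A] {T : StSys Φ K A} {s : A}
  {X : ι → K → G} {ρ : G → A} {t : G}

variable {y : ι → F → G} {c : F} {W : ι → K → G}

theorem hs2_alg {g Y B C Z M : G} (h1 : Commute g Y) (h2 : g * B * g⁻¹ = B * C) (h3 : Commute g Z)
    (h4 : C * Y * C⁻¹ = Y * M) (h5 : Commute M B) (h6 : Commute M Z) :
    g * (Y⁻¹ * (B * Y * B⁻¹) * Z⁻¹) * g⁻¹ = Y⁻¹ * (B * Y * B⁻¹) * Z⁻¹ * M := by
  calc g * (Y⁻¹ * (B * Y * B⁻¹) * Z⁻¹) * g⁻¹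
      = (g * Y * g⁻¹)⁻¹ * (g * B * g⁻¹) * (g * Y * g⁻¹) * (g * B * g⁻¹)⁻¹ * (g * Z * g⁻¹)⁻¹ := by group
    _ = Y⁻¹ * B * (C * Y * C⁻¹) * B⁻¹ * Z⁻¹ := by
      rw [h2, h3.eq, h1.eq, mul_inv_cancel_right, mul_inv_cancel_right]; group
    _ = Y⁻¹ * B * Y * (M * (B⁻¹ * Z⁻¹)) := by rw [h4]; group
    _ = _ := by rw [(h5.inv_right.mul_right h6.inv_right).eq]; group

theorem hs2_comm {g Y B Z : G} (h1 : Commute g Y) (h2 : Commute g B) (h3 : Commute g Z) :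
    Commute g (Y⁻¹ * (B * Y * B⁻¹) * Z⁻¹) :=
  (h1.inv_right.mul_right ((h2.mul_right h1).mul_right h2.inv_right)).mul_right h3.inv_right

theorem TR.hs_tup (h : TR E) {b : ι} (hb : E.γ b ≠ b) : ∃ r a k, Tup E r a b k := by
  obtain ⟨r, hr, e⟩ := h.sl0 b hb
  exact ⟨r, exists_tup' hr hb e⟩

/-- the configuration for two moved roots with a long sum -/
theorem TR.hs_xw (h : TR E) {a b k : ι} (ha : E.γ a ≠ a) (hk : E.γ k = k) (h1 : RAdd Φ a b k) :
    ∃ r a' k' m, Tup E r a' b k' ∧ E.γ m = m ∧ RAdd Φ a a' m ∧ RAdd Φ r m k ∧ ip Φ a r = 0 ∧ ip Φ a k' = 0 ∧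
      ip Φ a' k = 0 ∧ ip Φ k k' = 1 ∧ ip Φ r k = 1 := by
  have hb : E.γ b ≠ b := fun e => ha (hs_long_sub h1.symm e hk)
  obtain ⟨-, i2, i3⟩ := E.radd_ip h1
  obtain ⟨r, lr, e1, e2⟩ := h.sl2 k b hk hb (by rw [ip_comm, i3])
  obtain ⟨a', k', ht⟩ := exists_tup' lr hb e1
  obtain ⟨m, hm⟩ := E.exists_sub e2
  have f1 := h1.ip_right r
  have f2 := ht.hs_ip hk
  have f3 := h1.ip_left k'
  have f4 := ht.hb.ip_left k
  have f5 := ht.ips.2.2.2.2.2.1
  rw [ip_comm r a] at f1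
  rw [ip_comm k r, ip_comm k b] at f2
  refine ⟨r, a', k', m, ht, hs_long_sub hm lr hk, fun j => ?_, hm, by omega, by omega, by omega, by omega, e2⟩
  have := hm j; have := h1 j; have := ht.hb j
  omega

namespace HS1

variable (h : HS1 E P T s X ρ t y c W)
include h

theorem hs_def {r a b k : ι} (ht : Tup E r a b k) (u : K) : W b u = hs1W P X y r a k u := by
  rw [hs1W, h.df1 r a b k ht]
  group

theorem exa' {n : G} (hn : n ∈ tL X) {w : Equiv.Perm ι} (hw : w ∈ WT E Set.univ) (he : tExa X n w)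
    (a : ι) (u : K) : n * W a u * n⁻¹ = W (w a) u := by
  by_cases ha : E.γ a = a
  · rw [h.lng a ha, h.lng _ ((WT_long hw a).2 ha), h.exa hn hw he ha]
  · obtain ⟨r, a', k, ht⟩ := h.tr.hs_tup ha
    rw [h.hs_def ht, h.hs_def (ht.apply hw), h.hs1_exa ht hn hw he]

theorem wt (a : ι) (u : K) : W a u * t * (W a u)⁻¹ = t * X a u := by
  have R := h.hs_rel
  by_cases ha : E.γ a = a
  · rw [h.lng a ha, h.yt ha, R.lng ha]
  obtain ⟨r, a', k, ht⟩ := h.tr.hs_tup ha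
  obtain ⟨i1, i2, i3, i4, i5, i6, -⟩ := ht.ips
  have e1 := h.yt ht.lk (P.N u)
  have e2 := h.yt ht.lr 1
  have e3 := R.ls r a' a k ht u 1
  have c1 : Commute (X a' u) t := h.comL (mem_tL X a' u)
  have c2 : Commute (X a' u) (xl P X k (P.N u)) := R.com_l ht.lk (by omega) _ _
  have c3 : Commute (xl P X k (P.N u)) (y r 1) := h.cX ht.lr (by rw [ip_comm]; omega) _ _
  have c4 : Commute (xl P X r 1) (y r 1) := h.cX ht.lr (by rw [E.ip_self]; norm_num) _ _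
  have c5 : Commute (X a u) (y r 1) := h.cX ht.lr (by rw [ip_comm]; omega) _ _
  rw [map_one, one_mul, one_mul] at e3
  rw [h.hs_def ht, hs1W, h.yinv ht.lr, h.yinv ht.lk]
  calc _ = y r 1 * (X a' u * (y r 1 * ((X a' u)⁻¹ * (y k (P.N u) * t * (y k (P.N u))⁻¹) * X a' u) * (y r 1)⁻¹) *
        (X a' u)⁻¹) * (y r 1)⁻¹ := by group
    _ = y r 1 * (X a' u * (y r 1 * t * (xl P X k (P.N u) * (y r 1)⁻¹)) * (X a' u)⁻¹) * (y r 1)⁻¹ := by
      rw [e1, mul_assoc (X a' u)⁻¹, ← (c1.mul_right c2).eq]; group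
    _ = y r 1 * (X a' u * t * xl P X r 1 * (xl P X k (P.N u) * (X a' u)⁻¹)) * (y r 1)⁻¹ := by
      rw [c3.inv_right.eq, ← mul_assoc (y r 1 * t), e2]; group
    _ = y r 1 * t * (X a' u * xl P X r 1 * (X a' u)⁻¹ * xl P X k (P.N u)) * (y r 1)⁻¹ := by
      rw [← c2.inv_left.eq, c1.eq]; group
    _ = y r 1 * t * (xl P X r 1 * X a u * (y r 1)⁻¹) := by
      rw [e3, mul_assoc (xl P X r 1 * X a u), R.xl_sq]; group
    _ = t * (xl P X r 1 * xl P X r 1) * X a u := by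
      rw [(c4.mul_left c5).inv_right.eq, ← mul_assoc, e2]; group
    _ = _ := by rw [R.xl_sq, mul_one]

theorem co (a : ι) (u : K) : HX.CO (tL X) t (W a u) := by
  by_cases ha : E.γ a = a
  · rw [h.lng a ha]; exact h.yco ha _
  · obtain ⟨r, a', k, ht⟩ := h.tr.hs_tup ha
    rw [h.hs_def ht]
    exact ((h.yco ht.lr 1).inv.mul (((HX.CO.of_mem (mem_tL X a' u)).mul (h.yco ht.lr 1)).mul
      (HX.CO.of_mem (mem_tL X a' u)).inv)).mul (h.yco ht.lk _).inv

theorem mem (a : ι) (u : K) : W a u ∈ tG0 E X y := by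
  by_cases ha : E.γ a = a
  · rw [h.lng a ha]; exact h.y_mem ha _
  · obtain ⟨r, a', k, ht⟩ := h.tr.hs_tup ha
    rw [h.hs_def ht]
    exact mul_mem (mul_mem (inv_mem (h.y_mem ht.lr 1)) (mul_mem (mul_mem (h.L_le (mem_tL X a' u))
      (h.y_mem ht.lr 1)) (inv_mem (h.L_le (mem_tL X a' u))))) (inv_mem (h.y_mem ht.lk _))

theorem gam (a : ι) (u : K) : W (E.γ a) u = W a (P.τ u) := by
  by_cases ha : E.γ a = a
  · rw [ha, h.lng a ha, h.lng a ha, P.T_τ]
  · obtain ⟨r, a', k, ht⟩ := h.tr.hs_tup ha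
    rw [h.hs_def ht, h.hs_def ht.γ, hs1W, hs1W, h.hs_rel.gam, P.N_τ]

theorem df {r a b k : ι} (ht : Tup E r a b k) (v : K) (p : F) :
    X a v * y r p * (X a v)⁻¹ = y r p * W b (P.f p * v) * y k (p * P.N v) := by
  have R := h.hs_rel
  by_cases hp : p = 0
  · rw [hp, map_zero, zero_mul, zero_mul, h.hs_def ht, hs1W, R.zero, P.N_zero, h.y0 ht.lr, h.y0 ht.lk]
    group
  obtain ⟨m, rfl⟩ := FiniteField.isSquare_of_char_two (ringChar.eq F 2) p
  have hm := left_ne_zero_of_mul hp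
  obtain ⟨g, hg, -, -, hs⟩ := h.toSit.toSys.exists_hl ht.lr hm
  have hL := UU_le_tL X _ hg
  have hy : ∀ d, E.γ d = d → ∀ q, g * y d q * g⁻¹ = y d (m ^ ip Φ r d * q) :=
    fun d hd q => h.st hL hs hd rfl q
  have hx : ∀ d u, g * X d u * g⁻¹ = X d (P.f (m ^ ip Φ r d) * u) := fun d u => h.toSit.toSys.st_conj hs d u
  obtain ⟨i1, i2, i3, -⟩ := ht.ips
  have hW : ∀ u, g * W b u * g⁻¹ = W b (P.f m * u) := fun u => by
    have e1 := hy k ht.lk 1
    have e2 := hx (Φ.neg (E.γ a)) u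
    have e3 := hy r ht.lr (P.N u)
    rw [i3, zpow_zero, mul_one] at e1
    rw [ip_neg_right, ht.γ.ips.1, neg_neg, zpow_one] at e2
    rw [E.ip_self, zpow_two, ← P.N_f, ← P.N_mul] at e3
    rw [h.hs_def ht.dual, h.hs_def ht.dual, hs1W, hs1W, ← e2, ← e3]
    conv_rhs => rw [← e1]
    group
  have e1 := hy k ht.lk (P.N (P.f m * v))
  have e2 := hx a (P.f m * v)
  have e3 := hy r ht.lr 1
  rw [i3, zpow_zero, one_mul] at e1
  rw [i1, zpow_neg_one, ← mul_assoc (P.f m⁻¹), ← map_mul, inv_mul_cancel₀ hm, map_one, one_mul] at e2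
  rw [E.ip_self, zpow_two, mul_one] at e3
  rw [← P.N_f, ← P.N_mul, P.N_f, map_mul, mul_assoc (P.f m), ← hW, ← e1, ← e2, ← e3]
  calc _ = g * (X a (P.f m * v) * y r 1 * (X a (P.f m * v))⁻¹) * g⁻¹ := by group
    _ = _ := by rw [h.df1 r a b k ht]; group

theorem yW {d b : ι} (hd : E.γ d = d) (h0 : 0 ≤ ip Φ d b) (p : F) (u : K) :
    Commute (y d p) (W b u) := by
  by_cases hb : E.γ b = b
  · rw [h.lng b hb]; exact h.comy hd hb h0 _ _
  obtain ⟨r, lr, e1, e2⟩ : ∃ r, E.γ r = r ∧ ip Φ r b = 1 ∧ ip Φ r d = ip Φ d b := by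
    by_cases h1 : ip Φ d b = 0
    · rw [h1]; exact h.tr.sl4 d b hd hb h1
    by_cases h2 : ip Φ d b = 1
    · rw [h2]; exact h.tr.sl2 d b hd hb h2
    obtain rfl := E.eq_of_ip (r := d) (s := b) (by omega)
    exact absurd hd hb
  obtain ⟨a, k, ht⟩ := exists_tup' lr hb e1
  have f1 := ht.hb.ip_left d
  have f2 := ht.hs_ip hd
  rw [ip_comm] at e2
  rw [ip_comm b d, ip_comm r d] at f1
  rw [h.hs_def ht]
  exact hs2_comm (h.comy hd lr (by omega) _ _) (h.cX hd (by omega) _ _).symm (h.comy hd ht.lk (by omega) _ _)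

theorem xw {a b k : ι} (ha : E.γ a ≠ a) (hk : E.γ k = k) (h1 : RAdd Φ a b k) (v u : K) :
    X a v * W b u * (X a v)⁻¹ = W b u * y k (P.T (v * u)) := by
  have R := h.hs_rel
  obtain ⟨r, a', k', m, ht, lm, hm, hm', f1, f2, f3, f4, f5⟩ := h.tr.hs_xw ha hk h1
  rw [h.hs_def ht]
  refine hs2_alg (h.cX ht.lr f1.ge _ _) (R.conj_cm hm (h.tr.mm a a' ha ht.ma (E.radd_ip hm).1) v u)
    (h.cX ht.lk f2.ge _ _) ?_ (h.cX hk f3.ge _ _).symm (h.comy hk ht.lk (by omega) _ _)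
  rw [R.inv, R.lng lm, h.ya r m k ht.lr lm hm', one_mul]

theorem wadd (a : ι) (u v : K) : W a (u + v) = W a u * W a v := by
  have R := h.hs_rel
  by_cases ha : E.γ a = a
  · rw [h.lng a ha, h.lng a ha, h.lng a ha, P.T_add, h.add a ha]
  obtain ⟨r, a', k, ht⟩ := h.tr.hs_tup ha
  obtain ⟨i1, i2, i3, i4, i5, i6, -⟩ := ht.ips
  have e1 := h.xw (hs_γ_moved ht.ma) ht.lk ht.hk.symm (P.τ u) v
  rw [R.gam, P.τ2, ← P.T_τ, map_mul, P.τ2] at e1
  have c1 : Commute (X a' u) (y k (P.N v)) := h.cX ht.lk (by omega) _ _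
  have c2 : Commute (y k (P.N u)) (W a v) := h.yW ht.lk (by rw [ip_comm]; omega) _ _
  have e2 := h.df1 r a' a k ht (u + v)
  rw [P.N_add, add_right_comm, h.add k ht.lk, h.add k ht.lk, R.add] at e2
  refine mul_left_cancel (a := y r 1) (mul_right_cancel (e2.symm.trans ?_))
  calc _ = X a' u * (X a' v * y r 1 * (X a' v)⁻¹) * (X a' u)⁻¹ := by group
    _ = X a' u * y r 1 * (X a' u)⁻¹ * (X a' u * W a v * (X a' u)⁻¹) * (X a' u * y k (P.N v) * (X a' u)⁻¹) := by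
      rw [h.df1 r a' a k ht]; group
    _ = y r 1 * W a u * (y k (P.N u) * W a v) * y k (P.T (u * P.τ v)) * y k (P.N v) := by
      rw [h.df1 r a' a k ht, e1, c1.eq]; group
    _ = _ := by rw [c2.eq]; group

theorem ww {a b : ι} (h1 : 0 ≤ ip Φ a b) (h2 : 0 ≤ ip Φ a (E.γ b)) (u v : K) :
    Commute (W a u) (W b v) := by
  by_cases ha : E.γ a = a
  · rw [h.lng a ha]; exact h.yW ha h1 _ _
  by_cases hb : E.γ b = b
  · rw [h.lng b hb]; exact (h.yW hb (by rwa [ip_comm]) _ _).symm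
  have key : ∀ u v, Commute (W b u) (W b v) := fun u v => by
    rw [Commute, SemiconjBy, ← h.wadd, ← h.wadd, add_comm]
  rcases h.tr.ss1 a b ha hb h1 h2 with rfl | rfl | ⟨r, lr, e1, e2⟩
  · exact key u v
  · rw [h.gam]; exact key _ v
  obtain ⟨a', k', ht⟩ := exists_tup' lr hb e1
  have f1 := ht.hb.ip_left a
  have f2 := ht.hb.ip_left (E.γ a)
  have f3 := ht.hk.ip_left a
  rw [← hs_γ_swap r, lr, ← hs_γ_swap b, ip_comm (E.γ b) a] at f2
  rw [hs_γ_swap] at f3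
  rw [ip_comm a b] at h1
  rw [h.hs_def ht]
  exact hs2_comm (h.yW lr e2.ge _ _).symm (h.xc a' a (by omega) (by omega) _ _).symm
    (h.yW ht.lk (by omega) _ _).symm

theorem hs2 : HS2 E P T s X ρ t y c W :=
  ⟨h, h.wt, h.co, h.mem, h.gam, h.wadd, fun _ _ _ _ => h.df, fun _ _ => h.ww, fun _ _ _ => h.xw⟩

end HS1

namespace HS2

variable (h : HS2 E P T s X ρ t y c W)
include h

theorem W0 (a : ι) : W a 0 = 1 := by
  have := h.wadd a 0 0
  rw [add_zero] at this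
  exact left_eq_mul.1 this

theorem Wsq (a : ι) (u : K) : W a u * W a u = 1 := by rw [← h.wadd, P.add_selfK, h.W0]

theorem Winv (a : ι) (u : K) : (W a u)⁻¹ = W a u := inv_eq_of_mul_eq_one_right (h.Wsq a u)

theorem tW (a : ι) (u : K) : t * W a u * t⁻¹ = W a u * X a u := by
  have e := h.wt a u
  have t2 : t⁻¹ = t := inv_eq_of_mul_eq_one_right h.t2
  rw [← (h.xc a a (by rw [E.ip_self]; norm_num) (E.γo a) u u).eq]
  calc t * W a u * t⁻¹ = t⁻¹ * (W a u * t * (W a u)⁻¹) * W a u := by rw [t2]; group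
    _ = _ := by rw [e]; group

theorem act_W {e b : ι} (he : E.γ e = e) (h1 : ip Φ e b = 1) (u : K) :
    Act Φ P X y e (W b u) (X b u) := by
  have R := h.hs_rel
  by_cases hb : E.γ b = b
  · rw [h.lng b hb, R.lng hb]
    exact h.act_y he hb (by rw [ip_comm, h1]) _
  obtain ⟨r, lr, e1, e2⟩ := h.tr.sl2 e b he hb h1
  obtain ⟨a, k, ht⟩ := exists_tup' lr hb e1
  have f1 := ht.hb.ip_left e
  have f2 := ht.hs_ip he
  rw [ip_comm b e] at f1
  rw [ip_comm e r, ip_comm e k] at f2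
  have m1 : xl P X r 1 ∈ tY Φ X e := mem_UUx X (show 0 ≤ ip Φ r e by omega) _
  have m2 : X a u ∈ tY Φ X e := mem_UUx X (show 0 ≤ ip Φ a e by omega) _
  have c1 : ∀ p, Commute (y r 1) (y e p) := fun p => h.comy lr he (by omega) _ _
  have c2 : ∀ p, Commute (X a u) (y e p) := fun p => h.cY he m2 p
  have a1 := h.act_y he lr e2 1
  have a2 := h.act_mul he (h.act_mul he a1 (h.act_conj he a1 m2) c1 m1) (h.act_y he ht.lk (by omega) (P.N u))
    (fun p => (c1 p).mul_left (((c2 p).mul_left (c1 p)).mul_left (c2 p).inv_left))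
    (mul_mem m1 (mul_mem (mul_mem m2 m1) (inv_mem m2)))
  have e3 : xl P X r 1 * (X a u * xl P X r 1 * (X a u)⁻¹) * xl P X k (P.N u) = X b u := by
    rw [R.ls r a b k ht, map_one, one_mul, one_mul, ← mul_assoc, ← mul_assoc, R.xl_sq, one_mul, mul_assoc,
      R.xl_sq, mul_one]
  rw [e3] at a2
  rwa [h.hs_def ht, hs1W, h.yinv ht.lr, h.yinv ht.lk]

end HS2

end CfsgLib.SLT
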