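import Mathlib
import Cfsg.Agent.Lib.SLT.HS2

/-!
# The relations over the doubled ring
-/

set_option autoImplicit false
set_option linter.unusedSectionVars false

namespace CfsgLib.SLT

open CfsgLib.RGD CfsgLib.Stein CfsgLib.SLE Subgroup
open scoped commutatorElement Pointwise

universe u

variable {ι κ : Type} [Fintype κ] [DecidableEq κ] [Finite ι] {Φ : RootSys ι κ} {E : ER Φ}
  {F K : Type} [Field F] [Finite F] [CharP F 2] [Field K] [Finite K] [CharP K 2] {P : QE F K}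
  {G : Type u} [Group G] [Finite G] {A : Type} [Group A] [Finite A] {T : StSys Φ K A} {s : A}
  {X : ι → K → G} {ρ : G → A} {t : G}

variable {y : ι → F → G} {c : F} {W : ι → K → G}

namespace DblX

theorem bil {a₁ a₂ b₁ b₂ c₁₁ c₁₂ c₂₁ c₂₂ : G} (e₁₁ : a₁ * b₁ * a₁⁻¹ = b₁ * c₁₁)
    (e₁₂ : a₁ * b₂ * a₁⁻¹ = b₂ * c₁₂) (e₂₁ : a₂ * b₁ * a₂⁻¹ = b₁ * c₂₁) (e₂₂ : a₂ * b₂ * a₂⁻¹ = b₂ * c₂₂)
    (k₁ : Commute a₁ c₂₁) (k₂ : Commute a₁ c₂₂) (k₃ : Commute b₂ c₁₁) (k₄ : Commute b₂ c₂₁) :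
    a₁ * a₂ * (b₁ * b₂) * (a₁ * a₂)⁻¹ = b₁ * b₂ * (c₁₁ * c₂₁ * c₁₂ * c₂₂) := by
  calc _ = a₁ * ((a₂ * b₁ * a₂⁻¹) * (a₂ * b₂ * a₂⁻¹)) * a₁⁻¹ := by group
    _ = (a₁ * b₁ * a₁⁻¹) * (a₁ * c₂₁ * a₁⁻¹) * (a₁ * b₂ * a₁⁻¹) * (a₁ * c₂₂ * a₁⁻¹) := by
      rw [e₂₁, e₂₂]; group
    _ = b₁ * (c₁₁ * c₂₁ * b₂) * c₁₂ * c₂₂ := by
      rw [e₁₁, e₁₂, k₁.eq, k₂.eq, mul_inv_cancel_right, mul_inv_cancel_right]; group
    _ = _ := by rw [← (k₃.mul_right k₄).eq]; group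

theorem dX_def (a : ι) (ξ : HX.QA K (P.f c)) : dX X W (P.f c) a ξ = X a ξ.re * W a ξ.im := rfl

theorem ipγ (a b : ι) : ip Φ a (E.γ b) = ip Φ b (E.γ a) := by
  rw [← E.γip, E.γ2, ip_comm]

theorem flip {x g z : G} (e : x * g * x⁻¹ = g * z) (k : Commute z g) (k' : z * z = 1) (k'' : Commute z x) :
    g * x * g⁻¹ = x * z := by
  have e1 : x * g = g * z * x := by rw [← e]; group
  calc g * x * g⁻¹ = g * z * (z * x) * g⁻¹ := by rw [mul_assoc g z, ← mul_assoc z z, k', one_mul]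
    _ = g * z * x * (z * g⁻¹) := by rw [k''.eq]; group
    _ = _ := by rw [← e1, k.inv_right.eq]; group

end DblX

open DblX

theorem HS2.xl_dX (h : HS2 E P T s X ρ t y c W) {r : ι} (hr : E.γ r = r) (ξ : HX.QA F c) :
    xl (P.dbl c) (dX X W (P.f c)) r ξ = xl P X r ξ.re * y r ξ.im := by
  have e : (P.dbl c).ω * (P.dbl c).f ξ = ⟨P.ω * P.f ξ.re, P.ω * P.f ξ.im⟩ := by
    ext <;> simp [QE.dbl, HX.QA.map]
  rw [xl, e, dX_def, h.lng r hr, P.T_ω, xl]

theorem HS2.t_dX (h : HS2 E P T s X ρ t y c W) (a : ι) (ξ : HX.QA K (P.f c)) :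
    t * dX X W (P.f c) a ξ * t⁻¹ = dX X W (P.f c) a ⟨ξ.re + ξ.im, ξ.im⟩ := by
  have k := h.xc a a (by rw [E.ip_self]; omega) (E.γo a) ξ.im ξ.im
  rw [dX_def, dX_def, ← mul_assoc, ← h.comL (mem_tL X _ _), mul_assoc, mul_assoc, ← mul_assoc t, h.tW,
    ← k.eq, h.rel.add, mul_assoc]

theorem HS2.tL_dX (h : HS2 E P T s X ρ t y c W) : tL (dX X W (P.f c)) = tG0 E X y := by
  refine le_antisymm ((closure_le _).2 ?_) (sup_le ((closure_le _).2 ?_) ((closure_le _).2 ?_))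
  · rintro _ ⟨a, -, u, rfl⟩
    exact mul_mem (h.L_le (mem_tL X _ _)) (h.mem _ _)
  · rintro _ ⟨a, -, u, rfl⟩
    have := mem_tL (dX X W (P.f c)) a ⟨u, 0⟩
    rwa [dX_def, h.W0, mul_one] at this
  · rintro _ ⟨r, hr, p, rfl⟩
    have : xl (P.dbl c) (dX X W (P.f c)) r ⟨0, p⟩ ∈ tL (dX X W (P.f c)) := mem_tL _ _ _
    rwa [h.xl_dX hr, h.rel.xl_zero, one_mul] at this

namespace HS2

variable (h : HS2 E P T s X ρ t y c W)
include h

theorem dbl_add (a : ι) (u v : HX.QA K (P.f c)) :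
    dX X W (P.f c) a (u + v) = dX X W (P.f c) a u * dX X W (P.f c) a v := by
  have k := h.xc a a (by rw [E.ip_self]; omega) (E.γo a) v.re u.im
  rw [dX_def, dX_def, dX_def, QuadraticAlgebra.re_add, QuadraticAlgebra.im_add, h.rel.add, h.wadd,
    k.symm.mul_mul_mul_comm]

theorem dbl_gam (a : ι) (u : HX.QA K (P.f c)) :
    dX X W (P.f c) (E.γ a) u = dX X W (P.f c) a ((P.dbl c).τ u) := by
  rw [dX_def, dX_def, h.rel.gam, h.gam]; rfl

theorem dbl_com {a b : ι} (h1 : 0 ≤ ip Φ a b) (h2 : 0 ≤ ip Φ a (E.γ b)) (u v : HX.QA K (P.f c)) :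
    Commute (dX X W (P.f c) a u) (dX X W (P.f c) b v) := by
  have k1 : Commute (X a u.re) (X b v.re) := h.rel.com a b h1 h2 _ _
  have k2 := h.xc a b h1 h2 u.re v.im
  have k3 := h.xc b a (by rwa [ip_comm]) (by rwa [ipγ]) v.re u.im
  exact (k1.mul_right k2).mul_left (k3.symm.mul_right (h.ww a b h1 h2 _ _))

theorem dbl_lng {r : ι} (hr : E.γ r = r) (u : HX.QA K (P.f c)) :
    dX X W (P.f c) r u = xl (P.dbl c) (dX X W (P.f c)) r ((P.dbl c).T u) := by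
  rw [h.xl_dX hr, dX_def, h.rel.lng hr, h.lng r hr]; rfl

theorem dbl_xadd (r : ι) (p q : HX.QA F c) : xl (P.dbl c) (dX X W (P.f c)) r (p + q) =
    xl (P.dbl c) (dX X W (P.f c)) r p * xl (P.dbl c) (dX X W (P.f c)) r q := by
  rw [xl, map_add, mul_add, h.dbl_add]; rfl

theorem dbl_ll {a b k : ι} (ha : E.γ a = a) (hb : E.γ b = b) (hk : RAdd Φ a b k) (p q : HX.QA F c) :
    xl (P.dbl c) (dX X W (P.f c)) a p * xl (P.dbl c) (dX X W (P.f c)) b q *
      (xl (P.dbl c) (dX X W (P.f c)) a p)⁻¹ =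
    xl (P.dbl c) (dX X W (P.f c)) b q * xl (P.dbl c) (dX X W (P.f c)) k (p * q) := by
  have lk := long_add hk ha hb
  obtain ⟨-, i1, i2⟩ := E.radd_ip hk
  have e12 := h.ya b a k hb ha hk.symm q.im p.re
  have e21 := h.ay ha hb hk p.im q.re
  have e22 := h.yy b a k hb ha hk.symm q.im p.im
  nth_rewrite 2 [← h.rel.xl_inv] at e12
  nth_rewrite 2 [← h.yinv ha] at e21 e22
  rw [mul_assoc (y b q.im)] at e22
  have c1 : ∀ p q, Commute (xl P X a p) (y k q) := fun p q => h.cX lk (by omega) _ _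
  have c2 : ∀ p q, Commute (xl P X a p) (xl P X k q) := fun p q => h.rel.com_l lk (by omega) _ _
  have c3 : ∀ p q, Commute (y b p) (xl P X k q) := fun p q =>
    (h.cX hb (by rw [ip_comm]; omega) _ _).symm
  have c4 : ∀ p q, Commute (xl P X k p) (y k q) := fun p q => h.cX lk (by rw [E.ip_self]; omega) _ _
  rw [h.xl_dX ha, h.xl_dX hb, h.xl_dX lk, bil (h.rel.conj_ll ha hb hk _ _) e12 e21 e22 (c1 _ _)
    ((c1 _ _).mul_right (c2 _ _)) (c3 _ _) (h.com1 b k hb lk i2 _ _), ← (c4 _ _).eq]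
  congr 1
  calc _ = xl P X k (p.re * q.re) * (y k (p.im * q.re) * y k (q.im * p.re) * xl P X k (c * (q.im * p.im))) *
      y k (q.im * p.im) := by group
    _ = _ := by
      rw [← h.add k lk, ← (c4 _ _).eq, ← mul_assoc, ← h.rel.xl_add, mul_assoc, ← h.add k lk]
      congr 2 <;> simp <;> ring

end HS2

namespace HS4

variable (h : HS4 E P T s X ρ t y c W)
include h

theorem dbl_xw {a b k : ι} (ha : E.γ a ≠ a) (hb : E.γ b ≠ b) (hk : RAdd Φ a b k) (v u : K) :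
    X a v * W b u * (X a v)⁻¹ = W b u * W k (v * u) := by
  by_cases lk : E.γ k = k
  · rw [h.xw a b k ha lk hk, h.lng k lk]
  · exact h.j1 a b k ha hb lk hk v u

theorem dbl_ww {a b k : ι} (ha : E.γ a ≠ a) (hb : E.γ b ≠ b) (hk : RAdd Φ a b k) (v u : K) :
    W a v * W b u * (W a v)⁻¹ = W b u * (W k (v * u) * X k (P.f c * (v * u))) := by
  rw [← mul_assoc]
  by_cases lk : E.γ k = k
  · rw [h.wwl a b k ha lk hk, h.lng k lk, h.rel.lng lk, P.T_mul]
  · exact h.j2 a b k ha hb lk hk v u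

theorem dbl_cm {a b k : ι} (hk : RAdd Φ a b k) (h0 : 0 ≤ ip Φ a (E.γ b)) (u v : HX.QA K (P.f c)) :
    dX X W (P.f c) a u * dX X W (P.f c) b v * (dX X W (P.f c) a u)⁻¹ =
      dX X W (P.f c) b v * dX X W (P.f c) k (u * v) := by
  obtain ⟨i0, i1, i2⟩ := E.radd_ip hk
  have ha : E.γ a ≠ a := fun e => by rw [ipγ, e, ip_comm] at h0; omega
  have hb : E.γ b ≠ b := fun e => by rw [e] at h0; omega
  have j1 : 0 ≤ ip Φ a (E.γ k) := by
    have := E.γo a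
    rw [(E.γa _ _ _ hk).ip_right]; omega
  have j2 : 0 ≤ ip Φ b (E.γ k) := by
    have := E.γo b
    rw [(E.γa _ _ _ hk).ip_right, ipγ b a]; omega
  have c1 : ∀ p q, Commute (X a p) (W k q) := fun p q => h.xc a k (by omega) j1 _ _
  have c2 : ∀ p q, Commute (X a p) (X k q) := fun p q => h.rel.com a k (by omega) j1 _ _
  have c3 : ∀ p q, Commute (W b p) (X k q) := fun p q =>
    (h.xc k b (by rw [ip_comm]; omega) (by rwa [ipγ]) _ _).symm
  have c4 : ∀ p q, Commute (X k p) (W k q) := fun p q => h.xc k k (by rw [E.ip_self]; omega) (E.γo k) _ _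
  have c5 : ∀ p q, Commute (W b p) (W k q) := fun p q => h.ww b k (by omega) j2 _ _
  have e21 := flip (h.dbl_xw hb ha hk.symm v.re u.im) (h.ww a k (by omega) j1 _ _).symm (h.Wsq _ _)
    (h.xc b k (by omega) j2 _ _).symm
  rw [dX_def, dX_def, dX_def, bil (h.rel.conj_cm hk h0 _ _) (h.dbl_xw ha hb hk _ _) e21
    (h.dbl_ww ha hb hk _ _) (c1 _ _) ((c1 _ _).mul_right (c2 _ _)) (c3 _ _) (c5 _ _), ← (c4 _ _).eq]
  congr 1
  calc _ = X k (u.re * v.re) * (W k (v.re * u.im) * W k (u.re * v.im) * X k (P.f c * (u.im * v.im))) *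
      W k (u.im * v.im) := by group
    _ = _ := by
      rw [← h.wadd, ← (c4 _ _).eq, ← mul_assoc, ← h.rel.add, mul_assoc, ← h.wadd]
      congr 2 <;> simp <;> ring

theorem dbl_ls {r a b k : ι} (ht : Tup E r a b k) (v : HX.QA K (P.f c)) (p : HX.QA F c) :
    dX X W (P.f c) a v * xl (P.dbl c) (dX X W (P.f c)) r p * (dX X W (P.f c) a v)⁻¹ =
      xl (P.dbl c) (dX X W (P.f c)) r p * dX X W (P.f c) b ((P.dbl c).f p * v) *
        xl (P.dbl c) (dX X W (P.f c)) k (p * (P.dbl c).N v) := by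
  obtain ⟨i1, i2, i3, i4, i5, i6, i7, i8, i9⟩ := ht.ips
  have lr := ht.lr
  have lk := ht.lk
  have hadd := h.dbl_add
  have hxadd := h.dbl_xadd
  have hcm := h.dbl_cm ht.hk.symm (by rw [E.γip]; omega)
  have hgam := h.dbl_gam
  have hlng := h.dbl_lng lk
  set Q := P.dbl c with hQ
  set D := dX X W (P.f c) with hD
  have c1 : ∀ u p, Commute (D b u) (xl Q D r p) := fun u p =>
    h.dbl_com (by rw [ip_comm]; omega) (by rw [lr, ip_comm]; omega) _ _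
  have c2 : ∀ q p, Commute (xl Q D k q) (xl Q D r p) := fun u p =>
    h.dbl_com (by rw [ip_comm]; omega) (by rw [lr, ip_comm]; omega) _ _
  have c3 : ∀ u p, Commute (D b u) (xl Q D k p) := fun u p =>
    h.dbl_com (by omega) (by rw [lk]; omega) _ _
  have c4 : ∀ u p, Commute (D a u) (xl Q D k p) := fun u p =>
    h.dbl_com (by omega) (by rw [lk]; omega) _ _
  have nf : ∀ p u q p' u' q', xl Q D r p * D b u * xl Q D k q * (xl Q D r p' * D b u' * xl Q D k q') =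
      xl Q D r (p + p') * D b (u + u') * xl Q D k (q + q') := fun p u q p' u' q' => by
    rw [((c2 q p').mul_right (c3 u' q).symm).mul_mul_mul_comm, (c1 u p').mul_mul_mul_comm, hxadd,
      hxadd, hadd]
  have addp : ∀ v p p', D a v * xl Q D r p * (D a v)⁻¹ = xl Q D r p * D b (Q.f p * v) * xl Q D k (p * Q.N v) →
      D a v * xl Q D r p' * (D a v)⁻¹ = xl Q D r p' * D b (Q.f p' * v) * xl Q D k (p' * Q.N v) →
      D a v * xl Q D r (p + p') * (D a v)⁻¹ =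
        xl Q D r (p + p') * D b (Q.f (p + p') * v) * xl Q D k ((p + p') * Q.N v) := fun v p p' e e' => by
    rw [map_add, add_mul, add_mul, ← nf, ← e, ← e', hxadd, conj_mul]
  have addv : ∀ v v', D a v * xl Q D r p * (D a v)⁻¹ = xl Q D r p * D b (Q.f p * v) * xl Q D k (p * Q.N v) →
      D a v' * xl Q D r p * (D a v')⁻¹ = xl Q D r p * D b (Q.f p * v') * xl Q D k (p * Q.N v') →
      D a (v + v') * xl Q D r p * (D a (v + v'))⁻¹ =
        xl Q D r p * D b (Q.f p * (v + v')) * xl Q D k (p * Q.N (v + v')) := fun v v' e e' => by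
    have e1 := hcm (Q.τ v) (Q.f p * v')
    rw [hgam, Q.τ2, hlng] at e1
    have e2 : Q.T (Q.τ v * (Q.f p * v')) = p * Q.T (v * Q.τ v') := by
      rw [mul_left_comm, Q.T_mul, ← Q.T_τ, map_mul, Q.τ2]
    calc _ = D a v * (D a v' * xl Q D r p * (D a v')⁻¹) * (D a v)⁻¹ := by rw [hadd]; group
      _ = (D a v * xl Q D r p * (D a v)⁻¹) * (D a v * D b (Q.f p * v') * (D a v)⁻¹) *
          (D a v * xl Q D k (p * Q.N v') * (D a v)⁻¹) := by rw [e']; group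
      _ = xl Q D r p * (D b (Q.f p * v) * (xl Q D k (p * Q.N v) * D b (Q.f p * v'))) *
          (xl Q D k (p * Q.T (v * Q.τ v')) * xl Q D k (p * Q.N v')) := by
        rw [e, e1, e2, (c4 _ _).eq, mul_inv_cancel_right]; group
      _ = _ := by
        rw [← (c3 _ _).eq, ← mul_assoc (D b _), ← hadd, ← hxadd, ← mul_assoc, mul_assoc _ (xl Q D k _),
          ← hxadd, Q.N_add, mul_add (Q.f p)]
        congr 2
        ring
  have sp : p = ⟨p.re, 0⟩ + ⟨0, p.im⟩ := by ext <;> simp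
  have sv : v = ⟨v.re, 0⟩ + ⟨0, v.im⟩ := by ext <;> simp
  have d1 : ∀ p q, Commute (xl P X k p) (y k q) := fun p q => h.cX lk (by rw [E.ip_self]; omega) _ _
  have d2 : ∀ p q, Commute (X b p) (W b q) := fun p q => h.xc b b (by rw [E.ip_self]; omega) (E.γo b) _ _
  rw [sv]
  refine addv _ _ ?_ ?_ <;> rw [sp] <;> refine addp _ _ _ ?_ ?_ <;>
    simp only [hD, hQ, h.xl_dX lr, h.xl_dX lk, dX_def, h.W0, h.rel.zero, h.y0 lr, h.rel.xl_zero, mul_one, one_mul]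
  · rw [h.rel.ls r a b k ht]
    simp [QE.dbl, HX.QA.map, P.N_zero, P.T_zero, h.W0, h.y0 lk]
  · rw [h.df r a b k ht]
    simp [QE.dbl, HX.QA.map, P.N_zero, P.T_zero, h.rel.zero, h.rel.xl_zero]
  · rw [h.i1 r a b k ht, mul_assoc _ (y k _), ← (d1 _ _).eq]
    simp [QE.dbl, HX.QA.map, P.N_zero, P.T_zero, h.rel.zero, mul_left_comm]
  · rw [h.i2 r a b k ht, mul_assoc _ (y k _), ← (d1 _ _).eq, mul_assoc _ (W b _), ← (d2 _ _).eq]
    simp [QE.dbl, HX.QA.map, P.N_zero, P.T_zero]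
    congr 2 <;> ring

end HS4

theorem HS4.trel (h : HS4 E P T s X ρ t y c W) : TRel E (P.dbl c) (dX X W (P.f c)) := by
  refine ⟨h.dbl_add, h.dbl_gam, fun a b h1 h2 u v => h.dbl_com h1 h2 u v, fun a b k hk h0 u v => ?_,
    fun a b k ha hb hk p q => ?_, fun r a b k ht v p => h.dbl_ls ht v p⟩
  · obtain ⟨-, -, i2⟩ := E.radd_ip hk
    have j2 : 0 ≤ ip Φ b (E.γ k) := by
      have := E.γo b
      rw [(E.γa _ _ _ hk).ip_right, ipγ b a]; omega
    rw [h.dbl_cm hk h0, (h.dbl_com (by omega) j2 _ _).eq, mul_inv_cancel_right]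
  · obtain ⟨-, -, i2⟩ := E.radd_ip hk
    have : Commute (xl (P.dbl c) (dX X W (P.f c)) b q) (xl (P.dbl c) (dX X W (P.f c)) k (p * q)) :=
      h.dbl_com (by omega) (by rw [long_add hk ha hb]; omega) _ _
    rw [h.dbl_ll ha hb hk, this.eq, mul_inv_cancel_right]

end CfsgLib.SLT
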