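import Mathlib
import Cfsg.Agent.Lib.SLT.Cen

/-!
# Double centralisers of involutions
-/

set_option autoImplicit false
set_option linter.unusedSectionVars false

namespace CfsgLib.SLT

open CfsgLib.RGD CfsgLib.Stein CfsgLib.SLE Subgroup
open scoped commutatorElement Pointwise

universe u

variable {ι κ : Type} [Fintype κ] [DecidableEq κ] [Finite ι] {Φ : RootSys ι κ} {E : ER Φ}
  {F K : Type} [Field F] [Finite F] [CharP F 2] [Field K] [Finite K] [CharP K 2] {P : QE F K}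
  {G : Type u} [Group G] [Finite G] {A : Type} [Group A] [Finite A] {T : StSys Φ K A} {s : A}
  {X : ι → K → G} {ρ : G → A} {t : G}

omit [Finite G] in
theorem dcg_conj_prod {B : List ι} (nd : B.Nodup) {b : ι} (hb : b ∈ B) (y : ι → G) {g z : G}
    (h1 : ∀ c ∈ B, c ≠ b → Commute g (y c)) (h2 : g * y b * g⁻¹ = y b * z)
    (h3 : ∀ c ∈ B, Commute z (y c)) : g * (B.map y).prod * g⁻¹ = (B.map y).prod * z := by
  obtain ⟨L, L', rfl⟩ := List.append_of_mem hb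
  rw [List.nodup_middle, List.nodup_cons, List.mem_append, not_or] at nd
  have c1 : Commute g (L.map y).prod := Commute.list_prod_right _ _ fun x hx => by
    obtain ⟨r, hr, rfl⟩ := List.mem_map.1 hx
    exact h1 r (by simp [hr]) fun e => nd.1.1 (e ▸ hr)
  have c2 : Commute g (L'.map y).prod := Commute.list_prod_right _ _ fun x hx => by
    obtain ⟨r, hr, rfl⟩ := List.mem_map.1 hx
    exact h1 r (by simp [hr]) fun e => nd.1.2 (e ▸ hr)
  have c3 : Commute z (L'.map y).prod := Commute.list_prod_right _ _ fun x hx => by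
    obtain ⟨r, hr, rfl⟩ := List.mem_map.1 hx
    exact h3 r (by simp [hr])
  rw [List.map_append, List.prod_append, List.map_cons, List.prod_cons, ← conj_mul, ← conj_mul, c1.eq, c2.eq,
    mul_inv_cancel_right, mul_inv_cancel_right, h2, mul_assoc (y b), c3.eq]
  simp only [mul_assoc]

omit [Finite G] in
theorem dcg_prod_mul {B : List ι} (y y' : ι → G) (h : ∀ r ∈ B, ∀ s ∈ B, Commute (y r) (y' s)) :
    (B.map y).prod * (B.map y').prod = (B.map fun r => y r * y' r).prod := by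
  induction B with
  | nil => simp
  | cons a L ih =>
    have c : Commute (L.map y).prod (y' a) := Commute.list_prod_left _ _ fun x hx => by
      obtain ⟨r, hr, rfl⟩ := List.mem_map.1 hx
      exact h r (List.mem_cons_of_mem _ hr) a List.mem_cons_self
    simp only [List.map_cons, List.prod_cons]
    rw [← ih fun r hr s hs => h r (List.mem_cons_of_mem _ hr) s (List.mem_cons_of_mem _ hs), mul_assoc,
      ← mul_assoc (L.map y).prod, c.eq]
    simp only [mul_assoc]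

omit [Finite G] in
theorem dcg_conj_all {B : List ι} (y y' : ι → G) {g : G} (h : ∀ r ∈ B, g * y r * g⁻¹ = y' r) :
    g * (B.map y).prod * g⁻¹ = (B.map y').prod := by
  induction B with
  | nil => simp
  | cons a L ih =>
    simp only [List.map_cons, List.prod_cons]
    rw [← conj_mul, h a List.mem_cons_self, ih fun r hr => h r (List.mem_cons_of_mem _ hr)]

omit [Finite G] in
theorem dcg_pg {g : G} (h : g * g = 1) : IsPGroup 2 (zpowers g) :=
  Core.isPGroup_zpowers_iff.2 ⟨1, by rw [pow_one, pow_two, h]⟩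

/-- the subgroup `W` -/
def dcgW (E : ER Φ) (P : QE F K) (X : ι → K → G) (B : List ι) : Subgroup G :=
  closure {g | ∃ c e, g = lB P X B c * xl P X E.θ e}

theorem dcg_long_sub {b η k : ι} (h : RAdd Φ b η k) (hb : E.γ b = b) (hk : E.γ k = k) : E.γ η = η := by
  have := E.γa _ _ _ h
  rw [hb, hk] at this
  exact this.unique h

namespace TCert

variable {B : List ι} (h : TCert E B)
include h

theorem gr_self {b : ι} (hb : b ∈ B) : grB Φ B b = 2 := by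
  classical
  rw [grB, List.sum_map_eq_nsmul_single b _ fun c hc hc' => h.ort b hb c hc' hc.symm,
    List.count_eq_one_of_mem h.nd hb, E.ip_self, one_smul]

theorem nonneg {b c : ι} (hb : b ∈ B) (hc : c ∈ B) : 0 ≤ ip Φ b c := by
  by_cases e : b = c
  · rw [e, E.ip_self]; decide
  · exact (h.ort b hb c hc e).ge

theorem gr_nonneg {r : ι} (hr : Φ.Pos r) : 0 ≤ grB Φ B r := by
  rw [grB_sum]
  exact Finset.sum_nonneg fun i _ => mul_nonneg (hr i) (h.dom i)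

theorem pos {b : ι} (hb : b ∈ B) : Φ.Pos b := E.pos_of_θ (h.one b hb).ge

theorem nθ : E.θ ∉ B := fun k => by
  have := h.one _ k
  rw [E.ip_self] at this
  exact absurd this (by decide)

theorem gr_γ (r : ι) : grB Φ B (E.γ r) = grB Φ B r :=
  congrArg List.sum (List.map_congr_left fun b hb => ip_γ_long (h.fix b hb) r)

theorem cm_γ {a : ι} (ha : CmB Φ B a) : CmB Φ B (E.γ a) := fun b hb => by
  rw [ip_γ_long (h.fix b hb)]; exact ha b hb

theorem gr_θ : 2 ≤ grB Φ B E.θ := by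
  by_contra k
  obtain ⟨a, ha, -, h1⟩ := h.el _ E.pos_θ (not_le.1 k)
  have := E.nonneg_θ ha
  rw [ip_comm] at this
  omega

theorem eta {b : ι} (hb : b ∈ B) : ∃ η, RAdd Φ η b E.θ ∧ E.γ η = η ∧ ip Φ η E.θ = 1 ∧
    ∀ c ∈ B, c ≠ b → ip Φ η c = 1 := by
  obtain ⟨η, h1⟩ := E.exists_sub (h.one b hb)
  refine ⟨η, h1.symm, dcg_long_sub h1 (h.fix b hb) E.γ_θ, (E.radd_ip h1).2.2, fun c hc e => ?_⟩
  have := h1.ip_left c
  rw [ip_comm E.θ, h.one c hc, h.ort b hb c hc e.symm] at this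
  omega

theorem cl : Cl E {a | Φ.Pos a ∧ CmB Φ B a} :=
  ⟨fun _ hr => hr.1, fun a ha b hb k hk => ⟨radd_pos hk ha.1 hb.1, fun c hc => by
    rw [hk.ip_left]; exact add_nonneg (ha.2 c hc) (hb.2 c hc)⟩,
    fun r hr => ⟨(E.γ_pos r).2 hr.1, h.cm_γ hr.2⟩⟩

end TCert

namespace Sys

variable (h : Sys E P T s X ρ)
include h

omit h in
theorem dcg_mem {B : List ι} {Ψ : Set ι} (hB : ∀ b ∈ B, b ∈ Ψ) (c : ι → F) :
    (B.map fun b => xl P X b (c b)).prod ∈ UUx X Ψ :=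
  list_prod_mem fun x hx => by
    obtain ⟨r, hr, rfl⟩ := List.mem_map.1 hx
    exact mem_UUx X (hB r hr) _

theorem dcg_map {B : List ι} (hB : ∀ b ∈ B, E.γ b = b) (c : ι → F) :
    ρ (B.map fun b => xl P X b (c b)).prod = T.xprod B fun b => P.f (c b) := by
  induction B with
  | nil => rw [List.map_nil, List.prod_nil, h.one, StSys.xprod_nil]
  | cons a L ih =>
    rw [List.map_cons, List.prod_cons, T.xprod_cons, h.mul (xl P X a (c a)) (L_le_N (mem_tL X _ _)) _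
      (L_le_N (dcg_mem (fun _ _ => Set.mem_univ _) c)), h.map_xl (hB a List.mem_cons_self),
      ih fun b hb => hB b (List.mem_cons_of_mem _ hb)]

theorem map_lB {B : List ι} (hB : ∀ b ∈ B, E.γ b = b) (c : F) :
    ρ (lB P X B c) = T.xprod B fun _ => P.f c := h.dcg_map hB fun _ => c

section Cert

variable {B : List ι} (hB : TCert E B)
include hB

theorem dcg_comm {a : ι} (ha : CmB Φ B a) (v : K) (c : ι → F) :
    Commute (X a v) (B.map fun b => xl P X b (c b)).prod :=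
  Commute.list_prod_right _ _ fun x hx => by
    obtain ⟨r, hr, rfl⟩ := List.mem_map.1 hx
    exact h.rel.com_l (hB.fix r hr) (ha r hr) _ _

theorem dcg_commθ (e : F) (c : ι → F) : Commute (xl P X E.θ e) (B.map fun b => xl P X b (c b)).prod :=
  h.dcg_comm hB (fun b hb => by rw [ip_comm, hB.one b hb]; decide) _ _

theorem dcg_conj {η b : ι} (hb : b ∈ B) (h1 : RAdd Φ η b E.θ) (h2 : E.γ η = η)
    (h3 : ∀ c ∈ B, c ≠ b → ip Φ η c = 1) (e : F) (c : ι → F) :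
    xl P X η e * (B.map fun b => xl P X b (c b)).prod * (xl P X η e)⁻¹ =
      (B.map fun b => xl P X b (c b)).prod * xl P X E.θ (e * c b) :=
  dcg_conj_prod hB.nd hb _ (fun d hd e' => h.rel.com_l (hB.fix d hd) (by rw [h3 d hd e']; decide) _ _)
    (h.rel.conj_ll h2 (hB.fix b hb) h1 _ _) fun d hd =>
      h.rel.com_l (hB.fix d hd) (by rw [ip_comm, hB.one d hd]; decide) _ _

theorem dcg_add (c e : F) : lB P X B c * lB P X B e = lB P X B (c + e) := by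
  refine (dcg_prod_mul (fun b => xl P X b c) (fun b => xl P X b e)
    fun r hr s hs => h.rel.com_l (hB.fix s hs) (hB.nonneg hr hs) _ _).trans ?_
  simp only [← h.rel.xl_add]
  rfl

omit hB in
theorem dcg_zero : lB P X B 0 = 1 := by
  simp only [lB, h.rel.xl_zero, List.map_const', List.prod_replicate, one_pow]

theorem dcg_mul (c e c' e' : F) : lB P X B c * xl P X E.θ e * (lB P X B c' * xl P X E.θ e') =
    lB P X B (c + c') * xl P X E.θ (e + e') := by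
  rw [← h.dcg_add hB, h.rel.xl_add, mul_assoc, ← mul_assoc (xl P X E.θ e),
    show xl P X E.θ e * lB P X B c' = lB P X B c' * xl P X E.θ e from (h.dcg_commθ hB _ fun _ => c').eq]
  simp only [mul_assoc]

theorem dcg_sq (c e : F) : lB P X B c * xl P X E.θ e * (lB P X B c * xl P X E.θ e) = 1 := by
  rw [h.dcg_mul hB, CharTwo.add_self_eq_zero, CharTwo.add_self_eq_zero, h.dcg_zero, h.rel.xl_zero, mul_one]

theorem dcg_sq' (c : F) : lB P X B c * lB P X B c = 1 := by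
  rw [h.dcg_add hB, CharTwo.add_self_eq_zero, h.dcg_zero]

theorem dcg_mem_W {w : G} : w ∈ dcgW E P X B ↔ ∃ c e, w = lB P X B c * xl P X E.θ e := by
  refine ⟨fun hw => ?_, fun hw => subset_closure hw⟩
  induction hw using closure_induction with
  | mem x hx => exact hx
  | one => exact ⟨0, 0, by rw [h.dcg_zero, h.rel.xl_zero, mul_one]⟩
  | mul x y _ _ hx hy =>
    obtain ⟨c, e, rfl⟩ := hx
    obtain ⟨c', e', rfl⟩ := hy
    exact ⟨_, _, h.dcg_mul hB _ _ _ _⟩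
  | inv x _ hx =>
    obtain ⟨c, e, rfl⟩ := hx
    exact ⟨c, e, inv_eq_of_mul_eq_one_right (h.dcg_sq hB c e)⟩

theorem dcg_Z {c e : F} : lB P X B c * xl P X E.θ e ∈ tZ X E.θ ↔ c = 0 := by
  have k' : xl P X E.θ e ∈ tZ X E.θ := (h.rel.mem_tZ E.γ_θ).2 ⟨e, rfl⟩
  refine ⟨fun k => ?_, fun k => by rw [k, h.dcg_zero, one_mul]; exact k'⟩
  obtain ⟨d, hd⟩ := (h.rel.mem_tZ E.γ_θ).1 ((mul_mem_cancel_right k').1 k)
  obtain ⟨b, hb⟩ := List.exists_mem_of_ne_nil _ hB.ne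
  obtain ⟨η, h1, h2, h3, h4⟩ := hB.eta hb
  have e1 : xl P X η 1 * lB P X B c * (xl P X η 1)⁻¹ = lB P X B c * xl P X E.θ (1 * c) :=
    h.dcg_conj hB hb h1 h2 h4 1 fun _ => c
  have c3 : xl P X η 1 * xl P X E.θ d = xl P X E.θ d * xl P X η 1 :=
    h.rel.com_l E.γ_θ (by rw [h3]; decide) _ _
  rw [hd, c3, mul_inv_cancel_right, left_eq_mul, h.xl_eq_one E.γ_θ, one_mul] at e1
  exact e1

omit h in
theorem dcg_U (c : F) : lB P X B c ∈ tU Φ X := dcg_mem (fun _ hb => hB.pos hb) fun _ => c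

theorem dcg_mem_W_of {u : G} (hu : u ∈ tU Φ X)
    (hc : ∀ v ∈ tU Φ X, v * v = 1 → v * lB P X B 1 = lB P X B 1 * v → u * v = v * u) :
    u ∈ dcgW E P X B := by
  have A := h.amb
  have uN : u ∈ tN X := L_le_N (UU_le_tL X _ hu)
  have hm : ρ u ∈ T.U := h.map_mem_UU (Ψ := {r | Φ.Pos r}) (fun r hr => (E.γ_pos r).2 hr) hu
  have hx : ∀ a, Φ.Pos a → CmB Φ B a → ∀ v, ρ u * tx E P T a v = tx E P T a v * ρ u := fun a ha ha' v => by
    rw [← h.map, ← h.mul _ uN _ (L_le_N (mem_tL X _ _)), ← h.mul _ (L_le_N (mem_tL X _ _)) _ uN,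
      hc _ (mem_UUx X ha v) (h.sq a v) (h.dcg_comm hB ha' v fun _ => 1).eq]
  have h1 := h.toTw.telim_gr (grB Φ B) (fun r => hB.gr_nonneg) (fun a b k => grB_add B) hB.gr_γ 2 hm
    fun r hr hr' => by
      obtain ⟨a, ha, ha', h1⟩ := hB.el r hr hr'
      obtain ⟨k, hk⟩ := E.exists_add h1
      exact ⟨a, k, ha, hk, fun v => by rw [hx a ha ha', mul_inv_cancel_right, mul_inv_cancel, A.cf_one]⟩
  set Ψ := {r | Φ.Pos r ∧ 2 ≤ grB Φ B r} with hΨ
  have pos : ∀ r ∈ Ψ, Φ.Pos r := fun r hr => hr.1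
  have lay : Lay Φ Ψ ∅ := ⟨pos, Set.empty_subset _, fun a ha b hb k hk => by
    have := hB.ab a b ha.2 hb.2
    rw [(E.radd_ip hk).1] at this
    exact absurd this (by decide)⟩
  have st : ∀ {a}, Φ.Pos a → Stab Φ a Ψ := fun {a} ha => by
    have := hB.gr_nonneg ha
    refine ⟨fun k => ?_, fun s hs k hk => ⟨radd_pos hk hs.1 ha, ?_⟩⟩
    · have := k.2
      rw [grB_neg] at this; omega
    · have := hs.2
      rw [grB_add B hk]; omega
  have st0 : ∀ a, Stab Φ a ∅ := fun a => ⟨id, fun s hs => hs.elim⟩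
  have nsv : ∀ r, r ∉ E.θ :: B → cf T (ρ u) r = 0 := fun r hr => by
    by_cases h2 : r ∈ Ψ
    · rcases hB.sv r h2.2 with k | k | ⟨a, ha, ha', h3⟩
      · exact absurd (List.mem_cons_of_mem _ k) hr
      · exact absurd (k ▸ List.mem_cons_self) hr
      · obtain ⟨k, hk⟩ := E.exists_add h3
        exact h.toTw.cf_zero_of_fix lay (st ha) (st0 _) (st ((E.γ_pos a).2 ha)) (st0 _) h1 hk id fun v => by
          rw [← hx a ha ha', mul_inv_cancel_right]
    · exact A.cf_eq_zero (A.lay_closed lay) pos h1 h2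
  have nd : (E.θ :: B).Nodup := List.nodup_cons.2 ⟨hB.nθ, hB.nd⟩
  have sub : ∀ r ∈ E.θ :: B, r ∈ Ψ := fun r hr =>
    (List.mem_cons.1 hr).elim (fun e => e ▸ ⟨E.pos_θ, hB.gr_θ⟩) fun k => ⟨hB.pos k, (hB.gr_self k).ge⟩
  have lng : ∀ r ∈ E.θ :: B, E.γ r = r := fun r hr =>
    (List.mem_cons.1 hr).elim (fun e => e ▸ E.γ_θ) (hB.fix r)
  have e : ρ u = T.xprod (E.θ :: B) (cf T (ρ u)) :=
    A.cf_ext hm (T.xprod_mem_UU (fun r hr => pos r (sub r hr)) _) fun r _ => by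
      obtain ⟨h2, h3⟩ := A.cf_xprod lay nd sub (cf T (ρ u)) (r := r) id
      by_cases h4 : r ∈ E.θ :: B
      · exact (h2 h4).symm
      · rw [h3 h4, nsv r h4]
  obtain ⟨c, hc0⟩ : ∃ c : ι → F, ∀ r ∈ E.θ :: B, cf T (ρ u) r = P.f (c r) := by
    refine ⟨fun r => P.T (P.ω * cf T (ρ u) r), fun r hr => ?_⟩
    have := A.cf_std lay h.toTw.std (fun r => by
      simp only [hΨ, Set.mem_ofPred_eq, E.γ_pos, hB.gr_γ]) (fun _ => Iff.rfl) h1 (r := r) id
    rw [h.com u uN, mul_inv_cancel_right, lng r hr, one_mul] at this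
    obtain ⟨d, hd⟩ := (P.fix _).1 this.symm
    simp only [hd, P.T_ω]
  have mU : (List.map (fun b => xl P X b (c b)) (E.θ :: B)).prod ∈ tU Φ X :=
    dcg_mem (fun r hr => pos r (sub r hr)) c
  have e2 : u = (List.map (fun b => xl P X b (c b)) (E.θ :: B)).prod :=
    h.eq_of_two (UU_le_tL X _ hu) (UU_le_tL X _ mU) (h.pg_U.to_le (zpowers_le.2 hu))
      (h.pg_U.to_le (zpowers_le.2 mU)) (by rw [h.dcg_map lng, e]; exact T.xprod_congr hc0)
  rw [List.map_cons, List.prod_cons, (h.dcg_commθ hB _ _).eq] at e2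
  obtain ⟨b, hb⟩ := List.exists_mem_of_ne_nil _ hB.ne
  refine (h.dcg_mem_W hB).2 ⟨c b, c E.θ, e2.trans ?_⟩
  congr 1
  refine congrArg List.prod (List.map_congr_left fun r hr => ?_)
  by_cases hrb : r = b
  · rw [hrb]
  obtain ⟨η, h2, h3, h4, h5⟩ := hB.eta hb
  obtain ⟨η', h2', h3', h4', h5'⟩ := hB.eta hr
  have i0 : 0 ≤ ip Φ η η' := by
    have := h2.ip_left η'
    rw [ip_comm E.θ, h4', ip_comm b, h5' b hb (Ne.symm hrb)] at this
    omega
  have c1 : ∀ d, xl P X η 1 * xl P X E.θ d * (xl P X η 1)⁻¹ = xl P X E.θ d := fun d =>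
    mul_inv_eq_iff_eq_mul.2 (h.rel.com_l E.γ_θ (by rw [h4]; decide) _ _)
  have c2 : ∀ d, xl P X η' 1 * xl P X E.θ d * (xl P X η' 1)⁻¹ = xl P X E.θ d := fun d =>
    mul_inv_eq_iff_eq_mul.2 (h.rel.com_l E.γ_θ (by rw [h4']; decide) _ _)
  have c3 : xl P X η 1 * xl P X η' 1 = xl P X η' 1 * xl P X η 1 := h.rel.com_l h3' i0 _ _
  have key : ∀ d : ι → F, xl P X η 1 * xl P X η' 1 * (B.map fun b => xl P X b (d b)).prod *
      (xl P X η 1 * xl P X η' 1)⁻¹ = (B.map fun b => xl P X b (d b)).prod * xl P X E.θ (d b + d r) := fun d => by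
    rw [show ∀ x y l : G, x * y * l * (x * y)⁻¹ = x * (y * l * y⁻¹) * x⁻¹ from fun x y l => by group,
      h.dcg_conj hB hr h2' h3' h5', ← conj_mul, h.dcg_conj hB hb h2 h3 h5, c1, one_mul, one_mul, mul_assoc,
      ← h.rel.xl_add]
  have h6 := hc (xl P X η 1 * xl P X η' 1)
    (mul_mem (mem_UUx X (E.pos_of_θ h4.ge) _) (mem_UUx X (E.pos_of_θ h4'.ge) _))
    (by rw [mul_assoc, ← mul_assoc (xl P X η' 1), ← c3, mul_assoc, h.rel.xl_sq, mul_one, h.rel.xl_sq])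
    (mul_inv_eq_iff_eq_mul.1 ((key fun _ => 1).trans (by
      rw [CharTwo.add_self_eq_zero, h.rel.xl_zero, mul_one]; rfl)))
  have h7 := mul_inv_eq_iff_eq_mul.2 h6.symm
  rw [e2, ← conj_mul, key, show ∀ x y l : G, x * y * l * (x * y)⁻¹ = x * (y * l * y⁻¹) * x⁻¹ from
    fun x y l => by group, c2, c1, mul_left_inj, mul_eq_left, h.xl_eq_one E.γ_θ, CharTwo.add_eq_zero] at h7
  rw [h7]

theorem dcg_cen {g : G} (hg : g ∈ tN X)
    (hc : ∀ v ∈ tU Φ X, v * v = 1 → v * lB P X B 1 = lB P X B 1 * v → g * v = v * g) :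
    ∃ w ∈ dcgW E P X B, ∃ k ∈ tC X, g = w * k := by
  obtain ⟨T₀, h1, h2, h3, h4⟩ := hB.gen
  obtain ⟨u, hu, h5⟩ := h.cenU h1 h2 h3 hg fun r hr v => by
    rw [hc _ (mem_UUx X (h1.1 r hr) v) (h.sq r v) (h.dcg_comm hB (h4 r hr) v fun _ => 1).eq,
      mul_inv_cancel_right, mul_inv_cancel]
    exact one_mem _
  refine ⟨u⁻¹, inv_mem (h.dcg_mem_W_of hB hu fun v hv v2 e => ?_), _, h5, (inv_mul_cancel_left u g).symm⟩
  exact cn_comm (h5 v (UU_le_tL X _ hv)).symm (hc v hv v2 e)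

omit hB in
theorem dcg_tor {L : List ι} (hL : ∀ b ∈ L, E.γ b = b) {m : F} (hm : m ≠ 0) :
    ∃ g ∈ tL X, ∀ r, E.γ r = r → ∀ u, g * xl P X r u * g⁻¹ = xl P X r (m ^ grB Φ L r * u) := by
  induction L with
  | nil => exact ⟨1, one_mem _, fun s _ u => by simp [grB]⟩
  | cons d L ih =>
    obtain ⟨g, hg, h1⟩ := ih fun b hb => hL b (List.mem_cons_of_mem _ hb)
    obtain ⟨a, ha, -, -, h2⟩ := h.exists_hl (hL d List.mem_cons_self) hm
    refine ⟨a * g, mul_mem (UU_le_tL X _ ha) hg, fun r hr u => ?_⟩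
    rw [show ∀ x : G, a * g * x * (a * g)⁻¹ = a * (g * x * g⁻¹) * a⁻¹ from fun x => by group, h1 r hr,
      h.st_xl h2 hr rfl rfl, ← mul_assoc, ← zpow_add₀ hm, ip_comm]
    rfl

theorem dcg_cj {c : F} (hc : c ≠ 0) (e : F) :
    ∃ g ∈ tL X, g * lB P X B 1 * g⁻¹ = lB P X B c * xl P X E.θ e := by
  obtain ⟨m, rfl⟩ := FiniteField.isSquare_of_char_two (ringChar.eq F 2) c
  obtain ⟨g, hg, h1⟩ := h.dcg_tor hB.fix (left_ne_zero_of_mul hc)
  obtain ⟨b, hb⟩ := List.exists_mem_of_ne_nil _ hB.ne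
  obtain ⟨η, h2, h3, -, h4⟩ := hB.eta hb
  refine ⟨xl P X η (e / (m * m)) * g, mul_mem (mem_tL X _ _) hg, ?_⟩
  rw [show ∀ a x : G, a * g * x * (a * g)⁻¹ = a * (g * x * g⁻¹) * a⁻¹ from fun a x => by group, lB,
    dcg_conj_all _ (fun b => xl P X b (m * m)) fun r hr => by
      rw [h1 r (hB.fix r hr), hB.gr_self hr, zpow_two, mul_one],
    h.dcg_conj hB hb h2 h3 h4, div_mul_cancel₀ _ hc]
  rfl

theorem dcg_P : ∃ R ≤ tL X, IsPGroup 2 R ∧ lB P X B 1 ∈ R ∧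
    R ≤ centralizer {lB P X B 1 * xl P X E.θ 1} ∧ ∃ c ∈ R, c * lB P X B 1 ≠ lB P X B 1 * c := by
  obtain ⟨b, hb⟩ := List.exists_mem_of_ne_nil _ hB.ne
  obtain ⟨η, h2, hη, h3, h3'⟩ := hB.eta hb
  have h4 : ip Φ (Φ.neg E.α) E.θ = -1 := by rw [ip_neg_left, E.ip_αθ]
  have h5 : CmB Φ B (Φ.neg E.α) := fun c hc => by rw [ip_neg_left, hB.α0 c hc]; decide
  have h6 : E.γ (Φ.neg E.α) = Φ.neg E.α := long_neg.2 E.γ_α
  generalize Φ.neg E.α = δ at h4 h5 h6
  obtain ⟨k, hk⟩ := E.exists_add h4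
  have lk := long_add hk h6 E.γ_θ
  have e1 : xl P X η 1 * lB P X B 1 * (xl P X η 1)⁻¹ = lB P X B 1 * xl P X E.θ (1 * 1) :=
    h.dcg_conj hB hb h2 hη h3' 1 fun _ => 1
  have c1 : xl P X E.θ 1 * lB P X B 1 = lB P X B 1 * xl P X E.θ 1 := (h.dcg_commθ hB 1 fun _ => 1).eq
  have c2 : xl P X δ 1 * lB P X B 1 = lB P X B 1 * xl P X δ 1 := (h.dcg_comm hB h5 _ fun _ => 1).eq
  have c3 : xl P X η 1 * xl P X E.θ 1 = xl P X E.θ 1 * xl P X η 1 :=
    h.rel.com_l E.γ_θ (by rw [h3]; decide) _ _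
  have l1 := UU_le_tL X _ (dcg_U (P := P) (X := X) hB 1)
  have l2 : lB P X B 1 ∈ tY Φ X k := dcg_mem (fun r hr => by
    rw [Set.mem_ofPred_eq, ip_comm, hk.ip_left, ip_comm E.θ]
    exact add_nonneg (h5 r hr) (E.nonneg_θ (hB.pos hr))) fun _ => 1
  have l3 := h.dcg_sq' hB 1
  rw [mul_one] at e1
  generalize lB P X B 1 = l at *
  have p1 : IsPGroup 2 (zpowers l ⊔ tQ Φ X k : Subgroup G) := IsPGroup.to_sup_of_normal_right'
    (dcg_pg l3) (h.pg_Q lk) (zpowers_le.2 (h.rel.Y_norm_Q h.tr lk l2))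
  have m1 : xl P X δ 1 ∈ tQ Φ X k := mem_UUx X (E.radd_ip hk).2.1.ge _
  have m2 : xl P X E.θ 1 ∈ tQ Φ X k := mem_UUx X (E.radd_ip hk).2.2.ge _
  have mη : xl P X η 1 ∈ tL X := mem_tL X _ _
  refine ⟨((zpowers l ⊔ tQ Φ X k) ⊓ centralizer {l}).map (MulAut.conj (xl P X η 1)).toMonoidHom, ?_,
    p1.to_inf_left.map _, ⟨l * xl P X E.θ 1, ⟨mul_mem (mem_sup_left (mem_zpowers l)) (mem_sup_right m2),
      mem_centralizer_singleton_iff.2 (by rw [mul_assoc, c1])⟩, ?_⟩, ?_,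
    _, ⟨xl P X δ 1, ⟨mem_sup_right m1, mem_centralizer_singleton_iff.2 c2⟩, rfl⟩, fun e => ?_⟩
  · rintro _ ⟨x, hx, rfl⟩
    exact mul_mem (mul_mem mη (sup_le (zpowers_le.2 l1) (UU_le_tL X _) hx.1)) (inv_mem mη)
  · change xl P X η 1 * (l * xl P X E.θ 1) * (xl P X η 1)⁻¹ = l
    rw [← conj_mul, e1, c3, mul_inv_cancel_right, mul_assoc, h.rel.xl_sq, mul_one]
  · rintro _ ⟨x, hx, rfl⟩
    rw [mem_centralizer_singleton_iff, ← e1]
    change xl P X η 1 * x * (xl P X η 1)⁻¹ * _ = _ * (xl P X η 1 * x * (xl P X η 1)⁻¹)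
    rw [conj_mul, conj_mul, mem_centralizer_singleton_iff.1 hx.2]
  · change xl P X η 1 * xl P X δ 1 * (xl P X η 1)⁻¹ * _ = _ * (xl P X η 1 * xl P X δ 1 * (xl P X η 1)⁻¹) at e
    have e2 : l = xl P X η 1 * (l * xl P X E.θ 1) * (xl P X η 1)⁻¹ := by
      rw [← conj_mul, e1, c3, mul_inv_cancel_right, mul_assoc, h.rel.xl_sq, mul_one]
    rw [e2, conj_mul, conj_mul, mul_left_inj, mul_right_inj, ← mul_assoc, c2, mul_assoc, mul_assoc,
      mul_right_inj] at e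
    have := h.rel.ll _ _ _ h6 E.γ_θ hk 1 1
    rw [e, mul_inv_cancel_right, mul_inv_cancel, eq_comm, h.xl_eq_one lk, mul_one] at this
    exact one_ne_zero this

theorem dcg_lb : ∃ R ≤ tU Φ X ⊓ centralizer {lB P X B 1}, Nat.card F ^ (NP Φ + 3) ≤ Nat.card R ^ 2 := by
  refine ⟨UUx X {a | Φ.Pos a ∧ CmB Φ B a}, (closure_le _).2 ?_, ?_⟩
  · rintro _ ⟨r, hr, v, rfl⟩
    exact ⟨mem_UUx X hr.1 v, mem_centralizer_singleton_iff.2 (h.dcg_comm hB hr.2 v fun _ => 1).eq⟩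
  · rw [h.card_UU hB.cl, ← pow_mul, mul_comm]
    exact Nat.pow_le_pow_right Nat.card_pos hB.lb

end Cert

/-- the classes of involutions -/
theorem dcl {l : G} (hl : l ∈ tL X) (l2 : l * l = 1) (l1 : l ≠ 1) : ∃ g ∈ tL X,
    g * l * g⁻¹ = xl P X E.θ 1 ∨ ∃ B, TCert E B ∧ g * l * g⁻¹ = lB P X B 1 := by
  have lN := L_le_N hl
  obtain ⟨m, hm, h1⟩ := h.dc (ρ l) (h.map_mem hl) (by rw [← h.mul _ lN _ lN, l2, h.one])
    fun e => l1 (h.eq_one hl ((h.ker l lN).1 e) (dcg_pg l2))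
  obtain ⟨g, hg, rfl⟩ := h.exists_lift hm
  refine ⟨g, hg, h1.imp (fun e => ?_) fun ⟨B, hB, e⟩ => ⟨B, hB, ?_⟩⟩
  · exact h.conj_eq (L_le_N hg) hl (mem_tL X _ _) (dcg_pg l2) (dcg_pg (h.rel.xl_sq _ _))
      (by rw [e, h.map_xl E.γ_θ, map_one])
  · exact h.conj_eq (L_le_N hg) hl (UU_le_tL X _ (dcg_U hB 1)) (dcg_pg l2) (dcg_pg (h.dcg_sq' hB 1))
      (by rw [e, h.map_lB hB.fix, map_one])

theorem dcf {B : List ι} (hB : TCert E B) : ∃ W, DCF E P X (lB P X B 1) W := by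
  refine ⟨dcgW E P X B, fun g => h.dcg_cen hB, fun w hw => ?_, fun w hw => ?_, fun w hw => ?_,
    (h.dcg_mem_W hB).2 ⟨1, 0, by rw [h.rel.xl_zero, mul_one]⟩,
    fun k => one_ne_zero ((h.dcg_Z hB (e := 0)).1 (by rwa [h.rel.xl_zero, mul_one])), fun w hw hw' => ?_,
    fun hq w hw hw' => ?_, h.dcg_P hB, h.dcg_lb hB⟩
  · obtain ⟨c, e, rfl⟩ := (h.dcg_mem_W hB).1 hw
    exact mul_mem (dcg_U hB c) (mem_UUx X E.pos_θ _)
  · obtain ⟨c, e, rfl⟩ := (h.dcg_mem_W hB).1 hw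
    exact h.dcg_sq hB c e
  · obtain ⟨e, rfl⟩ := (h.rel.mem_tZ E.γ_θ).1 hw
    exact (h.dcg_mem_W hB).2 ⟨0, e, by rw [h.dcg_zero, one_mul]⟩
  · obtain ⟨c, e, rfl⟩ := (h.dcg_mem_W hB).1 hw
    exact h.dcg_cj hB (fun k => hw' ((h.dcg_Z hB).2 k)) e
  · obtain ⟨c, e, rfl⟩ := (h.dcg_mem_W hB).1 hw
    obtain ⟨y, -, hy⟩ := (Nat.card_eq_two_iff' (0 : F)).1 hq
    have k : ∀ a : F, a ≠ 0 → a = 1 := fun a ha => (hy a ha).trans (hy 1 one_ne_zero).symm
    rw [k c fun k => hw' ((h.dcg_Z hB).2 k)]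
    by_cases he : e = 0
    · exact Or.inl (by rw [he, h.rel.xl_zero, mul_one])
    · exact Or.inr (by rw [k e he])

end Sys

end CfsgLib.SLT
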