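import Mathlib
import Cfsg.Agent.Lib.SLT.ModV
import Cfsg.Agent.Lib.ChevInv.DataT

/-!
# The classes of involutions of the model
-/

set_option autoImplicit false
set_option linter.unusedSectionVars false

namespace CfsgLib.SLT

open CfsgLib.RGD CfsgLib.Stein CfsgLib.SLE Subgroup
open scoped commutatorElement Pointwise

universe u

section Abs

variable {ι κ : Type} [Fintype κ] [DecidableEq κ] [Finite ι] {Φ : RootSys ι κ} {E : ER Φ}
  {F K : Type} [Field F] [Finite F] [CharP F 2] [Field K] [Finite K] [CharP K 2] {P : QE F K}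
  {G : Type u} [Group G] {X : ι → K → G} {r a b k : ι} {z : G}

theorem TRel.dct_long (h : TRel E P X) (ht : Tup E r a b k)
    (hz : Commute (X (Φ.neg (E.γ a)) 1) z) : ∃ g ∈ tL X,
      g * (X b 1 * xl P X k 1 * z) * g⁻¹ = xl P X r 1 * xl P X k 1 * z := by
  obtain ⟨i1, i2, i3, -⟩ := ht.ips
  have e := h.ls _ _ _ _ ht.dual 1 1
  rw [map_one, one_mul, P.N_one, one_mul] at e
  have c1 : Commute (X (Φ.neg (E.γ a)) 1) (xl P X r 1) :=
    h.com_l ht.lr (by rw [ip_neg_left, ip_γ_long ht.lr, ip_comm, i1]; norm_num) _ _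
  have c2 : Commute (xl P X k 1) (xl P X r 1) := h.com_l ht.lr (by rw [ip_comm, i3]) _ _
  have c3 : Commute (X b 1) (xl P X r 1) := h.com_l ht.lr (by rw [ip_comm, i2]; norm_num) _ _
  have c4 : Commute (X b 1) (xl P X k 1) := h.com_l ht.lk (by rw [ht.ips.2.2.2.2.2.1]; norm_num) _ _
  refine ⟨(X (Φ.neg (E.γ a)) 1)⁻¹, inv_mem (mem_tL X _ _), ?_⟩
  rw [inv_inv, mul_assoc, inv_mul_eq_iff_eq_mul, ← eq_mul_inv_iff_mul_eq, ← conj_mul, ← conj_mul, e,
    hz.eq, c1.eq, mul_inv_cancel_right, mul_inv_cancel_right, (c2.mul_left c3).eq, ← mul_assoc (xl P X r 1),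
    h.xl_sq, one_mul, c4.eq]

theorem TRel.dct_mov (h : TRel E P X) (ht : Tup E r a b k) (hz' : Commute (X a P.ω) z)
    (hz : Commute (X (Φ.neg (E.γ a)) 1) z) : ∃ g ∈ tL X,
      g * (X b 1 * z) * g⁻¹ = xl P X r 1 * xl P X k 1 * z := by
  obtain ⟨g, hg, e⟩ := h.dct_long ht hz
  have e1 := h.conj_cm ht.hk' (by rw [E.γ2, ht.ips.2.2.2.1]; norm_num) P.ω 1
  rw [h.gam, map_one] at e1
  refine ⟨g * X a P.ω, mul_mem hg (mem_tL X _ _), ?_⟩
  rw [← e, show ∀ x y : G, g * x * y * (g * x)⁻¹ = g * (x * y * x⁻¹) * g⁻¹ from fun x y => by group,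
    ← conj_mul (b := X a P.ω), e1, hz'.eq, mul_inv_cancel_right, xl, map_one]

end Abs

open Cfsg.Lie CfsgLib.Weyl CfsgLib.Chev

variable {E : ER (rootSys rtOKE6)} {F K : Type} [Field F] [Finite F] [CharP F 2] [Field K] [Finite K]
  [CharP K 2] {P : QE F K} {T : StSys (rootSys rtOKE6) K (MulAut (chevE6.group K))}
  {s : MulAut (chevE6.group K)}

theorem ModT.dct_wd (h : ModT E P T s) (y : List (Fin chevE6.nroots)) : ∃ g : chevE6.group K,
    (g : GL chevE6.Idx K) = ChevInv.wd chevE6 K (y.map (↑)) ∧ MulAut.conj g = T.xprod y fun _ => 1 := by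
  induction y with
  | nil => exact ⟨1, rfl, map_one _⟩
  | cons r y ih =>
    obtain ⟨g, h1, h2⟩ := ih
    exact ⟨xG chevE6 K r 1 * g, by rw [List.map_cons, ChevInv.wd_cons, ← h1]; rfl,
      by rw [map_mul, h2, StSys.xprod_cons, h.x]⟩

theorem ModT.dct_rep (h : ModT E P T s) {m : MulAut (chevE6.group K)} (hm : m ∈ tL (tx E P T))
    (h2 : m * m = 1) (h1 : m ≠ 1) : ∃ g ∈ tL (tx E P T), ∃ y : List (Fin chevE6.nroots),
      y.map (↑) ∈ [[71], [43, 40], [43, 40, 44], [56, 36, 46]] ∧ g * m * g⁻¹ = T.xprod y fun _ => 1 := by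
  have := Fintype.ofFinite K
  obtain ⟨l, rfl⟩ := h.mem_grp.1 (h.L_le hm).1
  have l2 : l * l = 1 := h.conj_inj (by rw [map_mul, h2, map_one])
  have l1 : l ≠ 1 := fun e => h1 (by rw [e, map_one])
  obtain ⟨g, hg, y, hy, e⟩ := (ChevInv.classesTE6 (φ := (P.τ : K →+* K)) P.τ_eq P.τ2).2 l
    ((h.mem_iff l).1 hm) (by rw [orderOf_coe]; exact orderOf_eq_prime (by rw [sq, l2]) l1)
  have hg' : g ∈ chevE6.group K := by
    rw [Twist.eq_FixE6 (φ := (P.τ : K →+* K)) P.τ_eq P.τ2] at hg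
    exact Chev.stSys_grp rtOKE6 (F := K) ▸ hg.1
  obtain ⟨y', rfl⟩ : ∃ y' : List (Fin chevE6.nroots), y'.map (↑) = y :=
    ⟨y.pmap Fin.mk (by
      simp only [List.mem_cons, List.not_mem_nil, or_false] at hy
      rcases hy with rfl | rfl | rfl | rfl <;> decide), by simp [List.map_pmap]⟩
  obtain ⟨k, k1, k2⟩ := h.dct_wd y'
  refine ⟨MulAut.conj ⟨g, hg'⟩, (h.mem_iff _).2 hg, y', hy, ?_⟩
  rw [← k2, ← map_mul, ← map_inv, ← map_mul]
  exact congrArg _ (Subtype.ext (e.trans k1.symm))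

theorem ModT.dc (h : ModT E P T s) : ∀ m ∈ tL (tx E P T), m * m = 1 → m ≠ 1 →
    ∃ g ∈ tL (tx E P T), g * m * g⁻¹ = T.x E.θ 1 ∨
      ∃ B, TCert E B ∧ g * m * g⁻¹ = T.xprod B fun _ => 1 := by
  intro m hm h2 h1
  obtain ⟨g, hg, y, hy, e⟩ := h.dct_rep hm h2 h1
  obtain ⟨ht, γ68, i53⟩ := mod_tup h.mod
  have C2 := mod_cert2 h.mod
  have C3 := mod_cert3 h.mod
  have A := h.rel
  have inj : ∀ {y y' : List (Fin chevE6.nroots)}, y.map Fin.val = y'.map Fin.val → y = y' :=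
    fun e => List.map_injective_iff.2 Fin.val_injective e
  have xl1 : ∀ r, E.γ r = r → xl P (tx E P T) r 1 = T.x r 1 := fun r hr => by rw [h.xl_tx hr, map_one]
  have tx1 : tx E P T ⟨68, by decide⟩ 1 = T.x ⟨68, by decide⟩ 1 * T.x ⟨66, by decide⟩ 1 := by
    rw [tx, γ68, map_one]
  have tx2 : tx E P T ⟨68, by decide⟩ 1 = T.x ⟨66, by decide⟩ 1 * T.x ⟨68, by decide⟩ 1 := by
    rw [← map_one P.τ, ← A.gam, tx, E.γ2, γ68, map_one]
  have fin : ∀ {n k x : MulAut (chevE6.group K)}, n ∈ tL (tx E P T) → k ∈ tL (tx E P T) →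
      k * (n * (g * m * g⁻¹) * n⁻¹) * k⁻¹ = x → ∃ g ∈ tL (tx E P T), g * m * g⁻¹ = x :=
    fun {n k x} hn hk e => ⟨k * n * g, mul_mem (mul_mem hk hn) hg, by rw [← e]; group⟩
  simp only [List.mem_cons, List.not_mem_nil, or_false] at hy
  rcases hy with hy | hy | hy | hy
  · obtain rfl : y = [E.θ] := inj (by rw [hy, List.map_singleton, h.mod.θ]; rfl)
    exact ⟨g, hg, .inl (by simpa [StSys.xprod] using e)⟩
  · obtain rfl : y = [⟨43, by decide⟩, ⟨40, by decide⟩] := inj hy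
    obtain ⟨w, hw, w1, w2, -⟩ := mod_word2 h.mod
    obtain ⟨n, hn, -, en⟩ := h.exists_exa (fun _ _ => Set.mem_univ _) hw
    obtain ⟨k, hk, ek⟩ := A.dct_mov ht (z := 1) (Commute.one_right _) (Commute.one_right _)
    obtain ⟨g', h3, h4⟩ := fin hn hk (x := T.xprod [⟨65, by decide⟩, ⟨69, by decide⟩] fun _ => 1) (by
      rw [xl1 _ ht.lr, xl1 _ ht.lk, tx1] at ek
      simp only [e, StSys.xprod, List.map_cons, List.map_nil, List.prod_cons, List.prod_nil, mul_one] at ek ⊢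
      rw [← conj_mul (b := n), en, en, w1, w2, ek])
    exact ⟨g', h3, .inr ⟨_, C2, h4⟩⟩
  · obtain rfl : y = [⟨43, by decide⟩, ⟨40, by decide⟩, ⟨44, by decide⟩] := inj hy
    obtain ⟨w, hw, w1, w2, w3⟩ := mod_word2 h.mod
    obtain ⟨n, hn, -, en⟩ := h.exists_exa (fun _ _ => Set.mem_univ _) hw
    obtain ⟨k, hk, ek⟩ := A.dct_long ht (z := 1) (Commute.one_right _)
    obtain ⟨g', h3, h4⟩ := fin hn hk (x := T.xprod [⟨65, by decide⟩, ⟨69, by decide⟩] fun _ => 1) (by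
      rw [xl1 _ ht.lr, xl1 _ ht.lk, tx1] at ek
      simp only [e, StSys.xprod, List.map_cons, List.map_nil, List.prod_cons, List.prod_nil, mul_one] at ek ⊢
      rw [← conj_mul (b := n), ← conj_mul (b := n), en, en, en, w1, w2, w3, ← mul_assoc (T.x _ 1), ek])
    exact ⟨g', h3, .inr ⟨_, C2, h4⟩⟩
  · obtain rfl : y = [⟨56, by decide⟩, ⟨36, by decide⟩, ⟨46, by decide⟩] := inj hy
    obtain ⟨w, hw, w1, w2, w3⟩ := mod_word3 h.mod
    obtain ⟨n, hn, -, en⟩ := h.exists_exa (fun _ _ => Set.mem_univ _) hw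
    have l53 := C3.fix _ List.mem_cons_self
    obtain ⟨k, hk, ek⟩ := A.dct_mov ht (z := xl P (tx E P T) ⟨53, by decide⟩ 1)
      (A.com_l l53 (by rw [ip_comm, i53]) _ _)
      (A.com_l l53 (by rw [ip_neg_left, ip_γ_long l53, ip_comm, i53]; rfl) _ _)
    have c1 : Commute (xl P (tx E P T) ⟨65, by decide⟩ 1) (xl P (tx E P T) ⟨53, by decide⟩ 1) :=
      A.com_l l53 (C3.ort _ (by simp) _ (by simp) (by decide)).ge _ _
    have c2 : Commute (xl P (tx E P T) ⟨69, by decide⟩ 1) (xl P (tx E P T) ⟨53, by decide⟩ 1) :=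
      A.com_l l53 (C3.ort _ (by simp) _ (by simp) (by decide)).ge _ _
    rw [(c1.mul_left c2).eq] at ek
    obtain ⟨g', h3, h4⟩ := fin hn hk
      (x := T.xprod [⟨53, by decide⟩, ⟨65, by decide⟩, ⟨69, by decide⟩] fun _ => 1) (by
      rw [xl1 _ ht.lr, xl1 _ ht.lk, xl1 _ l53, tx2] at ek
      simp only [e, StSys.xprod, List.map_cons, List.map_nil, List.prod_cons, List.prod_nil, mul_one] at ek ⊢
      rw [← conj_mul (b := n), ← conj_mul (b := n), en, en, en, w1, w2, w3, ← mul_assoc (T.x _ 1), ek])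
    exact ⟨g', h3, .inr ⟨_, C3, h4⟩⟩

end CfsgLib.SLT
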