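import Mathlib
import Cfsg.Agent.Lib.SLT.Cen
import Cfsg.Agent.Lib.SLE.B1

/-!
# Reduction to a pair of inner type
-/

set_option autoImplicit false
set_option linter.unusedSectionVars false

namespace CfsgLib.SLT

open CfsgLib.RGD CfsgLib.Stein CfsgLib.SLE Subgroup
open scoped commutatorElement Pointwise

universe u

variable {ι κ : Type} [Fintype κ] [DecidableEq κ] [Finite ι] {Φ : RootSys ι κ} {E : ER Φ}
  {F K : Type} [Field F] [Finite F] [CharP F 2] [Field K] [Finite K] [CharP K 2] {P : QE F K}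
  {G : Type u} [Group G] [Finite G] {A : Type} [Group A] [Finite A] {T : StSys Φ K A} {s : A}
  {X : ι → K → G} {ρ : G → A} {t : G}

theorem nf_cj (h : HX.NF t (xl P X E.θ)) (g : G) : HX.NF (g * t * g⁻¹) (xl P (cjX g X) E.θ) := by
  intro k r
  have e : g⁻¹ * k * g * t * (g⁻¹ * k * g)⁻¹ = g⁻¹ * (k * (g * t * g⁻¹) * k⁻¹) * g := by group
  rw [xl_cj]
  exact ⟨fun e' => (h (g⁻¹ * k * g) r).1 (by rw [e, e']; group),
    fun e' => (h (g⁻¹ * k * g) r).2 (by rw [e, e']; group)⟩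

/-- an involution of type `τ` is fused to its products with a four-group of `U` -/
theorem Sys.inn_four (h : Sys E P T s X ρ) {a : G} (ht : Ty T X ρ a P.τ) (a2 : a * a = 1)
    (hU : a ∈ normalizer (tU Φ X : Set G)) : ∃ e₁ e₂ : G, e₁ ≠ 1 ∧ e₂ ≠ 1 ∧ e₁ ≠ e₂ ∧
      ∀ e, e = e₁ ∨ e = e₂ ∨ e = e₁ * e₂ → e * e = 1 ∧ e * a = a * e ∧ ∃ u, a * e = u * a * u⁻¹ := by
  obtain ⟨u, hu, d, hd⟩ := h.exists_std ht hU
  obtain ⟨r, r', hr, hr', h3, h4⟩ := E.gr h.tr.ne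
  have h5 := Φ.ht_pos E.pos_θ
  have ia : a⁻¹ = a := inv_eq_of_mul_eq_one_right a2
  have cm : ∀ {m x}, x ∈ UUx X {k | Φ.Pos k ∧ m ≤ Φ.ht k} → a * x * a⁻¹ ∈ UUx X {k | Φ.Pos k ∧ m ≤ Φ.ht k} :=
    fun {m x} hx => (mem_normalizer_iff.1 (h.norm_idl ht.mem hU (E.idl_ht m) (cl_ht (E := E) m).gam) x).1 hx
  have xm : ∀ {m r}, 1 ≤ m → m ≤ Φ.ht r → ∀ c, X r c ∈ UUx X {k | Φ.Pos k ∧ m ≤ Φ.ht k} :=
    fun hm hr c => mem_UUx X (And.intro (pos_iff_ht.2 (by omega)) hr) c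
  have mp : ∀ {m x}, x ∈ UUx X {k | Φ.Pos k ∧ m ≤ Φ.ht k} → ρ x ∈ T.UU {k | Φ.Pos k ∧ m ≤ Φ.ht k} :=
    fun {m x} hx => h.map_mem_UU (cl_ht (E := E) m).gam hx
  have lead : ∀ r, E.γ r ≠ r → 1 ≤ Φ.ht r → ∃ v, cf T (ρ (X r v * (a * X r v * a⁻¹))) r ≠ 0 := fun r hr hm => by
    have nm : r ∉ {k | Φ.Pos k ∧ Φ.ht r + 1 ≤ Φ.ht k} := fun h => by have := h.2; omega
    have p := pos_iff_ht.2 (show 0 < Φ.ht r by omega)
    have p' := (E.γ_pos r).2 p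
    have c0 : ∀ v, cf T (ρ (X r v)) r = v := fun v => by
      rw [h.map, tx, h.amb.cf_mul (Amb.gr_lay hm) (T.x_mem_UU (And.intro p le_rfl) _)
        (T.x_mem_UU (And.intro p' (E.γ_ht r).ge) _) nm, h.amb.cf_x_self p, h.amb.cf_x_ne p' hr.symm, add_zero]
    by_contra! h0
    refine one_ne_zero (P.indep (a := 1) (b := d r) (c := 0) fun v => ?_).1
    have h1 := h0 v
    have nu : u⁻¹ ∈ tN X := L_le_N (UU_le_tL X _ (inv_mem hu))
    rw [h.mul _ (L_le_N (mem_tL X r v)) _ (L_le_N (conj_mem_L ht.mem (mem_tL X r v))),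
      h.amb.cf_mul (Amb.gr_lay hm) (mp (xm hm le_rfl v)) (mp (cm (xm hm le_rfl v))) nm, c0,
      show a * X r v * a⁻¹ = u⁻¹ * (u * a * X r v * (u * a)⁻¹) * u⁻¹⁻¹ by group, h.st_conj hd,
      h.conj nu (L_le_N (mem_tL X r _)), (h.amb.gr_conj hm (h.map_mem_UU cl_pos.gam (inv_mem hu))
        (mp (xm hm le_rfl _))).2 r rfl, c0] at h1
    linear_combination h1
  have m1 : 1 ≤ Φ.ht r' := by omega
  have ab : ∀ x ∈ UUx X {k | Φ.Pos k ∧ Φ.ht r' ≤ Φ.ht k}, ∀ y ∈ UUx X {k | Φ.Pos k ∧ Φ.ht r' ≤ Φ.ht k},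
      x * y = y * x := fun x hx y hy => by
    have k0 : ∀ b ∈ {k | Φ.Pos k ∧ Φ.ht r' ≤ Φ.ht k}, ∀ b' ∈ {k | Φ.Pos k ∧ Φ.ht r' ≤ Φ.ht k}, 0 ≤ ip Φ b b' :=
      fun b hb b' hb' => not_lt.1 fun e => by
        obtain ⟨k, hk⟩ := E.exists_add (E.eq_neg_one hb.1 hb'.1 e)
        have := radd_ht hk
        have := hb.2
        have := hb'.2
        by_cases h6 : k = E.θ
        · subst h6; omega
        · have := E.ht_lt_θ h6; omega
    refine (closure_le (centralizer (UUx X {k | Φ.Pos k ∧ Φ.ht r' ≤ Φ.ht k} : Set G))).2 ?_ hy x hx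
    rintro _ ⟨b', hb', v, rfl⟩
    exact mem_cent_UUx.2 fun b hb w => h.rel.com _ _ (k0 b hb b' hb') (k0 b hb _ ((cl_ht (E := E) _).gam _ hb')) _ _
  have sq : ∀ x ∈ UUx X {k | Φ.Pos k ∧ Φ.ht r' ≤ Φ.ht k}, x * x = 1 := fun x hx => by
    induction hx using closure_induction with
    | mem x hx => obtain ⟨b, -, v, rfl⟩ := hx; exact h.sq b v
    | one => exact one_mul 1
    | mul x y hx hy e e' => exact sy_sq (ab x hx y hy) e e'
    | inv x _ e => rw [← mul_inv_rev, e, inv_one]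
  have key : ∀ b ∈ UUx X {k | Φ.Pos k ∧ Φ.ht r' ≤ Φ.ht k}, ∀ x, x = b * (a * b * a⁻¹) →
      x * x = 1 ∧ x * a = a * x ∧ ∃ u, a * x = u * a * u⁻¹ := by
    rintro b hb _ rfl
    have c := ab b hb _ (cm hb)
    refine ⟨sq _ (mul_mem hb (cm hb)), ?_, b, ?_⟩
    · calc b * (a * b * a⁻¹) * a = (a * b * a⁻¹) * b * a := by rw [c]
        _ = _ := by rw [ia]; simp only [mul_assoc]
    · rw [c, inv_eq_of_mul_eq_one_right (sq b hb), ← mul_assoc, ← mul_assoc, ← mul_assoc, a2, one_mul, ia]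
  obtain ⟨v, hv⟩ := lead r hr (by omega)
  obtain ⟨v', hv'⟩ := lead r' hr' m1
  have x1 := xm m1 h3.le v
  have x2 := xm m1 (le_refl (Φ.ht r')) v'
  refine ⟨X r v * (a * X r v * a⁻¹), X r' v' * (a * X r' v' * a⁻¹), fun h6 => hv ?_, fun h6 => hv' ?_,
    fun h6 => hv' ?_, ?_⟩
  · rw [h6, h.one, h.amb.cf_one]
  · rw [h6, h.one, h.amb.cf_one]
  · have x3 := xm (m := Φ.ht r) (by omega) le_rfl v
    rw [← h6, h.amb.cf_eq_zero (E.closed_of_idl (E.idl_ht _)) (fun _ h => h.1)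
      (mp (mul_mem x3 (cm x3))) fun h => by have := h.2; omega]
  · rintro _ (rfl | rfl | rfl)
    · exact key _ x1 _ rfl
    · exact key _ x2 _ rfl
    · refine key _ (mul_mem x1 x2) _ ?_
      rw [mul_assoc, ← mul_assoc (a * X r v * a⁻¹), ← ab _ x2 _ (cm x1)]; group

namespace Sit

variable (h : Sit E P T s X ρ t)
include h

theorem conj_tx {r : ι} (hr : E.γ r = r) {c : F} (hc : c ≠ 0) :
    IsConj (t * xl P X E.θ 1) (t * xl P X r c) := by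
  obtain ⟨l, hl, e⟩ := h.exists_conj_x hr hc
  refine isConj_iff.2 ⟨l, ?_⟩
  rw [← conj_mul, e, h.comL hl, mul_inv_cancel_right]

/-- long root elements are not conjugate to `t` -/
theorem nz {r : ι} (hr : E.γ r = r) (c : F) : ¬ IsConj t (xl P X r c) := by
  intro e
  obtain ⟨g, hg⟩ := isConj_iff.1 e
  have h' := h.cj g
  rw [hg] at h'
  refine h'.t_not_mem (h'.pf_le h'.cyc (h.rel.pf_Y h.tr hr) (fun y hy => h'.CN ?_)
    (mem_UUx X (show 0 ≤ ip Φ r r from (ip_pos r).le) _))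
  exact mem_centralizer_singleton_iff.2 (h.rel.Y_le_cent hr hy _ ((h.rel.mem_tZ hr).2 ⟨c, rfl⟩)).symm

theorem nf_of (hB : ¬ IsConj t (t * xl P X E.θ 1)) : HX.NF t (xl P X E.θ) := fun g _ =>
  ⟨fun e => by_contra fun hc => hB ((isConj_iff.2 ⟨g, e⟩).trans (h.conj_tx E.γ_θ hc).symm),
    fun e => h.nz E.γ_θ _ (isConj_iff.2 ⟨g, e⟩)⟩

theorem nf_long (hB : HX.NF t (xl P X E.θ)) {r : ι} (hr : E.γ r = r) {c : F} (hc : c ≠ 0) :
    ¬ IsConj t (t * xl P X r c) := fun e => by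
  obtain ⟨g, hg⟩ := isConj_iff.1 (e.trans (h.conj_tx hr hc).symm)
  exact one_ne_zero ((hB g 1).1 hg)

theorem nf_cj_mem (hB : HX.NF t (xl P X E.θ)) {l : G} (hl : l ∈ tL X) :
    HX.NF t (xl P (cjX l X) E.θ) := by
  have := nf_cj hB l
  rwa [h.comL hl, mul_inv_cancel_right] at this

/-- a 2-subgroup of `C(a)`, `a` a conjugate of `t`, normalises a Sylow subgroup of `L_a` -/
theorem exists_cj {a : G} (ha : IsConj t a) {R : Subgroup G} (hR : IsPGroup 2 R)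
    (hc : R ≤ centralizer {a}) :
    ∃ g, g * t * g⁻¹ = a ∧ R ≤ normalizer (tU Φ (cjX g X) : Set G) := by
  obtain ⟨g, hg⟩ := isConj_iff.1 ha
  have h' := h.cj g
  rw [hg] at h'
  obtain ⟨l, hl, hn⟩ := h'.exists_norm_cj hR (hc.trans h'.CN)
  rw [cjX_cjX] at hn
  refine ⟨l * g, ?_, hn⟩
  rw [show l * g * t * (l * g)⁻¹ = l * (g * t * g⁻¹) * l⁻¹ by group, hg, h'.comL hl,
    mul_inv_cancel_right]

theorem inn_ty {a : G} (ha : IsConj t a) (hc : a * t = t * a) : Ty T X ρ a 1 ∨ Ty T X ρ a P.τ := by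
  obtain ⟨σ, hT⟩ := h.exists_ty (h.mem_N hc)
  rcases h.sq_of_ty hT (b1_sq h.t2 ha ▸ one_mem _) with rfl | rfl
  exacts [.inl hT, .inr hT]

/-- reduction to a pair of inner type -/
theorem exists_inner (hB : HX.NF t (xl P X E.θ)) {a : G} (ha : IsConj t a) (hc : a * t = t * a)
    (hne : a ≠ t) : ∃ g a', IsConj t a' ∧ a' * (g * t * g⁻¹) = g * t * g⁻¹ * a' ∧
      a' ≠ g * t * g⁻¹ ∧ a' ∈ tN0 T (cjX g X) (cjρ g ρ) := by
  have _ := hB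
  rcases h.inn_ty ha hc with hT | hT
  · refine ⟨1, a, ha, by simpa using hc, by simpa using hne, (h.cj 1).mem_N0.2 ?_⟩
    simpa using hT.cj 1
  have a2 := b1_sq h.t2 ha
  obtain ⟨l, hl, hn⟩ := h.exists_norm_cj (UFP.pgroup_zpowers_of_sq a2) (zpowers_le.2 hT.mem)
  obtain ⟨e₁, e₂, n1, n2, n3, H⟩ := (h.cj_mem hl).inn_four ((h.ty_cj_iff hl).2 hT) a2 (hn (mem_zpowers a))
  obtain ⟨g, hg⟩ := isConj_iff.1 ha
  have h' := h.cj g
  rw [hg] at h'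
  have K : ∀ e, e = e₁ ∨ e = e₂ ∨ e = e₁ * e₂ → IsConj a (a * e) ∧ a * e * a = a * (a * e) := by
    intro e he
    obtain ⟨-, k2, u, k3⟩ := H e he
    exact ⟨k3 ▸ b1_conj u a, by rw [mul_assoc, k2]⟩
  have fin : ∀ e, e = e₁ ∨ e = e₂ ∨ e = e₁ * e₂ → e ≠ 1 → Ty T (cjX g X) (cjρ g ρ) (a * e) 1 →
      ∃ g a', IsConj t a' ∧ a' * (g * t * g⁻¹) = g * t * g⁻¹ * a' ∧ a' ≠ g * t * g⁻¹ ∧
        a' ∈ tN0 T (cjX g X) (cjρ g ρ) := fun e he e1 h0 =>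
    ⟨g, a * e, ha.trans (K e he).1, by rw [hg, (K e he).2], by rw [hg]; simpa using e1, h'.mem_N0.2 h0⟩
  rcases h'.inn_ty (K e₁ (.inl rfl)).1 (K e₁ (.inl rfl)).2 with a1 | a1
  · exact fin _ (.inl rfl) n1 a1
  rcases h'.inn_ty (K e₂ (.inr (.inl rfl))).1 (K e₂ (.inr (.inl rfl))).2 with k2 | k2
  · exact fin _ (.inr (.inl rfl)) n2 k2
  have a3 := h'.ty_mul (h'.ty_of_mem (mem_sup_right h'.tC)) (h'.ty_mul a1 k2)
  rw [P.τ_mul, mul_one, mul_assoc a e₁, ← mul_assoc e₁, (H e₁ (.inl rfl)).2.1, mul_assoc a e₁, ← mul_assoc a a (e₁ * e₂),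
    a2, one_mul] at a3
  refine fin _ (.inr (.inr rfl)) (fun e => n3 ?_) a3
  rw [eq_inv_of_mul_eq_one_left e, inv_eq_of_mul_eq_one_right (H e₂ (.inr (.inl rfl))).1]

end Sit

end CfsgLib.SLT
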