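import Mathlib
import Cfsg.Agent.Lib.SLT.Defs
import Cfsg.Agent.Lib.HX.Iso
import Cfsg.Agent.Lib.HX.Mov
import Cfsg.Agent.Lib.HX.Lin

/-!
# Type-free results on a long root group
-/

set_option autoImplicit false
set_option linter.unusedSectionVars false

namespace CfsgLib.SLT

open CfsgLib.RGD CfsgLib.Stein CfsgLib.SLE Subgroup
open scoped commutatorElement Pointwise

universe u


variable {F : Type} [Field F] [Finite F] {G : Type u} [Group G] [Finite G] {H Y Q R : Subgroup G}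
  {t : G} {V : Type} [AddCommGroup V] [Module F V] {z : F → G} {π : G → V}
  {f : LinearMap.BilinForm F V}

section

open CfsgLib.HX CfsgLib.HX.MovAux

theorem LR2.conj (h : LR2 H Y Q t z π f) {g : G} (hz : ∀ s, g * z s = z s * g) :
    LR2 (MulAut.conj g • H) (MulAut.conj g • Y) (MulAut.conj g • Q) (g * t * g⁻¹) z
      (fun x => π (g⁻¹ * x * g)) f := by
  have cz : ∀ {x}, (∀ s, x * z s = z s * x) → ∀ s, g⁻¹ * x * g * z s = z s * (g⁻¹ * x * g) := fun hx s =>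
    ((show Commute g (z s) from hz s).inv_left.mul_left (hx s)).mul_left (hz s)
  have ct : ∀ {x}, x * (g * t * g⁻¹) = g * t * g⁻¹ * x → g⁻¹ * x * g * t = t * (g⁻¹ * x * g) := fun {x} e => by
    calc _ = g⁻¹ * (x * (g * t * g⁻¹)) * g := by group
      _ = _ := by rw [e]; group
  have mN : ∀ {x} {K : Subgroup G}, x ∈ normalizer ((MulAut.conj g • K : Subgroup G) : Set G) ↔
      g⁻¹ * x * g ∈ normalizer (K : Set G) := fun {x K} => by
    rw [Tech.smul_eq_cj, ← Tech.cj_normalizer, Tech.mem_cj]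
  have mC : ∀ {x} {K : Subgroup G}, x ∈ centralizer ((MulAut.conj g • K : Subgroup G) : Set G) ↔
      g⁻¹ * x * g ∈ centralizer (K : Set G) := fun {x K} => by
    rw [Tech.smul_eq_cj, ← Tech.cj_centralizer, Tech.mem_cj]
  have cc : ∀ x, g⁻¹ * (g * x * g⁻¹) * g = x := fun x => by group
  refine ⟨h.toHeis.map hz, h.toStd.cj g, Tech.cj_mono g h.QY, Tech.cj_mono g h.YH, fun y hy s => ?_,
    fun y hy => mN.2 (h.YQ (mem_cs.1 hy)), h.dim, fun s e => h.zC s (conj_z' hz s ▸ mC.1 e),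
    (Tech.cj_mono g h.perf).trans (Tech.cj_commutator g _ _).le,
    (Tech.cj_mono g h.qy).trans (Tech.cj_commutator g _ _).le, fun k e c => ?_,
    fun k e c => mN.2 (h.nQ _ (ct e) (cz c)), fun k e c c' => ?_, fun l hl => ?_⟩
  · have := h.Yz _ (mem_cs.1 hy) s
    calc _ = g * (g⁻¹ * y * g * (g⁻¹ * z s * g)) * g⁻¹ := by group
      _ = g * (g⁻¹ * z s * g * (g⁻¹ * y * g)) * g⁻¹ := by rw [conj_z' hz, this]
      _ = _ := by group
  · obtain ⟨s, c, hc, e⟩ := h.cQ _ (ct e) (mC.1 c)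
    exact ⟨s, g * c * g⁻¹, mC.2 (by rwa [cc]), by rw [← conj_z hz, conj_mul, ← e]; group⟩
  · obtain ⟨x, hx, c, hc, e⟩ := h.cV _ (ct e) (cz c) fun x hx => by
      have := c' _ (Tech.conj_mem_cj.2 hx)
      rw [cc] at this
      rw [← this]; congr 1; group
    exact ⟨_, Tech.conj_mem_cj.2 hx, g * c * g⁻¹, mC.2 (by rwa [cc]), by rw [conj_mul, ← e]; group⟩
  · obtain ⟨k, hk, n1, n2, e1, e2⟩ := h.tor l hl
    refine ⟨g * k * g⁻¹, Tech.conj_mem_cj.2 hk, mN.2 (by rwa [cc]), mN.2 (by rwa [cc]), fun x hx => ?_, fun s => ?_⟩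
    · rw [← e1 _ (mem_cs.1 hx)]; congr 1; group
    · rw [← conj_z hz (l * l * s), ← e2, ← conj_z hz s, conj_z hz s, ← conj_z' hz s]
      calc _ = g * (k * (g⁻¹ * (g⁻¹ * z s * g) * g) * k⁻¹) * g⁻¹ := by group
        _ = _ := by rw [conj_z' hz, conj_z' hz]

/-- **ISO** -/
theorem LR2.iso (h : LR2 H Y Q t z π f) (nf : HX.NF t z) {g : G} (hz : ∀ s, g * z s = z s * g)
    (hc : Commute (g * t * g⁻¹) t) : g * t * g⁻¹ = t := by
  let _ : Module (ZMod 2) F := AddCommGroup.zmodModule fun x => by rw [two_nsmul, h.add_self]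
  obtain ⟨φ, hφ⟩ : ∃ φ : Module.Dual (ZMod 2) F, φ 1 ≠ 0 :=
    not_forall.1 (mt (Module.forall_dual_apply_eq_zero_iff (ZMod 2) (1 : F)).1 one_ne_zero)
  obtain ⟨C, mC⟩ : ∃ C : Subgroup G, ∀ x, x ∈ C ↔ ∀ s, x * z s = z s * x :=
    ⟨centralizer (Set.range z), fun x => ⟨fun k s => (k _ ⟨s, rfl⟩).symm, by rintro k _ ⟨s, rfl⟩; exact (k s).symm⟩⟩
  have QC : Q ≤ C := fun x hx => (mC x).2 (h.cz hx)
  have tQ : ∀ x ∈ Q, x * t = t * x := fun x hx => h.tC x (h.YH (h.QY hx))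
  let N : Subgroup C :=
    { carrier := {x | ∃ s, φ s = 0 ∧ (x : G) = z s}
      one_mem' := ⟨0, map_zero φ, h.z0.symm⟩
      mul_mem' := by
        rintro x y ⟨s, hs, e⟩ ⟨r, hr, e'⟩
        exact ⟨s + r, by rw [map_add, hs, hr, add_zero], by rw [coe_mul, e, e', h.zadd]⟩
      inv_mem' := by
        rintro x ⟨s, hs, e⟩
        exact ⟨s, hs, by rw [coe_inv, e, inv_eq_of_mul_eq_one_right (h.zsq s)]⟩ }
  have : N.Normal := ⟨by
    rintro x ⟨s, hs, e⟩ k
    exact ⟨s, hs, by rw [coe_mul, coe_mul, coe_inv, e, conj_z ((mC _).1 k.2)]⟩⟩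
  obtain ⟨ψ, sur, key⟩ : ∃ ψ : C →* C ⧸ N, Function.Surjective ψ ∧
      ∀ x y, ψ x = ψ y ↔ ∃ s, φ s = 0 ∧ (y : G) = x * z s :=
    ⟨QuotientGroup.mk' N, QuotientGroup.mk'_surjective N, fun x y => QuotientGroup.eq.trans
      (exists_congr fun s => and_congr_right fun _ => inv_mul_eq_iff_eq_mul)⟩
  let T : C := ⟨t, (mC t).2 fun s => (tQ _ (h.zQ s)).symm⟩
  let Z : C := ⟨z 1, QC (h.zQ 1)⟩
  have zz : ∀ (x : C) s, (x : G) = z s → ψ x ∈ zpowers (ψ Z) := fun x s e => by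
    by_cases c : φ s = 0
    · rw [← (key 1 x).2 ⟨s, c, by rw [e, coe_one, one_mul]⟩, map_one]; exact one_mem _
    · rw [← (key Z x).2 ⟨1 + s, by rw [map_add]; revert c hφ; generalize φ s = u; generalize φ 1 = v; revert u v; decide,
        by rw [e, h.zadd, ← mul_assoc, h.zsq, one_mul]⟩]
      exact mem_zpowers _
  have cm : ∀ k x : C, ψ x * ψ (k * T * k⁻¹) = ψ (k * T * k⁻¹) * ψ x →
      (x : G) * (k * t * (k : G)⁻¹) = k * t * (k : G)⁻¹ * x := fun k x e => by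
    rw [← mul_inv_eq_iff_eq_mul, ← map_inv, ← map_mul, ← map_mul, eq_comm, key] at e
    obtain ⟨s, -, e⟩ := e
    change (x : G) * (k * t * (k : G)⁻¹) * (x : G)⁻¹ = k * t * (k : G)⁻¹ * z s at e
    rw [(nf ((k : G)⁻¹ * x * k) s).1 (by
      rw [← conj_z' ((mC _).1 k.2) s]
      calc _ = (k : G)⁻¹ * (x * (k * t * (k : G)⁻¹) * (x : G)⁻¹) * k := by group
        _ = _ := by rw [e]; group), h.z0, mul_one] at e
    exact mul_inv_eq_iff_eq_mul.1 e
  have U : SLE.U1H (ψ Z) (ψ T) ((Q.subgroupOf C).map ψ) := by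
    refine ⟨by rw [← map_mul, show Z * Z = 1 from Subtype.ext (h.zsq 1), map_one],
      by rw [← map_mul, show T * T = 1 from Subtype.ext h.t2, map_one], h.isPGroup.comap_subtype.map _,
      ⟨Z, h.zQ 1, rfl⟩, ?_, ?_, ?_, ?_, ?_, fun k _ e => ?_, fun s c e e' => ?_, fun c => ?_⟩
    · rintro _ ⟨u, hu, rfl⟩ _ ⟨v, hv, rfl⟩
      simpa using zz (u * v * u⁻¹ * v⁻¹) _ (h.comm u hu v hv)
    · rintro _ ⟨u, hu, rfl⟩
      rw [← map_mul, ← map_mul, show u * Z = Z * u from Subtype.ext (h.cz hu 1)]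
    · rintro _ ⟨u, hu, rfl⟩
      obtain ⟨s, e⟩ := h.sq u hu
      simpa using zz (u * u) s e
    · rintro _ ⟨u, hu, rfl⟩ c
      obtain ⟨s, e⟩ := (h.πker u hu).1 (h.nd _ fun w => by_contra fun n => by
        obtain ⟨v, hv, e⟩ := h.πsurj ((f (π u) w)⁻¹ • w)
        obtain ⟨s, hs, e'⟩ := (key 1 (u * ⟨v, QC hv⟩ * u⁻¹ * (⟨v, QC hv⟩ : C)⁻¹)).1 (by
          simp only [map_mul, map_inv, map_one]
          rw [c _ ⟨⟨v, QC hv⟩, hv, rfl⟩]; group)
        rw [coe_one, one_mul] at e'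
        have := h.z_inj ((h.comm u hu v hv).symm.trans e')
        rw [e, map_smul, smul_eq_mul, inv_mul_cancel₀ n] at this
        exact hφ (this ▸ hs))
      exact zz u s e
    · rintro _ ⟨u, hu, rfl⟩
      rw [← map_mul, ← map_mul, show u * T = T * u from Subtype.ext (tQ _ hu)]
    · obtain ⟨k, rfl⟩ := sur k
      have n := h.nQ k (by simpa using cm 1 k (by simpa using e)) ((mC _).1 k.2)
      refine SLE.u1_norm_of ?_
      rintro _ ⟨u, hu, rfl⟩
      exact ⟨k * u * k⁻¹, Tech.conj_mem_of_mem_normalizer (H := Q) n hu, by simp⟩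
    · obtain ⟨k, rfl⟩ := isConj_iff.1 c
      obtain ⟨k, rfl⟩ := sur k
      rw [← map_inv, ← map_mul, ← map_mul] at e e' ⊢
      have e1 := (cm k T e.symm).symm
      obtain ⟨s, c, hc, e2⟩ := h.cQ _ e1 fun u hu => cm k ⟨u, QC hu⟩ (e' _ ⟨_, hu, rfl⟩)
      have c1 := hc _ (h.YH (h.QY (h.zQ s)))
      have e3 : c = z s * (k * t * (k : G)⁻¹) := by rw [e2, ← mul_assoc, h.zsq, one_mul]
      rcases h.invol hc (e3 ▸ (show Commute (z s) t from tQ _ (h.zQ s)).mul_left e1) (by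
        have : z s * c * (z s * c) = 1 := by rw [← e2, conj_mul, h.t2, mul_one, mul_inv_cancel]
        rwa [(show Commute (z s) c from c1).symm.mul_mul_mul_comm, h.zsq, one_mul] at this) with rfl | rfl
      · exact absurd (e2.trans (mul_one _)) (nf k s).2
      · rw [c1] at e2
        rw [(nf k s).1 e2, h.z0, mul_one] at e2
        exact congrArg ψ (Subtype.ext e2)
    · obtain ⟨k, e⟩ := isConj_iff.1 c
      obtain ⟨k, rfl⟩ := sur k
      rw [← map_inv, ← map_mul, ← map_mul, ← map_mul, eq_comm, key] at e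
      obtain ⟨s, hs, e⟩ := e
      have := (nf k (1 + s)).1 (e.trans (by rw [h.zadd, ← mul_assoc]; rfl))
      exact hφ (by simpa [hs] using congrArg φ this)
  let k : C := ⟨g, (mC g).2 hz⟩
  have := U.isolated (g := ψ k) (by rw [← map_mul, ← map_mul, show k * Z = Z * k from Subtype.ext (hz 1)]) (by
    rw [← map_inv, ← map_mul, ← map_mul, ← map_mul, ← map_mul,
      show k * T * k⁻¹ * T = T * (k * T * k⁻¹) from Subtype.ext hc])
  exact mul_inv_eq_iff_eq_mul.2 (by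
    simpa using cm 1 k (by simpa using mul_inv_eq_iff_eq_mul.1 this))

theorem LR2.iso2 (h : LR2 H Y Q t z π f) (nf : HX.NF t z) {P : Subgroup G} (hP : IsPGroup 2 P)
    (ht : t ∈ P) (hz : ∀ p ∈ P, ∀ s, p * z s = z s * p) : P ≤ centralizer {t} := by
  by_contra hn
  obtain ⟨u, hu, n, hu'⟩ := SylTools.exists_mem_normalizer_not_mem hP inf_le_left fun e : P ⊓ centralizer {t} = P =>
    hn (e.ge.trans inf_le_right)
  have := Tech.conj_mem_of_mem_normalizer n ⟨ht, mem_centralizer_singleton_iff.2 rfl⟩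
  exact hu' ⟨hu, mem_centralizer_singleton_iff.2 (mul_inv_eq_iff_eq_mul.1
    (h.iso nf (hz u hu) (mem_centralizer_singleton_iff.1 this.2)))⟩

/-- `q > 2`: an element acting trivially on `Z` and `Q / Z` -/
theorem LR2.exists_triv (h : LR2 H Y Q t z π f) (hq : 2 < Nat.card F) {g : G}
    (hg : g * t * g⁻¹ = t * z 1) (nY : g ∈ normalizer (Y : Set G)) (nQ : g ∈ normalizer (Q : Set G))
    (nZ : g ∈ normalizer (HX.X z : Set G)) : ∃ k ∈ normalizer (Y : Set G),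
      (∀ s, k * z s = z s * k) ∧ (∀ x ∈ Q, ∃ s, k * x * k⁻¹ = x * z s) ∧
        ∃ s, s ≠ 0 ∧ k * t * k⁻¹ = t * z s := by
  have hH := h.toHeis
  obtain ⟨l, hl0, hl1⟩ : ∃ l : F, l ≠ 0 ∧ l ≠ 1 := by
    by_contra hc
    push Not at hc
    have : (Set.univ : Set F) ⊆ {0, 1} := fun x _ => by
      by_cases hx : x = 0
      · exact Or.inl hx
      · exact Or.inr (hc x hx)
    have h2 := Set.ncard_le_ncard this (Set.toFinite _)
    rw [Set.ncard_univ] at h2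
    have h3 := Set.ncard_pair (zero_ne_one (α := F))
    omega
  obtain ⟨d, dH, dY, dQ, dπ, dz⟩ := h.tor l hl0
  choose γ hγ using fun s => memZ hH (nm nZ (mem_X z s))
  choose γ' hγ' using fun s => memZ hH (nm' nZ (mem_X z s))
  have γγ' : ∀ s, γ (γ' s) = s := fun s => zinj' hH (by rw [← hγ, ← hγ']; group)
  have γ'γ : ∀ s, γ' (γ s) = s := fun s => zinj' hH (by rw [← hγ', ← hγ]; group)
  have γ'0 : γ' 0 = 0 := zinj' hH (by rw [← hγ', z0 hH]; group)
  set e := g * d * g⁻¹ with he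
  have eQ : e ∈ normalizer (Q : Set G) := mul_mem (mul_mem nQ dQ) (inv_mem nQ)
  have eY : e ∈ normalizer (Y : Set G) := mul_mem (mul_mem nY dY) (inv_mem nY)
  have key : ∀ x ∈ Q, ∀ y ∈ Q,
      f (π (e * x * e⁻¹)) (π y) = γ (l * γ' (f (π x) (π y))) := by
    intro x hx y hy
    have hx' := nm' nQ hx
    have hy' := nm' nQ hy
    have h1 := h.comm _ (nm dQ hx') _ hy'
    rw [dπ _ hx', map_smul, LinearMap.smul_apply, smul_eq_mul] at h1
    have h2 := h.comm _ hx' _ hy'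
    have h3 : f (π (g⁻¹ * x * g)) (π (g⁻¹ * y * g)) = γ' (f (π x) (π y)) := by
      apply zinj' hH
      rw [← h2, ← hγ', ← h.comm x hx y hy]; group
    rw [h3] at h1
    apply zinj' hH
    rw [← hγ, ← h1, ← h.comm _ (nm eQ hx) _ hy, he]; group
  obtain ⟨v, hv⟩ : ∃ v : V, v ≠ 0 := by
    obtain ⟨w, hw⟩ := h.dim 0
    exact ⟨w, by simpa using hw 0⟩
  obtain ⟨w, hw⟩ : ∃ w, f v w = 1 := by
    by_contra hc
    apply hv
    apply h.nd
    intro w
    by_contra h0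
    exact hc ⟨(f v w)⁻¹ • w, by rw [map_smul, smul_eq_mul, inv_mul_cancel₀ h0]⟩
  set l' := γ (l * γ' 1) with hl'
  have θ : ∀ c, γ (l * γ' c) = c * l' := by
    intro c
    obtain ⟨x, hx, rfl⟩ := h.πsurj v
    obtain ⟨y, hy, hyw⟩ := h.πsurj w
    obtain ⟨y', hy', hyw'⟩ := h.πsurj (c • w)
    have h1 := key x hx y hy
    have h2 := key x hx y' hy'
    rw [hyw, hw] at h1
    rw [hyw', map_smul, map_smul, hw, smul_eq_mul, smul_eq_mul, mul_one, h1] at h2
    exact h2.symm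
  have γ'1 : γ' 1 ≠ 0 := fun h0 => by
    have := γγ' 1
    rw [h0, ← γ'0, γγ'] at this
    exact zero_ne_one this
  have hl'0 : l' ≠ 0 := fun h0 => by
    have := congrArg γ' h0
    rw [hl', γ'γ, γ'0] at this
    exact mul_ne_zero hl0 γ'1 this
  have hl'1 : l' ≠ 1 := fun h0 => by
    have := congrArg γ' h0
    rw [hl', γ'γ] at this
    exact hl1 (mul_right_cancel₀ γ'1 (this.trans (one_mul _).symm))
  have eπ : ∀ x ∈ Q, π (e * x * e⁻¹) = l' • π x := by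
    intro x hx
    rw [← sub_eq_zero]
    apply h.nd
    intro w
    obtain ⟨y, hy, rfl⟩ := h.πsurj w
    rw [map_sub, LinearMap.sub_apply, key x hx y hy, θ, map_smul, LinearMap.smul_apply, smul_eq_mul]
    ring
  have ez : ∀ s, e * z s * e⁻¹ = z (l' * l' * s) := by
    intro s
    have h1 : e * z s * e⁻¹ = g * (d * (g⁻¹ * z s * g) * d⁻¹) * g⁻¹ := by rw [he]; group
    rw [h1, hγ', dz, hγ]
    congr 1
    have h2 := θ (γ (l * γ' s))
    rw [γ'γ, θ s] at h2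
    rw [mul_assoc, h2]; ring
  have tH : ∀ x ∈ H, x * t = t * x := fun x hx => h.tC x hx
  have et : e * t * e⁻¹ = t * z (1 + l' * l') := by
    have h1 : e * (t * z 1) * e⁻¹ = t * z 1 := by
      rw [← hg, he]
      have : g * d * g⁻¹ * (g * t * g⁻¹) * (g * d * g⁻¹)⁻¹ = g * (d * t * d⁻¹) * g⁻¹ := by group
      rw [this, tH d dH]; group
    have h2 : e * (t * z 1) * e⁻¹ = e * t * e⁻¹ * (e * z 1 * e⁻¹) := by group
    rw [h2, ez, mul_one] at h1
    rw [h.zadd, ← mul_assoc, ← h1, mul_assoc (e * t * e⁻¹), zsq hH, mul_one]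
  obtain ⟨d', dH', dY', dQ', dπ', dz'⟩ := h.tor l' hl'0
  refine ⟨e * d'⁻¹, mul_mem eY (inv_mem dY'), fun s => ?_, fun x hx => ?_, 1 + l' * l', ?_, ?_⟩
  · have h1 := dz' ((l' * l')⁻¹ * s)
    have h2 := ez ((l' * l')⁻¹ * s)
    rw [mul_inv_cancel_left₀ (mul_ne_zero hl'0 hl'0)] at h1 h2
    calc e * d'⁻¹ * z s = e * d'⁻¹ * (d' * z ((l' * l')⁻¹ * s) * d'⁻¹) := by rw [h1]
      _ = (e * z ((l' * l')⁻¹ * s) * e⁻¹) * (e * d'⁻¹) := by group
      _ = _ := by rw [h2]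
  · have hx' := nm' dQ' hx
    have h1 := dπ' _ hx'
    have h2 := eπ _ hx'
    rw [show d' * (d'⁻¹ * x * d') * d'⁻¹ = x by group] at h1
    rw [← h1] at h2
    obtain ⟨s, hs⟩ := eq_of_π hH hx (nm eQ hx') h2
    exact ⟨s, by rw [← hs]; group⟩
  · intro h0
    have h1 : (1 + l') * (1 + l') = 0 := by
      have := addself hH l'
      linear_combination h0 + this
    have h2 : 1 + l' = 0 := by simpa using h1
    have h3 := addself hH 1
    exact hl'1 (by linear_combination h2 - h3)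
  · rw [← et]
    have : e * d'⁻¹ * t * (e * d'⁻¹)⁻¹ = e * (d'⁻¹ * t * d') * e⁻¹ := by group
    rw [this, tH _ (H.inv_mem dH')]; group

theorem LR2.exists_cent (h : LR2 H Y Q t z π f) {k : G} (nY : k ∈ normalizer (Y : Set G))
    (hz : ∀ s, k * z s = z s * k) (hV : ∀ x ∈ Q, ∃ s, k * x * k⁻¹ = x * z s) {s : F}
    (hk : k * t * k⁻¹ = t * z s) : ∃ p ∈ centralizer (Y : Set G), p * t * p⁻¹ = t * z s := by
  classical
  have hH := h.toHeis
  have tH : ∀ x ∈ H, x * t = t * x := fun x hx => h.tC x hx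
  choose! δ hδ using hV
  have zc : ∀ x ∈ Q, ∀ s, x * z s = z s * x := fun x hx => h.Yz x (h.QY hx)
  have δmul : ∀ x ∈ Q, ∀ y ∈ Q, δ (x * y) = δ x + δ y := by
    intro x hx y hy
    apply zinj' hH
    have h1 := hδ _ (Q.mul_mem hx hy)
    rw [show k * (x * y) * k⁻¹ = (k * x * k⁻¹) * (k * y * k⁻¹) by group, hδ x hx, hδ y hy] at h1
    have h2 : x * z (δ x) * (y * z (δ y)) = x * y * (z (δ x) * z (δ y)) := by
      rw [mul_assoc, ← mul_assoc (z _), ← zc y hy]; group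
    rw [h2, ← h.zadd] at h1
    exact (mul_left_cancel h1).symm
  have δz : ∀ s, δ (z s) = 0 := by
    intro s
    apply h.zinj
    have h1 := hδ _ (h.zQ s)
    rw [hz, mul_inv_cancel_right] at h1
    exact left_eq_mul.1 h1
  choose σ σQ σπ using h.πsurj
  have δσ : ∀ x ∈ Q, δ (σ (π x)) = δ x := by
    intro x hx
    obtain ⟨s, hs⟩ := eq_of_π hH hx (σQ (π x)) (σπ _)
    rw [hs, δmul _ hx _ (h.zQ s), δz, add_zero]
  have δadd : ∀ v w, δ (σ (v + w)) = δ (σ v) + δ (σ w) := by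
    intro v w
    rw [← δmul _ (σQ v) _ (σQ w), ← δσ _ (Q.mul_mem (σQ v) (σQ w)), h.πmul _ (σQ v) _ (σQ w),
      σπ, σπ]
  have δ0 : δ (σ 0) = 0 := by
    have := δadd 0 0
    rw [add_zero] at this
    exact left_eq_add.1 this
  have δneg : ∀ v, δ (σ (-v)) = - δ (σ v) := by
    intro v
    have := δadd v (-v)
    rw [add_neg_cancel, δ0] at this
    exact (neg_eq_of_add_eq_zero_right this.symm).symm
  have inv : ∀ y ∈ Y, ∃ v₀, ∀ x ∈ Q, δ (y * x * y⁻¹) = δ x + f v₀ (π x) := by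
    intro y hy
    have yQ := h.YQ hy
    have hc : y⁻¹ * (k * y * k⁻¹) ∈ Y := Y.mul_mem (Y.inv_mem hy) (nm nY hy)
    have hcx : ∀ x ∈ Q, y⁻¹ * (k * y * k⁻¹) * x * (y⁻¹ * (k * y * k⁻¹))⁻¹ =
        x * z (δ (y * x * y⁻¹) + δ x) := by
      intro x hx
      have h1 : k⁻¹ * x * k = x * z (δ x) := by
        have h2 := hδ x hx
        have h3 : x = k * x * k⁻¹ * z (δ x) := by rw [h2, mul_assoc, zsq hH, mul_one]
        calc k⁻¹ * x * k = k⁻¹ * (k * x * k⁻¹ * z (δ x)) * k := by rw [← h3]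
          _ = x * (k⁻¹ * (z (δ x) * k)) := by group
          _ = _ := by rw [← hz]; group
      have h2 := hδ _ (nm yQ hx)
      calc _ = y⁻¹ * (k * (y * (k⁻¹ * x * k) * y⁻¹) * k⁻¹) * y := by group
        _ = y⁻¹ * (k * (y * x * (z (δ x) * y⁻¹)) * k⁻¹) * y := by rw [h1]; group
        _ = y⁻¹ * (k * (y * x * y⁻¹) * k⁻¹) * (k * z (δ x) * k⁻¹) * y := by
          rw [← h.Yz _ (Y.inv_mem hy)]; group
        _ = x * (y⁻¹ * ((z (δ (y * x * y⁻¹)) * z (δ x)) * y)) := by rw [h2, hz]; group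
        _ = _ := by rw [← h.zadd, ← h.Yz y hy]; group
    obtain ⟨x₀, hx₀, c, hc', e⟩ := h.cV _ (tH _ (h.YH hc)) (h.Yz _ hc) (fun x hx => by
      rw [hcx x hx, h.πmul _ hx _ (h.zQ _), (h.πker _ (h.zQ _)).2 ⟨_, rfl⟩, add_zero])
    refine ⟨π x₀, fun x hx => ?_⟩
    have h1 := hcx x hx
    have h2 := h.comm _ hx₀ _ hx
    have h3 : x * c = c * x := hc' x (h.YH (h.QY hx))
    rw [e] at h1
    have h4 : x₀ * c * x * (x₀ * c)⁻¹ = x₀ * x * x₀⁻¹ * x⁻¹ * x := by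
      rw [mul_assoc x₀ c x, ← h3]; group
    rw [h4, h2, ← zc x hx] at h1
    have h5 := zinj' hH (mul_left_cancel h1)
    have h6 := addself hH (δ x)
    linear_combination -h5 - h6
  have δsm : ∀ (l : F) v, δ (σ (l • v)) = l * δ (σ v) := by
    intro l
    let K : Subgroup G :=
      { carrier := {x | x ∈ Q ∧ δ (σ (l • π x)) = l * δ (σ (π x))}
        mul_mem' := fun {x y} hx hy => ⟨Q.mul_mem hx.1 hy.1, by
          rw [h.πmul _ hx.1 _ hy.1, smul_add, δadd, δadd, hx.2, hy.2, mul_add]⟩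
        one_mem' := ⟨Q.one_mem, by rw [π1 hH, smul_zero, δ0, mul_zero]⟩
        inv_mem' := fun {x} hx => ⟨Q.inv_mem hx.1, by
          rw [πinv hH hx.1, smul_neg, δneg, δneg, hx.2, mul_neg]⟩ }
    have hK : ⁅Q, Y⁆ ≤ K := by
      rw [commutator_le]
      intro x hx y hy
      have yQ := h.YQ hy
      obtain ⟨v₀, hv₀⟩ := inv y hy
      obtain ⟨m, hm, -⟩ := hH.exists_lin yQ (h.Yz y hy)
      have hδm : ∀ v, δ (σ (m v)) = δ (σ v) + f v₀ v := by
        intro v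
        have h1 := hv₀ _ (σQ v)
        rw [← δσ _ (nm yQ (σQ v)), hm _ (σQ v), σπ] at h1
        exact h1
      have e : ⁅x, y⁆ = x * (y * x⁻¹ * y⁻¹) := by rw [commutatorElement_def]; group
      have hx' := nm yQ (Q.inv_mem hx)
      refine ⟨e ▸ Q.mul_mem hx hx', ?_⟩
      rw [e, h.πmul _ hx _ hx', hm _ (Q.inv_mem hx), πinv hH hx, smul_add, δadd, δadd, ← map_smul,
        hδm, hδm, smul_neg, δneg, δneg, map_neg, map_neg, map_smul, smul_eq_mul]
      ring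
    intro v
    have := (hK (h.qy (σQ v))).2
    rwa [σπ] at this
  let φ : Module.Dual F V :=
    { toFun := fun v => δ (σ v)
      map_add' := δadd
      map_smul' := δsm }
  haveI : Finite V := Finite.of_injective σ fun v w e => by rw [← σπ v, e, σπ]
  have fs : Function.Surjective (f : V →ₗ[F] Module.Dual F V) := by
    refine (LinearMap.injective_iff_surjective_of_finrank_eq_finrank
      (Subspace.dual_finrank_eq).symm).1 ?_
    rw [← LinearMap.ker_eq_bot, LinearMap.ker_eq_bot']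
    intro v hv
    exact h.nd v fun w => by rw [hv]; rfl
  obtain ⟨v₁, hv₁⟩ := fs φ
  have hx₀ := σQ v₁
  set x₀ := σ v₁ with hx₀d
  have pQ : ∀ x ∈ Q, x₀⁻¹ * k * x * (x₀⁻¹ * k)⁻¹ = x := by
    intro x hx
    have h1 := h.comm _ hx₀ _ hx
    have h2 : f (π x₀) (π x) = δ x := by
      rw [hx₀d, σπ, hv₁, ← δσ x hx]; rfl
    rw [h2] at h1
    calc _ = x₀⁻¹ * (k * x * k⁻¹) * x₀ := by group
      _ = x₀⁻¹ * (x₀ * x * x₀⁻¹ * x⁻¹ * x) * x₀ := by rw [hδ x hx, h1, zc x hx]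
      _ = x := by group
  set p := x₀⁻¹ * k with hp
  have pY : p ∈ normalizer (Y : Set G) :=
    mul_mem (inv_mem (le_normalizer (h.QY hx₀))) nY
  have pz : ∀ y ∈ Y, ∃ c, (∀ y' ∈ Y, Commute c y') ∧ p * y * p⁻¹ = c * y := by
    intro y hy
    have hm : p * y * p⁻¹ * y⁻¹ ∈ Y := Y.mul_mem (nm pY hy) (Y.inv_mem hy)
    obtain ⟨s, c, hc, hs⟩ := h.cQ (p * y * p⁻¹ * y⁻¹) (tH _ (h.YH hm)) (by
      intro x hx
      have h1 := pQ _ (nm' (h.YQ hy) hx)
      have h2 := pQ x hx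
      have h3 : p⁻¹ * (y⁻¹ * x * y) * p = y⁻¹ * x * y := by
        conv_lhs => rw [← h1]
        group
      calc x * (p * y * p⁻¹ * y⁻¹) = (p * x * p⁻¹) * (p * y * p⁻¹ * y⁻¹) := by rw [h2]
        _ = p * y * (y⁻¹ * x * y) * p⁻¹ * y⁻¹ := by group
        _ = p * y * (p⁻¹ * (y⁻¹ * x * y) * p) * p⁻¹ * y⁻¹ := by rw [h3]
        _ = _ := by group)
    refine ⟨z s * c, fun y' hy' => ?_, by rw [← hs]; group⟩
    exact (show Commute (z s) y' from (h.Yz y' hy' s).symm).mul_left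
      (show Commute c y' from (hc y' (h.YH hy')).symm)
  refine ⟨p, ?_, ?_⟩
  · have : ⁅Y, Y⁆ ≤ centralizer {p} := by
      rw [commutator_le]
      intro y hy y' hy'
      obtain ⟨c, hc, hr⟩ := pz y hy
      obtain ⟨c', hc', hr'⟩ := pz y' hy'
      rw [mem_centralizer_singleton_iff]
      have h1 : p * ⁅y, y'⁆ * p⁻¹ = ⁅c * y, c' * y'⁆ := by
        rw [← hr, ← hr', commutatorElement_def, commutatorElement_def]; group
      have c5 : Commute c (c' * y') := hc _ (hr' ▸ nm pY hy')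
      have h2 : ⁅c * y, c' * y'⁆ = ⁅y, y'⁆ := by
        have m : c' * y' ∈ Y := hr' ▸ nm pY hy'
        have a1 : Commute c (y * (c' * y') * y⁻¹) := hc _ (mul_mem (mul_mem hy m) (inv_mem hy))
        have a2 : Commute c' (y * y' * y⁻¹ * y'⁻¹) :=
          hc' _ (mul_mem (mul_mem (mul_mem hy hy') (inv_mem hy)) (inv_mem hy'))
        calc _ = c * (y * (c' * y') * y⁻¹) * c⁻¹ * (c' * y')⁻¹ := by
              rw [commutatorElement_def]; group
          _ = y * c' * y' * y⁻¹ * (c' * y')⁻¹ := by rw [a1.eq]; group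
          _ = c' * (y * y' * y⁻¹ * y'⁻¹) * c'⁻¹ := by rw [← (hc' y hy).eq]; group
          _ = _ := by rw [a2.eq, commutatorElement_def]; group
      rw [h2] at h1
      calc _ = p * ⁅y, y'⁆ * p⁻¹ * p := by rw [h1]
        _ = _ := by group
    intro y hy
    exact mem_centralizer_singleton_iff.1 (this (h.perf hy))
  · calc p * t * p⁻¹ = x₀⁻¹ * (k * t * k⁻¹) * x₀ := by rw [hp]; group
      _ = x₀⁻¹ * t * (z s * x₀) := by rw [hk]; group
      _ = x₀⁻¹ * (t * x₀) * z s := by rw [← zc _ hx₀]; group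
      _ = _ := by rw [← tH _ (h.YH (h.QY hx₀))]; group

namespace LR2X

variable {a : ZMod 6 → F → G}

theorem a1Q (h : A2D H Q R t a) (s : F) : a 1 s ∈ Q := by
  have e : a 2 1 * a 0 s * a 2 1 = a 0 s * a 1 (s * 1) := h.aa2 0 s 1
  rw [mul_one, ← inv_mul_eq_iff_eq_mul] at e
  rw [← e]
  exact mul_mem (inv_mem (h.a0Q s)) (mul_mem (mul_mem (h.a2Q 1) (h.a0Q s)) (h.a2Q 1))

theorem mvC (h : A2D H Q R t a) (hQ : Q ≤ Y) (hY : Y ≤ H) {p c : G} (hp : p ∈ centralizer (Y : Set G)) {s : F} (e : p * t * p⁻¹ = t * a 1 s)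
    (hc : c ∈ centralizer (H : Set G)) (ct : c * t = t * c) : Commute (p * c * p⁻¹) t ∧
      ∃ r, ∃ c' ∈ centralizer (H : Set G), p * c * p⁻¹ = a 1 r * c' := by
  have m : p * c * p⁻¹ ∈ centralizer (Y : Set G) :=
    mul_mem (mul_mem hp (centralizer_le hY hc)) (inv_mem hp)
  have k : Commute (p * c * p⁻¹) t := by
    have := ((Commute.conj_iff p).2 ct).mul_right (show Commute _ _ from m _ (hQ (a1Q h s))).symm
    rwa [e, mul_assoc t, h.sq, mul_one] at this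
  exact ⟨k, h.cQ _ k (centralizer_le hQ m)⟩

theorem two_of (h : A2D H Q R t a) (hQ : Q ≤ Y) (hY : Y ≤ H) {p : G} (hp : p ∈ centralizer (Y : Set G)) {s : F} (hs : s ≠ 0)
    (e : p * t * p⁻¹ = t * a 1 s) : Two H t := fun c hc ct h2 => by
  obtain ⟨k, hk⟩ := A2D.two_iff.1 h2
  clear h2
  induction k generalizing c with
  | zero => exact .inl (by simpa using hk)
  | succ k ih =>
    rcases ih (c * c) (mul_mem hc hc) (Commute.mul_left ct ct) (by rw [← pow_two, ← pow_mul, ← pow_succ', hk]) with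
      e1 | e1
    · exact h.invol hc ct e1
    · obtain ⟨-, r, c', hc', e2⟩ := mvC h hQ hY hp e hc ct
      have : a 1 s = t⁻¹ * (c' * c') := by
        rw [eq_inv_mul_iff_mul_eq, ← e, ← e1, ← conj_mul, e2,
          (show Commute (a 1 r) c' from hc' _ (h.mem 1 r)).symm.mul_mul_mul_comm, h.sq, one_mul]
      exact absurd (h.zC s 0 (by rw [h.e1, this]; exact mul_mem (inv_mem h.tC) (mul_mem hc' hc'))).1 hs

theorem exists_mv₀ (h : A2D H Q R t a) (hQ : Q ≤ Y) (hR : R ≤ Y) (hY : Y ≤ H) {p : G} (hp : p ∈ centralizer (Y : Set G)) {s : F} (hs : s ≠ 0)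
    (e : p * t * p⁻¹ = t * a 1 s) : ∃ p', Mv H (Y) t (a 1 s) p' := by
  have pR : p ∈ centralizer (R : Set G) := centralizer_le hR hp
  have tl : ∀ l ∈ H, l * p * l⁻¹ * t * (l * p * l⁻¹)⁻¹ = t * (l * a 1 s * l⁻¹) := fun l hl => by
    calc _ = l * (p * (l⁻¹ * t * l) * p⁻¹) * l⁻¹ := by group
      _ = _ := by rw [mul_assoc l⁻¹, ← (h.tH hl).eq, inv_mul_cancel_left, e, ← mul_assoc, (h.tH hl).eq]; group
  have nO : ∀ o ∈ centralizer (H : Set G), o * t = t * o → Odd (orderOf o) →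
      p * o * p⁻¹ ∈ centralizer (H : Set G) ∧ Commute (p * o * p⁻¹) t := fun o ho ot od => by
    obtain ⟨k, r, c, hc, e1⟩ := mvC h hQ hY hp e ho ot
    have e2 : a 1 r * c ^ orderOf o = 1 := by
      rw [← StdInt.odd_pow_sq (h.sq 1 r) od, ← (show Commute (a 1 r) c from hc _ (h.mem 1 r)).mul_pow, ← e1, conj_pow,
        pow_orderOf_eq_one, mul_one, mul_inv_cancel]
    rw [(h.zC r 0 (by rw [h.e1, eq_inv_of_mul_eq_one_left e2]; exact inv_mem (pow_mem hc _))).1, h.a_zero,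
      one_mul] at e1
    exact ⟨e1 ▸ hc, k⟩
  have lO : ∀ l ∈ H, ∀ o ∈ centralizer (H : Set G), o * t = t * o → Odd (orderOf o) →
      l * p * l⁻¹ * o * (l * p * l⁻¹)⁻¹ = p * o * p⁻¹ := fun l hl o ho ot od => by
    calc _ = l * (p * (l⁻¹ * o * l) * p⁻¹) * l⁻¹ := by group
      _ = _ := by
        rw [mul_assoc l⁻¹, ← ho l hl, inv_mul_cancel_left, (nO o ho ot od).1 l hl, mul_inv_cancel_right]
  obtain ⟨l, hl, el⟩ := h.exists_conj' (s := 0) (r := 1) fun f => one_ne_zero (h.inj _ _ f).2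
  obtain ⟨m, hm, em⟩ := h.exists_conj' (s := 1) (r := 1) fun f => one_ne_zero (h.inj _ _ f).2
  have lR := h.cR_conj (h.nR' hl).2 pR
  have mR := h.cR_conj (h.nR' hm).2 pR
  have mE : ∀ s r, a 1 s * a 2 r ∈ R := fun s r => h.ER (h.mem_E.2 ⟨s, r, rfl⟩)
  have kt : Commute ((m * p * m⁻¹)⁻¹ * p * (l * p * l⁻¹)) t := StdL.comm_of_conj (by
    calc _ = (m * p * m⁻¹)⁻¹ * (p * (l * p * l⁻¹ * t * (l * p * l⁻¹)⁻¹) * p⁻¹) * (m * p * m⁻¹) := by group
      _ = (m * p * m⁻¹)⁻¹ * (m * p * m⁻¹ * t * (m * p * m⁻¹)⁻¹) * (m * p * m⁻¹) := by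
        rw [tl l (h.nR' hl).1, tl m (h.nR' hm).1, el, em, ← conj_mul, e, ← pR _ (mE _ _), mul_inv_cancel_right,
          mul_zero, mul_one, h.e2, mul_assoc t]
      _ = t := by group)
  obtain ⟨x, hx, c, hc, ek⟩ := h.cR _ kt (mul_mem (mul_mem (inv_mem mR) pR) lR)
  have ct : Commute c t := by
    have := (h.tH (h.EH hx)).inv_left.mul_left kt
    rwa [ek, inv_mul_cancel_left] at this
  obtain ⟨o, ho, ot, -, ec⟩ := (two_of h hQ hY hp hs e).dec hc ct
  refine ⟨o⁻¹ * p, mul_mem (inv_mem (centralizer_le hY ho)) hp, ?_, fun o' ho' ot' od' => ?_⟩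
  · calc _ = o⁻¹ * (p * t * p⁻¹) * o := by group
      _ = _ := by rw [e, mul_assoc, mul_assoc, ho _ (h.mem 1 s), ← mul_assoc t, ← ot]; group
  · have e1 : x * c * o' * (x * c)⁻¹ = p * o' * p⁻¹ := by
      obtain ⟨k1, k2⟩ := nO o' ho' ot' od'
      rw [← ek]
      calc _ = (m * p * m⁻¹)⁻¹ * (p * (l * p * l⁻¹ * o' * (l * p * l⁻¹)⁻¹) * p⁻¹) * (m * p * m⁻¹) := by group
        _ = _ := by
          rw [lO l (h.nR' hl).1 o' ho' ot' od', ← lO m (h.nR' hm).1 _ k1 k2 (StdInt.odd_conj p od')]; group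
    have e2 : c * o' * c⁻¹ = o * o' * o⁻¹ := ec.elim (· ▸ rfl) fun f => by
      rw [f, show t * o * o' * (t * o)⁻¹ = t * (o * o' * o⁻¹) * t⁻¹ by group]
      exact StdL.conj_of_comm ((Commute.mul_left ot ot').mul_left (Commute.inv_left ot)).symm
    rw [show x * c * o' * (x * c)⁻¹ = x * (c * o' * c⁻¹) * x⁻¹ by group, e2,
      mul_mem (mul_mem ho ho') (inv_mem ho) x (h.EH hx), mul_inv_cancel_right] at e1
    calc _ = o⁻¹ * (p * o' * p⁻¹) * p := by group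
      _ = _ := by rw [← e1]; group

end LR2X

end

/-- from the centraliser of `Y` to the centraliser of `C_H(Z) = Y Z(H)` -/
theorem a2d_exists_cY {a : ZMod 6 → F → G} (h : HX.A2D H Q R t a) (hQ : Q ≤ Y) (hR : R ≤ Y)
    (hY : Y ≤ H) (hk : ∀ y ∈ HX.Yk H a 1, ∃ y' ∈ Y, ∃ o ∈ H, o ∈ centralizer (H : Set G) ∧
      Odd (orderOf o) ∧ y = y' * o) {p : G} (hp : p ∈ centralizer (Y : Set G)) {s : F} (hs : s ≠ 0)
    (e : p * t * p⁻¹ = t * a 1 s) :
    ∃ p' ∈ centralizer (HX.Yk H a 1 : Set G), p' * t * p'⁻¹ = t * a 1 s := by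
  obtain ⟨p', m⟩ := LR2X.exists_mv₀ h hQ hR hY hp hs e
  refine ⟨p', fun y hy => ?_, m.pt⟩
  obtain ⟨y', h1, o, h2, h3, h4, rfl⟩ := hk y hy
  have k1 : y' * p' = p' * y' := m.cY y' h1
  have k2 : p' * o = o * p' := m.co o h3 (h.tC o h2) h4
  rw [mul_assoc, ← k2, ← mul_assoc, k1, mul_assoc]

end CfsgLib.SLT
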