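import Mathlib
import Cfsg.Agent.Lib.SLT.Inn
import Cfsg.Agent.Lib.SLT.Dcg
import Cfsg.Agent.Lib.SLT.Lri
import Cfsg.Agent.Lib.SLT.LR2
import Cfsg.Agent.Lib.SLE.B3

/-!
# Fusion
-/

set_option autoImplicit false
set_option linter.unusedSectionVars false

namespace CfsgLib.SLT

open CfsgLib.RGD CfsgLib.Stein CfsgLib.SLE Subgroup
open scoped commutatorElement Pointwise

universe u

variable {ι κ : Type} [Fintype κ] [DecidableEq κ] [Finite ι] {Φ : RootSys ι κ} {E : ER Φ}
  {F K : Type} [Field F] [Finite F] [CharP F 2] [Field K] [Finite K] [CharP K 2] {P : QE F K}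
  {G : Type u} [Group G] [Finite G] {A : Type} [Group A] [Finite A] {T : StSys Φ K A} {s : A}
  {X : ι → K → G} {ρ : G → A} {t : G}

namespace Sit

variable (h : Sit E P T s X ρ t)
include h

theorem fu_k {w k : G} (hw : w ∈ tL X) (hk : k ∈ SLT.tC X) (w2 : w * w = 1)
    (e2 : w * k * (w * k) = 1) (et : w * k * t = t * (w * k)) : k = 1 ∨ k = t := by
  have c1 : Commute w k := hk w hw
  have c2 : Commute w t := h.comL hw
  have c3 : Commute (w * k) t := et
  refine h.eq_t hk ?_ ?_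
  · have := c1.mul_pow 2
    simpa only [pow_two, e2, w2, one_mul] using this.symm
  · have := c2.inv_left.mul_left c3
    rwa [inv_mul_cancel_left] at this

theorem fu_cent (hB : HX.NF t (xl P X E.θ)) (hq : Nat.card F = 2) {R : Subgroup G}
    (hR : IsPGroup 2 R) (ht : t ∈ R) (hz : ∀ p ∈ R, p * xl P X E.θ 1 = xl P X E.θ 1 * p) :
    R ≤ centralizer {t} := by
  obtain ⟨V, _, _, π, f, H⟩ := h.lr
  refine H.iso2 hB hR ht fun p hp c => ?_
  by_cases hc : c = 0
  · rw [hc, h.rel.xl_zero, mul_one, one_mul]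
  · rw [b3_one hq hc]; exact hz p hp

theorem fu_dcf (hB : HX.NF t (xl P X E.θ)) {a l : G} {W : Subgroup G} (D : DCF E P X l W)
    (hs : IsConj t a) (e : a = l ∨ a = l * t) : False := by
  have UL : tU Φ X ≤ tL X := UU_le_tL X _
  have ZL : tZ X E.θ ≤ tL X := UU_le_tL X _
  have WL : W ≤ tL X := D.WU.trans UL
  have lL := WL D.lW
  have l2 := D.sq l D.lW
  have lt : l * t = t * l := h.comL lL
  have cs : ∀ p ∈ tL X, p * a = a * p ↔ p * l = l * p := by
    intro p hp
    rcases e with rfl | rfl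
    · rfl
    · rw [mul_assoc, ← h.comL hp, ← mul_assoc, ← mul_assoc, mul_left_inj]
  have hc : t * a = a * t := by
    rcases e with rfl | rfl
    · exact lt.symm
    · rw [← mul_assoc, ← lt]
  have Cs : tL X ⊓ centralizer {l} ≤ centralizer {a} := fun p hp =>
    mem_centralizer_singleton_iff.2 ((cs p hp.1).2 (mem_centralizer_singleton_iff.1 hp.2))
  obtain ⟨g, hg, hn⟩ := h.exists_cj hs (b1_pg (P := tU Φ X ⊓ centralizer {l})
    (h.pg_U.to_le inf_le_left) h.t2 fun p hp => h.comL (UL hp.1))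
    (sup_le (zpowers_le.2 (mem_centralizer_singleton_iff.2 hc))
      ((inf_le_inf_right _ UL).trans Cs))
  have h' := h.cj g
  have hB' := nf_cj hB g
  rw [hg] at h' hB'
  generalize cjX g X = X' at hn h' hB'
  generalize cjρ g ρ = ρ' at h'
  have invZ : ∀ v, v * v = 1 → v * a = a * v → v ∈ normalizer (tU Φ X' : Set G) →
      ∀ c, xl P X' E.θ c * v = v * xl P X' E.θ c := by
    intro v v2 hv hU c
    obtain ⟨σ, hσ⟩ := h'.exists_ty (h'.mem_N hv)
    exact h'.cent_Z hσ (h'.sq_of_ty hσ (by rw [v2]; exact one_mem _)) hU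
      (UFP.pgroup_zpowers_of_sq v2) _ ((h'.rel.mem_tZ E.γ_θ).2 ⟨c, rfl⟩)
  have tZ' := invZ t h.t2 hc (hn (mem_sup_left (mem_zpowers t)))
  have key : ∀ c, c ≠ 0 → ∃ w ∈ W, (xl P X' E.θ c = w ∨ xl P X' E.θ c = w * t) ∧
      ¬ IsConj a (xl P X' E.θ c) ∧ ¬ IsConj a (a * xl P X' E.θ c) := by
    intro c c0
    have et := tZ' c
    obtain ⟨w, hw, k, hk, e'⟩ := D.cen (xl P X' E.θ c) (h.mem_N et) fun v hv v2 vl =>
      invZ v v2 ((cs v (UL hv)).2 vl)
        (hn (mem_sup_right ⟨hv, mem_centralizer_singleton_iff.2 vl⟩)) c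
    refine ⟨w, hw, ?_, h'.nz E.γ_θ _, h'.nf_long hB' E.γ_θ c0⟩
    rcases h.fu_k (WL hw) hk (D.sq w hw) (e' ▸ h'.rel.xl_sq _ c) (e' ▸ et) with rfl | rfl
    · exact Or.inl (by rw [e', mul_one])
    · exact Or.inr e'
  have cj1 : ∀ w ∈ W, w ∉ tZ X E.θ → IsConj l w ∧ IsConj (l * t) (w * t) := by
    intro w hw hw'
    obtain ⟨b, hb, e'⟩ := D.conj w hw hw'
    exact ⟨isConj_iff.2 ⟨b, e'⟩, isConj_iff.2 ⟨b, by
      rw [← conj_mul, e', h.comL hb, mul_inv_cancel_right]⟩⟩
  have lz : ∀ x ∈ tZ X E.θ, l * x ∉ tZ X E.θ := fun x hx h0 =>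
    D.lZ ((Subgroup.mul_mem_cancel_right _ hx).1 h0)
  have ZZ : Nat.card F = 2 → ∀ x ∈ tZ X E.θ, x = 1 ∨ x = xl P X E.θ 1 := by
    intro hq x hx
    obtain ⟨c, rfl⟩ := (h.rel.mem_tZ E.γ_θ).1 hx
    by_cases hc : c = 0
    · exact Or.inl (by rw [hc, h.rel.xl_zero])
    · exact Or.inr (by rw [b3_one hq hc])
  have zZ : xl P X E.θ 1 ∈ tZ X E.θ := (h.rel.mem_tZ E.γ_θ).2 ⟨1, rfl⟩
  have fin : Nat.card F = 2 ∧ (xl P X' E.θ 1 = xl P X E.θ 1 * t ∨
      xl P X' E.θ 1 = l * xl P X E.θ 1 ∨ xl P X' E.θ 1 = l * xl P X E.θ 1 * t) := by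
    rcases e with rfl | rfl
    · have k2 : ∀ c, c ≠ 0 → ∃ w ∈ W, xl P X' E.θ c = w * t := by
        intro c c0
        obtain ⟨w, hw, e' | e', n1, n2⟩ := key c c0
        · rw [e'] at n1 n2
          by_cases hz : w ∈ tZ X E.θ
          · exact (n2 (cj1 _ (mul_mem D.lW hw) (lz w hz)).1).elim
          · exact (n1 (cj1 w hw hz).1).elim
        · exact ⟨w, hw, e'⟩
      have hq : Nat.card F = 2 := by
        refine (b3_q (F := F)).resolve_right fun hq => h.t_not_mem ?_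
        obtain ⟨c, c0, c1⟩ := b3_exists hq
        obtain ⟨w₁, a1, e1⟩ := k2 1 one_ne_zero
        obtain ⟨w₂, a2, e2⟩ := k2 c c0
        obtain ⟨w₃, a3, e3⟩ := k2 _ c1
        rw [h'.rel.xl_add, e1, e2, mul_assoc, ← mul_assoc t, ← h.comL (WL a2), mul_assoc, h.t2,
          mul_one] at e3
        refine (Subgroup.mul_mem_cancel_left _ (WL a3)).1 ?_
        rw [← e3]
        exact WL (mul_mem a1 a2)
      refine ⟨hq, ?_⟩
      obtain ⟨w, hw, e1⟩ := k2 1 one_ne_zero
      obtain ⟨-, -, -, n1, n2⟩ := key 1 one_ne_zero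
      rw [e1] at n1 n2 ⊢
      by_cases hz : w ∈ tZ X E.θ
      · rcases ZZ hq w hz with rfl | rfl
        · rw [one_mul] at n1
          exact (n1 hs.symm).elim
        · exact Or.inl rfl
      · rcases D.two hq w hw hz with rfl | rfl
        · rw [← mul_assoc, l2, one_mul] at n2
          exact (n2 hs.symm).elim
        · exact Or.inr (Or.inr rfl)
    · have k2 : ∀ c, c ≠ 0 → ∃ x ∈ tZ X E.θ, ∃ b, (b = l ∨ b = t) ∧ xl P X' E.θ c = b * x := by
        intro c c0
        obtain ⟨w, hw, e' | e', n1, n2⟩ := key c c0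
        · rw [e'] at n1 n2
          refine ⟨l * w, by_contra fun hz => n2 ?_, l, Or.inl rfl,
            by rw [e', ← mul_assoc, l2, one_mul]⟩
          rw [mul_assoc, ← h.comL (WL hw), ← mul_assoc]
          exact (cj1 _ (mul_mem D.lW hw) hz).2
        · rw [e'] at n1
          exact ⟨w, by_contra fun hz => n1 (cj1 w hw hz).2, t, Or.inr rfl,
            by rw [e', h.comL (WL hw)]⟩
      have ca : ∀ x ∈ tZ X E.θ, ∀ b, b = l ∨ b = t → x * b = b * x := by
        rintro x hx b (rfl | rfl)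
        · exact (h.Z_cent hx (D.WU D.lW)).symm
        · exact h.comL (ZL hx)
      have tZ'' : t ∉ tZ X E.θ := fun h0 => h.t_not_mem (ZL h0)
      have hq : Nat.card F = 2 := by
        refine (b3_q (F := F)).resolve_right fun hq => ?_
        obtain ⟨c, c0, c1⟩ := b3_exists hq
        obtain ⟨x₁, a1, b₁, d1, e1⟩ := k2 1 one_ne_zero
        obtain ⟨x₂, a2, b₂, d2, e2⟩ := k2 c c0
        obtain ⟨x₃, a3, b₃, d3, e3⟩ := k2 _ c1
        rw [h'.rel.xl_add, e1, e2, mul_assoc, ← mul_assoc x₁, ca x₁ a1 b₂ d2] at e3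
        have e4 : b₃⁻¹ * (b₁ * b₂) ∈ tZ X E.θ := by
          have : b₃⁻¹ * (b₁ * b₂) = x₃ * (x₁ * x₂)⁻¹ := by
            calc _ = b₃⁻¹ * (b₁ * (b₂ * x₁ * x₂)) * (x₁ * x₂)⁻¹ := by group
              _ = _ := by rw [e3]; group
          rw [this]
          exact mul_mem a3 (inv_mem (mul_mem a1 a2))
        rcases d1 with rfl | rfl <;> rcases d2 with rfl | rfl <;> rcases d3 with rfl | rfl
        · rw [inv_mul_cancel_left] at e4; exact D.lZ e4
        · rw [l2, mul_one, inv_mem_iff] at e4; exact tZ'' e4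
        · rw [inv_mul_cancel_left] at e4; exact tZ'' e4
        · rw [lt, inv_mul_cancel_left] at e4; exact D.lZ e4
        · rw [← lt, inv_mul_cancel_left] at e4; exact tZ'' e4
        · rw [inv_mul_cancel_left] at e4; exact D.lZ e4
        · rw [h.t2, mul_one, inv_mem_iff] at e4; exact D.lZ e4
        · rw [inv_mul_cancel_left] at e4; exact tZ'' e4
      refine ⟨hq, ?_⟩
      obtain ⟨x, hx, b, hb, e1⟩ := k2 1 one_ne_zero
      obtain ⟨-, -, -, n1, n2⟩ := key 1 one_ne_zero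
      rw [e1] at n1 n2 ⊢
      rcases ZZ hq x hx with rfl | rfl
      · rcases hb with rfl | rfl
        · rw [mul_one, mul_assoc, ← lt, ← mul_assoc, l2, one_mul] at n2
          exact (n2 hs.symm).elim
        · rw [mul_one] at n1
          exact (n1 hs.symm).elim
      · rcases hb with rfl | rfl
        · exact Or.inr (Or.inl rfl)
        · exact Or.inl (h.comL (ZL zZ)).symm
  obtain ⟨hq, hz⟩ := fin
  have last : ∀ R ≤ tL X, IsPGroup 2 R → l ∈ R →
      (∀ p ∈ R, p * xl P X' E.θ 1 = xl P X' E.θ 1 * p) → ∀ p ∈ R, p * l = l * p := by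
    intro R hR p2 hl hcz p hp
    refine (cs p (hR hp)).1 (mem_centralizer_singleton_iff.1 (h'.fu_cent hB' hq
      (b1_pg p2 h.t2 fun p hp => h.comL (hR hp)) ?_ (fun x hx => ?_) (mem_sup_right hp)))
    · rcases e with rfl | rfl
      · exact mem_sup_right hl
      · exact mul_mem (mem_sup_right hl) (mem_sup_left (mem_zpowers t))
    · exact mem_centralizer_singleton_iff.1 (sup_le (zpowers_le.2 (mem_centralizer_singleton_iff.2
        (tZ' 1).symm)) (fun p hp => mem_centralizer_singleton_iff.2 (hcz p hp)) hx)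
  rcases hz with hz | hz
  · refine D.lZ (h.center_U.le ⟨D.WU D.lW, last _ UL h.pg_U (D.WU D.lW) fun p hp => ?_⟩)
    rw [hz]
    exact Commute.mul_right (h.Z_cent zZ hp) (h.comL (UL hp))
  · obtain ⟨R, hR, p2, hl, hcz, c, hc1, hc2⟩ := D.P
    refine hc2 (last R hR p2 hl (fun p hp => ?_) c hc1)
    have := mem_centralizer_singleton_iff.1 (hcz hp)
    rcases hz with hz | hz <;> rw [hz]
    · exact this
    · exact Commute.mul_right this (h.comL (hR hp))

/-- the inner case -/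
theorem not_inner (hB : HX.NF t (xl P X E.θ)) {a : G} (ha : IsConj t a) (hc : a * t = t * a)
    (hne : a ≠ t) (h0 : a ∈ tN0 T X ρ) : False := by
  have s2 := b1_sq h.t2 ha
  obtain ⟨l, hl, c, hc', rfl, l2, -⟩ := h.inv_split h0 s2
  have hk := h.fu_k hl hc' l2 s2 hc
  have l1 : l ≠ 1 := by
    rintro rfl
    rcases hk with rfl | rfl
    · rw [one_mul, isConj_one_left] at ha
      exact h.t1 ha
    · exact hne (one_mul _)
  obtain ⟨g, hg, H⟩ := h.dcl hl l2 l1
  have h1 : IsConj t (g * l * g⁻¹ * c) := ha.trans (isConj_iff.2 ⟨g, by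
    rw [← conj_mul, hc' g hg, mul_inv_cancel_right]⟩)
  rcases H with H | ⟨B, hB', H⟩ <;> rw [H] at h1
  · rcases hk with rfl | rfl
    · rw [mul_one] at h1
      exact h.nz E.γ_θ _ h1
    · rw [h.comL (l := xl P X E.θ 1) (mem_tL X _ _)] at h1
      exact h.nf_long hB E.γ_θ one_ne_zero h1
  · obtain ⟨W, D⟩ := h.dcf hB'
    exact h.fu_dcf hB D h1 (hk.imp (fun e => by rw [e, mul_one]) fun e => by rw [e])

/-- **FUS** -/
theorem fus {a : G} (ha : IsConj t a) (hc : a * t = t * a) (hne : a ≠ t) :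
    IsConj t (t * xl P X E.θ 1) := by
  by_contra hn
  have hB := h.nf_of hn
  obtain ⟨g, a', h1, h2, h3, h4⟩ := h.exists_inner hB ha hc hne
  exact (h.cj g).not_inner (nf_cj hB g) ((b1_conj g t).symm.trans h1) h2 h3 h4

end Sit

end CfsgLib.SLT
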