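import Mathlib
import Cfsg.Agent.Lib.SLT.HS2

/-!
# The action of the moved hats on long root elements
-/

set_option autoImplicit false
set_option linter.unusedSectionVars false

namespace CfsgLib.SLT

open CfsgLib.RGD CfsgLib.Stein CfsgLib.SLE Subgroup
open scoped commutatorElement Pointwise

universe u

variable {ι κ : Type} [Fintype κ] [DecidableEq κ] [Finite ι] {Φ : RootSys ι κ} {E : ER Φ}
  {F K : Type} [Field F] [Finite F] [CharP F 2] [Field K] [Finite K] [CharP K 2] {P : QE F K}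
  {G : Type u} [Group G] [Finite G] {A : Type} [Group A] [Finite A] {T : StSys Φ K A} {s : A}
  {X : ι → K → G} {ρ : G → A} {t : G}

variable {y : ι → F → G} {c : F} {W : ι → K → G}

theorem hs3_chain {Y B Z x x1 x2 x3 x4 : G} (h1 : Z⁻¹ * x * Z = x1) (h2 : Commute B x1)
    (h3 : Y * x1 * Y⁻¹ = x2) (h4 : B * x2 * B⁻¹ = x3) (h5 : Y⁻¹ * x3 * Y = x4) :
    Y⁻¹ * (B * Y * B⁻¹) * Z⁻¹ * x * (Y⁻¹ * (B * Y * B⁻¹) * Z⁻¹)⁻¹ = x4 := by
  have h6 : x1 = B⁻¹ * x1 * B := by rw [mul_assoc, ← h2.eq, inv_mul_cancel_left]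
  rw [← h5, ← h4, ← h3, h6, ← h1]
  group

theorem hs3_alg {w y' xm x x' yk xk yk' : G} (c1 : Commute xm w) (c2 : Commute xm y') (c3 : Commute y' x)
    (c4 : Commute y' x') (s1 : y' * y' = 1) (c5 : Commute x' yk) (c6 : Commute x' xk) (s2 : x' * x' = 1)
    (c7 : Commute xk yk') :
    w * y' * (xm * x * x') * (y' * yk * xk) * (x' * yk') = xm * (w * x * (yk * yk') * xk) := by
  calc _ = w * y' * xm * (x * x' * y') * (yk * xk * x') * yk' := by group
    _ = xm * w * (y' * y') * x * (x' * x') * yk * (xk * yk') := by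
      rw [← (c1.mul_right c2).eq, ← (c3.mul_right c4).eq, ← (c5.mul_right c6).eq]; group
    _ = _ := by rw [s1, s2, c7.eq]; group

/-- the configuration for `i1` and `i2` -/
theorem TR.hs_i (h : TR E) {r a b k : ι} (ht : Tup E r a b k) : ∃ g a' g' m m', Tup E g a' a g' ∧
    Tup E m a' b m' ∧ RAdd Φ r g m ∧ RAdd Φ r g' m' ∧ RAdd Φ m' g k ∧ ip Φ a' r = 0 ∧ ip Φ g b = 0 ∧
      ip Φ a' k = 0 := by
  obtain ⟨i1, -⟩ := ht.ips
  obtain ⟨g, lg, e1, e2⟩ := h.sl2 (Φ.neg r) a (long_neg.2 ht.lr) ht.ma (by rw [ip_neg_left, i1]; rfl)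
  obtain ⟨a', g', hg⟩ := exists_tup' lg ht.ma e1
  rw [ip_neg_right, ip_comm] at e2
  have f1 := hg.hs_ip ht.lr
  obtain ⟨m, hm⟩ := E.exists_add (a := r) (b := g) (by omega)
  obtain ⟨m', hm'⟩ := E.exists_add (a := r) (b := g') (by omega)
  have h1 : RAdd Φ m a' b := fun j => by
    have := hm j; have := ht.hb j; have := hg.hb j
    omega
  have h2 : RAdd Φ b (E.γ a') m' := fun j => by
    have := hm' j; have := ht.hb j; have := hg.hk j
    omega
  have h3 : RAdd Φ m' g k := fun j => by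
    have := hm' j; have := ht.hb j; have := ht.hk j; have := hg.hk j; have := hg.γ.hb j
    omega
  have f2 := hg.hb.ip_right r
  have f3 := ht.hb.ip_right g
  have f4 := h3.ip_right a'
  have hm2 : Tup E m a' b m' := ⟨long_add hm ht.lr lg, hg.ma, h1, h2⟩
  have f5 := hm2.ips.2.2.2.2.1
  have f6 := hg.ips.1
  rw [ip_comm g r] at f3
  rw [ip_comm g a'] at f6
  exact ⟨g, a', g', m, m', hg, hm2, hm, hm', h3, by rw [ip_comm]; omega, by omega, by omega⟩

namespace HS2

variable (h : HS2 E P T s X ρ t y c W)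
include h

theorem hs_wx {a b k : ι} (ha : E.γ a ≠ a) (hk : E.γ k = k) (h1 : RAdd Φ a b k) (v u : K) :
    W b u * X a v * (W b u)⁻¹ = X a v * y k (P.T (v * u)) := by
  have e := h.xw a b k ha hk h1 v u
  rw [(h.cX hk (by rw [(E.radd_ip h1).2.1]; norm_num) _ _).eq, h.Winv]
  calc _ = W b u * (X a v * W b u * (X a v)⁻¹) * X a v := by group
    _ = _ := by rw [e, ← mul_assoc, h.Wsq, one_mul]

theorem wwl {a b k : ι} (ha : E.γ a ≠ a) (hk : E.γ k = k) (h1 : RAdd Φ a b k) (v u : K) :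
    W a v * W b u * (W a v)⁻¹ = W b u * y k (P.T (v * u)) * xl P X k (c * P.T (v * u)) := by
  have R := h.hs_rel
  obtain ⟨r, a', k', m, ht, lm, hm, hm', f1, f2, f3, f4, f5⟩ := h.tr.hs_xw ha hk h1
  rw [h.hs_def ht, mul_assoc _ (y k _)]
  refine hs2_alg (h.yW ht.lr (by rw [ip_comm]; omega) _ _).symm (h.hs_wx ht.ma lm hm.symm u v)
    (h.yW ht.lk (by rw [ip_comm]; omega) _ _).symm ?_
    ((h.cX hk f3.ge _ _).symm.mul_left (R.com_l hk f3.ge _ _).symm)
    ((h.comy hk ht.lk (by omega) _ _).mul_left (h.cX ht.lk (by omega) _ _))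
  rw [h.yinv lm, h.yy r m k ht.lr lm hm', one_mul, mul_comm u, mul_assoc]

theorem i1 {r a b k : ι} (ht : Tup E r a b k) (w : K) (p : F) : W a w * xl P X r p * (W a w)⁻¹ =
    xl P X r p * W b (P.f p * w) * y k (p * P.N w) * xl P X k (c * (p * P.N w)) := by
  have R := h.hs_rel
  obtain ⟨g, a', g', m, m', hg, hm, r1, r2, r3, f1, f2, f3⟩ := h.tr.hs_i ht
  have f4 := hm.ips.2.2.2.2.1
  have f5 := (E.radd_ip r1).2.2
  have f6 := (E.radd_ip r3).2.2
  have e1 := h.ay hg.lk ht.lr r2.symm (P.N w) p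
  have e2 := h.ay hg.lr ht.lr r1.symm 1 p
  have e3 := h.yy m' g k hm.lk hg.lr r3 (p * P.N w) 1
  have e4 := h.df m a' b m' hm w p
  have c1 : Commute (X a' w) (xl P X r p) := R.com_l ht.lr f1.ge _ _
  have c2 : ∀ q, Commute (X a' w) (y m' q) := h.cX hm.lk (by omega) _
  have c3 : Commute (X a' w) (y k (p * P.N w) * xl P X k (c * (p * P.N w))) :=
    (h.cX ht.lk f3.ge _ _).mul_right (R.com_l ht.lk f3.ge _ _)
  have c4 : Commute (y g 1) (y m p * W b (P.f p * w) * (y k (p * P.N w) * xl P X k (c * (p * P.N w)))) :=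
    ((h.comy hg.lr hm.lr (by omega) _ _).mul_right (h.yW hg.lr f2.ge _ _)).mul_right
      ((h.comy hg.lr ht.lk (by omega) _ _).mul_right (h.cX hg.lr (by rw [ip_comm]; omega) _ _).symm)
  rw [mul_comm (P.N w)] at e1
  rw [one_mul] at e2
  rw [mul_one] at e3
  rw [h.hs_def hg]
  refine hs3_chain (x2 := xl P X r p * y m p * (y m' (p * P.N w) * (y k (p * P.N w) * xl P X k (c * (p * P.N w)))))
    (x3 := xl P X r p * (y m p * W b (P.f p * w) * (y k (p * P.N w) * xl P X k (c * (p * P.N w)))))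
    (by rw [h.yinv hg.lk, e1]) (c1.mul_right (c2 _)) ?_ ?_ ?_
  · rw [← conj_mul, h.yinv hg.lr, e2, e3, mul_assoc (y m' _)]
  · rw [← conj_mul, ← conj_mul, e4, c1.eq, ((c2 _).mul_right c3).eq, mul_inv_cancel_right, mul_inv_cancel_right]
    calc _ = xl P X r p * (y m p * W b (P.f p * w) * (y m' (p * P.N w) * y m' (p * P.N w)) *
        (y k (p * P.N w) * xl P X k (c * (p * P.N w)))) := by group
      _ = _ := by rw [h.ysq hm.lk, mul_one]
  · rw [mul_assoc, mul_assoc, ← c4.eq, ← mul_assoc, ← mul_assoc, h.yinv hg.lr, e2]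
    calc _ = xl P X r p * (y m p * y m p) * W b (P.f p * w) * y k (p * P.N w) * xl P X k (c * (p * P.N w)) := by
          group
      _ = _ := by rw [h.ysq hm.lr, mul_one]

theorem i2 {r a b k : ι} (ht : Tup E r a b k) (w : K) (p : F) : W a w * y r p * (W a w)⁻¹ =
    y r p * W b (P.f p * w) * X b (P.f (c * p) * w) * y k ((1 + c) * (p * P.N w)) *
      xl P X k (c * (p * P.N w)) := by
  have R := h.hs_rel
  obtain ⟨g, a', g', m, m', hg, hm, r1, r2, r3, f1, f2, f3⟩ := h.tr.hs_i ht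
  obtain ⟨-, j2, j3, -, f4, j6, -⟩ := hm.ips
  have f5 := (E.radd_ip r1).2.2
  obtain ⟨-, f7, f6⟩ := E.radd_ip r3
  have e1 := h.yy r g' m' ht.lr hg.lk r2 p (P.N w)
  have e2 := h.yy r g m ht.lr hg.lr r1 p 1
  have e3 := h.yy m' g k hm.lk hg.lr r3 (p * P.N w) 1
  have e3' := h.ay hg.lr hm.lk r3.symm 1 (c * (p * P.N w))
  have e4 := h.df m a' b m' hm w p
  have e5 := R.ls m a' b m' hm w (c * p)
  rw [mul_one] at e2 e3
  rw [one_mul] at e3'
  rw [mul_assoc c] at e5
  rw [add_mul, one_mul, h.add k ht.lk]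
  generalize p * P.N w = q at *
  have c1 : Commute (X a' w) (y r p) := h.cX ht.lr f1.ge _ _
  have c2 : Commute (X a' w) (y m' q) := h.cX hm.lk (by omega) _ _
  have c2' : Commute (X a' w) (xl P X m' (c * q)) := R.com_l hm.lk (by omega) _ _
  have c3 : ∀ q, Commute (X a' w) (y k q) := h.cX ht.lk f3.ge _
  have c3' : Commute (X a' w) (xl P X k (c * q)) := R.com_l ht.lk f3.ge _ _
  have c4 : Commute (y g 1) (y m p * (xl P X m (c * p) *
      (W b (P.f p * w) * X b (P.f (c * p) * w) * (y k q * y k (c * q)) * xl P X k (c * q)))) :=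
    (h.comy hg.lr hm.lr (by omega) _ _).mul_right ((h.cX hg.lr (by rw [ip_comm]; omega) _ _).symm.mul_right
      ((((h.yW hg.lr f2.ge _ _).mul_right (h.cX hg.lr (by rw [ip_comm]; omega) _ _).symm).mul_right
        ((h.comy hg.lr ht.lk (by omega) _ _).mul_right (h.comy hg.lr ht.lk (by omega) _ _))).mul_right
        (h.cX hg.lr (by rw [ip_comm]; omega) _ _).symm))
  rw [h.hs_def hg]
  refine hs3_chain (x2 := y r p * y m p * xl P X m (c * p) * (y m' q * y k q * xl P X k (c * q)) *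
      (xl P X m' (c * q) * y k (c * q)))
    (x3 := y r p * (y m p * (xl P X m (c * p) *
      (W b (P.f p * w) * X b (P.f (c * p) * w) * (y k q * y k (c * q)) * xl P X k (c * q)))))
    (by rw [h.yinv hg.lk, e1]) ((c1.mul_right c2).mul_right c2') ?_ ?_ ?_
  · rw [← conj_mul, ← conj_mul, h.yinv hg.lr, e2, e3, e3']
  · rw [← conj_mul, ← conj_mul, ← conj_mul, ← conj_mul, e4, e5, c1.eq, ((c2.mul_right (c3 _)).mul_right c3').eq,
      (c2'.mul_right (c3 _)).eq, mul_inv_cancel_right, mul_inv_cancel_right, mul_inv_cancel_right,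
      ← hs3_alg (y' := y m' q) (x' := xl P X m' (c * q)) (xm := xl P X m (c * p)) (w := W b (P.f p * w))
        (x := X b (P.f (c * p) * w)) (yk := y k q) (xk := xl P X k (c * q)) (yk' := y k (c * q))
        (h.xc m b (by omega) (by rw [← hs_γ_swap, hm.lr]; omega) _ _) (h.cX hm.lk j3.ge _ _)
        (h.cX hm.lk (by omega) _ _).symm (h.cX hm.lk (by rw [E.ip_self]; norm_num) _ _).symm (h.ysq hm.lk _)
        (h.cX ht.lk (by omega) _ _) (R.com_l ht.lk (by omega) _ _) (R.xl_sq _ _)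
        (h.cX ht.lk (by rw [E.ip_self]; norm_num) _ _)]
    group
  · have c5 : Commute (xl P X m (c * p)) (y m p) := h.cX hm.lr (by rw [E.ip_self]; norm_num) _ _
    rw [mul_assoc, mul_assoc, ← c4.eq, ← mul_assoc, ← mul_assoc, h.yinv hg.lr, e2]
    calc _ = y r p * (y m p * (xl P X m (c * p) * y m p) * xl P X m (c * p)) * W b (P.f p * w) *
        X b (P.f (c * p) * w) * (y k q * y k (c * q)) * xl P X k (c * q) := by group
      _ = _ := by rw [c5.eq, ← mul_assoc (y m p), h.ysq hm.lr, one_mul, R.xl_sq, mul_one]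

theorem hs3 : HS3 E P T s X ρ t y c W :=
  ⟨h, fun _ _ _ => h.wwl, fun _ _ _ _ => h.i1, fun _ _ _ _ => h.i2⟩

end HS2

end CfsgLib.SLT
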