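import Mathlib
import Cfsg.Agent.Lib.SLT.HS2

/-!
# Three moved roots
-/

set_option autoImplicit false
set_option linter.unusedSectionVars false

namespace CfsgLib.SLT

open CfsgLib.RGD CfsgLib.Stein CfsgLib.SLE Subgroup
open scoped commutatorElement Pointwise

universe u

variable {ι κ : Type} [Fintype κ] [DecidableEq κ] [Finite ι] {Φ : RootSys ι κ} {E : ER Φ}
  {F K : Type} [Field F] [Finite F] [CharP F 2] [Field K] [Finite K] [CharP K 2] {P : QE F K}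
  {G : Type u} [Group G] [Finite G] {A : Type} [Group A] [Finite A] {T : StSys Φ K A} {s : A}
  {X : ι → K → G} {ρ : G → A} {t : G}

variable {y : ι → F → G} {c : F} {W : ι → K → G}

theorem HS2.j1 (h : HS2 E P T s X ρ t y c W) {a b k : ι} (ha : E.γ a ≠ a) (hb : E.γ b ≠ b)
    (hk : E.γ k ≠ k) (h1 : RAdd Φ a b k) (v u : K) :
    X a v * W b u * (X a v)⁻¹ = W b u * W k (v * u) := by
  have R := h.hs_rel
  by_cases hu : u = 0
  · rw [hu, mul_zero, h.W0, h.W0, mul_one, mul_inv_cancel, mul_one]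
  obtain ⟨e, e', hne, le, le', e1, e2, e3, e4⟩ := h.tr.ss2 a b k ha hb hk h1
  obtain ⟨i1, i2, i3⟩ := E.radd_ip h1
  have f1 := h.tr.mm a b ha hb i1
  have f2 := h1.ip_left (E.γ b)
  have f3 := E.γ_orth hb
  have f4 : ip Φ b (E.γ k) = ip Φ k (E.γ b) := by rw [← hs_γ_swap, ip_comm]
  have ep := R.conj_cm h1 f1 v u
  have c1 : Commute (X a v) t := h.comL (mem_tL X a v)
  have c2 : Commute (W b u) (W k (v * u)) := h.ww b k (by omega) (by omega) _ _
  have c3 : Commute (X k (v * u)) (W b u) := h.xc k b (by rw [ip_comm]; omega) (by omega) _ _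
  have key : ∀ e, E.γ e = e → ip Φ e b = 1 → ip Φ e k = 1 →
      Act Φ P X y e (X a v * W b u * (X a v)⁻¹) (X b u * X k (v * u)) ∧
      Act Φ P X y e (W b u * W k (v * u)) (X b u * X k (v * u)) := by
    intro e le e1 e2
    have g1 := h1.ip_right e
    refine ⟨ep ▸ h.act_conj le (h.act_W le e1 u) (mem_UUx X (show 0 ≤ ip Φ a e by rw [ip_comm]; omega) v), ?_⟩
    exact h.act_mul le (h.act_W le e1 u) (h.act_W le e2 _) (fun p => (h.yW le (by omega) p u).symm)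
      (mem_UUx X (show 0 ≤ ip Φ b e by rw [ip_comm]; omega) u)
  refine h.uniq_act le le' hne ?_ ?_
    (((HX.CO.of_mem (mem_tL X a v)).mul (h.co b u)).mul (HX.CO.of_mem (mem_tL X a v)).inv)
    (mul_mem (mem_tL X b u) (mem_tL X k _)) ?_ ?_ ?_ (key e le e1 e2).1 (key e le e1 e2).2
    (key e' le' e3 e4).1 (key e' le' e3 e4).2
  · rw [conj_mul, h.Wsq, mul_one, mul_inv_cancel]
  · rw [← pow_two, c2.mul_pow, pow_two, pow_two, h.Wsq, h.Wsq, mul_one]
  · rw [← ep]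
    intro e
    exact hu ((h.toSit.toSys.X_eq_one hb).1 (conj_eq_one_iff.1 e))
  · calc _ = X a v * (W b u * ((X a v)⁻¹ * t * X a v) * (W b u)⁻¹) * (X a v)⁻¹ := by group
      _ = _ := by rw [mul_assoc (X a v)⁻¹, ← c1.eq, inv_mul_cancel_left, h.wt, ← ep, ← mul_assoc, c1.eq]; group
  · calc _ = W b u * (W k (v * u) * t * (W k (v * u))⁻¹) * (W b u)⁻¹ := by group
      _ = W b u * t * (X k (v * u) * (W b u)⁻¹) := by rw [h.wt]; group
      _ = _ := by rw [c3.inv_right.eq, ← mul_assoc, h.wt, mul_assoc]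

theorem HS3.j2 (h : HS3 E P T s X ρ t y c W) {a b k : ι} (ha : E.γ a ≠ a) (hb : E.γ b ≠ b)
    (hk : E.γ k ≠ k) (h1 : RAdd Φ a b k) (v u : K) :
    W a v * W b u * (W a v)⁻¹ = W b u * W k (v * u) * X k (P.f c * (v * u)) := by
  have R := h.hs_rel
  obtain ⟨r, -, -, lr, -, e1, e2, -⟩ := h.tr.ss2 a b k ha hb hk h1
  obtain ⟨i1, i2, i3⟩ := E.radd_ip h1
  have g0 : ip Φ b (E.γ a) = 0 := by
    have f1 := h1.ip_left (E.γ k)
    have f2 := (E.γa _ _ _ h1).ip_right a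
    have f3 := (E.γa _ _ _ h1).ip_right b
    rw [E.γ_orth ha, ← hs_γ_swap a b, ip_comm (E.γ a) b] at f2
    rw [E.γ_orth hb] at f3
    rw [E.γ_orth hk] at f1
    omega
  have g1 := h1.ip_right r
  obtain ⟨a₁, k₁, t1⟩ := exists_tup' lr hb e1
  obtain ⟨m, k₂, t2⟩ := exists_tup' lr hk e2
  have hm : RAdd Φ a₁ a m := fun j => by
    have := t1.hb j; have := t2.hb j; have := h1 j
    omega
  have g2 : ip Φ a₁ (E.γ a) = 0 := by
    have f1 := t1.hb.ip_left (E.γ a)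
    rw [← hs_γ_swap r, lr] at f1
    omega
  have g3 : ip Φ k₁ a = -1 := by
    have f1 := t1.hk.ip_left a
    rw [hs_γ_swap, ip_comm b a] at f1
    omega
  obtain ⟨j, k₃, t3⟩ := exists_tup t1.lk ha g3
  obtain rfl : k₃ = k₂ := t3.hk.unique' fun i => by
    have := t3.hb i; have := t1.hk i; have := t2.hk i; have := h1 i; have := E.γa _ _ _ hm i
    omega
  have hj : RAdd Φ (E.γ a₁) k j := fun i => by
    have := t3.hb i; have := t1.hk i; have := h1 i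
    omega
  obtain ⟨n1, n2, -⟩ := E.radd_ip hm
  obtain ⟨-, -, -, n3, n4, n5, -⟩ := t1.ips
  have g4 : ip Φ a₁ k = 0 := by have := h1.ip_right a₁; omega
  have g5 : ip Φ a₁ k₃ = 0 := by have := t3.hk.ip_right a₁; have := t3.hb.ip_right a₁; omega
  have g6 : ip Φ k₁ k = 0 := by
    have := h1.ip_right k₁
    rw [ip_comm k₁ b] at this
    omega
  have g7 : ip Φ k (E.γ j) = 0 := by
    have := (E.γa _ _ _ hj).ip_right k
    rw [E.γ2, E.γ_orth hk, ip_comm k a₁] at this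
    omega
  have g8 : ip Φ a₁ (E.γ m) = 0 := by
    have := (E.γa _ _ _ hm).ip_right a₁
    rw [E.γ_orth t1.ma] at this
    omega
  have c1 : Commute (W a v) (y r 1) := (h.yW lr (by omega) _ _).symm
  have s1 : W a v * X a₁ u * (W a v)⁻¹ = X a₁ u * W m (u * v) := by
    rw [(h.xc a₁ m (by omega) g8.ge _ _).eq, h.Winv]
    calc _ = W a v * (X a₁ u * W a v * (X a₁ u)⁻¹) * X a₁ u := by group
      _ = _ := by rw [h.toHS2.j1 t1.ma ha t2.ma hm, ← mul_assoc, h.Wsq, one_mul]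
  have s2 := h.i2 r m k k₃ t2 (u * v) 1
  have s3 := h.i2 k₁ a j k₃ t3 v (P.N u)
  have s4 := h.toHS2.j1 (hs_γ_moved t1.ma) hk t3.mb hj (P.τ u) (u * v)
  have s5 := R.conj_cm hj (by rw [E.γip, g4]) (P.τ u) (P.f c * (u * v))
  have s6 := h.df1 r a₁ b k₁ t1 u
  rw [map_one, one_mul, mul_one, one_mul, P.N_mul] at s2
  rw [R.gam, P.τ2, show P.τ u * (u * v) = P.f (P.N u) * v by rw [P.hN]; ring] at s4
  rw [R.gam, P.τ2, show P.τ u * (P.f c * (u * v)) = P.f (c * P.N u) * v by rw [map_mul, P.hN]; ring] at s5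
  have c2 : Commute (X a₁ u) (y k₃ ((1 + c) * (P.N u * P.N v)) * xl P X k₃ (c * (P.N u * P.N v))) :=
    (h.cX t2.lk g5.ge _ _).mul_right (R.com_l t2.lk g5.ge _ _)
  have c3 : Commute (X k (P.f c * (u * v))) (W j (P.f (P.N u) * v)) :=
    h.xc k j (by rw [(E.radd_ip hj).2.2]; norm_num) g7.ge _ _
  have c4 : Commute (y k₁ (P.N u)) (W k (u * v) * X k (P.f c * (u * v))) :=
    (h.yW t1.lk g6.ge _ _).mul_right (h.cX t1.lk (by rw [ip_comm, g6]) _ _).symm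
  rw [mul_comm v u]
  conv_lhs => rw [h.hs_def t1, hs1W]
  calc _ = (W a v * y r 1 * (W a v)⁻¹)⁻¹ * (W a v * X a₁ u * (W a v)⁻¹) * (W a v * y r 1 * (W a v)⁻¹) *
        (W a v * X a₁ u * (W a v)⁻¹)⁻¹ * (W a v * y k₁ (P.N u) * (W a v)⁻¹)⁻¹ := by group
    _ = (y r 1)⁻¹ * (X a₁ u * (W m (u * v) * y r 1 * (W m (u * v))⁻¹) * (X a₁ u)⁻¹) *
        (W a v * y k₁ (P.N u) * (W a v)⁻¹)⁻¹ := by rw [s1, c1.eq, mul_inv_cancel_right]; group
    _ = (y r 1)⁻¹ * ((X a₁ u * y r 1 * (X a₁ u)⁻¹) * (X a₁ u * W k (u * v) * (X a₁ u)⁻¹) *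
        (X a₁ u * X k (P.f c * (u * v)) * (X a₁ u)⁻¹) *
        (X a₁ u * (y k₃ ((1 + c) * (P.N u * P.N v)) * xl P X k₃ (c * (P.N u * P.N v))) * (X a₁ u)⁻¹)) *
        (W a v * y k₁ (P.N u) * (W a v)⁻¹)⁻¹ := by rw [s2]; group
    _ = W b u * y k₁ (P.N u) * W k (u * v) *
        (W j (P.f (P.N u) * v) * X k (P.f c * (u * v))) * (W j (P.f (P.N u) * v))⁻¹ * (y k₁ (P.N u))⁻¹ := by
      rw [s3, s4, s5, s6, c2.eq]; group
    _ = W b u * (y k₁ (P.N u) * (W k (u * v) * X k (P.f c * (u * v)))) * (y k₁ (P.N u))⁻¹ := by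
      rw [← c3.eq]; group
    _ = _ := by rw [c4.eq]; group

theorem HS3.hs4 (h : HS3 E P T s X ρ t y c W) : HS4 E P T s X ρ t y c W :=
  ⟨h, fun _ _ _ => h.toHS2.j1, fun _ _ _ => h.j2⟩

end CfsgLib.SLT
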