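import Mathlib
import Cfsg.Agent.Lib.SLT.Dcg
import Cfsg.Agent.Lib.SLE.Gr
import Cfsg.Agent.Lib.SLE.SemiA

/-!
# Large 2-subgroups in centralisers of involutions
-/

set_option autoImplicit false
set_option linter.unusedSectionVars false

namespace CfsgLib.SLT

open CfsgLib.RGD CfsgLib.Stein CfsgLib.SLE Subgroup
open scoped commutatorElement Pointwise

universe u

variable {ι κ : Type} [Fintype κ] [DecidableEq κ] [Finite ι] {Φ : RootSys ι κ} {E : ER Φ}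
  {F K : Type} [Field F] [Finite F] [CharP F 2] [Field K] [Finite K] [CharP K 2] {P : QE F K}
  {G : Type u} [Group G] [Finite G] {A : Type} [Group A] [Finite A] {T : StSys Φ K A} {s : A}
  {X : ι → K → G} {ρ : G → A} {t : G}

omit [Finite G] in
theorem lbt_conj {L : Subgroup G} {g a : G} (hg : g ∈ L) {n : ℕ}
    (h : ∃ R ≤ L ⊓ centralizer {g * a * g⁻¹}, IsPGroup 2 R ∧ n ≤ Nat.card R ^ 2) :
    ∃ R ≤ L ⊓ centralizer {a}, IsPGroup 2 R ∧ n ≤ Nat.card R ^ 2 := by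
  obtain ⟨R, h1, h2, h3⟩ := h
  refine ⟨R.map (MulAut.conj g⁻¹).toMonoidHom, ?_, h2.map _, by
    rwa [card_map_of_injective (MulAut.conj g⁻¹).injective]⟩
  rintro _ ⟨x, hx, rfl⟩
  refine ⟨L.mul_mem (L.mul_mem (L.inv_mem hg) (h1 hx).1) (L.inv_mem (L.inv_mem hg)),
    mem_centralizer_singleton_iff.2 ?_⟩
  have := mem_centralizer_singleton_iff.1 (h1 hx).2
  show g⁻¹ * x * g⁻¹⁻¹ * a = a * (g⁻¹ * x * g⁻¹⁻¹)
  calc g⁻¹ * x * g⁻¹⁻¹ * a = g⁻¹ * (x * (g * a * g⁻¹)) * g := by group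
    _ = _ := by rw [this]; group

/-- the ambient form: `δ` is a field involution commuting with `s`; its centraliser is a form `S`
of the system over `F`, on which a conjugate of `s` acts as a graph involution -/
theorem lbt_core (h : Vir E P T s) {δ w : A} {d : ι → K} (hd : StdD T δ 1 d P.τ) (δ2 : δ * δ = 1)
    (sδ : s * δ = δ * s) (dγ : ∀ r, d (E.γ r) = P.τ (d r)) (hw : w ∈ T.U) (sw : s * w = w * s)
    (e : w * δ * (w * δ) = 1) : ∃ R ≤ tL (tx E P T) ⊓ centralizer {w * δ}, IsPGroup 2 R ∧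
      Nat.card F ^ (NP Φ + 3) ≤ Nat.card R ^ 2 := by
  have A0 := h.amb
  have gp : E.Gp 1 := E.gp (Or.inl rfl)
  have dτ : ∀ r, d r * P.τ (d r) = 1 := fun r => A0.sm_d hd gp δ2 r
  let φ : K ≃+* K := (frobeniusEquiv K 2).symm
  have φ2 : ∀ x, φ x * φ x = x := fun x => by
    have := (frobeniusEquiv K 2).apply_symm_apply x
    rwa [frobeniusEquiv_apply, frobenius_def, pow_two] at this
  obtain ⟨c, c1, c2, c3, c4, c5⟩ : ∃ c : ι → K, (∀ r, c r * c r = d r) ∧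
      (∀ a b r, RAdd Φ a b r → c r = c a * c b) ∧ (∀ r, c (E.γ r) = P.τ (c r)) ∧
      (∀ r, c r * P.τ (c r) = 1) ∧ ∀ r, c r ≠ 0 :=
    ⟨fun r => φ (d r), fun r => φ2 _, fun a b r hr => by rw [← map_mul, ← A0.d_add hd gp hr],
      fun r => by simp only [dγ, P.comm], fun r => by rw [← P.comm, ← map_mul, dτ, map_one],
      fun r => (map_ne_zero φ).2 (hd.ne_zero r)⟩
  have rel : Rel Φ fun r (p : F) => T.x r (c r * P.f p) :=
    ⟨fun r u v => by rw [map_add, mul_add, A0.rel.add], fun a b r hr u v => by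
      rw [A0.rel.cm a b r hr, c2 a b r hr, map_mul, mul_mul_mul_comm],
      fun a b hab u v => A0.com hab _ _⟩
  obtain ⟨S, hS, B⟩ := h.kit F A _ rel ⟨E.θ, 1, fun e => c5 E.θ (by
    simpa using A0.x_eq_one.1 e)⟩
  have Sx : ∀ r p, S.x r p = T.x r (c r * P.f p) := fun r p => by rw [hS]
  have std : StdD S s E.γ (fun _ => 1) 1 := ⟨fun _ => one_mul 1, fun r p => by
    rw [Sx, Sx, h.sx, map_mul, P.τf, c3, one_mul]; rfl⟩
  have le1 : S.grp ≤ T.grp ⊓ centralizer {δ} := S.UU_le_iff.2 fun r _ p => by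
    rw [Sx]
    refine ⟨T.x_mem_grp _ _, mem_centralizer_singleton_iff.2 (mul_inv_eq_iff_eq_mul.1 ?_).symm⟩
    rw [hd.2, map_mul, P.τf, ← c1, ← mul_assoc, mul_assoc (c r), c4, mul_one]; rfl
  have le2 : T.U ⊓ centralizer {δ} ≤ S.grp := by
    rw [A0.fix_le_twG hd (Or.inl rfl) P.τ_ne δ2]
    refine (closure_le _).2 ?_
    rintro _ ⟨r, -, v, ⟨-, a2, rfl⟩ | ⟨a1, -⟩⟩
    · obtain ⟨p, hp⟩ := (P.fix (P.τ (c r) * v)).1 (by
        rw [map_mul, P.τ2]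
        nth_rewrite 2 [← a2]
        rw [← c1, ← mul_assoc, ← mul_assoc, mul_comm (P.τ (c r)), c4, one_mul])
      have : v = c r * P.f p := by rw [← hp, ← mul_assoc, c4, one_mul]
      rw [this, ← Sx]
      exact S.x_mem_grp _ _
    · exact absurd rfl a1
  obtain ⟨k, M, ch⟩ := A0.exists_chain hd (Or.inl rfl) P.τ_ne δ2
  obtain ⟨u, hu, e'⟩ := ch.conj δ2 hw e
  have c6 : s * (u * δ * u⁻¹) = u * δ * u⁻¹ * s := by
    rw [← e', ← mul_assoc, sw, mul_assoc, sδ, mul_assoc]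
  have w1 : u⁻¹ * (s * u * s⁻¹) ∈ S.grp := by
    refine le2 ⟨T.U.mul_mem (T.U.inv_mem hu) (h.toTw.std.conj_mem (T := {r | Φ.Pos r})
      (T' := {r | Φ.Pos r}) (fun r hr => (E.γ_pos r).2 hr) hu), mem_centralizer_singleton_iff.2 ?_⟩
    calc u⁻¹ * (s * u * s⁻¹) * δ = u⁻¹ * s * u * s⁻¹ * (δ * s) * s⁻¹ := by group
      _ = u⁻¹ * (s * (u * δ * u⁻¹)) * u * s⁻¹ := by rw [← sδ]; group
      _ = _ := by rw [c6]; group
  obtain ⟨R, r1, r2, r3⟩ := B.lb (s := u⁻¹ * s * u) (π := E.γ)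
    ⟨_, inv_mem w1, _, by simpa [mul_assoc] using std⟩ (Or.inr rfl) (by
      calc _ = u⁻¹ * (s * s) * u := by group
        _ = 1 := by rw [h.s2]; group)
  refine ⟨R.map (MulAut.conj u).toMonoidHom, ?_, r2.map _, by
    rwa [card_map_of_injective (MulAut.conj u).injective]⟩
  rintro _ ⟨x, hx, rfl⟩
  have x1 := mem_centralizer_singleton_iff.1 (r1 hx).2
  have x2 := mem_centralizer_singleton_iff.1 (le1 (r1 hx).1).2
  have uL := T.U_le_grp hu
  refine ⟨h.toTw.fix.le ⟨T.grp.mul_mem (T.grp.mul_mem uL (le1 (r1 hx).1).1) (T.grp.inv_mem uL),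
    mem_centralizer_singleton_iff.2 ?_⟩, mem_centralizer_singleton_iff.2 ?_⟩
  · show u * x * u⁻¹ * s = s * (u * x * u⁻¹)
    calc u * x * u⁻¹ * s = u * (x * (u⁻¹ * s * u)) * u⁻¹ := by group
      _ = _ := by rw [x1]; group
  · show u * x * u⁻¹ * (w * δ) = w * δ * (u * x * u⁻¹)
    calc u * x * u⁻¹ * (w * δ) = u * (x * δ) * u⁻¹ := by rw [e']; group
      _ = _ := by rw [x2, e']; group

theorem Sys.lbt_inner (h : Sys E P T s X ρ) {l : G} (hl : l ∈ tL X) (l2 : l * l = 1) :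
    ∃ R ≤ tL X ⊓ centralizer {l}, IsPGroup 2 R ∧ Nat.card F ^ (NP Φ + 3) ≤ Nat.card R ^ 2 := by
  have hU : Nat.card F ^ (NP Φ + 3) ≤ Nat.card (tU Φ X) ^ 2 := by
    rw [h.card_U, ← pow_mul]
    exact Nat.pow_le_pow_right Nat.card_pos (by have := E.np; omega)
  have UL : tU Φ X ≤ tL X := UU_le_tL X _
  by_cases l1 : l = 1
  · exact ⟨_, le_inf UL fun x _ => mem_centralizer_singleton_iff.2 (by rw [l1]; group),
      h.pg_U, hU⟩
  obtain ⟨g, hg, e | ⟨B, hB, e⟩⟩ := h.dcl hl l2 l1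
  · refine lbt_conj hg ⟨_, le_inf UL fun x hx => mem_centralizer_singleton_iff.2 ?_, h.pg_U, hU⟩
    rw [e]
    exact h.Z_cent ((h.rel.mem_tZ E.γ_θ).2 ⟨1, rfl⟩) hx
  · obtain ⟨W, hW⟩ := h.dcf hB
    obtain ⟨R, h1, h2⟩ := hW.lb
    exact lbt_conj hg ⟨R, e ▸ h1.trans (inf_le_inf_right _ UL),
      h.pg_U.to_le (h1.trans inf_le_left), h2⟩

/-- the centraliser of a graph involution -/
theorem Sys.lb_τ (h : Sys E P T s X ρ) {g : G} (hg : Ty T X ρ g P.τ) (g2 : g * g = 1) :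
    ∃ R ≤ tL X ⊓ centralizer {g}, IsPGroup 2 R ∧ Nat.card F ^ (NP Φ + 3) ≤ Nat.card R ^ 2 := by
  have hp : IsPGroup 2 (zpowers g) := by
    refine IsPGroup.of_card_dvd_pow (n := 1) ?_
    rw [Nat.card_zpowers]
    exact orderOf_dvd_of_pow_eq_one (by rw [pow_one, pow_two, g2])
  obtain ⟨l, hl, hn⟩ := h.exists_norm_U hp (zpowers_le.2 hg.mem)
  have ty := h.ty_conj hg (L_le_N hl)
  have g2' : l * g * l⁻¹ * (l * g * l⁻¹) = 1 := by rw [conj_mul, g2]; group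
  refine lbt_conj hl ?_
  have hn' := hn g (mem_zpowers g)
  generalize l * g * l⁻¹ = k at ty g2' hn'
  obtain ⟨u, hu, d, st, e⟩ := h.exists_std_inv ty hn' g2'
  have uN : u ∈ tN X := L_le_N (UU_le_tL X _ hu)
  have e1 : ρ u⁻¹ * ρ (u * k) = ρ k := by
    rw [← h.mul _ (inv_mem uN) _ st.1, inv_mul_cancel_left]
  obtain ⟨R, r1, r2, r3⟩ := lbt_core h.toVir (w := ρ u⁻¹) st.2
    (by rw [← h.mul _ st.1 _ st.1, e, h.one]) (h.com _ st.1) (h.st_γ st)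
    (h.map_mem_UU (Ψ := {r | Φ.Pos r}) (fun r hr => (E.γ_pos r).2 hr) (inv_mem hu))
    (h.com _ (inv_mem uN)) (by rw [e1, ← h.mul _ ty.mem _ ty.mem, g2', h.one])
  rw [e1] at r1
  obtain ⟨R', p1, p2, p3, p4, -⟩ := h.lift_pgroup r2 (r1.trans inf_le_left)
  refine ⟨R', le_inf p1 fun x hx => mem_centralizer_singleton_iff.2 ?_, p2, by rwa [p3]⟩
  exact (h.commute_of ty.mem (p1 hx) (p2.to_le (zpowers_le.2 hx))
    (mem_centralizer_singleton_iff.1 (r1 (p4 x hx)).2).symm).symm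

theorem Sys.lb (h : Sys E P T s X ρ) {g : G} (hg : g ∈ tN X) (g2 : g * g = 1) :
    ∃ R ≤ tL X ⊓ centralizer {g}, IsPGroup 2 R ∧ Nat.card F ^ (NP Φ + 3) ≤ Nat.card R ^ 2 := by
  obtain ⟨σ, ty⟩ := h.exists_ty hg
  rcases h.sq_of_ty ty (by rw [g2]; exact one_mem _) with rfl | rfl
  · obtain ⟨l, hl, c, hc, rfl, l2, -⟩ := h.inv_split (h.mem_N0.2 ty) g2
    obtain ⟨R, h2, h3⟩ := h.lbt_inner hl l2
    refine ⟨R, fun x hx => ⟨(h2 hx).1, mem_centralizer_singleton_iff.2 ?_⟩, h3⟩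
    rw [← mul_assoc, mem_centralizer_singleton_iff.1 (h2 hx).2, mul_assoc, hc x (h2 hx).1,
      mul_assoc]
  · exact h.lb_τ ty g2

end CfsgLib.SLT
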