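import Mathlib
import Cfsg.Agent.Lib.SLT.Cen

/-!
# Levi factors
-/

set_option autoImplicit false
set_option linter.unusedSectionVars false

namespace CfsgLib.SLT

open CfsgLib.RGD CfsgLib.Stein CfsgLib.SLE Subgroup
open scoped commutatorElement Pointwise

universe u

variable {ι κ : Type} [Fintype κ] [DecidableEq κ] [Finite ι] {Φ : RootSys ι κ} {E : ER Φ}
  {F K : Type} [Field F] [Finite F] [CharP F 2] [Field K] [Finite K] [CharP K 2] {P : QE F K}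
  {G : Type u} [Group G] [Finite G] {A : Type} [Group A] [Finite A] {T : StSys Φ K A} {s : A}
  {X : ι → K → G} {ρ : G → A} {t : G}

theorem lev_UU_le {Ψ : Set ι} {M : Subgroup G} (h : ∀ r ∈ Ψ, ∀ u, X r u ∈ M) : UUx X Ψ ≤ M := by
  refine (closure_le _).2 ?_
  rintro _ ⟨r, hr, u, rfl⟩
  exact h r hr u

theorem lev_pg {M : Subgroup G} (hM : IsPGroup 2 M) {g : G} (hg : g ∈ M) :
    IsPGroup 2 (zpowers g) := hM.to_le (zpowers_le.2 hg)

theorem lev_exa_C {n n' : G} {w : Equiv.Perm ι} (h : tExa X n w) (h' : tExa X n' w) :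
    n'⁻¹ * n ∈ tC X := by
  have := h'.inv.mul h
  rw [inv_mul_cancel] at this
  exact mem_cent_UUx.2 fun a _ u => (mul_inv_eq_iff_eq_mul.1 (this a u)).symm

namespace Sys

variable (h : Sys E P T s X ρ) {g : G}
include h

theorem lev_levi (J : Set κ) (hJ : ∀ r, Φ.InSub J r → Φ.InSub J (E.γ r)) {M : Subgroup G}
    (hM : IsPGroup 2 M) (h1 : M ≤ UUx X {r | Φ.InSub J r})
    (h2 : UUx X {r | Φ.InSub J r} ≤ normalizer (M : Set G)) : M = ⊥ := by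
  have l1 : UUx X {r | Φ.Pos r ∧ Φ.InSub J r} ≤ UUx X {r | Φ.InSub J r} :=
    UUx_mono X fun _ hr => hr.2
  have p1 : IsPGroup 2 (UUx X {r | Φ.Pos r ∧ Φ.InSub J r} ⊔ M : Subgroup G) :=
    LAE.isPGroup_sup (h.pg_UU fun _ hr => hr.1) hM (l1.trans h2)
  have nJ : UUx X {r | Φ.InSub J r} ≤
      normalizer (UUx X {r | Φ.Pos r ∧ ¬ Φ.InSub J r} : Set G) := lev_UU_le fun a ha u =>
    h.rel.norm_UU h.tr (Ψ := {r | Φ.Pos r ∧ ¬ Φ.InSub J r})
      (fun r hr => ⟨(E.γ_pos r).2 hr.1, fun e => hr.2 (by simpa [E.γ2] using hJ _ e)⟩)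
      (fun a ha b hb k hk => StSys.closed_UJ J a ha b hb k hk.isSum)
      (fun b hb => (StSys.ideal_UJ J a (Or.inr ha) b hb).1)
      (fun b hb k hk => (StSys.ideal_UJ J a (Or.inr ha) b hb).2 k hk.isSum) u
  have p2 := LAE.isPGroup_sup p1 (h.pg_UU (Ψ := {r | Φ.Pos r ∧ ¬ Φ.InSub J r}) fun _ hr => hr.1)
    ((sup_le l1 h1).trans nJ)
  have KU : M ≤ tU Φ X := (le_sup_right.trans le_sup_left).trans (h.le_U p2
    (sup_le ((sup_le l1 h1).trans (UU_le_tL X _)) (UU_le_tL X _))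
    (lev_UU_le fun r hr t => by
      by_cases e : Φ.InSub J r
      · exact mem_sup_left (mem_sup_left (mem_UUx X (by exact ⟨hr, e⟩) t))
      · exact mem_sup_right (mem_UUx X (by exact ⟨hr, e⟩) t)))
  obtain ⟨w, hw, neg, -, -⟩ := exists_wJ (E := E) hJ
  obtain ⟨n, hn, -, ex, -⟩ := h.exists_exa (Ψ := {r | Φ.InSub J r})
    (fun r hr => Φ.inSub_neg_iff.2 hr) hw
  refine eq_bot_iff.2 fun k hk => ?_
  have kL : k ∈ tL X := UU_le_tL X _ (h1 hk)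
  have mU : ∀ {v}, v ∈ tU Φ X → ρ v ∈ T.U := fun hv =>
    h.map_mem_UU (Ψ := {r | Φ.Pos r}) (fun r hr => (E.γ_pos r).2 hr) hv
  have m : ρ k ∈ T.UU {r | Φ.Pos r ∧ Φ.InSub J r} :=
    (h.amb.nd.U_inf_LJ J).le (mem_inf.2 ⟨mU (KU hk), mem_sup_right
      (h.map_mem_UU (Ψ := {r | Φ.InSub J r}) hJ (h1 hk))⟩)
  have m2 := mU (KU ((mem_normalizer_iff.1 (h2 hn) k).1 hk))
  rw [h.conj (L_le_N (UU_le_tL X _ hn)) (L_le_N kL)] at m2
  have := h.amb.nd.eq_one_of_mem_B_of_mem_V (T.U_le_B m2)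
    (ex.conj_mem (T' := {r | Φ.Neg r}) (fun s hs => neg s hs.2 hs.1) m)
  exact h.eq_one kL ((h.ker k (L_le_N kL)).1 (conj_eq_one_iff.1 this)) (lev_pg hM hk)

theorem lev_o2 (J : Set κ) {Ψ : Set ι} (hT : ∀ r, r ∈ Ψ ↔ Φ.InSub J r)
    (hγ : ∀ r ∈ Ψ, E.γ r ∈ Ψ) {M R N : Subgroup G}
    (hR : IsPGroup 2 R) (r1 : M ≤ normalizer (R : Set G)) (r2 : UUx X Ψ ≤ M)
    (r3 : ∀ y ∈ M, ∃ v ∈ R, ∃ l ∈ UUx X Ψ, y = v * l) (hN : IsPGroup 2 N) (h1 : N ≤ M)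
    (h2 : M ≤ normalizer (N : Set G)) : N ≤ R := by
  obtain rfl : Ψ = {r | Φ.InSub J r} := Set.ext hT
  have := h.lev_levi J hγ ((LAE.isPGroup_sup hN hR (h1.trans r1)).to_le
    (inf_le_left (b := UUx X {r | Φ.InSub J r}))) inf_le_right
    (LAE.le_normalizer_inf (LAE.le_normalizer_sup (r2.trans h2) (r2.trans r1)) le_normalizer)
  intro k hk
  obtain ⟨v, hv, l, hl, rfl⟩ := r3 k (h1 hk)
  have e := this.le (mem_inf.2 ⟨(Subgroup.mul_mem_cancel_left _ (mem_sup_right hv)).1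
    (mem_sup_left hk), hl⟩)
  rwa [mem_bot.1 e, mul_one]

omit h in
theorem lev_le : UUx X {r | ip Φ r E.θ = 0} ≤ tY Φ X E.θ := UUx_mono X fun _ hr => Eq.ge hr

omit h in
theorem lev_le2 : UUx X {r | ip Φ r E.θ = 0 ∧ ip Φ r E.β = 0} ≤ tY2 E X :=
  UUx_mono X fun _ hr => ⟨hr.1.ge, hr.2.ge⟩

omit h in
theorem lev_R2_le : tR2 E X ≤ tY2 E X := UUx_mono X fun _ hr => ⟨hr.1, hr.2.1⟩

theorem lev_exists_Y {y : G} (hy : y ∈ tY Φ X E.θ) :
    ∃ v ∈ tQ Φ X E.θ, ∃ l ∈ UUx X {r | ip Φ r E.θ = 0}, y = v * l := by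
  refine (LAE.mem_sup_iff_of_right_le_normalizer
    (lev_le.trans (h.rel.Y_norm_Q h.tr E.γ_θ))).1 (lev_UU_le (fun r hr t => ?_) hy)
  have hr : 0 ≤ ip Φ r E.θ := hr
  rcases hr.eq_or_lt with e | e
  · exact mem_sup_right (mem_UUx X e.symm t)
  · exact mem_sup_left (mem_UUx X e t)

theorem lev_exists_Y2 {y : G} (hy : y ∈ tY2 E X) :
    ∃ v ∈ tR2 E X, ∃ l ∈ UUx X {r | ip Φ r E.θ = 0 ∧ ip Φ r E.β = 0}, y = v * l := by
  refine (LAE.mem_sup_iff_of_right_le_normalizer (lev_le2.trans (h.rel.Y2_norm_R2 h.tr))).1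
    (lev_UU_le (fun r hr t => ?_) hy)
  obtain ⟨h1, h2⟩ : 0 ≤ ip Φ r E.θ ∧ 0 ≤ ip Φ r E.β := hr
  by_cases e : 1 ≤ ip Φ r E.θ + ip Φ r E.β
  · exact mem_sup_left (mem_UUx X (by exact ⟨h1, h2, e⟩) t)
  · exact mem_sup_right (mem_UUx X (by exact ⟨by omega, by omega⟩) t)

theorem lev_pg_R2 : IsPGroup 2 (tR2 E X) := h.pg_UU (cl_R2 (E := E)).pos

theorem lev_exists_R {u : G} (hu : u ∈ tU Φ X) : ∃ r ∈ tR E X, ∃ c, u = r * xl P X E.α c := by
  have nR : tU Φ X ≤ normalizer (tR E X : Set G) :=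
    h.rel.U_norm h.tr (E.idl_diff E.i₀) (cl_R (E := E)).gam
  have ZU : tZ X E.α ≤ tU Φ X := UUx_mono X fun r hr => by
    rw [Set.mem_singleton_iff.1 hr]; exact Φ.pos_simple _
  obtain ⟨r, hr, z, hz, e⟩ := (LAE.mem_sup_iff_of_right_le_normalizer (ZU.trans nR)).1
    (lev_UU_le (M := tR E X ⊔ tZ X E.α) (fun r hr t => by
      by_cases e : r = E.α
      · exact mem_sup_right (mem_UUx X (Ψ := {E.α}) e t)
      · exact mem_sup_left (mem_UUx X (by exact ⟨hr, e⟩) t)) hu)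
  obtain ⟨c, rfl⟩ := (h.rel.mem_tZ E.γ_α).1 hz
  exact ⟨r, hr, c, e⟩

theorem o2_Y {M : Subgroup G} (hM : IsPGroup 2 M) (h1 : M ≤ tY Φ X E.θ)
    (h2 : tY Φ X E.θ ≤ normalizer (M : Set G)) : M ≤ tQ Φ X E.θ :=
  h.lev_o2 _ E.orth_θ_iff (fun r hr => (ip_γ_long E.γ_θ r).trans hr) (h.pg_Q E.γ_θ)
    (h.rel.Y_norm_Q h.tr E.γ_θ) lev_le (fun _ => h.lev_exists_Y) hM h1 h2

theorem o2_Y2 {M : Subgroup G} (hM : IsPGroup 2 M) (h1 : M ≤ tY2 E X)
    (h2 : tY2 E X ≤ normalizer (M : Set G)) : M ≤ tR2 E X :=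
  h.lev_o2 _ E.orth_θβ_iff
    (fun r hr => ⟨(ip_γ_long E.γ_θ r).trans hr.1, (ip_γ_long E.γ_β r).trans hr.2⟩) h.lev_pg_R2
    (h.rel.Y2_norm_R2 h.tr) lev_le2 (fun _ => h.lev_exists_Y2) hM h1 h2

theorem norm_Q_of_Y (hg : g ∈ normalizer (tY Φ X E.θ : Set G)) :
    g ∈ normalizer (tQ Φ X E.θ : Set G) :=
  lev_norm (h.pg_Q E.γ_θ) (Q_le_Y X _) (h.rel.Y_norm_Q h.tr E.γ_θ) (fun _ => h.o2_Y) hg

theorem norm_R2_of_Y2 (hg : g ∈ normalizer (tY2 E X : Set G)) :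
    g ∈ normalizer (tR2 E X : Set G) :=
  lev_norm h.lev_pg_R2 lev_R2_le (h.rel.Y2_norm_R2 h.tr) (fun _ => h.o2_Y2) hg

/-- **CW** -/
theorem cen_W (hq : Nat.card F = 2) (hg : g ∈ tL X)
    (h1 : g * xl P X E.θ 1 = xl P X E.θ 1 * g) (h2 : g * xl P X E.β 1 = xl P X E.β 1 * g) :
    ∃ y ∈ tY2 E X, ∃ z ∈ tL X, z ∈ tC X ∧ g = y * z := by
  have R := h.rel
  have RY : tR E X ≤ tY2 E X := R_le_Y2 X
  have cθ : tY2 E X ≤ centralizer {xl P X E.θ 1} := lev_UU_le fun r hr t =>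
    mem_centralizer_singleton_iff.2 (R.com_l E.γ_θ hr.1 _ _)
  have cβ : tY2 E X ≤ centralizer {xl P X E.β 1} := lev_UU_le fun r hr t =>
    mem_centralizer_singleton_iff.2 (R.com_l E.γ_β hr.2 _ _)
  have Cc : ∀ {z}, z ∈ tC X → ∀ r, z ∈ centralizer {xl P X r 1} := fun hz r =>
    mem_centralizer_singleton_iff.2 (hz _ (mem_tL X _ _)).symm
  obtain ⟨u, hu, w, hw, n, hn, ex, -, d, hd, hH, u', hu', rfl⟩ := h.bruhat hg
  obtain ⟨r, hr, a, rfl⟩ := h.lev_exists_R hu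
  obtain ⟨r', hr', b, e'⟩ := h.lev_exists_R (inv_mem (UUx_mono X (fun _ h => h.1) hu'))
  obtain rfl : u' = xl P X E.α b * r'⁻¹ := by
    rw [← inv_inv u', e', mul_inv_rev, R.xl_inv]
  obtain ⟨d₀, hd₀, e⟩ := h.exists_lift (h.toTw.H_le_Y2 hq hH (h.com d (L_le_N hd)))
  have d₀L : d₀ ∈ tL X := UU_le_tL X _ hd₀
  have hz : d₀⁻¹ * d ∈ tC X := (h.eq_iff (L_le_N d₀L) (L_le_N hd)).1 e
  have zL : d₀⁻¹ * d ∈ tL X := mul_mem (inv_mem d₀L) hd
  obtain ⟨z, rfl⟩ : ∃ z, d = d₀ * z := ⟨d₀⁻¹ * d, by group⟩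
  rw [inv_mul_cancel_left] at hz zL
  have hβ : RAdd Φ E.α E.β E.θ := E.hβ
  have c0 : d₀ * xl P X E.α b = xl P X E.α b * d₀ := by
    refine (mem_cent_UUx.2 fun a ha u => ?_ : xl P X E.α b ∈ centralizer _) d₀ hd₀
    refine R.com_l E.γ_α ?_ _ _
    have := hβ.ip_right a
    have := ha.1
    have := ha.2
    omega
  have y2 : d₀ * r'⁻¹ ∈ tY2 E X := mul_mem (lev_le2 hd₀) (RY (inv_mem hr'))
  have e0 : r * xl P X E.α a * n * (d₀ * z) * (xl P X E.α b * r'⁻¹) =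
      r * (xl P X E.α a * n * xl P X E.α b) * (d₀ * r'⁻¹ * z) := by
    have z1 := hz _ (mul_mem (mem_tL X E.α (P.ω * P.f b)) (UU_le_tL X _ (inv_mem hr')))
    calc _ = r * xl P X E.α a * n * d₀ * (z * (xl P X E.α b * r'⁻¹)) := by group
      _ = r * xl P X E.α a * n * (d₀ * xl P X E.α b) * r'⁻¹ * z := by
        rw [show z * (xl P X E.α b * r'⁻¹) = xl P X E.α b * r'⁻¹ * z from z1.symm]; group
      _ = _ := by rw [c0]; group
  rw [e0] at h1 h2 ⊢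
  have g1 := (Subgroup.mul_mem_cancel_left _ (cθ (RY hr))).1
    ((Subgroup.mul_mem_cancel_right _ (mul_mem (cθ y2) (Cc hz _))).1
      (mem_centralizer_singleton_iff.2 h1))
  have g2 := (Subgroup.mul_mem_cancel_left _ (cβ (RY hr))).1
    ((Subgroup.mul_mem_cancel_right _ (mul_mem (cβ y2) (Cc hz _))).1
      (mem_centralizer_singleton_iff.2 h2))
  have exl : ∀ s t, n * xl P X s t * n⁻¹ = xl P X (w s) t := fun s t => ex s _
  have cα : ∀ c, xl P X E.α c ∈ centralizer {xl P X E.θ 1} := fun c =>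
    mem_centralizer_singleton_iff.2 (R.com_l E.γ_θ (by rw [E.ip_αθ]; omega) _ _)
  have n1 := mem_centralizer_singleton_iff.1 ((Subgroup.mul_mem_cancel_left _ (cα a)).1
    ((Subgroup.mul_mem_cancel_right _ (cα b)).1 g1))
  have wθ : w E.θ = E.θ :=
    (h.xl_inj ((WT_long hw _).2 E.γ_θ) E.γ_θ one_ne_zero
      ((exl _ _).symm.trans (mul_inv_eq_iff_eq_mul.2 n1))).1
  have e1 : xl P X (w E.β) 1 * xl P X E.θ b = xl P X E.β 1 * xl P X E.θ a := by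
    have c1 := R.conj_ll E.γ_α E.γ_β hβ a 1
    have c2 := R.conj_ll E.γ_α E.γ_β hβ b 1
    have c3 := exl E.θ b
    rw [mul_one] at c1 c2
    rw [wθ] at c3
    rw [← c1, ← c3, ← exl, ← R.xl_inv E.α a, inv_inv]
    calc n * xl P X E.β 1 * n⁻¹ * (n * xl P X E.θ b * n⁻¹)
        = n * (xl P X E.β 1 * xl P X E.θ b) * n⁻¹ := by group
      _ = (xl P X E.α a)⁻¹ * (xl P X E.α a * n * xl P X E.α b * xl P X E.β 1) *
          (xl P X E.α b)⁻¹ * n⁻¹ := by rw [← c2]; group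
      _ = _ := by rw [mem_centralizer_singleton_iff.1 g2, R.xl_inv E.α a]; group
  have ne : E.β ≠ E.θ := fun e => by
    have := E.ip_βθ
    rw [e, E.ip_self] at this
    omega
  have wβ : w E.β = E.β := by
    have m : xl P X (w E.β) 1 ∈ tW E X := by
      rw [eq_mul_inv_of_mul_eq e1]
      exact mul_mem (mul_mem (mem_UUx X (by simp) _) (mem_UUx X (by simp) _))
        (inv_mem (mem_UUx X (by simp) _))
    have m2 := h.map_mem_UU (cl_W (E := E)).gam m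
    rw [h.map_xl ((WT_long hw _).2 E.γ_β), map_one] at m2
    rcases h.amb.nd.mem_of_x_mem_UU (cl_W (E := E)).closed (cl_W (E := E)).pos one_ne_zero m2
      with e | e
    · exact absurd (w.injective (e.trans wθ.symm)) ne
    · exact e
  rw [wβ] at e1
  obtain rfl : a = b := by
    have e2 := mul_left_cancel e1
    have e3 : xl P X E.θ (a + b) = 1 := by rw [R.xl_add, ← e2, R.xl_sq]
    exact CharTwo.add_eq_zero.1 ((h.xl_eq_one E.γ_θ).1 e3)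
  have wα : w E.α = E.α := by
    have := hβ.apply (WT_le _ hw)
    rw [wβ, wθ] at this
    exact this.symm.unique hβ.symm
  have := exl E.α a
  rw [wα, mul_inv_eq_iff_eq_mul] at this
  rw [← this, mul_assoc n, R.xl_sq, mul_one]
  obtain ⟨n', hn', ex', -⟩ := h.exists_exa (fun r hr => by
    simp only [Set.mem_setOf_eq, ip_neg_left] at hr ⊢
    omega) (stab_θβ hw wθ wβ)
  have z' := lev_exa_C ex ex'
  refine ⟨r * n' * (d₀ * r'⁻¹), mul_mem (mul_mem (RY hr) (lev_le2 hn')) y2, n'⁻¹ * n * z,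
    mul_mem (mul_mem (inv_mem (UU_le_tL X _ hn')) hn) zL, mul_mem z' hz, ?_⟩
  have z1 := z' _ (UU_le_tL X _ y2)
  calc _ = r * n' * ((n'⁻¹ * n) * (d₀ * r'⁻¹)) * z := by group
    _ = _ := by rw [← z1]; group

/-- perfect subgroups of `C(W)` -/
theorem pf_le_Y2 (hq : Nat.card F = 2) {M : Subgroup G} (hM : Pf M) (h1 : M ≤ tL X)
    (h2 : M ≤ centralizer {xl P X E.θ 1}) (h3 : M ≤ centralizer {xl P X E.β 1}) :
    M ≤ tY2 E X := by
  refine hM.1.trans (commutator_le.2 fun a ha b hb => ?_)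
  obtain ⟨y, hy, z, -, hz, rfl⟩ := h.cen_W hq (h1 ha) (mem_centralizer_singleton_iff.1 (h2 ha))
    (mem_centralizer_singleton_iff.1 (h3 ha))
  obtain ⟨y', hy', z', zL, hz', rfl⟩ := h.cen_W hq (h1 hb) (mem_centralizer_singleton_iff.1 (h2 hb))
    (mem_centralizer_singleton_iff.1 (h3 hb))
  have yL : y ∈ tL X := UU_le_tL X _ hy
  have c1 := hz _ (h1 hb)
  have c2 := hz' _ (inv_mem yL)
  have : ⁅y * z, y' * z'⁆ = y * y' * y⁻¹ * y'⁻¹ := by
    rw [commutatorElement_def]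
    calc _ = y * (z * (y' * z')) * z⁻¹ * y⁻¹ * (y' * z')⁻¹ := by group
      _ = y * y' * (z' * y⁻¹) * (y' * z')⁻¹ := by rw [← c1]; group
      _ = _ := by rw [← c2]; group
  rw [this]
  exact mul_mem (mul_mem (mul_mem hy hy') (inv_mem hy)) (inv_mem hy')

/-- the root elements of `± α` normalise `Y2` and act trivially modulo `R2` -/
theorem alpha_Y2 {a : ι} (ha : a = E.α ∨ a = Φ.neg E.α) (c : F) :
    xl P X a c ∈ normalizer (tY2 E X : Set G) ∧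
      ∀ y ∈ tY2 E X, xl P X a c * y * (xl P X a c)⁻¹ * y⁻¹ ∈ tR2 E X := by
  have R := h.rel
  have nR := R.Y2_norm_R2 h.tr
  have hβ : RAdd Φ E.α E.β E.θ := E.hβ
  have key : ∀ s k, 0 ≤ ip Φ s E.θ → 0 ≤ ip Φ s E.β → RAdd Φ a s k →
      0 ≤ ip Φ k E.θ ∧ 0 ≤ ip Φ k E.β ∧ 1 ≤ ip Φ k E.θ + ip Φ k E.β := fun s k h1 h2 hk => by
    have a1 := E.ip_αθ
    have a2 := E.ip_αβ
    have a3 := hβ.ip_right s
    have a4 := ip_neg_left (Φ := Φ) E.α
    have e := (E.radd_ip hk).1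
    rw [ip_comm s E.α] at a3
    rw [hk.ip_left, hk.ip_left]
    rcases ha with rfl | rfl
    · omega
    · rw [a4] at e
      rw [a4, a4]
      omega
  have ne : ∀ s, 0 ≤ ip Φ s E.θ → 0 ≤ ip Φ s E.β → s ≠ Φ.neg a := fun s h1 h2 e => by
    have a1 := E.ip_αθ
    have a2 := E.ip_αβ
    rcases ha with rfl | rfl
    · rw [e, ip_neg_left] at h1
      omega
    · rw [e, Φ.neg_neg] at h2
      omega
  have main : ∀ y ∈ tY2 E X, xl P X a c * y * (xl P X a c)⁻¹ * y⁻¹ ∈ tR2 E X := by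
    intro y hy
    induction hy using closure_induction with
    | mem y hy =>
      obtain ⟨b, ⟨h1, h2⟩, v, rfl⟩ := hy
      have g1 := ip_γ_long E.γ_θ b
      have g2 := ip_γ_long E.γ_β b
      have := R.conj_mem h.tr (ne b h1 h2) (ne _ (g1 ▸ h1) (g2 ▸ h2)) (cl_R2 (E := E)).gam
        (fun k hk => hk.elim (key _ k h1 h2) (key _ k (g1 ▸ h1) (g2 ▸ h2)))
        (fun m hm k hk => hk.elim (key _ k hm.1 hm.2.1) fun hk => by
          obtain ⟨m1, m2, m3⟩ := hm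
          show 0 ≤ ip Φ k E.θ ∧ 0 ≤ ip Φ k E.β ∧ 1 ≤ ip Φ k E.θ + ip Φ k E.β
          rw [hk.ip_left, hk.ip_left]
          omega) (P.ω * P.f c) v
      have m := (mem_normalizer_iff.1 (nR (mem_UUx X (by exact ⟨h1, h2⟩) v)) _).1 this
      convert m using 1
      unfold xl
      group
    | one => simp
    | mul y y' hy hy' ih ih' =>
      convert mul_mem ih ((mem_normalizer_iff.1 (nR hy) _).1 ih') using 1
      group
    | inv y hy ih =>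
      convert (mem_normalizer_iff.1 (nR (inv_mem hy)) _).1 (inv_mem ih) using 1
      group
  refine ⟨mem_normalizer_fintype fun y hy => ?_, main⟩
  simpa using mul_mem (lev_R2_le (main y hy)) hy

end Sys

end CfsgLib.SLT
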