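import Mathlib
import Cfsg.Agent.Lib.SLT.Lev
import Cfsg.Agent.Lib.SLT.Inn

/-!
# An element interchanging `t` and `t z`
-/

set_option autoImplicit false
set_option linter.unusedSectionVars false

namespace CfsgLib.SLT

open CfsgLib.RGD CfsgLib.Stein CfsgLib.SLE Subgroup
open scoped commutatorElement Pointwise

universe u

variable {ι κ : Type} [Fintype κ] [DecidableEq κ] [Finite ι] {Φ : RootSys ι κ} {E : ER Φ}
  {F K : Type} [Field F] [Finite F] [CharP F 2] [Field K] [Finite K] [CharP K 2] {P : QE F K}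
  {G : Type u} [Group G] [Finite G] {A : Type} [Group A] [Finite A] {T : StSys Φ K A} {s : A}
  {X : ι → K → G} {ρ : G → A} {t : G}

theorem sw_mem_Z (P : QE F K) (X : ι → K → G) (r : ι) (c : F) : xl P X r c ∈ tZ X r := mem_UUx X (Set.mem_singleton r) _

theorem Sys.sw_norm_Z (h : Sys E P T s X ρ) {p : G} (hp : p ∈ normalizer (tU Φ X : Set G)) :
    p ∈ normalizer (tZ X E.θ : Set G) := by
  rw [← h.center_U]
  exact LAE.le_normalizer_inf le_rfl (LAE.normalizer_le_normalizer_centralizer _) hp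

namespace Sit

variable (h : Sit E P T s X ρ t)
include h

/-- an element moving `t` inside `t Z` and normalising `Z` normalises `Y` and `Q` -/
theorem norm_of_swap {p : G} {c : F} (hc : c ≠ 0) (pt : p * t * p⁻¹ = t * xl P X E.θ c)
    (pZ : p ∈ normalizer (tZ X E.θ : Set G)) :
    p ∈ normalizer (tY Φ X E.θ : Set G) ∧ p ∈ normalizer (tQ Φ X E.θ : Set G) := by
  have h' := h.cj p
  have cz : tY Φ (cjX p X) E.θ ≤ centralizer {xl P X E.θ c} := fun y hy =>
    mem_centralizer_singleton_iff.2 (mem_centralizer_iff.1 (h'.rel.Y_le_cent E.γ_θ hy) _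
      (SLT.mem_cj_UU.2 ((mem_normalizer_iff''.1 pZ _).1 (sw_mem_Z P X _ c)))).symm
  have le : tY Φ (cjX p X) E.θ ≤ tY Φ X E.θ := by
    refine h.pf_le_Y h.cyc (h'.rel.pf_Y h.tr E.γ_θ) (fun y hy => h.mem_N ?_) E.γ_θ hc cz
    have e1 := h'.comL (UU_le_tL _ _ hy)
    rw [pt, ← mul_assoc, mul_assoc t, ← mem_centralizer_singleton_iff.1 (cz hy), ← mul_assoc] at e1
    exact mul_right_cancel e1
  have nY : p ∈ normalizer (tY Φ X E.θ : Set G) :=
    mem_normalizer_fintype fun y hy => le (conj_mem_cj hy)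
  exact ⟨nY, h.norm_Q_of_Y nY⟩

theorem exists_sw (hf : IsConj t (t * xl P X E.θ 1)) : ∃ p, Sw E P X t p := by
  obtain ⟨g, hg⟩ := isConj_iff.1 hf
  have h' := h.cj g
  have le : tY Φ X E.θ ≤ tL (cjX g X) := h'.pf_le h'.cyc (h.rel.pf_Y h.tr E.γ_θ) fun y hy => h'.mem_N (by
    rw [hg, ← mul_assoc, h.comL (UU_le_tL _ _ hy), mul_assoc, mul_assoc]
    exact congrArg _ (mem_centralizer_iff.1 (h.rel.Y_le_cent E.γ_θ hy) _ (sw_mem_Z P X _ 1)).symm)
  obtain ⟨l, hl, e⟩ := h'.eq_cj_U h.pg_U ((U_le_Y X).trans le) h.card_U.ge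
  rw [cjX_cjX] at e
  have nU : l * g ∈ normalizer (tU Φ X : Set G) :=
    mem_normalizer_fintype fun u hu => e.ge (conj_mem_cj hu)
  obtain ⟨c, ec⟩ := (h.rel.mem_tZ E.γ_θ).1
    ((mem_normalizer_iff''.1 (h.sw_norm_Z nU) _).1 (sw_mem_Z P X _ 1))
  have c0 : c ≠ 0 := fun e => by
    rw [e, h.rel.xl_zero, mul_assoc, inv_mul_eq_one, eq_comm, mul_eq_right, h.xl_eq_one E.γ_θ] at ec
    exact one_ne_zero ec
  obtain ⟨a, ha, -, -, sa⟩ := h.exists_hl E.γ_α c0
  have pt : l * g * a * t * (l * g * a)⁻¹ = t * xl P X E.θ 1 := by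
    calc _ = l * (g * (a * t) * a⁻¹ * g⁻¹) * l⁻¹ := by group
      _ = l * (g * t * g⁻¹) * l⁻¹ := by rw [h.comL (UU_le_tL _ _ ha)]; group
      _ = _ := by rw [h'.comL hl, mul_inv_cancel_right, hg]
  have nU' := mul_mem nU (h.st_norm sa _)
  obtain ⟨nY, nQ⟩ := h.norm_of_swap one_ne_zero pt (h.sw_norm_Z nU')
  refine ⟨_, pt, ?_, nU', nY, nQ, h.sw_norm_Z nU'⟩
  have := h.st_xl sa E.γ_θ (c := 1) rfl rfl
  rw [E.ip_αθ, zpow_one, mul_one, ← ec] at this
  calc _ = l * g * (a * xl P X E.θ 1 * a⁻¹) * (l * g)⁻¹ := by group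
    _ = _ := by rw [this]; group

end Sit

end CfsgLib.SLT
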