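import Mathlib
import Cfsg.Agent.Lib.SLT.Sw
import Cfsg.Agent.Lib.SLE.A2b

/-!
# The case `q = 2`, first step
-/

set_option autoImplicit false
set_option linter.unusedSectionVars false

namespace CfsgLib.SLT

open CfsgLib.RGD CfsgLib.Stein CfsgLib.SLE Subgroup
open scoped commutatorElement Pointwise

universe u

variable {ι κ : Type} [Fintype κ] [DecidableEq κ] [Finite ι] {Φ : RootSys ι κ} {E : ER Φ}
  {F K : Type} [Field F] [Finite F] [CharP F 2] [Field K] [Finite K] [CharP K 2] {P : QE F K}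
  {G : Type u} [Group G] [Finite G] {A : Type} [Group A] [Finite A] {T : StSys Φ K A} {s : A}
  {X : ι → K → G} {ρ : G → A} {t : G}

theorem Sys.q2a_comm (h : Sys E P T s X ρ) {w u : G} (hw : w ∈ tW E X) (hu : u ∈ tU Φ X) :
    w * u * w⁻¹ * u⁻¹ ∈ tZ X E.θ := by
  have wU : w ∈ tU Φ X := (R_le_U X) ((R2_le_R X) ((W_le_R2 X) hw))
  have wN : w ∈ tN X := L_le_N (UU_le_tL X _ wU)
  have uN : u ∈ tN X := L_le_N (UU_le_tL X _ hu)
  refine h.mem_UX_of_U cl_Z (mul_mem (mul_mem (mul_mem wU hu) (inv_mem wU)) (inv_mem hu)) ?_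
  rw [h.mul _ (mul_mem (mul_mem wN uN) (inv_mem wN)) _ (inv_mem uN), h.conj wN uN, h.inv uN]
  exact h.amb.a2_comm (h.map_mem_UU cl_W.gam hw) (h.map_mem_UU cl_pos.gam hu)

theorem Sys.q2a_cen (h : Sys E P T s X ρ) {y w : G} (hy : y ∈ tY2 E X) (hw : w ∈ tW E X) :
    w * y = y * w := by
  obtain ⟨c, e, rfl⟩ := h.mem_W_iff.1 hw
  have h1 := mem_centralizer_iff.1 (h.rel.Y_le_cent E.γ_θ (Y2_le_Y X hy).1) _
    ((h.rel.mem_tZ E.γ_θ).2 ⟨c, rfl⟩)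
  have h2 := mem_centralizer_iff.1 (h.rel.Y_le_cent E.γ_β (Y2_le_Y X hy).2) _
    ((h.rel.mem_tZ E.γ_β).2 ⟨e, rfl⟩)
  rw [mul_assoc, h2, ← mul_assoc, h1, mul_assoc]

theorem Sit.sw2_of_sw (h : Sit E P T s X ρ t) (hq : Nat.card F = 2) {p : G} (hp : Sw E P X t p) :
    ∃ p', Sw2 E P X t p' := by
  have A := h.rel
  have S := h.toSys
  have pZ := hp.nZ
  have γa : E.γ (Φ.neg E.α) = Φ.neg E.α := long_neg.2 E.γ_α
  have xL : ∀ r c, xl P X r c ∈ tL X := fun r c => mem_tL X _ _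
  have zW : ∀ c, xl P X E.θ c ∈ tW E X := fun c => mem_UUx X (by simp) _
  have bW : ∀ c, xl P X E.β c ∈ tW E X := fun c => mem_UUx X (by simp) _
  have WU : tW E X ≤ tU Φ X := ((W_le_R2 X).trans (R2_le_R X)).trans (R_le_U X)
  have nW : p ∈ normalizer (tW E X : Set G) := mem_normalizer_fintype fun w hw =>
    S.mem_W_of_comm ((mem_normalizer_iff.1 hp.nU w).1 (WU hw)) fun i v => by
      convert (mem_normalizer_iff.1 pZ _).1 (S.q2a_comm hw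
        ((mem_normalizer_iff''.1 hp.nU _).1 (mem_UUx X (Φ.pos_simple i) v))) using 1
      group
  have n2 : p ∈ normalizer (tY2 E X : Set G) := by
    have c : ∀ w ∈ tW E X, MulAut.conj p • tY2 E X ≤ centralizer {w} := fun w hw g hg => by
      obtain ⟨y, hy, rfl⟩ := (mem_smul_pointwise_iff_exists _ _ _).1 hg
      rw [mem_centralizer_singleton_iff]
      change p * y * p⁻¹ * w = w * (p * y * p⁻¹)
      calc _ = p * (y * (p⁻¹ * w * p)) * p⁻¹ := by group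
        _ = _ := by rw [← S.q2a_cen hy ((mem_normalizer_iff''.1 nW w).1 hw)]; group
    have := S.pf_le_Y2 hq ((A.pf_Y2 h.tr).conj p) (fun g hg => by
      obtain ⟨y, hy, rfl⟩ := (mem_smul_pointwise_iff_exists _ _ _).1 hg
      exact UU_le_tL X _ ((mem_normalizer_iff.1 hp.nY y).1 (Y2_le_Y X hy).1)) (c _ (zW 1)) (c _ (bW 1))
    exact mem_normalizer_fintype fun y hy => this (smul_mem_pointwise_smul _ _ _ hy)
  have aK : ∀ c, xl P X E.α c ∈ a2Kl (tY2 E X) (tR2 E X) := fun c => S.alpha_Y2 (Or.inl rfl) c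
  have aK' : ∀ c, xl P X (Φ.neg E.α) c ∈ a2Kl (tY2 E X) (tR2 E X) := fun c =>
    S.alpha_Y2 (Or.inr rfl) c
  obtain ⟨n, n1, n3, -⟩ := S.exists_exa (Ψ := {E.α, Φ.neg E.α}) (by
    rintro r (rfl | rfl)
    · exact Or.inr rfl
    · exact Or.inl (Φ.neg_neg _)) (rf_mem_WT (Or.inl rfl) E.γ_α)
  have nK : n ∈ a2Kl (tY2 E X) (tR2 E X) := by
    refine (closure_le _).2 ?_ n1
    rintro _ ⟨r, rfl | rfl, v, rfl⟩
    · rw [A.lng E.γ_α]; exact aK _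
    · rw [A.lng γa]; exact aK' _
  obtain ⟨c, e, pb⟩ := S.mem_W_iff.1 ((mem_normalizer_iff.1 nW _).1 (bW 1))
  obtain rfl : e = 1 := a2_one hq fun e0 => by
    rw [e0, A.xl_zero, mul_one] at pb
    obtain ⟨c', e'⟩ := (A.mem_tZ E.γ_θ).1 ((mem_normalizer_iff.1 pZ _).2
      (pb ▸ (A.mem_tZ E.γ_θ).2 ⟨c, rfl⟩))
    exact a2_ne E (S.xl_inj E.γ_β E.γ_θ one_ne_zero e').1
  have czb : ∀ u v, xl P X E.β u * xl P X E.θ v = xl P X E.θ v * xl P X E.β u := fun u v =>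
    A.com_l E.γ_θ (by rw [E.ip_βθ]; omega) _ _
  have az : xl P X E.α c * xl P X E.θ 1 = xl P X E.θ 1 * xl P X E.α c :=
    A.com_l E.γ_θ (by rw [E.ip_αθ]; omega) _ _
  have ab := A.conj_ll E.γ_α E.γ_β E.hβ c 1
  rw [mul_one, czb, ← pb] at ab
  have az' := A.conj_ll γa E.γ_θ E.hβ.symm.sub.symm 1 1
  rw [mul_one] at az'
  have ab' : xl P X (Φ.neg E.α) 1 * xl P X E.β 1 = xl P X E.β 1 * xl P X (Φ.neg E.α) 1 :=
    A.com_l E.γ_β (by rw [ip_neg_left, E.ip_αβ]; omega) _ _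
  have nb : n * xl P X E.β 1 * n⁻¹ = xl P X E.θ 1 := by
    rw [xl, n3, (E.rf_add (d := E.α) E.hβ.symm).1]; rfl
  have nz : n * xl P X E.θ 1 * n⁻¹ = xl P X E.β 1 := by
    rw [xl, n3, (E.rf_add (d := E.α) E.hβ.symm).2]; rfl
  obtain ⟨p₀, e₀⟩ : ∃ p₀, p₀ = (xl P X E.α c)⁻¹ * p := ⟨_, rfl⟩
  have z₀ : p₀ * xl P X E.θ 1 * p₀⁻¹ = xl P X E.θ 1 := by
    calc _ = (xl P X E.α c)⁻¹ * (p * xl P X E.θ 1 * p⁻¹ * xl P X E.α c) := by rw [e₀]; group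
      _ = _ := by rw [hp.pz, ← az]; group
  have b₀ : p₀ * xl P X E.β 1 * p₀⁻¹ = xl P X E.β 1 := by
    calc _ = (xl P X E.α c)⁻¹ * (p * xl P X E.β 1 * p⁻¹) * xl P X E.α c := by rw [e₀]; group
      _ = _ := by rw [← ab]; group
  have t₀ : p₀ * t * p₀⁻¹ = t * xl P X E.θ 1 := by
    calc _ = (xl P X E.α c)⁻¹ * (p * t * p⁻¹) * xl P X E.α c := by rw [e₀]; group
      _ = (xl P X E.α c)⁻¹ * t * (xl P X E.θ 1 * xl P X E.α c) := by rw [hp.pt]; group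
      _ = _ := by rw [h.comL (inv_mem (xL _ _)), ← az]; group
  obtain ⟨k, ek⟩ : ∃ k, k = p₀ * xl P X (Φ.neg E.α) 1 * p₀⁻¹ := ⟨_, rfl⟩
  have kK : k ∈ a2Kl (tY2 E X) (tR2 E X) := by
    have := mul_mem (inv_mem (aK c)).1 n2
    rw [← e₀] at this
    exact ek ▸ a2Kl_conj this (S.norm_R2_of_Y2 this) (aK' 1)
  have kz : k * xl P X E.θ 1 * k⁻¹ = xl P X E.θ 1 * xl P X E.β 1 := by
    calc _ = k * (p₀ * xl P X E.θ 1 * p₀⁻¹) * k⁻¹ := by rw [z₀]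
      _ = p₀ * (xl P X (Φ.neg E.α) 1 * xl P X E.θ 1 * (xl P X (Φ.neg E.α) 1)⁻¹) * p₀⁻¹ := by
        rw [ek]; group
      _ = p₀ * xl P X E.θ 1 * p₀⁻¹ * (p₀ * xl P X E.β 1 * p₀⁻¹) := by rw [az']; group
      _ = _ := by rw [z₀, b₀]
  have kb : k * xl P X E.β 1 * k⁻¹ = xl P X E.β 1 := by
    calc _ = k * (p₀ * xl P X E.β 1 * p₀⁻¹) * k⁻¹ := by rw [b₀]
      _ = p₀ * (xl P X (Φ.neg E.α) 1 * xl P X E.β 1) * (xl P X (Φ.neg E.α) 1)⁻¹ * p₀⁻¹ := by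
        rw [ek]; group
      _ = _ := by rw [ab', ← mul_assoc, mul_inv_cancel_right, b₀]
  have kt : k * t * k⁻¹ = t * xl P X E.β 1 := by
    have e1 : k * (t * xl P X E.θ 1) * k⁻¹ = t * xl P X E.θ 1 := by
      calc _ = p₀ * (xl P X (Φ.neg E.α) 1 * t) * (xl P X (Φ.neg E.α) 1)⁻¹ * p₀⁻¹ := by
            rw [← t₀, ek]; group
        _ = _ := by rw [h.comL (xL _ _), ← t₀]; group
    calc _ = k * (t * (xl P X E.θ 1 * xl P X E.θ 1)) * k⁻¹ := by rw [A.xl_sq, mul_one]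
      _ = k * (t * xl P X E.θ 1) * k⁻¹ * (k * xl P X E.θ 1 * k⁻¹) := by group
      _ = t * (xl P X E.θ 1 * xl P X E.θ 1) * xl P X E.β 1 := by rw [e1, kz]; group
      _ = _ := by rw [A.xl_sq, mul_one]
  obtain ⟨m, em⟩ : ∃ m, m = k * xl P X (Φ.neg E.α) 1 := ⟨_, rfl⟩
  have mz : m * xl P X E.θ 1 * m⁻¹ = xl P X E.θ 1 := by
    calc _ = k * (xl P X (Φ.neg E.α) 1 * xl P X E.θ 1 * (xl P X (Φ.neg E.α) 1)⁻¹) * k⁻¹ := by
          rw [em]; group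
      _ = k * xl P X E.θ 1 * k⁻¹ * (k * xl P X E.β 1 * k⁻¹) := by rw [az']; group
      _ = _ := by rw [kz, kb, mul_assoc, A.xl_sq, mul_one]
  have mb : m * xl P X E.β 1 * m⁻¹ = xl P X E.β 1 := by
    calc _ = k * (xl P X (Φ.neg E.α) 1 * xl P X E.β 1) * (xl P X (Φ.neg E.α) 1)⁻¹ * k⁻¹ := by
          rw [em]; group
      _ = _ := by rw [ab', ← mul_assoc, mul_inv_cancel_right, kb]
  have mt : m * t * m⁻¹ = t * xl P X E.β 1 := by
    calc _ = k * (xl P X (Φ.neg E.α) 1 * t) * (xl P X (Φ.neg E.α) 1)⁻¹ * k⁻¹ := by rw [em]; group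
      _ = _ := by rw [h.comL (xL _ _), ← kt]; group
  have nt := h.comL (UU_le_tL X _ n1)
  have pt : n * m * n⁻¹ * t * (n * m * n⁻¹)⁻¹ = t * xl P X E.θ 1 := by
    calc _ = n * m * n⁻¹ * (t * n) * m⁻¹ * n⁻¹ := by group
      _ = n * (m * t * m⁻¹) * n⁻¹ := by rw [← nt]; group
      _ = n * t * n⁻¹ * (n * xl P X E.β 1 * n⁻¹) := by rw [mt]; group
      _ = _ := by rw [nt, nb, mul_inv_cancel_right]
  have pz : n * m * n⁻¹ * xl P X E.θ 1 * (n * m * n⁻¹)⁻¹ = xl P X E.θ 1 := by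
    calc _ = n * m * n⁻¹ * (n * xl P X E.β 1 * n⁻¹) * (n * m * n⁻¹)⁻¹ := by rw [nb]
      _ = n * (m * xl P X E.β 1 * m⁻¹) * n⁻¹ := by group
      _ = _ := by rw [mb, nb]
  have pb : n * m * n⁻¹ * xl P X E.β 1 * (n * m * n⁻¹)⁻¹ = xl P X E.β 1 := by
    calc _ = n * m * n⁻¹ * (n * xl P X E.θ 1 * n⁻¹) * (n * m * n⁻¹)⁻¹ := by rw [nz]
      _ = n * (m * xl P X E.θ 1 * m⁻¹) * n⁻¹ := by group
      _ = _ := by rw [mz, nz]
  obtain ⟨nY, nQ⟩ := h.norm_of_swap one_ne_zero pt (mem_normalizer_fintype fun z hz => by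
    obtain ⟨u, rfl⟩ := (A.mem_tZ E.γ_θ).1 hz
    by_cases u0 : u = 0
    · rw [u0, A.xl_zero, mul_one, mul_inv_cancel]
      exact one_mem _
    · rw [a2_one hq u0, pz]
      exact (A.mem_tZ E.γ_θ).2 ⟨_, rfl⟩)
  exact ⟨_, pt, pz, pb, nY, nQ, (mul_mem (mul_mem nK (em ▸ mul_mem kK (aK' 1))) (inv_mem nK)).2⟩

end CfsgLib.SLT
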