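import Mathlib
import Cfsg.Agent.Lib.SLT.CenA
import Cfsg.Agent.Lib.SLE.Gr
import Cfsg.Agent.Lib.SLE.A2c

/-!
# The case `q = 2`, second step
-/

set_option autoImplicit false
set_option linter.unusedSectionVars false

namespace CfsgLib.SLT

open CfsgLib.RGD CfsgLib.Stein CfsgLib.SLE Subgroup
open scoped commutatorElement Pointwise

universe u

variable {ι κ : Type} [Fintype κ] [DecidableEq κ] [Finite ι] {Φ : RootSys ι κ} {E : ER Φ}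
  {F K : Type} [Field F] [Finite F] [CharP F 2] [Field K] [Finite K] [CharP K 2] {P : QE F K}
  {G : Type u} [Group G] [Finite G] {A : Type} [Group A] [Finite A] {T : StSys Φ K A} {s : A}
  {X : ι → K → G} {ρ : G → A} {t : G}

theorem q2b_cl : Cl E (a2R E) :=
  ⟨a2_lay.pos, fun a ha b hb k hk => (a2_lay.add a ha b hb k hk).elim,
    fun r hr => ⟨(ip_γ_long E.γ_θ r).trans hr.1, (ip_γ_long E.γ_β r).trans hr.2⟩⟩

theorem q2b_iff {Ψ : Set ι} (h : ∀ r ∈ Ψ, E.γ r ∈ Ψ) (r : ι) : E.γ r ∈ Ψ ↔ r ∈ Ψ :=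
  ⟨fun k => E.γ2 r ▸ h _ k, h r⟩

theorem q2b_mem {Ψ : Set ι} {r : ι} (hr : r ∈ Ψ) (c : F) : xl P X r c ∈ UUx X Ψ := mem_UUx X hr _

theorem q2b_Z (r : ι) (c : F) : xl P X r c ∈ tZ X r := mem_UUx X (Set.mem_singleton r) _

theorem q2b_x (B : Amb E T) {d : ι} (d1 : ip Φ d E.θ = 0) (d2 : ip Φ d E.β = 0) (c : K) {u : A}
    (hu : u ∈ Q T E.θ) (h0 : ∀ k, ip Φ k E.θ = 1 → ip Φ k E.β = 0 → cf T u k = 0) :
    cf T (T.x d c * u * (T.x d c)⁻¹) E.α = cf T u E.α ∧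
      ∀ k, ip Φ k E.θ = 1 → ip Φ k E.β = 0 → cf T (T.x d c * u * (T.x d c)⁻¹) k = 0 := by
  have d3 := a2_ipα E d
  refine ⟨(B.cf_V d1 c hu E.ip_αθ).2 (by rw [ip_comm]; omega), fun k k1 k0 => ?_⟩
  by_cases e' : ip Φ k d = 1
  · obtain ⟨k', hk'⟩ := E.exists_sub (a := d) (r := k) (by rw [ip_comm, e'])
    have b1 := hk'.ip_left E.θ
    have b2 := hk'.ip_left E.β
    rw [(B.cf_V d1 c hu k1).1 _ hk'.symm, h0 k k1 k0, h0 k' (by omega) (by omega), mul_zero, add_zero]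
  · rw [(B.cf_V d1 c hu k1).2 e', h0 k k1 k0]

theorem q2b_eps (B : Amb E T) {u : A} {ε : K} (u2 : u * u = 1)
    (z : u * (T.x E.α 1 * T.x E.β ε)⁻¹ ∈ T.X E.θ) : ε = 0 := by
  obtain ⟨c, e⟩ := T.mem_X_iff.1 z
  rw [mul_inv_eq_iff_eq_mul] at e
  have e2 := B.rel.cm E.α E.β E.θ E.hβ 1 ε
  have e3 := mul_inv_eq_iff_eq_mul.1 (B.vec_cZ (B.vec_Q_le_Y
    (mul_mem (T.x_mem_UU (vec_mem E.ip_αθ) 1) (T.x_mem_UU (vec_mem E.ip_βθ) ε))) (T.x_mem_X E.θ c))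
  rw [B.x_inv, B.x_inv, one_mul] at e2
  rw [e, mul_assoc, ← mul_assoc (T.x E.α 1 * T.x E.β ε), e3, mul_assoc (T.x E.θ c),
    ← mul_assoc (T.x E.θ c), B.x_sq, one_mul, ← mul_assoc, e2] at u2
  exact B.x_eq_one.1 u2

namespace Sys

variable (h : Sys E P T s X ρ) {u v p : G}
include h

theorem q2b_N {Ψ : Set ι} (hu : u ∈ UUx X Ψ) : u ∈ tN X := L_le_N (UU_le_tL X Ψ hu)

theorem q2b_Q (hu : u ∈ tQ Φ X E.θ) : ρ u ∈ Q T E.θ := h.map_mem_UU cl_Q.gam hu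

theorem q2b_congr (hu : u ∈ tQ Φ X E.θ) (hv : v ∈ tQ Φ X E.θ) :
    u * v⁻¹ ∈ tZ X E.θ ↔ ρ u * (ρ v)⁻¹ ∈ T.X E.θ := by
  rw [← h.inv (h.q2b_N hv), ← h.mul _ (h.q2b_N hu) _ (inv_mem (h.q2b_N hv))]
  exact ⟨h.map_mem_UU cl_Z.gam, h.mem_UX_of_U cl_Z (Q_le_U X (mul_mem hu (inv_mem hv)))⟩

theorem q2b_sym (hu : u ∈ tQ Φ X E.θ) {r : ι} (hr : ip Φ r E.θ = 1) :
    cf T (ρ u) (E.γ r) = P.τ (cf T (ρ u) r) := by
  have := h.amb.cf_std h.amb.lay_Q h.toTw.std (q2b_iff cl_Q.gam) (q2b_iff cl_Z.gam) (h.q2b_Q hu) (vec_ne hr)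
  rwa [h.com u (h.q2b_N hu), mul_inv_cancel_right, one_mul] at this

theorem q2b_xl {r : ι} (hr : E.γ r = r) : ρ (xl P X r 1) = T.x r 1 := by rw [h.map_xl hr, map_one]

theorem q2b_pz (hq : Nat.card F = 2) (pz : p * xl P X E.θ 1 * p⁻¹ = xl P X E.θ 1) {z : G}
    (hz : z ∈ tZ X E.θ) : p * z * p⁻¹ = z := by
  obtain ⟨c, rfl⟩ := (h.rel.mem_tZ E.γ_θ).1 hz
  by_cases c0 : c = 0
  · rw [c0, h.rel.xl_zero, mul_one, mul_inv_cancel]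
  · rwa [a2_one hq c0]

theorem q2b_bf (hq : Nat.card F = 2) (hp : Sw2 E P X t p) (hu : u ∈ tQ Φ X E.θ) (hv : v ∈ tQ Φ X E.θ) :
    bf E T (ρ (p * u * p⁻¹)) (ρ (p * v * p⁻¹)) = bf E T (ρ u) (ρ v) := by
  have key : ∀ {u v : G}, u ∈ tQ Φ X E.θ → v ∈ tQ Φ X E.θ →
      ρ (u * v * u⁻¹ * v⁻¹) = T.x E.θ (bf E T (ρ u) (ρ v)) := fun {u v} hu hv => by
    have a := h.q2b_N hu
    have b := h.q2b_N hv
    rw [h.mul _ (mul_mem (mul_mem a b) (inv_mem a)) _ (inv_mem b), h.conj a b, h.inv b,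
      h.amb.comm_Q (h.q2b_Q hu) (h.q2b_Q hv)]
  refine h.amb.nd.x_injective E.θ ?_
  rw [← key hu hv, ← key ((mem_normalizer_iff.1 hp.nQ u).1 hu) ((mem_normalizer_iff.1 hp.nQ v).1 hv),
    ← h.q2b_pz hq hp.pz (h.rel.comm_Q h.tr E.γ_θ hu hv)]
  congr 1
  group

theorem q2b_α (hq : Nat.card F = 2) (hp : Sw2 E P X t p) (hu : u ∈ tQ Φ X E.θ) :
    cf T (ρ (p * u * p⁻¹)) E.α = cf T (ρ u) E.α := by
  have := h.q2b_bf hq hp hu (q2b_mem (P := P) (vec_mem E.ip_βθ) 1)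
  rwa [hp.pb, h.q2b_xl E.γ_β, h.amb.bf_x (a := E.α) E.hβ (h.q2b_Q ((mem_normalizer_iff.1 hp.nQ u).1 hu)),
    h.amb.bf_x (a := E.α) E.hβ (h.q2b_Q hu), one_mul, one_mul] at this

theorem q2b_α1 (hq : Nat.card F = 2) (hp : Sw2 E P X t p) : cf T (ρ (p * xl P X E.α 1 * p⁻¹)) E.α = 1 := by
  rw [h.q2b_α hq hp (q2b_mem (P := P) (vec_mem E.ip_αθ) 1), h.q2b_xl E.γ_α,
    h.amb.cf_x_self (E.pos_of_θ E.ip_αθ.ge)]

/-- `p` commutes with the root elements orthogonal to `θ` and `β` on `Q / Z` -/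
theorem q2b_step2 (hq : Nat.card F = 2) (hp : Sw2 E P X t p)
    (h0 : ∀ k, ip Φ k E.θ = 1 → ip Φ k E.β = 0 → cf T (ρ (p * xl P X E.α 1 * p⁻¹)) k = 0) {d : ι}
    (d1 : ip Φ d E.θ = 0) (d2 : ip Φ d E.β = 0) (w : K) (hv : v ∈ tQ Φ X E.θ) {r : ι} (hr : ip Φ r E.θ = 1) :
    cf T (ρ (p * (X d w * v * (X d w)⁻¹) * p⁻¹)) r =
      cf T (tx E P T d w * ρ (p * v * p⁻¹) * (tx E P T d w)⁻¹) r := by
  have B := h.amb
  have fQ : ∀ {v : G}, v ∈ tQ Φ X E.θ → p * v * p⁻¹ ∈ tQ Φ X E.θ := fun hv =>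
    (mem_normalizer_iff.1 hp.nQ _).1 hv
  have hα : xl P X E.α 1 ∈ tQ Φ X E.θ := mem_UUx X (vec_mem E.ip_αθ) _
  have yY : X d w ∈ tY Φ X E.θ := mem_UUx X d1.ge w
  have yN := h.q2b_N yY
  have y'N := h.q2b_N ((mem_normalizer_iff.1 hp.nY _).1 yY)
  have tY' : tx E P T d w ∈ Y T E.θ := h.map d w ▸ h.map_mem_UU (fun r k => k.trans_eq (ip_γ_long E.γ_θ r).symm) yY
  obtain ⟨w₀, hw, g, hg, e⟩ := B.a2_split
    (h.map_mem_UU cl_R2.gam (hp.nY2 (X d w) (mem_UUx X (by exact ⟨d1.ge, d2.ge⟩) w)))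
  rw [h.mul _ y'N _ (inv_mem yN), h.inv yN, h.map, mul_inv_eq_iff_eq_mul] at e
  have fix : ∀ {v : G}, v ∈ tQ Φ X E.θ → ∀ {r : ι}, ip Φ r E.θ = 1 → cf T (ρ (p * (X d w * v * (X d w)⁻¹) * p⁻¹)) r =
      cf T (g * (tx E P T d w * ρ (p * v * p⁻¹) * (tx E P T d w)⁻¹) * g⁻¹) r := fun {v} hv {r} hr => by
    rw [← B.a2_cf_conj hw (B.vec_conj (B.a2_R_le_Y hg) (B.vec_conj tY' (h.q2b_Q (fQ hv)))) hr,
      show p * (X d w * v * (X d w)⁻¹) * p⁻¹ = p * X d w * p⁻¹ * (p * v * p⁻¹) * (p * X d w * p⁻¹)⁻¹ by group,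
      h.conj y'N (h.q2b_N (fQ hv)), e]
    congr 1
    group
  have u0 := h.q2b_Q (fQ hα)
  have γ1 := (ip_γ_long E.γ_θ d).trans d1
  obtain ⟨a1, a2⟩ := q2b_x B γ1 ((ip_γ_long E.γ_β d).trans d2) (P.τ w) u0 h0
  obtain ⟨a3, a4⟩ := q2b_x B d1 d2 w (B.vec_conj (T.x_mem_UU γ1.ge _) u0) a2
  rw [a1, h.q2b_α1 hq hp] at a3
  have e1 : ∀ u, T.x d w * (T.x (E.γ d) (P.τ w) * u * (T.x (E.γ d) (P.τ w))⁻¹) * (T.x d w)⁻¹ =
      tx E P T d w * u * (tx E P T d w)⁻¹ := fun u => by rw [tx]; group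
  rw [e1] at a3 a4
  have g1 : g = 1 := by
    have := B.mul_inv_mem a2_lay hg (one_mem _) fun m hm _ => by
      obtain ⟨k, hk, k1, k0⟩ := a2_add hm
      have e2 := fix hα k1
      have d3 := a2_ipα E d
      rw [show X d w * xl P X E.α 1 = xl P X E.α 1 * X d w from h.rel.com_l E.γ_α (by omega) _ _,
        mul_inv_cancel_right, h0 k k1 k0,
        (B.a2_act hg (B.vec_conj tY' u0)).2 m hm k hk, a3, a4 k k1 k0, zero_add, mul_one] at e2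
      rw [← e2, B.cf_one]
    rwa [T.UU_empty, mem_bot, inv_one, mul_one] at this
  rw [fix hv hr, g1, one_mul, inv_one, mul_one]

theorem q2b_zero (hq : Nat.card F = 2) (hp : Sw2 E P X t p)
    (h0 : ∀ k, ip Φ k E.θ = 1 → ip Φ k E.β = 0 → cf T (ρ (p * xl P X E.α 1 * p⁻¹)) k = 0) {d : ι}
    (d1 : ip Φ d E.θ = 0) (d2 : ip Φ d E.β = 0) {r r' : ι} (lr : E.γ r = r) (r1 : ip Φ r E.θ = 1)
    (hr : 0 ≤ ip Φ d r) (r1' : ip Φ r' E.θ = 1) (hr' : ip Φ d r' = -1) :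
    cf T (ρ (p * xl P X r 1 * p⁻¹)) r' = 0 := by
  have hx : xl P X r 1 ∈ tQ Φ X E.θ := mem_UUx X (vec_mem r1) _
  have γ1 := (ip_γ_long E.γ_θ d).trans d1
  obtain ⟨k, hk⟩ := E.exists_add (a := r') (b := d) (by rw [ip_comm, hr'])
  have k1 : ip Φ k E.θ = 1 := by rw [hk.ip_left, r1', d1, add_zero]
  refine h.toTw.cf_zero_of_fix h.amb.lay_Q (vec_stab d1).1 (vec_stab d1).2 (vec_stab γ1).1 (vec_stab γ1).2
    (h.q2b_Q ((mem_normalizer_iff.1 hp.nQ _).1 hx)) hk (vec_ne k1) fun w => ?_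
  rw [← h.q2b_step2 hq hp h0 d1 d2 w hx k1, xl, h.rel.com_l lr hr, mul_inv_cancel_right]

theorem q2b_long (hq : Nat.card F = 2) (hp : Sw2 E P X t p)
    (h0 : ∀ k, ip Φ k E.θ = 1 → ip Φ k E.β = 0 → cf T (ρ (p * xl P X E.α 1 * p⁻¹)) k = 0) {r : ι}
    (lr : E.γ r = r) (hr : ip Φ r E.θ = 1) : p * xl P X r 1 * p⁻¹ * (xl P X r 1)⁻¹ ∈ tZ X E.θ := by
  have B := h.amb
  have xQ : ∀ {r : ι}, ip Φ r E.θ = 1 → ∀ c, T.x r c ∈ Q T E.θ := fun hr c => T.x_mem_UU (vec_mem hr) c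
  have lQ : ∀ {r : ι}, ip Φ r E.θ = 1 → xl P X r 1 ∈ tQ Φ X E.θ := fun hr => mem_UUx X (vec_mem hr) _
  have fQ : ∀ {v : G}, v ∈ tQ Φ X E.θ → p * v * p⁻¹ ∈ tQ Φ X E.θ := fun hv =>
    (mem_normalizer_iff.1 hp.nQ _).1 hv
  have pα := E.pos_of_θ E.ip_αθ.ge
  have ne : E.α ≠ E.β := fun e => by
    have := E.ip_αβ
    rw [e, E.ip_self] at this
    omega
  have uα := fQ (lQ E.ip_αθ)
  have hα : ρ (p * xl P X E.α 1 * p⁻¹) * (T.x E.α 1)⁻¹ ∈ T.X E.θ := by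
    obtain ⟨ε, hε⟩ : ∃ ε, ε = cf T (ρ (p * xl P X E.α 1 * p⁻¹)) E.β := ⟨_, rfl⟩
    have z := B.vec_mem_Z (h.q2b_Q uα) (mul_mem (xQ E.ip_αθ 1) (xQ E.ip_βθ ε)) fun r hr => by
      rw [B.vec_mul (xQ E.ip_αθ 1) (xQ E.ip_βθ ε) hr]
      have n1 : ip Φ r E.β = 0 ∨ ip Φ r E.β = 1 → r ≠ E.α ∧ r ≠ E.β := fun e =>
        ⟨fun e' => by rw [e', E.ip_αβ] at e; omega, fun e' => by rw [e', E.ip_self] at e; omega⟩
      rcases a2_cases hr with rfl | rfl | e | e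
      · rw [B.cf_x_ne pα ne.symm, B.cf_x_self E.pos_β, zero_add, hε]
      · rw [h.q2b_α1 hq hp, B.cf_x_self pα, B.cf_x_ne E.pos_β ne, add_zero]
      · rw [h0 r hr e, B.cf_x_ne pα (n1 (Or.inl e)).1, B.cf_x_ne E.pos_β (n1 (Or.inl e)).2, add_zero]
      · obtain ⟨d, s1, s2, s3⟩ := E.rf1 r hr e
        have := a2_ipα E d
        rw [h.q2b_zero hq hp h0 s1 s2 E.γ_α E.ip_αθ (by omega) hr s3, B.cf_x_ne pα (n1 (Or.inr e)).1,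
          B.cf_x_ne E.pos_β (n1 (Or.inr e)).2, add_zero]
    obtain rfl : ε = 0 := q2b_eps B (by
      rw [← h.mul _ (h.q2b_N uα) _ (h.q2b_N uα), conj_mul, h.rel.xl_sq, mul_one, mul_inv_cancel, h.one]) z
    rwa [T.x_zero, mul_one] at z
  by_cases e1 : r = E.β
  · rw [e1, hp.pb, mul_inv_cancel]
    exact one_mem _
  have hu := fQ (lQ hr)
  rw [h.q2b_congr hu (lQ hr), h.q2b_xl lr]
  by_cases e2 : r = E.α
  · exact e2 ▸ hα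
  have rβ : ip Φ r E.β = 0 ∨ ip Φ r E.β = 1 := ((a2_cases hr).resolve_left e1).resolve_left e2
  have pr := E.pos_of_θ hr.ge
  have hu' := h.q2b_Q hu
  have z : ∀ r', ip Φ r' E.θ = 1 → r' ≠ r → cf T (ρ (p * xl P X r 1 * p⁻¹)) r' = 0 := fun r' hr' n => by
    by_cases e1' : r' = E.β
    · have b1 := h.q2b_bf hq hp (lQ E.ip_αθ) (lQ hr)
      have b2 := B.bf_mul_left (B.Z_le_Q hα) (xQ E.ip_αθ 1) hu'
      rw [inv_mul_cancel_right, b1, h.q2b_xl E.γ_α, h.q2b_xl lr, B.vec_bf_zero (mul_inv_eq_iff_eq_mul.1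
        (B.vec_cZ (B.vec_Q_le_Y hu') hα)).symm, zero_add, B.bf_comm (xQ E.ip_αθ 1) hu',
        B.bf_comm (xQ E.ip_αθ 1) (xQ hr 1), B.bf_x (b := E.α) E.hβ.symm hu',
        B.bf_x (b := E.α) E.hβ.symm (xQ hr 1), one_mul, one_mul, B.cf_x_ne pr (Ne.symm e1)] at b2
      rw [e1', ← b2]
    by_cases e2' : r' = E.α
    · rw [e2', h.q2b_α hq hp (lQ hr), h.q2b_xl lr, B.cf_x_ne pr (Ne.symm e2)]
    obtain ⟨d, s1, s2, s3, s4⟩ := E.rf2 r r' hr hr' rβ (((a2_cases hr').resolve_left e1').resolve_left e2') n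
    exact h.q2b_zero hq hp h0 s1 s2 lr hr s3 hr' s4
  refine B.vec_mem_Z hu' (xQ hr 1) fun r' hr' => ?_
  by_cases n : r' = r
  swap
  · rw [z r' hr' n, B.cf_x_ne pr n]
  obtain ⟨c, hc⟩ := (P.fix _).1 ((h.q2b_sym hu hr).symm.trans (by rw [lr]))
  rw [n, B.cf_x_self pr, hc, a2_one hq (l := c) fun e0 => ?_, map_one]
  have m := h.mem_UX_of_U cl_Z (Q_le_U X hu) ((B.mem_Z_iff hu').2 fun k hk => by
    by_cases n' : k = r
    · rw [n', hc, e0, map_zero]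
    · exact z k hk n')
  obtain ⟨c', e⟩ := (h.rel.mem_tZ E.γ_θ).1 m
  rw [← h.q2b_pz hq hp.pz (q2b_Z (P := P) _ c'), mul_left_inj, mul_right_inj] at e
  exact vec_ne hr (h.xl_inj lr E.γ_θ one_ne_zero e).1

end Sys

theorem Sit.q2b_step1 (h : Sit E P T s X ρ t) (hq : Nat.card F = 2) {p : G} (hp : Sw2 E P X t p) :
    ∃ p', Sw2 E P X t p' ∧ ∀ k, ip Φ k E.θ = 1 → ip Φ k E.β = 0 →
      cf T (ρ (p' * xl P X E.α 1 * p'⁻¹)) k = 0 := by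
  have B := h.amb
  have hv := (mem_normalizer_iff.1 hp.nQ _).1 (q2b_mem (P := P) (vec_mem E.ip_αθ) 1)
  have : ∀ m, ∃ k, m ∈ a2R E → RAdd Φ E.α m k := fun m => by
    by_cases e : m ∈ a2R E
    · exact (a2_add e).imp fun _ h _ => h.1
    · exact ⟨m, fun h => absurd h e⟩
  choose σ hσ using this
  obtain ⟨a, ha, ea⟩ := B.gr_exists a2_lay (subset_refl (a2R E)) fun m => cf T (ρ (p * xl P X E.α 1 * p⁻¹)) (σ m)
  replace ea := fun m hm => (ea m (Set.notMem_empty _)).1 hm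
  have sa : s * a * s⁻¹ * a⁻¹ ∈ T.UU ∅ := B.mul_inv_mem a2_lay (h.toTw.std.conj_mem q2b_cl.gam ha) ha fun m hm _ => by
    have hm' := q2b_cl.gam m hm
    have e1 := B.cf_std a2_lay h.toTw.std (q2b_iff q2b_cl.gam) (fun _ => Iff.rfl) ha (Set.notMem_empty (E.γ m))
    have e2 := E.γa _ _ _ (hσ _ hm')
    rw [E.γ2, E.γ_α] at e2
    rw [E.γ2, one_mul, ea _ hm', ← h.q2b_sym hv (by rw [(hσ _ hm').ip_left, E.ip_αθ, hm'.1, add_zero]),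
      e2.unique' (hσ m hm)] at e1
    rw [e1, ea m hm]
  rw [T.UU_empty, mem_bot, mul_inv_eq_one, mul_inv_eq_iff_eq_mul] at sa
  obtain ⟨g, hg, rfl⟩ := h.exists_lift ((h.toTw.fixU q2b_cl).le ⟨ha, mem_centralizer_singleton_iff.2 sa.symm⟩)
  have gR : g ∈ tR2 E X := UUx_mono X (fun r (hr : r ∈ a2R E) => by
    exact ⟨hr.1.ge, by rw [hr.2]; omega, by rw [hr.1, hr.2]; omega⟩) hg
  have gY : g ∈ tY Φ X E.θ := UUx_mono X (fun _ hr => hr.1.ge) hg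
  have gY' : g ∈ tY Φ X E.β := UUx_mono X (fun r (hr : r ∈ a2R E) => show 0 ≤ ip Φ r E.β by rw [hr.2]; omega) hg
  have e : ∀ x, g * p * x * (g * p)⁻¹ = g * (p * x * p⁻¹) * g⁻¹ := fun x => by group
  have gz : xl P X E.θ 1 * g = g * xl P X E.θ 1 := h.rel.Y_le_cent E.γ_θ gY _ (q2b_Z _ _)
  have gb : xl P X E.β 1 * g = g * xl P X E.β 1 := h.rel.Y_le_cent E.γ_β gY' _ (q2b_Z _ _)
  refine ⟨g * p, ⟨?_, ?_, ?_, mul_mem (le_normalizer gY) hp.nY, mul_mem (h.rel.Y_norm_Q h.tr E.γ_θ gY) hp.nQ,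
    fun y hy => ?_⟩, fun k k1 k0 => ?_⟩
  · rw [e, hp.pt, ← mul_assoc, h.comL (UU_le_tL X _ hg), mul_assoc t, ← gz, ← mul_assoc, mul_inv_cancel_right]
  · rw [e, hp.pz, ← gz, mul_inv_cancel_right]
  · rw [e, hp.pb, ← gb, mul_inv_cancel_right]
  · convert mul_mem (mul_mem gR (hp.nY2 y hy))
      ((mem_normalizer_iff.1 (h.rel.Y2_norm_R2 h.tr hy) _).1 (inv_mem gR)) using 1
    group
  · obtain ⟨m, hm, hk⟩ := a2_sub k1 k0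
    rw [e, h.conj (h.q2b_N hg) (h.q2b_N hv), (B.a2_act ha (h.q2b_Q hv)).2 m hm k hk, ea m hm,
      (hσ m hm).unique' hk, h.q2b_α1 hq hp, mul_one, CharTwo.add_self_eq_zero]

theorem Sit.tv_of_sw2 (h : Sit E P T s X ρ t) (hq : Nat.card F = 2) {p : G} (hp : Sw2 E P X t p) :
    ∃ k, Tv E P X t k := by
  obtain ⟨p, hp, h0⟩ := h.q2b_step1 hq hp
  have R := h.rel
  have fQ : ∀ {v : G}, v ∈ tQ Φ X E.θ → p * v * p⁻¹ ∈ tQ Φ X E.θ := fun hv =>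
    (mem_normalizer_iff.1 hp.nQ _).1 hv
  have cz : ∀ {y z : G}, y ∈ tY Φ X E.θ → z ∈ tZ X E.θ → y * z * y⁻¹ = z := fun hy hz =>
    mul_inv_eq_iff_eq_mul.2 (R.Y_le_cent E.γ_θ hy _ hz).symm
  have cz' : ∀ {y z : G}, y ∈ tY Φ X E.θ → z ∈ tZ X E.θ → y * z * y⁻¹ ∈ tZ X E.θ := fun hy hz => by
    rwa [cz hy hz]
  let M : Subgroup G :=
    { carrier := {v | v ∈ tQ Φ X E.θ ∧ p * v * p⁻¹ * v⁻¹ ∈ tZ X E.θ}
      one_mem' := ⟨one_mem _, by simp⟩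
      mul_mem' := fun {a b} ha hb => ⟨mul_mem ha.1 hb.1, by
        convert mul_mem ha.2 (cz' (Q_le_Y X _ ha.1) hb.2) using 1
        group⟩
      inv_mem' := fun {a} ha => ⟨inv_mem ha.1, by
        convert inv_mem (cz' (inv_mem (Q_le_Y X _ ha.1)) ha.2) using 1
        group⟩ }
  have lng : ∀ r, E.γ r = r → 1 ≤ ip Φ r E.θ → ∀ c, xl P X r c ∈ M := fun r lr hr c => by
    refine ⟨mem_UUx X hr _, ?_⟩
    by_cases c0 : c = 0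
    · simp [c0, R.xl_zero]
    rw [a2_one hq c0]
    by_cases e : r ∈ ({E.θ} : Set ι)
    · rw [Set.mem_singleton_iff.1 e, hp.pz, mul_inv_cancel]
      exact one_mem _
    · exact h.q2b_long hq hp h0 lr (vec_one hr e)
  have cj : ∀ d, ip Φ d E.θ = 0 → ip Φ d E.β = 0 → ∀ w, ∀ v ∈ M, X d w * v * (X d w)⁻¹ ∈ M := by
    intro d d1 d2 w v hv
    have yY : X d w ∈ tY Φ X E.θ := mem_UUx X d1.ge w
    have m := fun v => (mem_normalizer_iff.1 (R.Y_norm_Q h.tr E.γ_θ yY) v).1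
    have z := (h.q2b_congr (fQ (m v hv.1)) (m _ (fQ hv.1))).2 (h.amb.vec_mem_Z (h.q2b_Q (fQ (m v hv.1)))
      (h.q2b_Q (m _ (fQ hv.1))) fun r hr => by
        rw [h.q2b_step2 hq hp h0 d1 d2 w hv.1 hr, h.conj (h.q2b_N yY) (h.q2b_N (fQ hv.1)), h.map])
    refine ⟨m v hv.1, ?_⟩
    convert mul_mem z (cz' yY hv.2) using 1
    group
  have le : tQ Φ X E.θ ≤ M := (closure_le _).2 <| by
    rintro _ ⟨a, ha, v, rfl⟩
    by_cases la : E.γ a = a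
    · rw [R.lng la]
      exact lng a la ha _
    have a1 := vec_one ha fun e => la (by rw [Set.mem_singleton_iff.1 e, E.γ_θ])
    obtain ⟨r, d, lr, hr, d1, d2⟩ := h.tr.lsV a la a1
    obtain ⟨b, k, tp⟩ := exists_tup lr (fun e => la (long_add hr lr e)) (E.radd_ip hr).1
    obtain rfl := tp.hb.unique' hr
    have r1 := hr.ip_left E.θ
    have k1 := tp.hk.ip_left E.θ
    rw [ip_γ_long E.γ_θ] at k1
    have m := cj d d1 d2 v _ (lng r lr (by omega) 1)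
    rw [R.ls _ _ _ _ tp, map_one, one_mul] at m
    exact (M.mul_mem_cancel_left (lng r lr (by omega) 1)).1
      ((M.mul_mem_cancel_right (lng k tp.lk (by omega) _)).1 m)
  refine ⟨p, hp.nY, fun c => mul_inv_eq_iff_eq_mul.1 (h.q2b_pz hq hp.pz (q2b_Z _ _)), fun x hx => ?_,
    1, one_ne_zero, hp.pt⟩
  obtain ⟨c, e⟩ := (R.mem_tZ E.γ_θ).1 (le hx).2
  exact ⟨c, by rw [mul_inv_eq_iff_eq_mul.1 e, ← mul_inv_eq_iff_eq_mul.1 (cz (Q_le_Y X _ hx) (q2b_Z (P := P) _ c))]⟩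

end CfsgLib.SLT
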