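import Mathlib
import Cfsg.Agent.Lib.SLT.Q2A
import Cfsg.Agent.Lib.SLT.Q2B
import Cfsg.Agent.Lib.SLT.Cm2
import Cfsg.Agent.Lib.SLT.LR2
import Cfsg.Agent.Lib.HX.Hat

/-!
# The hats of the subsystem of type `A₂`
-/

set_option autoImplicit false
set_option linter.unusedSectionVars false

namespace CfsgLib.SLT

open CfsgLib.RGD CfsgLib.Stein CfsgLib.SLE Subgroup
open scoped commutatorElement Pointwise

universe u

variable {ι κ : Type} [Fintype κ] [DecidableEq κ] [Finite ι] {Φ : RootSys ι κ} {E : ER Φ}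
  {F K : Type} [Field F] [Finite F] [CharP F 2] [Field K] [Finite K] [CharP K 2] {P : QE F K}
  {G : Type u} [Group G] [Finite G] {A : Type} [Group A] [Finite A] {T : StSys Φ K A} {s : A}
  {X : ι → K → G} {ρ : G → A} {t : G}

theorem Sit.hats (h : Sit E P T s X ρ t) (hf : IsConj t (t * xl P X E.θ 1)) :
    ∃ y c, HX.Hats (tL X) t (a6 E P X) y c := by
  obtain ⟨g, hg⟩ := h.exists_sw hf
  obtain ⟨V, _, _, π, f, hl⟩ := h.lr
  obtain ⟨k, k1, k2, k3, c, hc, k4⟩ : ∃ k ∈ normalizer (tY Φ X E.θ : Set G),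
      (∀ c, k * xl P X E.θ c = xl P X E.θ c * k) ∧
      (∀ x ∈ tQ Φ X E.θ, ∃ c, k * x * k⁻¹ = x * xl P X E.θ c) ∧
      ∃ c, c ≠ 0 ∧ k * t * k⁻¹ = t * xl P X E.θ c := by
    rcases (show 2 ≤ Nat.card F from Finite.one_lt_card).eq_or_lt with hq | hq
    · obtain ⟨p, hp⟩ := h.sw2_of_sw hq.symm hg
      obtain ⟨k, hk⟩ := h.tv_of_sw2 hq.symm hp
      exact ⟨k, hk.nY, hk.cz, hk.cq, hk.pt⟩
    · exact hl.exists_triv hq hg.pt hg.nY hg.nQ (h.rel.tZ_eq E.γ_θ ▸ hg.nZ)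
  obtain ⟨p, p1, p2⟩ := hl.exists_cent k1 k2 k3 k4
  have D := h.a2d
  have e1 : HX.Yk (tL X) (a6 E P X) 1 = tYc X E.θ := h.Yk_eq 1
  have e2 : HX.Yk (tL X) (a6 E P X) 2 = tYc X E.β := h.Yk_eq 2
  obtain ⟨p, p1, p2⟩ := a2d_exists_cY D (Q_le_Y X _) ((R_le_U X).trans (U_le_Y X)) (UU_le_tL X _)
    (fun y hy => by
      rw [e1] at hy
      obtain ⟨y', h1, z, h2, h3, e⟩ := h.cent_x E.γ_θ one_ne_zero hy.1
        (hy.2 _ ((h.rel.mem_tZ E.γ_θ).2 ⟨1, rfl⟩)).symm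
      exact ⟨y', h1, z, h2, h3, h.odd z h2 h3, e⟩) p1 hc p2
  have h2 := D.two_of p1 hc p2
  have hp := D.exists_mv p1 hc p2
  obtain ⟨W, hW⟩ := D.exists_hw h2 hp fun _ _ _ m1 m2 => h.com2 h2 (e1 ▸ hp) (e1 ▸ m1) (e2 ▸ m2)
  exact D.hats h2 (D.exists_invol h2 hp) hW

end CfsgLib.SLT
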