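import Mathlib
import Cfsg.Agent.Lib.SLT.HatL
import Cfsg.Agent.Lib.SLE.NH

/-!
# The group generated by the hats; odd subgroups normalised by `t` and `U`
-/

set_option autoImplicit false
set_option linter.unusedSectionVars false

namespace CfsgLib.SLT

open CfsgLib.RGD CfsgLib.Stein CfsgLib.SLE Subgroup
open scoped commutatorElement Pointwise

universe u

variable {ι κ : Type} [Fintype κ] [DecidableEq κ] [Finite ι] {Φ : RootSys ι κ} {E : ER Φ}
  {F K : Type} [Field F] [Finite F] [CharP F 2] [Field K] [Finite K] [CharP K 2] {P : QE F K}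
  {G : Type u} [Group G] [Finite G] {A : Type} [Group A] [Finite A] {T : StSys Φ K A} {s : A}
  {X : ι → K → G} {ρ : G → A} {t : G}

open CfsgLib.UFP

variable {y : ι → F → G} {c : F}

/-- a four-group of long root elements centralises the odd subgroups which it normalises -/
theorem Sys.cent_of_odd (h : Sys E P T s X ρ) {r r' : ι} (hr : E.γ r = r) (hr' : E.γ r' = r')
    (h0 : ip Φ r r' = 1) {p : F} (hp : p ≠ 0) {V : Subgroup G} (hV : Odd (Nat.card V))
    (h1 : V ≤ tN X) (h2 : xl P X r p ∈ normalizer (V : Set G))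
    (h3 : xl P X r' 1 ∈ normalizer (V : Set G)) : V ≤ centralizer {xl P X r p} := by
  obtain ⟨b, hb⟩ := E.exists_sub h0
  have bl : E.γ b = b := by
    have := E.γa _ _ _ hb
    rw [hr, hr'] at this
    exact this.unique hb
  have key : ∀ v ∈ V, ∀ x ∈ normalizer (V : Set G), ∀ g e, E.γ e = e →
      g⁻¹ * (v * x * v⁻¹ * x⁻¹) * g ∈ tQ Φ X e → x * v = v * x := fun v hv x hx g e he hq => by
    have e1 : v * x * v⁻¹ * x⁻¹ ∈ V := by
      have := V.mul_mem hv (conj_mem hx (V.inv_mem hv))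
      rwa [← mul_assoc, ← mul_assoc] at this
    have e2 := eq_one_of_odd (h.pg_Q he) hq (odd_orderOf hV e1) (by
      rw [show g⁻¹ * (v * x * v⁻¹ * x⁻¹) * g = g⁻¹ * (v * x * v⁻¹ * x⁻¹) * g⁻¹⁻¹ by group,
        conj_pow, pow_orderOf_eq_one]; group)
    have e3 : v * x * v⁻¹ * x⁻¹ = 1 := by simpa [mul_eq_one_iff_eq_inv] using e2
    rw [mul_inv_eq_one, mul_inv_eq_iff_eq_mul] at e3
    exact e3.symm
  have hne : xl P X r p * xl P X r' 1 ≠ 1 := fun e => by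
    rw [mul_eq_one_iff_eq_inv, h.rel.xl_inv] at e
    have := (h.xl_inj hr hr' hp e).1
    rw [this, E.ip_self] at h0; omega
  refine le_of_four hV (h.rel.xl_sq r p) (h.rel.xl_sq r' 1) (h.rel.com_l hr' (by omega) _ _)
    (fun e => hp ((h.xl_eq_one hr).1 e)) (fun e => one_ne_zero ((h.xl_eq_one hr').1 e)) hne h2 h3
    inf_le_right ?_ ?_
  · rintro v ⟨hv, hv'⟩
    have hq := (h.norm_of_cent_x (h1 hv) hr' one_ne_zero (mem_cent1.1 hv').symm).2.1
    have hx : xl P X r p ∈ tQ Φ X r' := mem_UUx X (show 1 ≤ ip Φ r r' by omega) _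
    refine mem_cent1.2 (key v hv _ h2 1 r' hr' ?_)
    simpa using (tQ Φ X r').mul_mem (conj_mem hq hx) ((tQ Φ X r').inv_mem hx)
  · rintro v ⟨hv, hv'⟩
    have e := h.rel.conj_ll bl hr hb.symm p⁻¹ p
    rw [inv_mul_cancel₀ hp] at e
    have hv2 := mem_cent1.1 hv'
    have hg : xl P X b p⁻¹ ∈ tN X := le_normalizer (mem_tL X _ _)
    have h5 : xl P X b p⁻¹ * xl P X r' 1 = xl P X r' 1 * xl P X b p⁻¹ :=
      h.rel.com_l hr' (by have := (E.radd_ip hb).2.2; omega) _ _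
    generalize xl P X b p⁻¹ = g at e hg h5
    have hc' : g⁻¹ * v * g * xl P X r p = xl P X r p * (g⁻¹ * v * g) := by
      rw [← e] at hv2
      calc _ = g⁻¹ * (v * (g * xl P X r p * g⁻¹)) * g := by group
        _ = _ := by rw [← hv2]; group
    have hq := (h.norm_of_cent_x (mul_mem (mul_mem (inv_mem hg) (h1 hv)) hg) hr hp hc').2.1
    have hx : xl P X r' 1 ∈ tQ Φ X r := mem_UUx X (show 1 ≤ ip Φ r' r by rw [ip_comm]; omega) _
    have h4 := (tQ Φ X r).mul_mem (conj_mem hq hx) ((tQ Φ X r).inv_mem hx)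
    have h6 := key v hv _ h3 g r hr (by
      have e1 : g⁻¹ * v * g * xl P X r' 1 * (g⁻¹ * v * g)⁻¹ * (xl P X r' 1)⁻¹ =
          g⁻¹ * (v * (g * xl P X r' 1 * g⁻¹) * v⁻¹ * (g * xl P X r' 1 * g⁻¹)⁻¹) * g := by group
      rwa [e1, h5, mul_inv_cancel_right] at h4)
    refine mem_cent1.2 (mul_right_cancel (b := xl P X r' 1) ?_)
    rw [mul_assoc, ← h6, ← mul_assoc, hv2, mul_assoc]

namespace HatL

variable (h : HatL E P T s X ρ t y c)
include h

theorem nh_conj {g : G} (hg : g * t = t * g) {r : ι} (hr : E.γ r = r)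
    (hZ : g ∈ normalizer (tZ X r : Set G)) (p : F) : g * y r p * g⁻¹ ∈ tG0 E X y := by
  by_cases hp : p = 0
  · rw [hp, h.y0 hr, mul_one, mul_inv_cancel]; exact one_mem _
  have hN : g ∈ tN X := h.mem_N hg
  have ht : g * t * g⁻¹ = t := by rw [hg]; group
  obtain ⟨p', hp'⟩ := (h.rel.mem_tZ hr).1 (conj_mem hZ ((h.rel.mem_tZ hr).2 ⟨p, rfl⟩))
  have e : g * y r p * g⁻¹ * t * (g * y r p * g⁻¹)⁻¹ = t * xl P X r p' := by
    calc _ = g * y r p * g⁻¹ * (g * t * g⁻¹) * (g * y r p * g⁻¹)⁻¹ := by rw [ht]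
      _ = g * (y r p * t * (y r p)⁻¹) * g⁻¹ := by group
      _ = g * t * g⁻¹ * (g * xl P X r p * g⁻¹) := by rw [h.yt hr]; group
      _ = _ := by rw [ht, hp']
  have hY : g ∈ normalizer (tYc X r : Set G) :=
    mem_normalizer_fintype fun x hx => ⟨conj_mem hN hx.1, conj_cent hZ hx.2⟩
  rcases h.chr r hr _ (by rw [conj_mul, h.ysq hr, mul_one, mul_inv_cancel])
    (conj_cent hY (h.mv r hr p).cY) p' e with ⟨q, hq⟩ | ⟨q, hq⟩
  · rw [hq]
    exact mul_mem (h.y_mem hr _) (h.L_le (mem_tL X _ _))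
  · exfalso
    rw [hq, mul_assoc t, h.comL (l := xl P X r q) (mem_tL X _ _), ← mul_assoc, mul_assoc (t * t),
      mul_inv_rev, mul_inv_cancel_left, mul_inv_cancel_right, left_eq_mul, ← hp'] at e
    exact hp ((h.xl_eq_one hr).1 (by simpa [mul_eq_one_iff_eq_inv] using e))

theorem cent_le : centralizer {t} ≤ normalizer (tG0 E X y : Set G) := fun g hg => by
  have hN : g ∈ tN X := h.CN hg
  obtain ⟨l, hl, d, σ, hd⟩ := h.dec g hN
  have h1 : l * g * t = t * (l * g) := by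
    rw [mul_assoc, ← mem_cent1.1 hg, ← mul_assoc, h.comL hl, mul_assoc]
  have h0 : St T X ρ (l * g) d σ := ⟨mul_mem (L_le_N hl) hN, hd⟩
  have h2 : tG0 E X y ≤ (tG0 E X y).comap (MulAut.conj (l * g)).toMonoidHom := by
    refine sup_le (fun x hx => h.L_le (conj_mem_L h0.1 hx)) ((closure_le _).2 ?_)
    rintro _ ⟨r, hr, p, rfl⟩
    exact h.nh_conj h1 hr (h.st_norm h0 _) p
  exact (Subgroup.mul_mem_cancel_left _ (le_normalizer (h.L_le hl))).1
    (mem_normalizer_fintype fun x hx => h2 hx)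

theorem nh_mem {r : ι} (hr : E.γ r = r) {z : G} (hz : z ∈ UUx y {r}) : ∃ p, z = y r p := by
  induction hz using closure_induction with
  | mem x hx =>
    obtain ⟨_, rfl, p, rfl⟩ := hx
    exact ⟨p, rfl⟩
  | one => exact ⟨0, (h.y0 hr).symm⟩
  | mul a b _ _ ha hb =>
    obtain ⟨p, rfl⟩ := ha
    obtain ⟨q, rfl⟩ := hb
    exact ⟨p + q, (h.add r hr p q).symm⟩
  | inv a _ ha =>
    obtain ⟨p, rfl⟩ := ha
    exact ⟨p, h.yinv hr p⟩

theorem nh_G0_le : tG0 E X y ≤ tL X ⊔ UUx y {E.θ} := by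
  refine sup_le le_sup_left ((closure_le _).2 ?_)
  rintro _ ⟨r, hr, p, rfl⟩
  have hr' : E.γ r = r := hr
  by_cases hp : p = 0
  · rw [hp, h.y0 hr']; exact one_mem _
  obtain ⟨l, hl, e⟩ := h.exists_conj_x hr' hp
  have e1 := h.eqv l hl _ _ E.γ_θ hr' _ _ e
  have h1 : l ∈ tL X ⊔ UUx y {E.θ} := mem_sup_left hl
  have h2 : y E.θ 1 ∈ tL X ⊔ UUx y {E.θ} := mem_sup_right (mem_UUx y (Set.mem_singleton _) _)
  rw [← e1]
  exact mul_mem (mul_mem h1 h2) (inv_mem h1)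

theorem nh_iso {R : Subgroup G} {G1 : Subgroup G}
    (hR : ∀ m ∈ G1, m ∈ centralizer (R : Set G) → ∃ e ∈ R,
      ∃ k ∈ centralizer (tG0 E X y : Set G), m * t * m⁻¹ = k * (t * e)) :
    Iso G1 t R := fun m hm hc S hS h1 h2 h3 => by
  obtain ⟨e, he, k, hk, h4⟩ := hR m hm hc
  have h5 : k = 1 := eq_one_of_odd' hS h.odd_W (by
    rw [h4] at h3; exact (S.mul_mem_cancel_right (S.mul_mem h2 (h1 he))).1 h3) hk
  rw [h4, h5, one_mul, inv_mul_cancel_left]
  exact he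

theorem nh_hat_long {r : ι} (hr : E.γ r = r) (hr' : Φ.Pos r) (p : F) :
    Hat t (tU Φ X) (xl P X r p) := by
  by_cases hp : p = 0
  · rw [hp, h.rel.xl_zero]
    exact ⟨1, ⊥, by group, one_mem _, bot_le, bot_le, fun V _ _ _ v _ =>
      mem_cent1.2 (by rw [one_mul, mul_one])⟩
  obtain ⟨r', l', p', h0⟩ := h.tr.pos1L r hr hr'
  refine ⟨y r p, closure {xl P X r p, xl P X r' 1}, (h.yt hr p).symm, subset_closure (Or.inl rfl),
    (closure_le _).2 ?_, (closure_le _).2 ?_, fun V hV h1 h2 =>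
      h.cent_of_odd hr l' h0 hp hV (h1.trans h.CN)
        (h2 (subset_closure (Or.inl rfl))) (h2 (subset_closure (Or.inr rfl)))⟩
  · rintro _ (rfl | rfl)
    exacts [mem_UUx X hr' _, mem_UUx X p' _]
  · rintro _ (rfl | rfl)
    · exact mem_cent1.2 (h.cX hr (by rw [E.ip_self]; omega) _ p).symm
    · exact mem_cent1.2 (h.cX hr (by rw [ip_comm]; omega) _ p).symm

theorem nh_hat_moved {a : ι} (ha : E.γ a ≠ a) (ha' : Φ.Pos a) {v : K} {w : G}
    (e : w * t * w⁻¹ = t * X a v)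
    (hw : ∀ d, 0 ≤ ip Φ d a → 0 ≤ ip Φ d (E.γ a) → ∀ u, Commute (X d u) w) :
    Hat t (tU Φ X) (X a v) := by
  obtain ⟨r, r', lr, lr', pr, pr', i1, i2, i3⟩ := h.tr.posS a ha ha'
  refine ⟨w, closure {X a v, xl P X r 1, xl P X r' 1}, e.symm, subset_closure (Or.inl rfl),
    (closure_le _).2 ?_, (closure_le _).2 ?_, fun V hV h1 h2 g hg => ?_⟩
  · rintro _ (rfl | rfl | rfl)
    exacts [mem_UUx X ha' _, mem_UUx X pr _, mem_UUx X pr' _]
  · rintro _ (rfl | rfl | rfl)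
    · exact mem_cent1.2 (hw a (by rw [E.ip_self]; omega) (E.γo a) _).symm
    · exact mem_cent1.2 (hw r (by rw [ip_comm]; omega)
        (by rw [ip_comm, ip_γ_long lr]; omega) _).symm
    · exact mem_cent1.2 (hw r' (by rw [ip_comm]; omega)
        (by rw [ip_comm, ip_γ_long lr']; omega) _).symm
  · have h3 := h.cent_of_odd lr lr' i3 one_ne_zero hV (h1.trans h.CN)
      (h2 (subset_closure (Or.inr (Or.inl rfl)))) (h2 (subset_closure (Or.inr (Or.inr rfl)))) hg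
    have hq := (h.norm_of_cent_x (h.CN (h1 hg)) lr one_ne_zero (mem_cent1.1 h3).symm).2.1
    have hx : X a v ∈ tQ Φ X r := mem_UUx X (show 1 ≤ ip Φ a r by omega) _
    have e1 : g * X a v * g⁻¹ * (X a v)⁻¹ ∈ V := by
      have := V.mul_mem hg (conj_mem (h2 (subset_closure (Or.inl rfl))) (V.inv_mem hg))
      rwa [← mul_assoc, ← mul_assoc] at this
    have e3 := eq_one_of_odd' (h.pg_Q lr) hV
      ((tQ Φ X r).mul_mem (conj_mem hq hx) ((tQ Φ X r).inv_mem hx)) e1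
    rw [mul_inv_eq_one, mul_inv_eq_iff_eq_mul] at e3
    exact mem_cent1.2 e3.symm

/-- **UW** -/
theorem uw (hu : U (normalizer (tG0 E X y : Set G)) t)
    (hW : ∀ a, E.γ a ≠ a → ∀ v, ∃ w, w * t * w⁻¹ = t * X a v ∧
      ∀ d, 0 ≤ ip Φ d a → 0 ≤ ip Φ d (E.γ a) → ∀ u, Commute (X d u) w)
    (hQ : ∀ m ∈ normalizer (tG0 E X y : Set G), m ∈ centralizer (tQ Φ X E.θ : Set G) →
      ∃ e ∈ tQ Φ X E.θ, ∃ k ∈ centralizer (tG0 E X y : Set G), m * t * m⁻¹ = k * (t * e))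
    (hR : ∀ m ∈ normalizer (tG0 E X y : Set G), m ∈ centralizer (tR E X : Set G) →
      ∃ e ∈ tR E X, ∃ k ∈ centralizer (tG0 E X y : Set G), m * t * m⁻¹ = k * (t * e)) :
    UW (normalizer (tG0 E X y : Set G)) t (tU Φ X) := by
  have hRU : ∀ i : Bool, (cond i (tR E X) (tQ Φ X E.θ)) ≤ tU Φ X := by
    rintro (_ | _)
    exacts [Q_le_U X, R_le_U X]
  have UL : tU Φ X ≤ tL X := UU_le_tL X _
  refine UWData.uw (L := tL X) (Zh := UUx y {E.θ})
    (X := {g | ∃ r ∈ {r | Φ.Pos r}, ∃ u, g = X r u})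
    (R := fun i : Bool => cond i (tR E X) (tQ Φ X E.θ))
    (P := fun i : Bool => cond i (UUx X {r | Φ.Pos r ∨ r = Φ.neg E.α}) (tY Φ X E.θ)) ⟨⟨true⟩, ?_,
      fun l hl => mem_cent1.2 (h.comL hl).symm, ?_, ?_, ?_, fun M hM h1 => ?_, hRU,
      fun i => h.pg_U.to_le (hRU i), ?_, fun i hi => h.t_not_mem (UL (hRU i hi)), ?_,
      fun i z hz => ?_, fun z hz => ?_, fin_of (fun M hM h1 z hz => ?_) ?_⟩ hu
  · rintro _ ⟨r, hr, u, rfl⟩
    by_cases lr : E.γ r = r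
    · rw [h.rel.lng lr]
      exact h.nh_hat_long lr hr _
    · obtain ⟨w, e, hw⟩ := hW r lr u
      exact h.nh_hat_moved lr hr e hw
  · rintro (_ | _)
    exacts [U_le_Y X, UUx_mono X fun _ hr => Or.inl hr]
  · rintro (_ | _) <;> exact UU_le_tL X _
  · refine h.L_le_of_simple (fun i u => ?_) fun i u => ?_
    · exact mem_iSup_of_mem true (mem_UUx X (Or.inl (Φ.pos_simple i)) u)
    · by_cases hi : i = E.i₀
      · exact mem_iSup_of_mem true (mem_UUx X (Or.inr (by rw [hi]; rfl)) u)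
      · refine mem_iSup_of_mem false (mem_UUx X ?_ u)
        show 0 ≤ ip Φ _ _
        rw [ip_neg_left, E.top, if_neg hi]; rfl
  · rcases h.le_or_eq (M := M ⊓ tL X) inf_le_right (fun l hl => mem_normalizer_fintype
      fun x hx => ⟨conj_mem (hM hl) hx.1, conj_mem_L (L_le_N hl) hx.2⟩) with h2 | h2
    · exact absurd (h.xl_mem_C E.γ_θ (h2 ⟨h1 _ ⟨E.θ, E.pos_θ, _, rfl⟩, mem_tL X _ _⟩))
        (one_ne_zero (α := F))
    · exact h2.ge.trans inf_le_left
  · rintro (_ | _)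
    · exact h.rel.Y_norm_Q h.tr E.γ_θ
    · refine (closure_le _).2 ?_
      rintro _ ⟨r, hr | rfl, u, rfl⟩
      · exact h.rel.U_norm h.tr (E.idl_diff E.i₀) cl_R.gam (mem_UUx X hr u)
      · refine h.rel.norm_UU h.tr cl_R.gam cl_R.add (fun b hb => ?_) (fun b hb k hk => ⟨?_, ?_⟩) u
        · rw [Φ.neg_neg]; exact hb.2
        · have h1 := radd_ht hk
          have h2 := pos_iff_ht.1 hb.1
          have h3 := ht_ne_zero (Φ := Φ) k
          rw [Φ.ht_neg, ER.α, Φ.ht_simple] at h1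
          exact pos_iff_ht.2 (by omega)
        · rintro (rfl : k = E.α)
          have := (E.radd_ip hk).2.1
          rw [ip_neg_left, E.ip_self] at this
          omega
  · rintro (_ | _)
    exacts [h.nh_iso hQ, h.nh_iso hR]
  · obtain ⟨p, rfl⟩ := h.nh_mem E.γ_θ hz
    exact mem_cent.2 fun e he => h.cY E.γ_θ (U_le_Y X (hRU i he)) p
  · obtain ⟨p, rfl⟩ := h.nh_mem E.γ_θ hz
    rw [h.yt E.γ_θ, inv_mul_cancel_left]
    exact mem_UUx X E.pos_θ _
  · obtain ⟨p, rfl⟩ := h.nh_mem E.γ_θ hz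
    have e := h.ya E.α E.β E.θ E.γ_α E.γ_β E.hβ p 1
    rw [mul_one] at e
    have hx : xl P X E.β 1 ∈ M := h1 (mem_tL X _ _)
    rw [show y E.θ p = (y E.α p)⁻¹ * xl P X E.β 1 * y E.α p * xl P X E.β 1 by
      rw [mul_assoc, mul_assoc, ← mul_assoc (xl P X E.β 1), e, inv_mul_cancel_left]]
    exact M.mul_mem (conj_mem' (hM (h.nh_G0_le (h.y_mem E.γ_α p))) hx) hx
  · exact (centralizer_le h.nh_G0_le).trans (centralizer_le_normalizer _)

end HatL

end CfsgLib.SLT
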