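import Mathlib
import Cfsg.Agent.Lib.SLT.CenA

/-!
# Linearity of the twisted root groups
-/

set_option autoImplicit false
set_option Elab.async false
set_option linter.unusedSectionVars false

namespace CfsgLib.SLT

open CfsgLib.RGD CfsgLib.Stein CfsgLib.SLE Subgroup
open scoped commutatorElement Pointwise

universe u


variable {ι κ : Type} [Fintype κ] [DecidableEq κ] [Finite ι] {Φ : RootSys ι κ} {E : ER Φ}
  {F K : Type} [Field F] [Finite F] [CharP F 2] [Field K] [Finite K] [CharP K 2] {P : QE F K}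
  {G : Type u} [Group G] [Finite G]

theorem tlin_cf {T : StSys Φ K G} (A : Amb E T) {j : ℤ} {w : G} (hw : w ∈ T.UU (SmH Φ j)) {a k : ι}
    (ha : Φ.Pos a) (hk : Φ.ht k = j + Φ.ht a) :
    ∃ p, (∀ c, cf T (w * T.x a c * w⁻¹ * (T.x a c)⁻¹) k = c * p) ∧ ∀ s, RAdd Φ s a k → cf T w s = p := by
  have e := A.cf_comm Φ.ht (fun _ => Φ.ht_pos) (fun _ _ _ => radd_ht) hw ha hk
  by_cases h : ∃ s, RAdd Φ s a k
  · obtain ⟨s, hs⟩ := h
    exact ⟨_, fun c => (e c).1 s hs, fun s' hs' => by rw [hs.symm.unique hs'.symm]⟩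
  · exact ⟨0, fun c => by rw [(e c).2 (not_exists.1 h), mul_zero], fun s hs => absurd ⟨s, hs⟩ h⟩

theorem Tw.tlinf {T : StSys Φ K G} {s : G} (h : Tw E P T s) {r : ι} (hr : Φ.Pos r) (hm : E.γ r ≠ r)
    (m : ℤ) {w : G} (hw : w ∈ T.U) (hc : ∀ v, w * tx E P T r v * w⁻¹ * (tx E P T r v)⁻¹ ∈
      T.UU {k | Φ.Pos k ∧ m ≤ Φ.ht k}) (c : K) :
    w * T.x r c * w⁻¹ * (T.x r c)⁻¹ ∈ T.UU {k | Φ.Pos k ∧ m ≤ Φ.ht k} := by
  have A := h.amb
  have pγ := (E.γ_pos r).2 hr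
  have h1 := Φ.ht_pos hr
  suffices key : ∀ j : ℤ, 1 ≤ j → ∀ w ∈ T.UU (SmH Φ j), (∀ v, w * tx E P T r v * w⁻¹ * (tx E P T r v)⁻¹ ∈
      T.UU (SmH Φ m)) → w * T.x r c * w⁻¹ * (T.x r c)⁻¹ ∈ T.UU (SmH Φ m) from
    key 1 le_rfl w (sm_UU_one (S := T) ▸ hw) hc
  intro j hj w hw hc
  induction hn : (m - j).toNat using Nat.strong_induction_on generalizing j w with | _ n ih => ?_
  have xm : ∀ {a}, Φ.Pos a → Φ.ht a = Φ.ht r → ∀ c, w * T.x a c * w⁻¹ * (T.x a c)⁻¹ ∈ T.UU (SmH Φ (j + Φ.ht r)) :=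
    fun pa e c => A.sm_comm_mem hw (T.x_mem_UU (by exact ⟨pa, e.ge⟩) c)
  rcases le_or_gt m (j + Φ.ht r) with hj' | hj'
  · exact T.UU_mono (fun k hk => by exact ⟨hk.1, hj'.trans hk.2⟩) (xm hr rfl c)
  have z : ∀ k, Φ.ht k = j + Φ.ht r → ∀ s, RAdd Φ s r k ∨ RAdd Φ s (E.γ r) k → cf T w s = 0 := fun k hk s hs => by
    obtain ⟨p, e1, e2⟩ := tlin_cf A hw hr hk
    obtain ⟨p', e3, e4⟩ := tlin_cf A hw pγ (hk.trans (by rw [E.γ_ht]))
    have k1 : k ∉ SmH Φ (j + Φ.ht r + 1) := fun e => by have := e.2; omega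
    have := P.indep (a := p) (b := p') (c := 0) fun v => by
      have y1 := xm pγ (E.γ_ht r) (P.τ v)
      have y2 := A.sm_comm_mem (inv_mem y1) (sm_UU_one (S := T) ▸ T.x_mem_U hr v)
      have y3 := mul_mem y1 (T.UU_mono (sm_lay _).sub y2)
      rw [mul_zero, add_zero, ← e1, ← e3, A.cf_congr (sm_lay _) y1 y3 (by rwa [inv_mul_cancel_left]) k1,
        ← A.cf_mul (sm_lay _) (xm hr rfl v) y3 k1, ← A.sm_cf_zero (hc v) (k := k) fun e => by have := e.2; omega]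
      congr 1
      rw [tx]
      group
    exact hs.elim (fun e => (e2 s e).trans this.1) fun e => (e4 s e).trans this.2.1
  have w1 : w ∈ T.UU {s | s ∈ SmH Φ j ∧ (s ∈ SmH Φ (j + 1) ∨ 0 ≤ ip Φ s r ∧ 0 ≤ ip Φ s (E.γ r))} :=
    A.mem_of_cf (sm_UU_le j hw) fun s ps hs => by
      by_cases e : s ∈ SmH Φ j
      · have e1 : Φ.ht s = j := le_antisymm (not_lt.1 fun e' => hs ⟨e, .inl ⟨ps, e'⟩⟩) e.2
        rcases A.x_cases (Φ.ne_neg_of_pos ps hr) with k1 | ⟨k, k1⟩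
        · rcases A.x_cases (Φ.ne_neg_of_pos ps pγ) with k2 | ⟨k, k2⟩
          · exact absurd ⟨e, .inr ⟨k1, k2⟩⟩ hs
          · exact z k (by rw [radd_ht k2, e1, E.γ_ht]) s (.inr k2)
        · exact z k (by rw [radd_ht k1, e1]) s (.inl k1)
      · exact A.sm_cf_zero hw e
  obtain ⟨a, ha, b, hb, rfl⟩ := T.exists_mul_of_subset_union (Ψ₁ := SmH Φ (j + 1))
    (Ψ₂ := {s | 0 ≤ ip Φ s r ∧ 0 ≤ ip Φ s (E.γ r)}) (E.closed_of (fun _ k => k.1.1) fun a ha b hb k e => by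
      exact ⟨(sm_lay j).sub ((sm_lay j).add a ha.1 b hb.1 k e), .inl ((sm_lay j).add a ha.1 b hb.1 k e)⟩)
    (fun _ k => k.1.1) (fun _ k => k.2) w1
  have cm : ∀ {y}, (∀ s, 0 ≤ ip Φ s r ∧ 0 ≤ ip Φ s (E.γ r) → ∀ c, T.x s c * y = y * T.x s c) →
      a * b * y * (a * b)⁻¹ = a * y * a⁻¹ := fun k => by
    rw [mul_assoc a b, mem_centralizer_iff.1 (mem_cent_UU.2 fun s hs => k s hs.2) b hb]
    group
  rw [cm fun s hs c => A.com hs.1 _ _]
  refine ih _ (by omega) (j + 1) (by omega) a (T.UU_mono Set.inter_subset_right ha) (fun v => ?_) rfl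
  rw [← cm fun s hs c => by rw [tx, ← mul_assoc, A.com hs.1, mul_assoc, A.com hs.2, mul_assoc]]
  exact hc v

variable {A : Type} [Group A] [Finite A] {T : StSys Φ K A} {s : A} {X : ι → K → G} {ρ : G → A}

/-- a long root element of `U` has no component at a moved fundamental root -/
theorem Sys.long_mem (h : Sys E P T s X ρ) {l : G} (hl : l ∈ tL X) {c : F}
    (hU : l * xl P X E.θ c * l⁻¹ ∈ tU Φ X) {i : κ} (hi : E.γ (Φ.simple i) ≠ Φ.simple i) :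
    l * xl P X E.θ c * l⁻¹ ∈ tRj E X i := by
  obtain ⟨u, hu, w, hw, n, -, hn, -, a, ha, ha', u', hu', rfl⟩ := h.bruhat hl
  obtain ⟨d, hd⟩ := h.st_of_H (L_le_N ha) ha'
  have lw := (WT_long hw E.θ).2 E.γ_θ
  have e0 : u' ∈ tU Φ X := UUx_mono X (fun _ k => by exact k.1) hu'
  have e1 : X E.θ (P.ω * P.f c) * u' = u' * X E.θ (P.ω * P.f c) :=
    mem_centralizer_iff.1 (h.rel.Y_le_cent E.γ_θ (U_le_Y X e0)) _ (mem_UUx X (Ψ := {E.θ}) rfl _)
  have e : u * n * a * u' * xl P X E.θ c * (u * n * a * u')⁻¹ =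
      u * X (w E.θ) (d E.θ * (1 : K ≃+* K) (P.ω * P.f c)) * u⁻¹ := by
    rw [← hn, ← h.st_conj hd, mul_assoc _ u', xl, ← e1]
    group
  rw [e] at hU ⊢
  refine UFP.conj_mem (h.rel.U_norm h.tr (idl_diff2 i) (cl_Rj i).gam hu) ?_
  by_cases hp : Φ.Pos (w E.θ)
  · refine mem_UUx X (Set.mem_diff_of_mem hp ?_) _
    rintro (k | k) <;> rw [k] at lw
    exacts [hi lw, hi ((E.γ2 _).symm.trans lw).symm]
  · have k := h.map_mem_UU cl_pos.gam ((mul_mem_cancel_left hu).1 ((mul_mem_cancel_right (inv_mem hu)).1 hU))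
    rw [h.rel.lng lw, h.map_xl lw] at k
    by_contra k1
    refine hp (h.amb.nd.mem_of_x_mem_UU Φ.closed_pos (fun _ k => k) (fun k2 => k1 ?_) k)
    rw [h.rel.lng lw, (map_eq_zero P.f).1 k2, h.rel.xl_zero]
    exact one_mem _

end CfsgLib.SLT
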