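import Mathlib
import Cfsg.Agent.Lib.SLT.NH
import Cfsg.Agent.Lib.SLT.TLin
import Cfsg.Agent.Lib.SLE.NF
import Cfsg.Agent.Lib.SLE.Lbg

/-!
# The field case: the unique fixed point of `t`
-/

set_option autoImplicit false
set_option linter.unusedSectionVars false

namespace CfsgLib.SLT

open CfsgLib.RGD CfsgLib.Stein CfsgLib.SLE Subgroup
open scoped commutatorElement Pointwise

universe u

variable {ι κ : Type} [Fintype κ] [DecidableEq κ] [Finite ι] {Φ : RootSys ι κ} {E : ER Φ}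
  {F K : Type} [Field F] [Finite F] [CharP F 2] [Field K] [Finite K] [CharP K 2] {P : QE F K}
  {G : Type u} [Group G] [Finite G] {A : Type} [Group A] [Finite A] {T : StSys Φ K A} {s : A}
  {X : ι → K → G} {ρ : G → A} {t : G}

open CfsgLib.UFP

variable {y : ι → F → G} {c : F} {T' : StSys Φ K G}

namespace DblF

variable (d : DblF E P T s X ρ t y c T')
include d

theorem X_eq : tx E P T' = X := funext fun a => funext (d.ext a)

theorem cent : centralizer {t} ≤ NL T' := by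
  have := d.toHatL.cent_le
  rwa [← d.eqG] at this

theorem oddC : Odd (Nat.card (CL T')) := by
  have := d.toHatL.odd_W
  rwa [← d.eqG] at this

/-- a conjugate of `t` is not a field automorphism -/
theorem not_fld {g : G} {e : ι → K} (h : StdD T' (g * t * g⁻¹) 1 e P.τ) : False := by
  have B := d.tw.amb
  have h' := d.toSit.cj g
  have D := B.semiD_std h (Or.inl rfl) P.τ_ne h'.t2
  have hM := h'.pf_le h'.cyc D.pf (D.le.trans (inf_le_right.trans h'.CN))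
  have hc := D.card
  rw [P.card, ← pow_mul, mul_comm 2, pow_mul, pow_left_inj₀ (by omega) (by omega) two_ne_zero] at hc
  obtain ⟨l, hl, e1⟩ := h'.eq_cj_U B.pg_U.to_inf_left (D.PM.trans hM) hc.ge
  have h2 := h'.toSys.cj l
  rw [← tL_cj_of_mem (L_le_N hl)] at hM
  generalize g * t * g⁻¹ = t' at *
  generalize cjX l (cjX g X) = X' at *
  have m : ∀ r c, e r * P.τ c = c → T'.x r c ∈ twG T' 1 e P.τ Set.univ := fun r c k =>
    subset_closure ⟨r, trivial, c, .inl ⟨rfl, k, rfl⟩⟩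
  have hW : ∀ w ∈ Φ.W, ∃ n ∈ twG T' 1 e P.τ Set.univ, T'.Acts n w := fun w hw => by
    induction hw using closure_induction with
    | mem _ k =>
      obtain ⟨i, rfl⟩ := k
      obtain ⟨a, a0, ha⟩ := B.sm_fixv h (E.gp (.inl rfl)) P.τ_ne h'.t2 (r := Φ.simple i) rfl
      refine ⟨_, mul_mem (mul_mem (m _ a ha) (m _ _ ?_)) (m _ a ha), T'.acts_n_simple i a0⟩
      rw [CharTwo.neg_eq, map_inv₀, eq_inv_of_mul_eq_one_right (h.1 _), ← mul_inv, ha]
    | one => exact ⟨1, one_mem _, T'.acts_one⟩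
    | mul _ _ _ k h1 h2 =>
      obtain ⟨a, ha, h1⟩ := h1
      obtain ⟨b, hb, h2⟩ := h2
      exact ⟨_, mul_mem ha hb, h1.mul h2 k⟩
    | inv _ k h1 =>
      obtain ⟨a, ha, h1⟩ := h1
      exact ⟨_, inv_mem ha, h1.inv k⟩
  obtain ⟨r₀, hr₀⟩ : ∃ r, E.γ r ≠ r := by
    by_contra! k
    exact d.tr.ne (Equiv.ext k)
  obtain ⟨w₀, hw₀, i, rfl⟩ := exists_simple (E := E) r₀
  rw [Ne, WT_long hw₀] at hr₀
  have le : tU Φ X' ≤ tRj E X' i := by
    rw [← e1, B.fix_le_twG h (Or.inl rfl) P.τ_ne h'.t2, twG, closure_le]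
    rintro _ ⟨r, hr, c, ⟨-, k, rfl⟩ | ⟨k, -⟩⟩
    · obtain ⟨w, hw, rfl⟩ := E.exists_θ r
      obtain ⟨n, hn, ha⟩ := hW w hw
      obtain ⟨a, a0, ha⟩ := ha.exists_conj_x E.θ
      have e2 := ha (a⁻¹ * c)
      rw [mul_inv_cancel_left₀ a0] at e2
      have k1 : T'.x E.θ (a⁻¹ * c) ∈ centralizer {t'} := by
        rw [show T'.x E.θ (a⁻¹ * c) = n⁻¹ * T'.x (w E.θ) c * n by rw [← e2]; group]
        exact mul_mem (mul_mem (inv_mem (D.le hn).2) (D.le (m _ c k)).2) (D.le hn).2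
      obtain ⟨c', e3⟩ := (h2.rel.mem_tZ E.γ_θ).1 (h2.center_U.le (e1 ▸ ⟨⟨T'.x_mem_U E.pos_θ _, k1⟩, fun u hu =>
        (B.Y_le_cent _ (B.U_le_Y hu.1) _ (T'.x_mem_X _ _)).symm⟩ : T'.x E.θ (a⁻¹ * c) ∈ _))
      have k2 : T'.x (w E.θ) c ∈ tU Φ X' := e1 ▸ ⟨T'.x_mem_U hr c, (D.le (m _ c k)).2⟩
      rw [← e2, e3] at k2 ⊢
      exact h2.long_mem (hM hn) k2 hr₀
    · exact absurd rfl k
  have := card_le_of_le le
  rw [h2.card_U, tRj, h2.card_UU (cl_Rj i), pow_le_pow_iff_right₀ Finite.one_lt_card] at this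
  exact this.not_gt (Set.ncard_lt_ncard ⟨Set.diff_subset, fun k => (k (Φ.pos_simple i)).2 (.inl rfl)⟩)

/-- **(U)** -/
theorem u : U (NL T') t := by
  have B := d.tw.amb
  refine ⟨d.t2, d.cent (mem_cent1.2 rfl), fun g0 hg0 => ?_⟩
  have sq : ∀ g : G, g * t * g⁻¹ * (g * t * g⁻¹) = 1 := fun g => (d.toSit.cj g).t2
  obtain ⟨k, hk, R, hP1, hP, hP2, hP3⟩ := exists_conj_pgroup
    (B.pg_U.to_sup_of_normal_left' (pgroup_zpowers_of_sq d.t2)
      (zpowers_le.2 (B.std_norm ⟨_, d.tw.std⟩ fun r => (E.γ_pos r).2)))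
    (sup_le (T'.U_le_grp.trans le_normalizer) (zpowers_le.2 (d.cent (mem_cent1.2 rfl)))) hg0 (sq g0)
  rw [← Subgroup.mul_mem_cancel_left _ hk]
  obtain ⟨g, hg⟩ : ∃ g, g = k * g0 := ⟨_, rfl⟩
  rw [show k * (g0 * t * g0⁻¹) * k⁻¹ = g * t * g⁻¹ by rw [hg]; group] at hP3
  rw [← hg]
  have hU := B.le_norm_U hP (le_sup_left.trans hP2) hP3 (hP1 hP3)
  obtain ⟨π, σ, hπ, hty⟩ := B.aut _ (hP1 hP3)
  by_cases hσ : σ = 1
  · subst hσ
    obtain ⟨R, hR1, hR, hR2⟩ := B.lb hty hπ (sq g)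
    have h1 := (d.toSit.cj g).card_le (two_cj d.two g) hR (hR1.trans inf_le_right)
    have h2 := four_lt (Nat.card (F ≃+* F))
    rw [show (8 : ℕ) = 2 ^ 3 from rfl, ← pow_mul, mul_comm 3, pow_mul, ← card_aut] at h2
    rw [P.card, ← pow_mul, mul_comm, pow_mul, pow_le_pow_iff_left₀ (by omega) (by omega) two_ne_zero,
      pow_add] at hR2
    have h3 : 0 < Nat.card F ^ NP Φ := pow_pos Nat.card_pos _
    nlinarith
  obtain rfl := (P.eq_of_sq (B.sq_of_typ hty hπ (by rw [sq]; exact one_mem _))).resolve_left hσ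
  rcases hπ with rfl | rfl
  · obtain ⟨v, -, u, -, e, dd, hd⟩ := B.exists_conj_std hty (.inl rfl) hσ (sq g) hU
    rw [← e, show v * (g * t * g⁻¹) * v⁻¹ = v * g * t * (v * g)⁻¹ by group] at hd
    exact (d.not_fld hd).elim
  have h2 : g * t * g⁻¹ * t ∈ N0 T' := by
    have := Typ.mul hty (Std.typ ⟨_, d.tw.std⟩) E.γn
    rwa [P.τ_mul, E.γ_mul] at this
  have h3 := R.mul_mem hP3 (hP2 (mem_sup_right (mem_zpowers t)))
  have h4 := B.inf_le_U hP (le_sup_left.trans hP2) ⟨h3, B.mem_grp d.oddC h2 (pg_zpowers hP h3)⟩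
  have e : g * t * g⁻¹ * t * t = g * t * g⁻¹ := by rw [mul_assoc, d.t2, mul_one]
  obtain ⟨v, hv, h5⟩ := (B.semiD_std d.tw.std (Or.inr rfl) hσ d.t2).conj _ h4 (by rw [e, sq])
  rw [e] at h5
  refine (Subgroup.mul_mem_cancel_left _ (inv_mem (le_normalizer (T'.U_le_grp hv)))).1
    (d.cent (mem_cent1.2 ?_))
  calc _ = v⁻¹ * (v * t * v⁻¹) * g := by group
    _ = _ := by rw [← h5]; group

end DblF

end CfsgLib.SLT
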