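import Mathlib
import Cfsg.Agent.Lib.SLE.Pre
import Cfsg.Agent.Lib.SLE.Semi
import Cfsg.Agent.Lib.SLE.Cen
import Cfsg.Agent.Lib.SLE.Lev

/-!
# The centraliser of a twisted root group
-/

set_option autoImplicit false
set_option Elab.async false
set_option linter.unusedSectionVars false

namespace CfsgLib.SLT

open CfsgLib.RGD CfsgLib.Stein CfsgLib.SLE Subgroup
open scoped commutatorElement Pointwise

universe u


variable {ι κ : Type} [Fintype κ] [DecidableEq κ] [Finite ι] {Φ : RootSys ι κ} {E : ER Φ}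
  {K : Type} [Field K] [Finite K] [CharP K 2] {G : Type u} [Group G] [Finite G] {T : StSys Φ K G}

theorem tn_ded {σ χ₁ χ₂ χ₃ : K ≃+* K} (h1 : σ ≠ χ₁) (h2 : σ ≠ χ₂) (h3 : σ ≠ χ₃) {a b c d : K}
    (h : ∀ t, a * σ t = b * χ₁ t + c * χ₂ t + d * χ₃ t) : a = 0 := by
  obtain ⟨x, hx⟩ := DFunLike.ne_iff.1 h1
  obtain ⟨y, hy⟩ := DFunLike.ne_iff.1 h2
  obtain ⟨z, hz⟩ := DFunLike.ne_iff.1 h3
  have e : a * ((σ x - χ₁ x) * (σ y - χ₂ y) * (σ z - χ₃ z)) = 0 := by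
    have e1 := h (x * y * z)
    have e2 := h (y * z)
    have e3 := h (x * z)
    have e4 := h (x * y)
    have e5 := h 1
    simp only [map_mul, map_one] at e1 e2 e3 e4 e5
    linear_combination e1 - χ₁ x * e2 - χ₂ y * e3 - χ₃ z * e4 + χ₁ x * χ₂ y * h z + χ₁ x * χ₃ z * h y +
      χ₂ y * χ₃ z * h x - χ₁ x * χ₂ y * χ₃ z * e5
  simpa [sub_eq_zero, hx, hy, hz] using e

theorem tn_alg {σ τ : K ≃+* K} (hτ : τ ≠ 1) (hτ2 : τ * τ = 1) {b p p' q q' : K}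
    (h : ∀ t, b * (σ t * p + σ (τ t) * p') = t * q + τ t * q') :
    (σ = 1 → q = b * p) ∧ (σ = τ → q' = b * p) ∧ (σ ≠ 1 → σ ≠ τ → b * p = 0) := by
  refine ⟨?_, ?_, fun e1 e2 => tn_ded e1 e2 (χ₃ := σ * τ) (by simpa using hτ) (b := q) (c := q') (d := -(b * p'))
    fun t => by linear_combination (norm := (simp only [RingAut.one_apply, RingAut.mul_apply]; ring1)) h t⟩
  · rintro rfl
    exact sub_eq_zero.1 (tn_ded hτ.symm hτ.symm hτ.symm (b := b * p') (c := -q') (d := 0) fun t => by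
      linear_combination (norm := (simp only [RingAut.one_apply]; ring1)) -h t)
  · rintro rfl
    exact sub_eq_zero.1 (tn_ded hτ hτ hτ (b := b * p') (c := -q) (d := 0) fun t => by
      have e : σ (σ t) = t := DFunLike.congr_fun hτ2 t
      linear_combination (norm := (simp only [RingAut.one_apply, e]; ring1)) -h t)

theorem tn_std (A : Amb E T) {Ψ Ψ' : Set ι} (h : Lay Φ Ψ ∅) (h' : Lay Φ Ψ' ∅) {g : G} {π : Equiv.Perm ι}
    {d : ι → K} {σ : K ≃+* K} (hg : StdD T g π d σ) (h1 : ∀ r ∈ Ψ, π r ∈ Ψ') {u : G} (hu : u ∈ T.UU Ψ) (r : ι) :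
    cf T (g * u * g⁻¹) (π r) = d r * σ (cf T u r) := by
  refine A.eq_of_add (f := fun u => cf T (g * u * g⁻¹) (π r)) (g := fun u => d r * σ (cf T u r))
    (fun u hu v hv => by rw [← conj_mul, A.cf_mul h' (hg.conj_mem h1 hu) (hg.conj_mem h1 hv) id])
    (fun u hu v hv => by rw [A.cf_mul h hu hv id, map_add, mul_add]) (fun s hs c => ?_) hu
  rw [hg.2]
  by_cases e : r = s
  · rw [e, A.cf_x_self (h'.pos _ (h1 s hs)), A.cf_x_self (h.pos s hs)]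
  · rw [A.cf_x_ne (h'.pos _ (h1 s hs)) (π.injective.ne e), A.cf_x_ne (h.pos s hs) e, map_zero, mul_zero]

/-- `U` acts linearly on an abelian ideal -/
theorem tn_lin (A : Amb E T) {Ψ : Set ι} (h : Lay Φ Ψ ∅) (h1 : ∀ a, Φ.Pos a → Stab Φ a Ψ) {u : G} (hu : u ∈ T.U)
    {a : ι} (ha : a ∈ Ψ) : (∀ t, u * T.x a t * u⁻¹ ∈ T.UU Ψ) ∧
      ∀ t k, cf T (u * T.x a t * u⁻¹) k = t * cf T (u * T.x a 1 * u⁻¹) k := by
  refine T.UU_induction_left (p := fun u => (∀ t, u * T.x a t * u⁻¹ ∈ T.UU Ψ) ∧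
    ∀ t k, cf T (u * T.x a t * u⁻¹) k = t * cf T (u * T.x a 1 * u⁻¹) k) ?_ (fun b hb c u _ ih => ?_) hu
  · simp only [one_mul, inv_one, mul_one]
    refine ⟨T.x_mem_UU ha, fun t k => ?_⟩
    by_cases e : k = a
    · rw [e, A.cf_x_self (h.pos a ha), A.cf_x_self (h.pos a ha), mul_one]
    · rw [A.cf_x_ne (h.pos a ha) e, A.cf_x_ne (h.pos a ha) e, mul_zero]
  · have e : ∀ t, T.x b c * u * T.x a t * (T.x b c * u)⁻¹ = T.x b c * (u * T.x a t * u⁻¹) * (T.x b c)⁻¹ :=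
      fun t => by group
    have s0 : Stab Φ b ∅ := ⟨id, fun _ k => k.elim⟩
    simp only [e]
    refine ⟨fun t => A.x_conj_mem (h1 b hb) c (ih.1 t), fun t k => ?_⟩
    by_cases e' : ∃ s, RAdd Φ s b k
    · obtain ⟨s, hs⟩ := e'
      rw [A.cf_conj_add h (h1 b hb) s0 c (ih.1 t) hs id, A.cf_conj_add h (h1 b hb) s0 c (ih.1 1) hs id, ih.2 t,
        ih.2 t]
      ring
    · rw [A.cf_conj_fix h (h1 b hb) s0 c (ih.1 t) (fun s _ k => e' ⟨s, k⟩) id,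
        A.cf_conj_fix h (h1 b hb) s0 c (ih.1 1) (fun s _ k => e' ⟨s, k⟩) id, ih.2 t]

theorem tn_base (A : Amb E T) {τ : K ≃+* K} (hτ : τ ≠ 1) (hτ2 : τ * τ = 1) {m : G} (hm : m ∈ NL T)
    (hc : ∀ v, m * (T.x E.a₀ v * T.x E.b₀ (τ v)) = T.x E.a₀ v * T.x E.b₀ (τ v) * m) (c : K) :
    m * T.x E.a₀ c * m⁻¹ ∈ T.UU {E.a₀, E.b₀} := by
  obtain ⟨Ψ, hΨ⟩ : ∃ Ψ : Set ι, ∀ r, r ∈ Ψ ↔ 2 ≤ ip Φ r E.a₀ + ip Φ r E.b₀ := ⟨{r | _}, fun _ => Iff.rfl⟩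
  have pos : ∀ r ∈ Ψ, Φ.Pos r := fun r k => E.idl_orth.1 r (le_trans one_le_two ((hΨ r).1 k))
  have L : Lay Φ Ψ ∅ := ⟨pos, Set.empty_subset _, fun a ha b hb k e => by
    have := E.ip_cases k E.a₀
    have := E.ip_cases k E.b₀
    have := e.ip_left E.a₀
    have := e.ip_left E.b₀
    have := (hΨ a).1 ha
    have := (hΨ b).1 hb
    have h1 : ip Φ k E.a₀ = 2 := by omega
    have h2 : ip Φ k E.b₀ = 2 := by omega
    rw [← E.eq_of_ip h1.ge, E.ort] at h2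
    omega⟩
  have st : ∀ a, Φ.Pos a → Stab Φ a Ψ := fun a pa => ⟨fun k => Φ.ne_neg_of_pos pa (pos _ k) rfl, fun s hs k e => by
    have := E.pos_ind (P := fun r => 0 ≤ ip Φ r E.a₀ + ip Φ r E.b₀) E.odom (fun i a k _ e ih => by
      have := E.odom i
      rw [e.ip_left, e.ip_left]
      omega) pa
    rw [hΨ, e.ip_left, e.ip_left]
    have := (hΨ s).1 hs
    omega⟩
  have ma : E.a₀ ∈ Ψ := by rw [hΨ, E.ip_self, E.ort]; rfl
  have mb : E.b₀ ∈ Ψ := by rw [hΨ, E.ip_self, ip_comm, E.ort]; rfl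
  have two : ∀ {u}, u ∈ T.U → ∀ t, u * (T.x E.a₀ t * T.x E.b₀ (τ t)) * u⁻¹ ∈ T.UU Ψ ∧
      ∀ k, cf T (u * (T.x E.a₀ t * T.x E.b₀ (τ t)) * u⁻¹) k =
        t * cf T (u * T.x E.a₀ 1 * u⁻¹) k + τ t * cf T (u * T.x E.b₀ 1 * u⁻¹) k := fun hu t => by
    have e1 := tn_lin A L st hu ma
    have e2 := tn_lin A L st hu mb
    rw [← conj_mul]
    exact ⟨mul_mem (e1.1 _) (e2.1 _), fun k => by rw [A.cf_mul L (e1.1 _) (e2.1 _) id, e1.2, e2.2]⟩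
  obtain ⟨π, σ, hπ, l, hl, d, hδ⟩ := A.aut m hm
  have p := E.gp hπ
  obtain ⟨u, hu, n, -, w, hw, hn, u', hu', e⟩ := A.nd.exists_bruhat (inv_mem hl)
  obtain ⟨δ, eδ⟩ : ∃ δ, δ = l * m := ⟨_, rfl⟩
  rw [← eδ] at hδ
  have hv : δ⁻¹ * u' * δ ∈ T.U := UFP.conj_mem' (A.std_norm ⟨d, hδ⟩ fun r hr => (p.pos r).2 hr)
    (T.UU_le_U (fun _ h => h.1) hu')
  obtain ⟨v, ev⟩ : ∃ v, v = δ⁻¹ * u' * δ := ⟨_, rfl⟩
  rw [← ev] at hv
  have em : m = u * (n * δ) * v := by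
    calc m = l⁻¹ * δ := by rw [eδ]; group
      _ = _ := by rw [e, ev]; group
  obtain ⟨a, ha1, ha2⟩ := id hn
  have hε := StdD.mul (⟨ha1, ha2⟩ : StdD T n w a 1) hδ p.neg
  generalize (fun r => a (π r) * (1 : K ≃+* K) (d r)) = b at hε
  rw [one_mul] at hε
  have L₁ : Lay Φ {k | Φ.Pos k ∧ (w * π) k ∈ Ψ} ∅ := ⟨fun _ k => k.1, Set.empty_subset _, fun a ha b hb k e =>
    L.add _ ha.2 _ hb.2 ((w * π) k) ((p.add _ _ _ e).apply hw)⟩
  have ez : ∀ t, n * δ * (v * (T.x E.a₀ t * T.x E.b₀ (τ t)) * v⁻¹) * (n * δ)⁻¹ =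
      u⁻¹ * (T.x E.a₀ t * T.x E.b₀ (τ t)) * u⁻¹⁻¹ := fun t => by
    have e1 := mul_inv_eq_iff_eq_mul.2 (hc t)
    generalize T.x E.a₀ t * T.x E.b₀ (τ t) = z at e1
    calc _ = u⁻¹ * (m * z * m⁻¹) * u⁻¹⁻¹ := by rw [em]; group
      _ = _ := by rw [e1]
  have my : ∀ t, v * (T.x E.a₀ t * T.x E.b₀ (τ t)) * v⁻¹ ∈ T.UU {k | Φ.Pos k ∧ (w * π) k ∈ Ψ} := fun t => by
    have k1 := A.nd.mem_UU_inter (A.lay_closed L) pos Φ.closed_pos (fun _ k => k) hw hn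
      (hδ.conj_mem (fun r k => (p.pos r).2 (pos r k)) (two hv t).1) (by
        have := (two (inv_mem hu) t).1
        rw [← ez] at this
        convert this using 1
        group)
    have k2 := (hε.inv fun r => by rw [Equiv.Perm.mul_apply, p.neg, Φ.apply_neg hw]; rfl).conj_mem
      (T' := {k | Φ.Pos k ∧ (w * π) k ∈ Ψ}) (fun r k => ⟨(p.pos _).1 (by simpa using k.2), by simpa using k.1⟩) k1
    convert k2 using 1
    group
  have mx : v * T.x E.a₀ c * v⁻¹ ∈ T.UU {k | Φ.Pos k ∧ (w * π) k ∈ Ψ} :=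
    A.mem_of_cf (T.UU_le_U pos ((tn_lin A L st hv ma).1 c)) fun k _ hk => by
      rw [(tn_lin A L st hv ma).2, Amb.sm_indep hτ (a := cf T _ k) (b := cf T (v * T.x E.b₀ 1 * v⁻¹) k) fun t => by
        rw [← CharTwo.add_eq_zero, ← (two hv t).2, A.cf_eq_zero (A.lay_closed L₁) L₁.pos (my t) hk], mul_zero]
  have R := fun k t => (tn_std A L₁ L hε (fun _ k => k.2) (my t) k).symm
  simp only [ez, (two hv _).2, (two (inv_mem hu) _).2, map_add, map_mul] at R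
  suffices ∃ y ∈ T.UU {E.a₀, E.b₀}, ∀ k, cf T (u⁻¹ * y * u⁻¹⁻¹) ((w * π) k) =
      σ c * (b k * σ (cf T (v * T.x E.a₀ 1 * v⁻¹) k)) by
    obtain ⟨y, hy, ey⟩ := this
    have := A.cf_ext (T.UU_le_U pos (hε.conj_mem (fun _ k => k.2) mx)) (mul_mem (mul_mem (inv_mem hu)
      (T.UU_le_U (by rintro _ (rfl | rfl); exacts [pos _ ma, pos _ mb]) hy)) (inv_mem (inv_mem hu))) fun r _ => by
        obtain ⟨k, rfl⟩ := (w * π).surjective r
        rw [ey, tn_std A L₁ L hε (fun _ k => k.2) mx, (tn_lin A L st hv ma).2, map_mul, mul_left_comm]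
    convert hy
    rw [em]
    calc _ = u * (n * δ * (v * T.x E.a₀ c * v⁻¹) * (n * δ)⁻¹) * u⁻¹ := by group
      _ = _ := by rw [this]; group
  by_cases e1 : σ = 1
  · exact ⟨T.x E.a₀ c, T.x_mem_UU (by simp) c, fun k => by
      rw [(tn_lin A L st (inv_mem hu) ma).2, (tn_alg hτ hτ2 (R k)).1 e1, e1]; rfl⟩
  by_cases e2 : σ = τ
  · exact ⟨T.x E.b₀ (σ c), T.x_mem_UU (by simp) _, fun k => by
      rw [(tn_lin A L st (inv_mem hu) mb).2, (tn_alg hτ hτ2 (R k)).2.1 e2]⟩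
  · exact ⟨1, one_mem _, fun k => by
      rw [mul_one, mul_inv_cancel, A.cf_one, (tn_alg hτ hτ2 (R k)).2.2 e1 e2, mul_zero]⟩

theorem tnorm (A : Amb E T) {τ : K ≃+* K} (hτ : τ ≠ 1) (hτ2 : τ * τ = 1) {r r' : ι} (h0 : ip Φ r r' = 0) {m : G}
    (hm : m ∈ NL T) (hc : ∀ v, m * (T.x r v * T.x r' (τ v)) = T.x r v * T.x r' (τ v) * m) (c : K) :
    m * T.x r c * m⁻¹ ∈ T.UU {r, r'} := by
  obtain ⟨w, hw, rfl, rfl⟩ := E.ptrans (E.ort.trans h0.symm)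
  obtain ⟨n, hn, ex⟩ := exists_exa_of_rel E A.rel hw
  have := ex.conj_mem (T' := {w E.a₀, w E.b₀}) (by rintro _ (rfl | rfl) <;> simp)
    (tn_base A hτ hτ2 (m := n⁻¹ * m * n) (mul_mem (mul_mem (inv_mem (aa_grp_le hn)) hm) (aa_grp_le hn)) (fun v => by
      have e := hc v
      rw [← ex, ← ex, conj_mul] at e
      calc _ = n⁻¹ * (m * (n * (T.x E.a₀ v * T.x E.b₀ (τ v)) * n⁻¹)) * n := by group
        _ = _ := by rw [e]; group) c)
  rw [← ex]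
  convert this using 1
  group

end CfsgLib.SLT
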