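import Mathlib
import Cfsg.Agent.Lib.SLT.NFU
import Cfsg.Agent.Lib.SLT.TNorm

/-!
# The field case: `G0` is normal
-/

set_option autoImplicit false
set_option linter.unusedSectionVars false

namespace CfsgLib.SLT

open CfsgLib.RGD CfsgLib.Stein CfsgLib.SLE Subgroup
open scoped commutatorElement Pointwise

universe u

variable {ι κ : Type} [Fintype κ] [DecidableEq κ] [Finite ι] {Φ : RootSys ι κ} {E : ER Φ}
  {F K : Type} [Field F] [Finite F] [CharP F 2] [Field K] [Finite K] [CharP K 2] {P : QE F K}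
  {G : Type u} [Group G] [Finite G] {A : Type} [Group A] [Finite A] {T : StSys Φ K A} {s : A}
  {X : ι → K → G} {ρ : G → A} {t : G}

open CfsgLib.UFP

variable {y : ι → F → G} {c : F} {T' : StSys Φ K G}

namespace DblF

variable (d : DblF E P T s X ρ t y c T')
include d

theorem nf_norm {Ψ : Set ι} (h : ∀ r ∈ Ψ, E.γ r ∈ Ψ) : t ∈ normalizer (T'.UU Ψ : Set G) :=
  d.tw.amb.std_norm ⟨_, d.tw.std⟩ h

theorem nf_pg : IsPGroup 2 (T'.U ⊔ zpowers t : Subgroup G) :=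
  IsPGroup.to_sup_of_normal_left' d.tw.amb.pg_U (pgroup_zpowers_of_sq d.t2)
    (zpowers_le.2 (d.nf_norm fun r h => (E.γ_pos r).2 h))

theorem nf_tx (a : ι) (v : K) : T'.x a v * t * (T'.x a v)⁻¹ = t * X a v := by
  have A := d.tw.amb
  have e := d.tw.sx a v
  rw [← d.ext, tx, A.com (E.γo a), ← e, A.x_inv, inv_eq_of_mul_eq_one_right d.t2, ← mul_assoc, ← mul_assoc,
    ← mul_assoc, d.t2, one_mul]

theorem nf_cen {Ψ : Set ι} (h1 : Idl Φ Ψ) (h2 : Gen Φ Ψ) (h3 : ∀ r ∈ Ψ, E.γ r ∈ Ψ) {m : G} (hm : m ∈ NL T')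
    (hc : m ∈ centralizer (UUx X Ψ : Set G)) : ∃ u ∈ T'.U, (∀ r ∈ Ψ, ∀ v, u * tx E P T' r v = tx E P T' r v * u) ∧
      ∃ k ∈ CL T', m * t * m⁻¹ = k * (u⁻¹ * t * u) := by
  have c : ∀ r ∈ Ψ, ∀ v, m * tx E P T' r v = tx E P T' r v * m := fun r hr v => by
    rw [d.ext]; exact (mem_cent_UUx.1 hc r hr v).symm
  have g : ∀ r v, tx E P T' r v ∈ T'.grp := fun r v => (d.tw.L_le (mem_tL _ r v)).1
  have k : ∀ {u k : G}, u ∈ T'.U → k ∈ CL T' →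
      ∃ k' ∈ CL T', u⁻¹ * (k * t * k⁻¹) * u = k' * (u⁻¹ * t * u) := fun {u k} hu hk => by
    have h4 : k * (t * k⁻¹ * t⁻¹) ∈ CL T' := mul_mem hk (aa_conj_CL d.tw.std.mem_NL (inv_mem hk))
    refine ⟨_, h4, ?_⟩
    rw [← mul_assoc _ (u⁻¹ * t), ← mul_assoc _ u⁻¹, ← aa_CL_comm h4 (inv_mem (T'.U_le_grp hu))]
    group
  obtain ⟨u, hu, h | h⟩ := d.tw.cenU h1 h2 h3 hm fun r hr v => cn_triv (c r hr v) _
  · refine ⟨u, hu, fun r hr v => cn_comm (aa_CL_comm h (g r v)).symm (c r hr v), ?_⟩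
    obtain ⟨k', h4, e⟩ := k hu h
    exact ⟨k', h4, by rw [← e]; group⟩
  · refine ⟨u, hu, fun r hr v => cn_comm (cn_comm (aa_CL_comm h (g r v)).symm (d.tw.tx_cent r v)) (c r hr v), ?_⟩
    obtain ⟨k', h4, e⟩ := k hu h
    exact ⟨k', h4, by rw [← e]; group⟩

theorem nf_W {u : G} (hu : u ∈ T'.UU {E.θ, E.β}) : ∃ e ∈ tW E X, u⁻¹ * t * u = t * e := by
  obtain ⟨p, q, h⟩ := d.tw.amb.mem_W_iff.1 (inv_mem hu)
  have A := d.tw.amb
  have m : ∀ r ∈ ({E.θ, E.β} : Set ι), ∀ v, X r v ∈ tW E X := fun r hr v => mem_UUx X hr v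
  have c : T'.x E.θ p * X E.β q = X E.β q * T'.x E.θ p := by
    have k : ∀ v, Commute (T'.x E.θ p) (T'.x E.β v) := fun v => A.com (by rw [ip_comm, E.ip_βθ]; omega) _ _
    rw [← d.ext, tx, E.γ_β]
    exact (k _).mul_right (k _)
  refine ⟨X E.θ p * X E.β q, mul_mem (m _ (by simp) _) (m _ (by simp) _), ?_⟩
  rw [← inv_inv u, h, inv_inv, ← mul_assoc t, ← d.nf_tx, show T'.x E.θ p * T'.x E.β q * t * (T'.x E.θ p * T'.x E.β q)⁻¹
    = T'.x E.θ p * (T'.x E.β q * t * (T'.x E.β q)⁻¹) * (T'.x E.θ p)⁻¹ by group, d.nf_tx, A.x_inv, mul_assoc,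
    mul_assoc, ← c]
  group

theorem uw : UW (NL T') t (tU Φ X) := by
  have A := d.tw.amb
  have h := d.toHatL.uw
  rw [← d.eqG] at h
  refine h d.u (fun a _ v => ⟨_, d.nf_tx a v, fun b h1 h2 u => ?_⟩) (fun m hm h1 => ?_) fun m hm h1 => ?_
  · rw [← d.ext, tx]
    exact Commute.mul_left (A.com h1 _ _) (A.com (by rwa [← E.γip, E.γ2]) _ _)
  · obtain ⟨u, hu, h2, k, hk, e⟩ := d.nf_cen E.idl_Q E.gen_Q cl_Q.gam hm h1
    obtain ⟨w, hw, e'⟩ := d.nf_W (T'.UU_mono (by simp) (d.tw.tZ_of_Q hu h2))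
    exact ⟨w, W_le_Q X hw, k, hk, e' ▸ e⟩
  · obtain ⟨u, hu, h2, k, hk, e⟩ := d.nf_cen (E.idl_diff E.i₀) (E.gen_diff E.i₀) cl_R.gam hm h1
    obtain ⟨w, hw, e'⟩ := d.nf_W (d.tw.tW_of_R hu fun r h3 h4 => h2 r ⟨h3, h4⟩)
    exact ⟨w, R2_le_R X (W_le_R2 X hw), k, hk, e' ▸ e⟩

theorem chain : Chain t T'.U (Φ.ht E.θ).toNat
    fun i => T'.UU {r | Φ.Pos r ∧ Φ.ht E.θ + 1 - i ≤ Φ.ht r} := by
  have A := d.tw.amb
  have h0 := Φ.ht_pos E.pos_θ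
  have hU : T'.U = T'.UU {r | Φ.Pos r ∧ 1 ≤ Φ.ht r} :=
    congrArg T'.UU (Set.ext fun r => ⟨fun h => ⟨h, Φ.ht_pos h⟩, fun h => h.1⟩)
  have e : ∀ i : ℕ, Φ.ht E.θ + 1 - i = Φ.ht E.θ + 1 - (i + 1 : ℕ) + 1 := fun i => by
    push_cast; ring
  have tn : ∀ n : ℤ, t ∈ normalizer (T'.UU {r | Φ.Pos r ∧ n ≤ Φ.ht r} : Set G) := fun n =>
    d.nf_norm (cl_ht n).gam
  refine ⟨?_, ?_, fun i _ => T'.UU_mono fun r hr => ⟨hr.1, by have := hr.2; push_cast; omega⟩,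
    fun i _ => tn _, fun i _ u hu x hx => ?_, fun i _ x hx => ?_, fun i _ x hx h => ?_⟩
  · rw [← T'.UU_empty]
    refine congrArg T'.UU (Set.eq_empty_of_forall_notMem fun r hr => ?_)
    have := hr.2
    by_cases h : r = E.θ
    · rw [h] at this; push_cast at this; omega
    · have := E.ht_lt_θ h; push_cast at *; omega
  · rw [hU, Int.toNat_of_nonneg h0.le, add_sub_cancel_left]
  · rw [e, add_comm _ 1]
    exact A.comm_mem_wt Φ.ht (fun _ => Φ.ht_pos) (fun _ _ _ => radd_ht) (hU ▸ hu) hx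
  · rw [e]
    simpa using A.mul_inv_mem lay_ht hx (inv_mem hx) fun r _ hr => (A.cf_inv lay_ht hx hr).symm
  · simp only [e i] at h ⊢
    generalize Φ.ht E.θ + 1 - (i + 1 : ℕ) = n at *
    have g : ∀ (n : ℤ) r, E.γ r ∈ {r | Φ.Pos r ∧ n ≤ Φ.ht r} ↔ r ∈ {r | Φ.Pos r ∧ n ≤ Φ.ht r} := fun n r => by
      simp only [Set.mem_ofPred_eq, E.γ_pos, E.γ_ht]
    have hc : ∀ y ∈ T'.UU {r | Φ.Pos r ∧ n ≤ Φ.ht r}, ∀ r ∉ {r | Φ.Pos r ∧ n + 1 ≤ Φ.ht r},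
        cf T' (t * y * t⁻¹) r = P.τ (cf T' y (E.γ r)) := fun y hy r hr => by
      simpa [E.γ2] using A.cf_std lay_ht d.tw.std (g _) (g _) hy (mt (g _ r).1 hr)
    have h3 : ∀ r, r ∉ {r | Φ.Pos r ∧ n + 1 ≤ Φ.ht r} → P.τ (cf T' x (E.γ r)) = cf T' x r := fun r hr => by
      have h1 := A.cf_eq_zero (E.closed_of_idl (E.idl_ht _)) (fun _ h => h.1) h hr
      rw [A.cf_mul lay_ht (conj_mem (tn _) hx) (inv_mem hx) hr, hc x hx r hr, A.cf_inv lay_ht hx hr] at h1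
      rw [eq_neg_of_add_eq_zero_left h1, CharTwo.neg_eq]
    obtain ⟨L, hL, hL'⟩ := StSys.exists_list {r | Φ.Pos r ∧ n ≤ Φ.ht r}
    have hy := T'.xprod_mem_UU (fun r hr => (hL' r).1 hr) fun r => P.ω * cf T' x r
    refine ⟨_, hy, ?_⟩
    rw [← mul_assoc]
    refine A.mul_inv_mem lay_ht (mul_mem hx (conj_mem (tn _) hy)) hy fun r h1 h2 => ?_
    rw [A.cf_mul lay_ht hx (conj_mem (tn _) hy) h2, hc _ hy r h2,
      (A.cf_xprod lay_ht hL (fun r hr => (hL' r).1 hr) _ h2).1 ((hL' r).2 h1),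
      (A.cf_xprod lay_ht hL (fun r hr => (hL' r).1 hr) _ (mt (g _ r).1 h2)).1 ((hL' _).2 ((g _ r).2 h1)), map_mul,
      h3 r h2, ← one_add_mul, ← P.hω, add_assoc, CharTwo.add_self_eq_zero, add_zero]

/-- **Field case** -/
theorem eq {Gs : Subgroup G} (g : Glob Gs t) : T'.grp = Gs := by
  have A := d.tw.amb
  have hu := d.u
  have h0 : T'.grp ≤ Gs := g.pf_le A.pf_grp.1
  obtain ⟨B, _, _, l, hB, hl⟩ := exists_two_hom (SLE.N0_le (S := T')) fun _ ha _ hb => A.comm_mem_N0 ha hb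
  have ht : t ∉ Gs := g.not_mem (not_mem_commutator d.t2 hu.mem l (fun h => by
    obtain ⟨m, hm, h1⟩ := (hl _).1 h
    exact P.τ_ne (A.typ_unique (Std.typ ⟨_, d.tw.std⟩)
      (mem_of_odd_pow (pgroup_zpowers_of_sq d.t2) hm h1) (Or.inr rfl) (Or.inl rfl)).2)
    fun x hx _ => hu.uniq x hx)
  have hU1 : T'.U ≤ NL T' := T'.U_le_grp.trans le_normalizer
  obtain ⟨R, hP1, hP2, hP, hP3⟩ := exists_syl d.nf_pg (sup_le hU1 (zpowers_le.2 hu.mem))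
  have hP4 := d.chain.syl hu (g.index ht) ht g.perf hP3 hP2 (hP1 (mem_sup_right (mem_zpowers t)))
    hU1 l hB (fun x hx => by
      obtain ⟨m, hm, h1⟩ := (hl _).1 hx
      obtain ⟨j, hj, h2⟩ := exists_two_pow ((x : G) ^ m)
      exact g.mem_of_odd hm (g.mem_of_odd hj (h0 (A.mem_grp d.oddC (pow_mem h1 j) h2))))
    (fun x hx => (hl x).2 ⟨1, odd_one, by rw [pow_one]; exact SLE.le_N0 (mem_sup_left (T'.U_le_grp hx))⟩)
    fun x hx h => by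
      obtain ⟨m, hm, h1⟩ := (hl _).1 h
      exact A.inf_le_U hP (le_sup_left.trans hP1) ⟨hx, A.mem_grp d.oddC
        (mem_of_odd_pow (pg_zpowers hP hx) hm h1) (pg_zpowers hP hx)⟩
  have fix : ∀ r, E.γ r = r → ∀ M : Subgroup G, t * T'.x r 1 * t⁻¹ * (T'.x r 1)⁻¹ ∈ M := fun r hr M => by
    rw [d.tw.sx, map_one, hr, mul_inv_cancel]; exact one_mem _
  have mt : ∀ {n : ℤ} {r}, r ∈ {r | Φ.Pos r ∧ n ≤ Φ.ht r} → ∀ v,
      tx E P T' r v ∈ T'.UU {r | Φ.Pos r ∧ n ≤ Φ.ht r} := fun {n _} hr v =>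
    (d.tw.UU_le (cl_ht n).gam (mem_UUx _ hr v)).1
  have D : FldData (NL T') Gs t T'.U _ _ := ⟨d.chain, hU1, T'.U_le_grp.trans h0,
    fun R h1 h2 => (hP3 R h1 h2).imp fun x hx => ⟨hx.1, fun p hp => hP4 (hx.2 p hp)⟩,
    fun i _ j _ w hw h => comm_closure (T'.UU_le_U fun _ h => h.1) (A.U_norm_ht _) (by
      rintro _ ⟨r, hr, c, rfl⟩
      by_cases k : E.γ r = r
      · exact A.linf _ (E.idl_ht _) r hr.1 w hw (h _ (T'.x_mem_UU hr 1) (fix r k _)) c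
      · exact d.tw.tlinf hr.1 k _ hw (fun v => h _ (mt hr v) (cn_triv (d.tw.tx_cent r v) _)) c),
    fun i _ m hm h x hx => conj_mem (norm_closure (by
      rintro _ ⟨r, hr, c, rfl⟩
      by_cases k : E.γ r = r
      · exact T'.UU_mono (Set.singleton_subset_iff.2 hr) (conj_mem (A.norm_of_cent_x hm one_ne_zero
          (h _ (T'.x_mem_UU hr 1) (fix r k _)).symm).1 (T'.x_mem_X r c))
      · exact T'.UU_mono (Set.pair_subset hr ((cl_ht _).gam r hr)) (tnorm A P.τ_ne P.τ_mul (E.γ_orth k) hm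
          (fun v => (h _ (mt hr v) (cn_triv (d.tw.tx_cent r v) _)).symm) c))) hx,
    d.uw.mono (d.X_eq ▸ d.tw.UU_le cl_pos.gam)⟩
  have h1 : T'.x E.θ 1 ≠ 1 := fun e => one_ne_zero (A.x_eq_one.1 e)
  exact g.eq_of_norm h0 (le_of_invol g.simple (h0 (T'.x_mem_grp _ _)) h1 (A.x_sq _ _)
    fun u h2 h3 => D.mem hu (g.index ht) ht h2 h3) (T'.x_mem_grp _ _) h1

end DblF

end CfsgLib.SLT
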