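import Mathlib
import Cfsg.Agent.Lib.SLT.Cen
import Cfsg.Agent.Lib.SLE.NK

/-!
# The Sylow subgroup `U` modulo its commutator subgroup
-/

set_option autoImplicit false
set_option linter.unusedSectionVars false

namespace CfsgLib.SLT

open CfsgLib.RGD CfsgLib.Stein CfsgLib.SLE Subgroup
open scoped commutatorElement Pointwise

universe u

variable {ι κ : Type} [Fintype κ] [DecidableEq κ] [Finite ι] {Φ : RootSys ι κ} {E : ER Φ}
  {F K : Type} [Field F] [Finite F] [CharP F 2] [Field K] [Finite K] [CharP K 2] {P : QE F K}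
  {G : Type u} [Group G] [Finite G] {A : Type} [Group A] [Finite A] {T : StSys Φ K A} {s : A}
  {X : ι → K → G} {ρ : G → A} {t : G}

open CfsgLib.UFP

/-- the coordinate at a fundamental root -/
noncomputable def sc (T : StSys Φ K A) (ρ : G → A) (i : κ) (u : G) : K := T.scoef i (ρ u)

theorem nk_scoef_std (a : Amb E T) {g u : A} {π : Equiv.Perm ι} {d : ι → K} {σ : K ≃+* K}
    (hg : StdD T g π d σ) (hπ : ∀ r, Φ.Pos r → Φ.Pos (π r)) {i j : κ}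
    (e : π (Φ.simple i) = Φ.simple j) (hu : u ∈ T.U) :
    T.scoef j (g * u * g⁻¹) = d (Φ.simple i) * σ (T.scoef i u) := by
  refine a.eq_of_add (T := {r | Φ.Pos r}) (f := fun u => T.scoef j (g * u * g⁻¹))
    (g := fun u => d (Φ.simple i) * σ (T.scoef i u)) (fun u hu v hv => ?_) (fun u hu v hv => ?_)
    (fun r hr c => ?_) hu
  · rw [← a.nd.scoef_mul j (hg.conj_mem hπ hu) (hg.conj_mem hπ hv), conj_mul]
  · simp only [a.nd.scoef_mul i hu hv, map_add, mul_add]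
  · simp only [hg.2]
    by_cases hi : r = Φ.simple i
    · rw [hi, e, a.nd.scoef_x_self, a.nd.scoef_x_self]
    · rw [a.nd.scoef_x_of_ne hr hi, a.nd.scoef_x_of_ne (hπ r hr)
        (fun e' => hi (π.injective (e'.trans e.symm))), map_zero, mul_zero]

theorem nk_two (r : ι) (i : κ) (hr : Φ.Pos r) {a k : ι} (ha : Φ.Pos a) (h : RAdd Φ r a k) :
    k ≠ Φ.simple i := fun e => by
  have h1 := radd_ht h
  have h2 := Φ.ht_pos hr
  have h3 := Φ.ht_pos ha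
  rw [e, Φ.ht_simple] at h1
  omega

/-- the roots of the `i`-th axis -/
def axR (E : ER Φ) (i : κ) : Set ι :=
  ({r | Φ.Pos r} \ Set.range Φ.simple) ∪ {Φ.simple i, E.γ (Φ.simple i)}

theorem cl_of_ns {Ψ : Set ι} (h1 : ∀ r ∈ Ψ, Φ.Pos r)
    (h2 : {r | Φ.Pos r} \ Set.range Φ.simple ⊆ Ψ)
    (h3 : ∀ i, Φ.simple i ∈ Ψ → E.γ (Φ.simple i) ∈ Ψ) : Cl E Ψ := by
  refine ⟨h1, fun a ha b hb k hk => h2 ⟨radd_pos hk (h1 a ha) (h1 b hb), ?_⟩, fun r hr => ?_⟩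
  · rintro ⟨i, e⟩
    exact nk_two a i (h1 a ha) (h1 b hb) hk e.symm
  · by_cases h4 : r ∈ Set.range Φ.simple
    · obtain ⟨i, rfl⟩ := h4; exact h3 i hr
    · refine h2 ⟨(E.γ_pos r).2 (h1 r hr), ?_⟩
      rintro ⟨i, e⟩
      obtain ⟨j, hj⟩ := E.γs i
      exact h4 ⟨j, by rw [← hj, e, E.γ2]⟩

theorem cl_ns : Cl E ({r | Φ.Pos r} \ Set.range Φ.simple) :=
  cl_of_ns (fun _ h => h.1) subset_rfl fun i h => absurd ⟨i, rfl⟩ h.2

theorem simple_mem_axR {i j : κ} :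
    Φ.simple j ∈ axR E i ↔ Φ.simple j = Φ.simple i ∨ Φ.simple j = E.γ (Φ.simple i) :=
  ⟨fun h => h.resolve_left fun h => h.2 ⟨j, rfl⟩, Or.inr⟩

theorem cl_axR (i : κ) : Cl E (axR E i) := by
  refine cl_of_ns ?_ Set.subset_union_left fun j h => Or.inr ?_
  · rintro r (h | rfl | rfl)
    exacts [h.1, Φ.pos_simple i, (E.γ_pos _).2 (Φ.pos_simple i)]
  · rcases simple_mem_axR.1 h with e | e <;> rw [e]
    exacts [Or.inr rfl, Or.inl (E.γ2 _)]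

theorem axR_eq {i j : κ} (h : Φ.simple j = Φ.simple i ∨ Φ.simple j = E.γ (Φ.simple i)) :
    axR E j = axR E i := by
  rcases h with e | e <;> simp only [axR, e, E.γ2]
  rw [Set.pair_comm]

theorem long_iff_of_ncard {i j : κ} (h : (axR E i).ncard = (axR E j).ncard) :
    E.γ (Φ.simple i) = Φ.simple i ↔ E.γ (Φ.simple j) = Φ.simple j := by
  have key : ∀ i, (axR E i).ncard = ({r | Φ.Pos r} \ Set.range Φ.simple).ncard +
      ({Φ.simple i, E.γ (Φ.simple i)} : Set ι).ncard := fun i => by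
    refine Set.ncard_union_eq (Set.disjoint_left.2 fun r h1 h2 => h1.2 ?_)
    rcases h2 with rfl | rfl
    exacts [⟨i, rfl⟩, (E.γs i).imp fun _ h => h.symm]
  rw [key, key, add_right_inj] at h
  constructor <;> intro e <;> by_contra e' <;>
    simp only [e, Set.pair_eq_singleton, Set.ncard_singleton, Set.ncard_pair (Ne.symm e')] at h <;>
    omega

/-- one of `z 1`, `z c`, `z (1 + c)` lies in a subgroup of index at most two -/
theorem nk_three (hq : 2 < Nat.card F) {U J : Subgroup G}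
    (hJ : ∀ a ∈ U, ∀ b ∈ U, a ∉ J → b ∉ J → a * b ∈ J) {z : F → G} (h1 : ∀ p, z p ∈ U)
    (h2 : ∀ p q, z (p + q) = z p * z q) : ∃ c, c ≠ 0 ∧ z c ∈ J := by
  obtain ⟨c, c0, c1, -⟩ := exists_ne hq
  by_cases h3 : z 1 ∈ J
  · exact ⟨1, one_ne_zero, h3⟩
  by_cases h4 : z c ∈ J
  · exact ⟨c, c0, h4⟩
  refine ⟨c + 1, fun e => c1 ?_, h2 c 1 ▸ hJ _ (h1 c) _ (h1 1) h4 h3⟩
  rw [eq_neg_of_add_eq_zero_left e, CharTwo.neg_eq]

theorem nk_comm (hq : 2 < Nat.card F) {U J : Subgroup G}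
    (hJ : ∀ a ∈ U, ∀ b ∈ U, a ∉ J → b ∉ J → a * b ∈ J) {y : F → G} {z : K → G}
    (y1 : ∀ p, y p ∈ U) (y2 : ∀ p q, y (p + q) = y p * y q) (z1 : ∀ v, z v ∈ U)
    (z2 : ∀ u v, z (u + v) = z u * z v) (v : K) :
    ∃ p w, P.f p * w = v ∧ (z w)⁻¹ * (y p * z w * (y p)⁻¹) ∈ ⁅J, J⁆ := by
  have cm : ∀ a ∈ J, ∀ b ∈ J, a⁻¹ * (b * a * b⁻¹) ∈ ⁅J, J⁆ := fun a ha b hb => by
    have := commutator_mem_commutator (inv_mem ha) hb
    rwa [commutatorElement_def, inv_inv, mul_assoc, mul_assoc, ← mul_assoc b] at this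
  by_cases h1 : ∀ p, y p ∈ J
  · obtain ⟨c, c0, hc⟩ := nk_three hq hJ (z := fun c => z (P.f c * v)) (fun _ => z1 _)
      fun p q => by simp only [map_add, add_mul, z2]
    exact ⟨c⁻¹, _, by rw [← mul_assoc, ← map_mul, inv_mul_cancel₀ c0, map_one, one_mul],
      cm _ hc _ (h1 _)⟩
  push Not at h1
  obtain ⟨p, hp⟩ := h1
  obtain ⟨e, e0, he⟩ := nk_three hq hJ y1 y2
  refine ⟨e, P.f e⁻¹ * v, by rw [← mul_assoc, ← map_mul, mul_inv_cancel₀ e0, map_one, one_mul], ?_⟩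
  by_cases h2 : z (P.f e⁻¹ * v) ∈ J
  · exact cm _ h2 _ he
  have h3 := cm _ (hJ _ (y1 p) _ (z1 _) hp h2) _ he
  rwa [← mul_assoc (y e), ← y2, add_comm, y2, mul_inv_rev, mul_assoc, mul_assoc (y p),
    mul_assoc (y p), inv_mul_cancel_left] at h3

namespace Sys

variable (h : Sys E P T s X ρ)
include h

omit h in
theorem X_mem_U {r : ι} (hr : Φ.Pos r) (v : K) : X r v ∈ tU Φ X := mem_UUx X (by exact hr) v

omit h in
theorem U_le_N : tU Φ X ≤ tN X := (UU_le_tL X _).trans L_le_N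

theorem map_U {u : G} (hu : u ∈ tU Φ X) : ρ u ∈ T.U :=
  h.map_mem_UU (fun r hr => (E.γ_pos r).2 hr) hu

theorem sc_mul (i : κ) {u v : G} (hu : u ∈ tU Φ X) (hv : v ∈ tU Φ X) :
    sc T ρ i (u * v) = sc T ρ i u + sc T ρ i v := by
  rw [sc, h.mul _ (U_le_N hu) _ (U_le_N hv), h.amb.nd.scoef_mul i (h.map_U hu) (h.map_U hv)]; rfl

theorem sc_inv (i : κ) {u : G} (hu : u ∈ tU Φ X) : sc T ρ i u⁻¹ = sc T ρ i u := by
  rw [sc, h.inv (U_le_N hu), h.amb.nd.scoef_inv i (h.map_U hu), CharTwo.neg_eq]; rfl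

theorem sc_conj_U (i : κ) {g u : G} (hg : g ∈ tU Φ X) (hu : u ∈ tU Φ X) :
    sc T ρ i (g * u * g⁻¹) = sc T ρ i u := by
  rw [sc, h.conj (U_le_N hg) (U_le_N hu), h.amb.nd.scoef_conj_U i (h.map_U hg) (h.map_U hu)]; rfl

theorem sc_st (i : κ) {g u : G} {d : ι → K} {σ : K ≃+* K} (hg : St T X ρ g d σ)
    (hu : u ∈ tU Φ X) : sc T ρ i (g * u * g⁻¹) = d (Φ.simple i) * σ (sc T ρ i u) := by
  rw [sc, h.conj hg.1 (U_le_N hu)]
  exact nk_scoef_std h.amb hg.2 (fun _ hr => hr) rfl (h.map_U hu)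

theorem sc_γ {i j : κ} (e : E.γ (Φ.simple i) = Φ.simple j) {u : G} (hu : u ∈ tU Φ X) :
    sc T ρ j u = P.τ (sc T ρ i u) := by
  have := nk_scoef_std h.amb h.toTw.std (fun r => (E.γ_pos r).2) e (h.map_U hu)
  rwa [h.com u (U_le_N hu), mul_inv_cancel_right, one_mul] at this

theorem sc_X {i : κ} (hi : E.γ (Φ.simple i) ≠ Φ.simple i) (v : K) :
    sc T ρ i (X (Φ.simple i) v) = v := by
  have h1 := (E.γ_pos _).2 (Φ.pos_simple i)
  rw [sc, h.map, tx, h.amb.nd.scoef_mul i (T.x_mem_U (Φ.pos_simple i) _) (T.x_mem_U h1 _),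
    h.amb.nd.scoef_x_self, h.amb.nd.scoef_x_of_ne h1 hi, add_zero]

theorem sc_xl {i : κ} (hi : E.γ (Φ.simple i) = Φ.simple i) (c : F) :
    sc T ρ i (xl P X (Φ.simple i) c) = P.f c := by
  rw [sc, h.map_xl hi, h.amb.nd.scoef_x_self]

theorem sc_ω (i : κ) : sc T ρ i (X (Φ.simple i) P.ω) ≠ 0 := by
  by_cases hi : E.γ (Φ.simple i) = Φ.simple i
  · have := h.sc_xl hi 1
    rw [xl, map_one, mul_one] at this
    rw [this]; exact one_ne_zero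
  · rw [h.sc_X hi]
    intro e
    have := P.hω
    rw [e, map_zero, add_zero] at this
    exact zero_ne_one this

theorem mem_UX_sc {Ψ : Set ι} (hΨ : Cl E Ψ) (h2 : {r | Φ.Pos r} \ Set.range Φ.simple ⊆ Ψ)
    {u : G} : u ∈ UUx X Ψ ↔ u ∈ tU Φ X ∧ ∀ j, Φ.simple j ∉ Ψ → sc T ρ j u = 0 := by
  refine ⟨fun hu => ?_, fun hu => h.mem_UX_of_U hΨ hu.1 (h.amb.mem_of_cf (h.map_U hu.1)
    fun r hr h3 => ?_)⟩
  · have h3 : u ∈ tU Φ X := UUx_mono X hΨ.pos hu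
    exact ⟨h3, fun j hj => (h.amb.nd.scoef_eq_zero_iff (h.map_U h3)).2 (T.UU_mono
      (fun r hr => by exact ⟨hΨ.pos r hr, fun e => hj (e ▸ hr)⟩) (h.map_mem_UU hΨ.gam hu))⟩
  · obtain ⟨j, rfl⟩ : r ∈ Set.range Φ.simple := by
      by_contra e
      exact h3 (h2 ⟨hr, e⟩)
    exact h.amb.cf_eq_zero (E.closed_of_idl (E.idl_diff j)) (fun _ h => h.1)
      ((h.amb.nd.scoef_eq_zero_iff (h.map_U hu.1)).1 (hu.2 j h3)) fun h => h.2 rfl

theorem mem_Rj {i : κ} {u : G} : u ∈ tRj E X i ↔ u ∈ tU Φ X ∧ sc T ρ i u = 0 := by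
  obtain ⟨k, hk⟩ := E.γs i
  rw [tRj, h.mem_UX_sc (cl_Rj i) fun r hr => ⟨hr.1, by
    rintro (rfl | rfl)
    exacts [hr.2 ⟨i, rfl⟩, hr.2 ⟨k, hk.symm⟩]⟩]
  refine and_congr_right fun hu => ⟨fun h1 => h1 i fun e => e.2 (Or.inl rfl), fun h1 j hj => ?_⟩
  rcases not_not.1 (fun e => hj ⟨Φ.pos_simple j, e⟩) with e | e
  · rwa [Φ.simple_injective e]
  · rw [h.sc_γ (Eq.symm e) hu, h1, map_zero]

theorem X_mem_comm (hq : 2 < Nat.card F) {J : Subgroup G}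
    (hJ : ∀ a ∈ tU Φ X, ∀ b ∈ tU Φ X, a ∉ J → b ∉ J → a * b ∈ J) :
    UUx X ({r | Φ.Pos r} \ Set.range Φ.simple) ≤ ⁅J, J⁆ := by
  by_contra hn
  obtain ⟨r, ⟨hr, v, hv⟩, hm⟩ := Set.exists_max_image
    {r | r ∈ {r | Φ.Pos r} \ Set.range Φ.simple ∧ ∃ v, X r v ∉ ⁅J, J⁆} Φ.ht (Set.toFinite _) (by
      by_contra e
      refine hn ((closure_le _).2 ?_)
      rintro _ ⟨r, hr, v, rfl⟩
      by_contra e'
      exact e ⟨r, hr, v, e'⟩)
  obtain ⟨i, a, ha, e⟩ := E.down_pos hr.1 fun i e => hr.2 ⟨i, e.symm⟩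
  have hb := Φ.pos_simple i
  generalize Φ.simple i = b at *
  have tup : ∀ a b k, Φ.Pos a → Φ.Pos b → Tup E a b r k → False := fun a b k ha hb ht => by
    obtain ⟨p, w, rfl, h1⟩ := nk_comm (P := P) hq hJ (y := xl P X a) (fun p => X_mem_U ha _)
      (h.rel.xl_add a)
      (X_mem_U hb) (h.rel.add b) v
    have h2 := (E.γ_pos b).2 hb
    rw [h.rel.conj_sl ht, mul_assoc, inv_mul_cancel_left] at h1
    refine hv ((Subgroup.mul_mem_cancel_right _ ?_).1 h1)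
    by_contra h3
    have := hm k ⟨⟨radd_pos ht.hk hr.1 h2, fun ⟨j, e⟩ => nk_two r j hr.1 h2 ht.hk e.symm⟩, _, h3⟩
    have h4 := radd_ht ht.hk
    have := Φ.ht_pos h2
    omega
  have e1 := (E.radd_ip e).1
  rcases h.tr.cases (Φ.ne_neg_of_pos ha hb) (Φ.ne_neg_of_pos ha ((E.γ_pos b).2 hb)) with
    h1 | ⟨k, -, h1⟩ | ⟨k, -, h1⟩ | ⟨k, -, h1, h2⟩ | ⟨m, k, h1⟩ | ⟨m, k, h1⟩
  · omega
  · obtain ⟨p, w, rfl, h1⟩ := nk_comm (P := P) hq hJ (y := fun p => X a (P.f p))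
      (fun p => X_mem_U ha _) (fun p q => by rw [map_add, h.rel.add]) (X_mem_U hb) (h.rel.add b) v
    rw [h.rel.conj_cm e ‹_›, inv_mul_cancel_left] at h1
    exact hv h1
  · omega
  · obtain ⟨p, w, rfl, h3⟩ := nk_comm (P := P) hq hJ (y := xl P X a) (fun p => X_mem_U ha _)
      (h.rel.xl_add a)
      (X_mem_U hb) (h.rel.add b) v
    rw [h.rel.lng h2, h.rel.conj_ll h1 h2 e, inv_mul_cancel_left, ← P.T_mul,
      ← h.rel.lng (long_add e h1 h2)] at h3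
    exact hv h3
  · exact tup a b k ha hb (h1.hb.unique' e ▸ h1)
  · exact tup b a k hb ha (h1.hb.unique' e.symm ▸ h1)

theorem comm_U (hq : 2 < Nat.card F) :
    ⁅tU Φ X, tU Φ X⁆ = UUx X ({r | Φ.Pos r} \ Set.range Φ.simple) := by
  refine le_antisymm (commutator_le.2 fun a ha b hb => ?_)
    (h.X_mem_comm hq fun a ha _ _ h1 => absurd ha h1)
  have h1 := mul_mem (mul_mem ha hb) (inv_mem ha)
  refine (h.mem_UX_sc cl_ns subset_rfl).2 ⟨mul_mem h1 (inv_mem hb), fun j _ => ?_⟩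
  rw [commutatorElement_def, h.sc_mul j h1 (inv_mem hb), h.sc_conj_U j ha hb, h.sc_inv j hb,
    CharTwo.add_self_eq_zero]

theorem mem_comm (hq : 2 < Nat.card F) {u : G} :
    u ∈ ⁅tU Φ X, tU Φ X⁆ ↔ u ∈ tU Φ X ∧ ∀ i, sc T ρ i u = 0 := by
  rw [h.comm_U hq, h.mem_UX_sc cl_ns subset_rfl]
  exact and_congr_right fun _ => forall_congr' fun j => imp_iff_right fun e => e.2 ⟨j, rfl⟩

theorem mem_ax {i : κ} {u : G} : u ∈ UUx X (axR E i) ↔ u ∈ tU Φ X ∧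
    ∀ j, Φ.simple j ≠ Φ.simple i → Φ.simple j ≠ E.γ (Φ.simple i) → sc T ρ j u = 0 := by
  simp only [h.mem_UX_sc (cl_axR i) Set.subset_union_left, simple_mem_axR, not_or, and_imp]

theorem sc_B {b : G} (hb : b ∈ tL X ⊓ normalizer (tU Φ X : Set G)) (i : κ) :
    ∃ c, ∀ u ∈ tU Φ X, sc T ρ i (b * u * b⁻¹) = c * sc T ρ i u := by
  obtain ⟨v, hv, a, ha, h1, rfl⟩ := h.exists_B hb.1 hb.2
  obtain ⟨d, hd⟩ := h.st_of_H (L_le_N ha) h1
  refine ⟨d (Φ.simple i), fun u hu => ?_⟩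
  rw [show v * a * u * (v * a)⁻¹ = v * (a * u * a⁻¹) * v⁻¹ by group,
    h.sc_conj_U i hv (conj_mem (h.st_norm hd _) hu), h.sc_st i hd hu]
  rfl

theorem st_mem_B {a : G} {Ψ : Set ι} (ha : a ∈ UUx X Ψ) {d : ι → K} {σ : K ≃+* K}
    (hd : St T X ρ a d σ) : a ∈ tL X ⊓ normalizer (tU Φ X : Set G) :=
  ⟨UU_le_tL X _ ha, h.st_norm hd _⟩

theorem ax_le (hq : 2 < Nat.card F) {V : Subgroup G} (h1 : ⁅tU Φ X, tU Φ X⁆ ≤ V)
    (h2 : V ≤ tU Φ X) (h3 : tL X ⊓ normalizer (tU Φ X : Set G) ≤ normalizer (V : Set G)) {v : G}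
    (hv : v ∈ V) {i : κ} (hi : sc T ρ i v ≠ 0) : UUx X (axR E i) ≤ V := fun u hu => by
  obtain ⟨c, c0, c1, c2⟩ := exists_ne hq
  obtain ⟨v, ⟨hv, hi⟩, hm⟩ := Set.exists_min_image {v | v ∈ V ∧ sc T ρ i v ≠ 0}
    (fun v => {j | sc T ρ j v ≠ 0}.ncard) (Set.toFinite _) ⟨v, hv, hi⟩
  have h4 : v ∈ UUx X (axR E i) := h.mem_ax.2 ⟨h2 hv, fun j j1 j2 => by
    by_contra hj
    obtain ⟨d, d0, d1, d2⟩ := h.tr.sepT i j j1 j2
    obtain ⟨a, ha, -, -, hs⟩ := h.exists_hl d0 c0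
    have h5 := conj_mem (h3 (h.st_mem_B ha hs)) hv
    have h6 : ∀ k, sc T ρ k (a * v * a⁻¹ * v⁻¹) =
        (P.f (c ^ ip Φ d (Φ.simple k)) - 1) * sc T ρ k v := fun k => by
      rw [h.sc_mul k (h2 h5) (h2 (inv_mem hv)), h.sc_inv k (h2 hv), h.sc_st k hs (h2 hv),
        CharTwo.sub_eq_add, add_one_mul]
      rfl
    refine absurd (hm _ ⟨mul_mem h5 (inv_mem hv), ?_⟩) (not_le.2 (Set.ncard_lt_ncard
      ⟨fun k hk hk' => hk (by rw [h6, hk', mul_zero]), fun h' => h' hj (by simp [h6, d1])⟩))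
    rw [h6, ← map_one P.f, ← map_sub]
    refine mul_ne_zero ((map_ne_zero _).2 (sub_ne_zero.2 ?_)) hi
    rcases d2 with d2 | d2 <;> rw [d2]
    · rwa [zpow_one]
    · exact_mod_cast c2⟩
  obtain ⟨w, w1, w2, w3⟩ : ∃ w ∈ V, w ∈ UUx X (axR E i) ∧ sc T ρ i w = sc T ρ i u := by
    by_cases h0 : sc T ρ i u = 0
    · exact ⟨1, one_mem _, one_mem _, (h.mem_Rj.1 (one_mem _)).2.trans h0.symm⟩
    have key : ∀ a Ψ d, a ∈ UUx X Ψ → St T X ρ a d 1 → d (Φ.simple i) * sc T ρ i v = sc T ρ i u →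
        ∃ w ∈ V, w ∈ UUx X (axR E i) ∧ sc T ρ i w = sc T ρ i u := fun a Ψ d ha hs e =>
      ⟨_, conj_mem (h3 (h.st_mem_B ha hs)) hv, conj_mem (h.st_norm hs _) h4,
        (h.sc_st i hs (h2 hv)).trans e⟩
    by_cases hl : E.γ (Φ.simple i) = Φ.simple i
    · obtain ⟨p, hp⟩ := (P.fix _).1 (h.sc_γ hl (h.mem_ax.1 hu).1).symm
      obtain ⟨q, hq⟩ := (P.fix _).1 (h.sc_γ hl (h2 hv)).symm
      have q0 : q ≠ 0 := fun e => hi (by rw [hq, e, map_zero])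
      obtain ⟨e, he⟩ := FiniteField.isSquare_of_char_two (ringChar.eq F 2) (p / q)
      obtain ⟨a, ha, -, -, hs⟩ := h.exists_hl hl (c := e) fun e0 => h0 (by
        rw [hp, (div_eq_zero_iff.1 (he.trans (by rw [e0, mul_zero]))).resolve_right q0, map_zero])
      refine key a _ _ ha hs ?_
      rw [E.ip_self, zpow_two, ← he, hp, hq, ← map_mul, div_mul_cancel₀ _ q0]
    · obtain ⟨e, he⟩ := FiniteField.isSquare_of_char_two (ringChar.eq K 2)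
        (sc T ρ i u / sc T ρ i v)
      obtain ⟨a, ha, -, -, hs⟩ := h.exists_hs (Φ.simple i) (v := e) fun e0 =>
        div_ne_zero h0 hi (he.trans (by rw [e0, mul_zero]))
      refine key a _ _ ha hs ?_
      rw [E.ip_self, E.γ_orth hl, zpow_zero, mul_one, zpow_two, ← he, div_mul_cancel₀ _ hi]
  have u1 := h.mem_ax.1 hu
  refine (V.mul_mem_cancel_left w1).1 (h1 ((h.mem_comm hq).2 ⟨mul_mem (h2 w1) u1.1, fun j => ?_⟩))
  rw [h.sc_mul j (h2 w1) u1.1]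
  by_cases j1 : Φ.simple j = Φ.simple i
  · rw [Φ.simple_injective j1, w3, CharTwo.add_self_eq_zero]
  by_cases j2 : Φ.simple j = E.γ (Φ.simple i)
  · rw [h.sc_γ j2.symm (h2 w1), h.sc_γ j2.symm u1.1, w3, CharTwo.add_self_eq_zero]
  · rw [(h.mem_ax.1 w2).2 j j1 j2, u1.2 j j1 j2, add_zero]

theorem fix_ax (hq : 2 < Nat.card F) {k : G} (ho : Odd (orderOf k))
    (h1 : ∀ i, ∃ j, MulAut.conj k • UUx X (axR E i) = UUx X (axR E j)) (i : κ) :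
    k ∈ normalizer (UUx X (axR E i) : Set G) := by
  have ty : ∀ i j, MulAut.conj k • UUx X (axR E i) = UUx X (axR E j) →
      (E.γ (Φ.simple i) = Φ.simple i ↔ E.γ (Φ.simple j) = Φ.simple j) := fun i j e => by
    have h2 : Nat.card (UUx X (axR E i)) = Nat.card (UUx X (axR E j)) := by
      rw [← e]; exact Nat.card_congr (Subgroup.equivSMul (MulAut.conj k) _).toEquiv
    rw [h.card_UU (cl_axR i), h.card_UU (cl_axR j)] at h2
    exact long_iff_of_ncard (Nat.pow_right_injective hq.le h2)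
  obtain ⟨j, hj⟩ := h1 i
  obtain ⟨l, hl⟩ := h1 j
  have h2 := h.tr.two_orb i j l (ty i j hj) (ty j l hl)
  rw [← or_assoc, ← or_assoc (a := Φ.simple l = _)] at h2
  rcases h2 with e | e | e
  · exact Coprime.mem_normalizer_iff_conj_smul_eq.2 (axR_eq e ▸ hj)
  · refine zpowers_le.2 (Coprime.mem_normalizer_iff_conj_smul_eq.2 ?_) (mem_zpowers_two_pow ho 1)
    rw [pow_one, pow_two, map_mul, mul_smul, hj, hl, axR_eq e]
  · rw [axR_eq e, ← hj] at hl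
    exact Coprime.mem_normalizer_iff_conj_smul_eq.2 (MulAction.injective _ hl)

/-- the field `rn` of `NUData` -/
theorem rn (hq : 2 < Nat.card F) {GN : Subgroup G} (hG : GN ≤ tN X) {δ : G}
    (hδ : δ ∈ normalizer (tU Φ X : Set G)) (ho : Odd (orderOf δ))
    (ha : ActsLike GN (tU Φ X) (tL X ⊓ normalizer (tU Φ X : Set G)) δ) (i : κ) :
    δ ∈ normalizer (tRj E X i : Set G) := by
  have ex : ∀ V : Subgroup G, V ≤ tU Φ X → ¬ V ≤ ⁅tU Φ X, tU Φ X⁆ →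
      ∃ v ∈ V, ∃ j, sc T ρ j v ≠ 0 := fun V h1 h2 => by
    by_contra h3
    push Not at h3
    exact h2 fun v hv => (h.mem_comm hq).2 ⟨h1 hv, h3 v hv⟩
  have hi : ∀ i, UUx X (axR E i) ≤ tU Φ X := fun i _ hu => (h.mem_ax.1 hu).1
  have h1 := h.fix_ax hq ho (rn_of_axes (fun i => UUx X (axR E i))
    (fun c hc h => norm_inf (hG hc) (le_normalizer h)) inf_le_right
    (fun b hb h1 => h.mem_U_of_norm hb.1 h1 hb.2) (fun b hb b' hb' u hu => ?_)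
    (fun i => h.comm_U hq ▸ UUx_mono X Set.subset_union_left) hi
    (fun i h1 => h.sc_ω i (((h.mem_comm hq).1 (h1 (mem_UUx X (Or.inr (Or.inl rfl)) _))).2 i))
    (fun i b hb => mem_normalizer_fintype fun x hx => ?_) (fun i V h1 h2 h3 => ?_)
    (fun V h1 h2 h3 h4 => ?_) (fun k _ ho h1 _ => h.fix_ax hq ho h1) hδ ha)
  · refine norm_closure ?_
    rintro _ ⟨r, hr, c, rfl⟩
    refine h.mem_Rj.2 ⟨conj_mem hδ (X_mem_U hr.1 c), ?_⟩
    by_cases h2 : r ∈ Set.range Φ.simple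
    · obtain ⟨j, rfl⟩ := h2
      exact (h.mem_ax.1 (conj_mem (h1 j) (mem_UUx X (Or.inr (Or.inl rfl)) c))).2 i
        (fun e => hr.2 (Or.inl e.symm)) fun e => hr.2 (Or.inr (by rw [e, E.γ2]; rfl))
    · exact ((h.mem_comm hq).1 (conj_mem (Core.normalizer_inf_le_normalizer_commutator _ _ ⟨hδ, hδ⟩)
        ((h.comm_U hq).ge (mem_UUx X (by exact ⟨hr.1, h2⟩) c)))).2 i
  · have y1 := conj_mem (inv_mem hb.2) (conj_mem (inv_mem hb'.2) hu)
    have h2 := conj_mem hb.2 (conj_mem hb'.2 y1)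
    have e1 : ⁅b, b'⁆ * u * ⁅b, b'⁆⁻¹ =
        b * (b' * (b⁻¹ * (b'⁻¹ * u * b'⁻¹⁻¹) * b⁻¹⁻¹) * b'⁻¹) * b⁻¹ := by
      rw [commutatorElement_def]; group
    have e2 : u = b' * (b * (b⁻¹ * (b'⁻¹ * u * b'⁻¹⁻¹) * b⁻¹⁻¹) * b⁻¹) * b'⁻¹ := by group
    rw [e1]
    refine (h.mem_comm hq).2 ⟨mul_mem h2 (inv_mem hu), fun j => ?_⟩
    obtain ⟨c, hc⟩ := h.sc_B hb j
    obtain ⟨c', hc'⟩ := h.sc_B hb' j
    rw [h.sc_mul j h2 (inv_mem hu), h.sc_inv j hu, hc _ (conj_mem hb'.2 y1), hc' _ y1]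
    nth_rw 2 [e2]
    rw [hc' _ (conj_mem hb.2 y1), hc _ y1, mul_left_comm, CharTwo.add_self_eq_zero]
  · refine h.mem_ax.2 ⟨conj_mem hb.2 (hi i hx), fun j j1 j2 => ?_⟩
    obtain ⟨c, hc⟩ := h.sc_B hb j
    rw [hc _ (hi i hx), (h.mem_ax.1 hx).2 j j1 j2, mul_zero]
  · refine or_iff_not_imp_left.2 fun h4 => ?_
    obtain ⟨v, hv, j, hj⟩ := ex V (h2.trans (hi i)) h4
    rw [← axR_eq (j := j) (by
      by_contra e
      exact hj ((h.mem_ax.1 (h2 hv)).2 j (not_or.1 e).1 (not_or.1 e).2))]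
    exact h.ax_le hq h1 (h2.trans (hi i)) h3 hv hj
  · obtain ⟨v, hv, j, hj⟩ := ex V h2 h4
    exact ⟨j, h.ax_le hq h1 h2 h3 hv hj⟩

end Sys

end CfsgLib.SLT
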