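import Mathlib
import Cfsg.Agent.Lib.SLT.NH
import Cfsg.Agent.Lib.SLT.Lbt
import Cfsg.Agent.Lib.SLE.NP

/-!
# The product case: the unique fixed point of `t`
-/

set_option autoImplicit false
set_option linter.unusedSectionVars false

namespace CfsgLib.SLT

open CfsgLib.RGD CfsgLib.Stein CfsgLib.SLE Subgroup
open scoped commutatorElement Pointwise

universe u

variable {ι κ : Type} [Fintype κ] [DecidableEq κ] [Finite ι] {Φ : RootSys ι κ} {E : ER Φ}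
  {F K : Type} [Field F] [Finite F] [CharP F 2] [Field K] [Finite K] [CharP K 2] {P : QE F K}
  {G : Type u} [Group G] [Finite G] {A : Type} [Group A] [Finite A] {T : StSys Φ K A} {s : A}
  {X : ι → K → G} {ρ : G → A} {t : G}

open CfsgLib.UFP

variable {y : ι → F → G} {c : F} {X₁ X₂ : ι → K → G} {ρ₁ ρ₂ : G → A}

namespace DblP

variable (d : DblP E P T s X ρ t y c X₁ X₂ ρ₁ ρ₂)
include d

theorem symm : DblP E P T s X ρ t y c X₂ X₁ ρ₂ ρ₁ :=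
  ⟨d.toHatL, d.s₂, d.s₁, fun r s c e => (d.c12 s r e c).symm,
    fun r c => by rw [d.ext, d.c12], fun r c => by
      rw [← d.t12, show t * (t * X₁ r c * t⁻¹) * t⁻¹ = t * t * X₁ r c * (t * t)⁻¹ by group, d.t2]
      group,
    by rw [← d.eqG, sup_comm]⟩

theorem conj_UU (Ψ : Set ι) : MulAut.conj t • UUx X₁ Ψ = UUx X₂ Ψ := by
  rw [← cjX_UU, show cjX t X₁ = X₂ from funext₂ d.t12]

theorem c21 : tL X₂ ≤ SLT.tC X₁ :=
  UUx_le_iff.2 fun r _ c => mem_cent_UUx.2 fun s _ e => d.c12 s r e c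

theorem cm {a b : G} (ha : a ∈ tL X₁) (hb : b ∈ tL X₂) : a * b = b * a :=
  mem_cent.1 (d.c21 hb) a ha

theorem mem_W {k : G} (h1 : k ∈ SLT.tC X₁) (h2 : k ∈ SLT.tC X₂) :
    k ∈ centralizer (tG0 E X y : Set G) := by
  rw [← d.eqG]
  exact le_centralizer_iff.1 (sup_le (le_centralizer_iff.1 (zpowers_le.2 h1))
    (le_centralizer_iff.1 (zpowers_le.2 h2))) (mem_zpowers k)

theorem norm1 : tG0 E X y ≤ tN X₁ :=
  d.eqG ▸ sup_le le_normalizer (d.c21.trans (centralizer_le_normalizer _))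

theorem le1 : tL X₁ ≤ tG0 E X y := d.eqG ▸ le_sup_left

theorem neL : tL X₁ ≠ tL X₂ := fun e => d.s₁.not_le_C (e.le.trans d.c21)

theorem perm {g : G} (hg : g ∈ normalizer (tG0 E X y : Set G)) :
    MulAut.conj g • tL X₁ = tL X₁ ∨ MulAut.conj g • tL X₁ = tL X₂ := by
  have h1 : MulAut.conj g • tL X₁ ≤ tG0 E X y :=
    Coprime.conj_smul_le_iff.2 fun x hx => conj_mem hg (d.le1 hx)
  have h2 : tG0 E X y ≤ normalizer ((MulAut.conj g • tL X₁ : Subgroup G) : Set G) := fun x hx => by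
    have := norm_conj (g := g) (d.norm1 (conj_mem' hg hx))
    rwa [show g * (g⁻¹ * x * g) * g⁻¹ = x by group] at this
  have hc : Nat.card (tL X₂) = Nat.card (tL X₁) := by
    rw [tL, ← d.conj_UU, Coprime.card_conj_smul]; rfl
  rcases d.s₁.le_or_cent (d.le1.trans h2) (h1.trans d.norm1) with h3 | h3
  · exact Or.inl (Core.eq_of_le_of_card_le h3 (Coprime.card_conj_smul g _).le).symm
  rcases d.s₂.le_or_cent (d.symm.le1.trans h2) (h1.trans d.symm.norm1) with h4 | h4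
  · exact Or.inr (Core.eq_of_le_of_card_le h4 ((Coprime.card_conj_smul g _).trans hc.symm).le).symm
  · refine absurd (fun x hx => ?_) (d.s₁.cj g).not_le_C
    rw [tL, cjX_UU] at hx
    refine centralizer_le ?_ (d.mem_W (h3 hx) (h4 hx))
    rw [tL, cjX_UU]; exact h1

theorem norm2 {g : G} (hg : g ∈ normalizer (tG0 E X y : Set G)) (h : g ∈ tN X₁) : g ∈ tN X₂ := by
  rcases d.symm.perm hg with h1 | h1
  · exact Coprime.mem_normalizer_iff_conj_smul_eq.2 h1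
  · exact absurd (MulAction.injective _ ((Coprime.mem_normalizer_iff_conj_smul_eq.1 h).trans h1.symm))
      d.neL

theorem idx {g : G} (hg : g ∈ normalizer (tG0 E X y : Set G)) : g ∈ tN X₁ ∨ g * t ∈ tN X₁ := by
  rcases d.symm.perm hg with h1 | h1
  · exact Or.inl (d.symm.norm2 hg (Coprime.mem_normalizer_iff_conj_smul_eq.2 h1))
  · refine Or.inr (Coprime.mem_normalizer_iff_conj_smul_eq.2 ?_)
    rw [map_mul, mul_smul, tL, d.conj_UU]; exact h1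

theorem np_t {a : G} (ha : a ∈ tL X₁) : t * a * t⁻¹ ∈ tL X₂ :=
  (d.conj_UU Set.univ).le (Coprime.conj_mem_conj_smul ha)

theorem diag {Ψ : Set ι} {l : G} (hl : l ∈ UUx X Ψ) : ∃ a ∈ UUx X₁ Ψ, l = a * (t * a * t⁻¹) := by
  induction hl using closure_induction with
  | mem _ h =>
    obtain ⟨r, hr, u, rfl⟩ := h
    exact ⟨_, mem_UUx X₁ hr u, by rw [d.t12, d.ext]⟩
  | one => exact ⟨1, one_mem _, by group⟩
  | mul _ _ _ _ h1 h2 =>
    obtain ⟨a, ha, rfl⟩ := h1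
    obtain ⟨b, hb, rfl⟩ := h2
    refine ⟨a * b, mul_mem ha hb, ?_⟩
    rw [mul_assoc a, ← mul_assoc _ b, ← d.cm (UU_le_tL X₁ Ψ hb) (d.np_t (UU_le_tL X₁ Ψ ha))]
    group
  | inv _ _ h =>
    obtain ⟨a, ha, rfl⟩ := h
    refine ⟨a⁻¹, inv_mem ha, ?_⟩
    rw [d.cm (UU_le_tL X₁ Ψ ha) (d.np_t (UU_le_tL X₁ Ψ ha))]
    group

theorem xl_ext (r : ι) (p : F) : xl P X r p = xl P X₁ r p * xl P X₂ r p := d.ext _ _

/-- the involutions of `L t` are conjugate to `t` in `G0` -/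
theorem np_conj {w : G} (hw : w ∈ tL X) (w2 : w * w = 1) :
    ∃ a ∈ tL X₁, w * t = a * t * a⁻¹ := by
  obtain ⟨a, ha, e⟩ := d.diag hw
  obtain ⟨m, ⟨k, hm⟩, hp⟩ := exists_two_pow a
  have e1 : w = a ^ m * (t * a ^ m * t⁻¹) := by
    rw [← conj_pow, ← (show Commute a (t * a * t⁻¹) from d.cm ha (d.np_t ha)).mul_pow, ← e, hm,
      pow_succ, pow_mul, pow_two, w2, one_pow, one_mul]
  have hb : a ^ m ∈ tL X₁ := pow_mem ha m
  generalize a ^ m = b at *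
  have h3 : b * b = (t * (b * b) * t⁻¹)⁻¹ := by
    rw [e1, mul_assoc, ← mul_assoc (t * b * t⁻¹), ← d.cm hb (d.np_t hb)] at w2
    rw [eq_inv_iff_mul_eq_one, ← w2]; group
  have h4 := d.s₁.eq_one (mul_mem hb hb) (h3 ▸ inv_mem (d.c21 (d.np_t (mul_mem hb hb))))
    (pg_zpowers hp (mul_mem (mem_zpowers b) (mem_zpowers b)))
  refine ⟨b, hb, ?_⟩
  rw [e1, inv_eq_of_mul_eq_one_right h4]; group

theorem np_nat {g : G} (h : MulAut.conj (g * t * g⁻¹) • tL X₁ = tL X₂) {x : G} (hx : x ∈ tL X₁) :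
    g⁻¹ * x * g ∈ tG0 E X y := by
  obtain ⟨s, hs⟩ : ∃ s, s = g * t * g⁻¹ := ⟨_, rfl⟩
  have H := d.toSit.cj g
  have pf := d.s₁.rel.pf_L
  rw [← hs] at h H
  have h2 : ∀ a ∈ tL X₁, s * a * s⁻¹ ∈ tL X₂ := fun a ha => h ▸ Coprime.conj_mem_conj_smul ha
  let φ : tL X₁ →* G := MonoidHom.mk' (fun a => a * (s * a * s⁻¹)) fun a b => by
    simp only [coe_mul]
    rw [mul_assoc (a : G) (s * a * s⁻¹), ← mul_assoc (s * a * s⁻¹), ← d.cm b.2 (h2 a a.2)]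
    group
  have hD : ∀ a ∈ tL X₁, g⁻¹ * (a * (s * a * s⁻¹)) * g ∈ tL X := fun a ha =>
    mem_cj_UU.1 (H.toSys.pf_le H.cyc (pf.top.map φ) (le_trans (by
      rintro _ ⟨b, -, rfl⟩
      refine mem_cent1.2 ?_
      show s * (b * (s * b * s⁻¹)) = b * (s * b * s⁻¹) * s
      rw [d.cm b.2 (h2 b b.2), ← mul_inv_eq_iff_eq_mul, show s * (s * b * s⁻¹ * b) * s⁻¹ =
        s * s * b * (s * s)⁻¹ * (s * b * s⁻¹) by group, H.t2, ← d.cm b.2 (h2 b b.2)]
      group) H.CN) (mem_map_of_mem φ (mem_top ⟨a, ha⟩)))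
  have h3 : tL X₁ ≤ MulAut.conj g • normalizer (tG0 E X y : Set G) := by
    refine pf.2.trans ((closure_le _).2 fun z hy => Coprime.mem_conj_smul_iff.2 ?_)
    obtain ⟨a, ha, e⟩ := d.np_conj (hD z hy.1) (by
      rw [show g⁻¹ * (z * (s * z * s⁻¹)) * g * (g⁻¹ * (z * (s * z * s⁻¹)) * g) =
        g⁻¹ * (z * (s * z * s⁻¹ * z) * (s * z * s⁻¹)) * g by group, ← d.cm hy.1 (h2 z hy.1),
        show z * (z * (s * z * s⁻¹)) * (s * z * s⁻¹) = z * z * (s * (z * z) * s⁻¹) by group, hy.2]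
      group)
    refine (Subgroup.mul_mem_cancel_left _ (inv_mem (le_normalizer (d.le1 ha)))).1
      (d.toHatL.cent_le (mem_cent1.2 ?_))
    calc _ = a⁻¹ * (a * t * a⁻¹) * (g⁻¹ * z * g) := by group
      _ = a⁻¹ * (g⁻¹ * (z * s * (z * s⁻¹ * (g * t * g⁻¹) * z)) * g) := by rw [← e]; group
      _ = _ := by rw [← hs, inv_mul_cancel_right, hy.2, hs]; group
  have h4 : ⁅tL X₁, tL X₁⁆ ≤ MulAut.conj g • tG0 E X y := commutator_le.2 fun z hy a ha => by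
    have h5 := d.toHatL.L_le (hD a ha)
    have h6 := mul_mem (conj_mem (Coprime.mem_conj_smul_iff.1 (h3 hy)) h5) (inv_mem h5)
    refine Coprime.mem_conj_smul_iff.2 ?_
    rwa [show g⁻¹ * z * g * (g⁻¹ * (a * (s * a * s⁻¹)) * g) * (g⁻¹ * z * g)⁻¹ *
      (g⁻¹ * (a * (s * a * s⁻¹)) * g)⁻¹ = g⁻¹ * (z * a * (s * a * s⁻¹ * z⁻¹) * (s * a * s⁻¹)⁻¹ * a⁻¹) * g
      by group, ← d.cm (inv_mem hy) (h2 a ha), show z * a * (z⁻¹ * (s * a * s⁻¹)) * (s * a * s⁻¹)⁻¹ *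
      a⁻¹ = ⁅z, a⁆ by rw [commutatorElement_def]; group] at h6
  exact Coprime.mem_conj_smul_iff.1 (h4 (pf.1 hx))

theorem np_no_fix {g : G} (h1 : g * t * g⁻¹ ∈ tN X₁) (h2 : g * t * g⁻¹ ∈ tN X₂) : False := by
  have H := d.toSit.cj g
  have h0 : 0 < Nat.card F ^ NP Φ := pow_pos Nat.card_pos _
  obtain ⟨R, p1, p2, p3⟩ := d.s₁.lb h1 H.t2
  obtain ⟨R', q1, q2, q3⟩ := d.s₂.lb h2 H.t2
  have hc : ∀ a ∈ R, ∀ b ∈ R', a * b = b * a := fun a ha b hb => d.cm (p1 ha).1 (q1 hb).1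
  have h4 := (card_sup_comm hc fun a ha hb =>
    d.s₁.eq_one (p1 ha).1 (d.c21 (q1 hb).1) (pg_zpowers p2 ha)).trans
    (H.card_le (two_cj d.two g) (pg_sup_comm p2 q2 hc)
      (sup_le (p1.trans inf_le_right) (q1.trans inf_le_right)))
  have h5 := four_lt (Nat.card (F ≃+* F))
  have h6 := Nat.mul_le_mul p3 q3
  rw [← pow_two, ← mul_pow, pow_le_pow_iff_left₀ (by omega) (by omega) two_ne_zero, pow_add] at h6
  rw [eight_pow] at h5
  nlinarith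

/-- **(U)** -/
theorem u : U (normalizer (tG0 E X y : Set G)) t := by
  refine ⟨d.t2, d.toHatL.t_norm, fun g hg => ?_⟩
  rcases d.perm hg with h | h
  · have h1 : g * t * g⁻¹ ∈ tN X₁ := Coprime.mem_normalizer_iff_conj_smul_eq.2 h
    exact (d.np_no_fix h1 (d.norm2 hg h1)).elim
  · have h' : MulAut.conj (g * t * g⁻¹) • tL X₂ = tL X₁ := by
      rw [← h, conj_conj (d.toSit.cj g).t2]
    refine inv_mem_iff.1 (mem_normalizer_fintype fun x hx => ?_)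
    rw [SetLike.mem_coe, ← d.eqG] at hx
    obtain ⟨a, ha, b, hb, rfl⟩ := mem_sup_comm (fun _ ha _ hb => d.cm ha hb) hx
    rw [show g⁻¹ * (a * b) * g⁻¹⁻¹ = g⁻¹ * a * g * (g⁻¹ * b * g) by group]
    exact mul_mem (d.np_nat h ha) (d.symm.np_nat h' hb)

end DblP

end CfsgLib.SLT
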