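import Mathlib
import Cfsg.Agent.Lib.SLT.NK
import Cfsg.Agent.Lib.SLE.NS

/-!
# The action of `N(L)` on `U`
-/

set_option autoImplicit false
set_option linter.unusedSectionVars false

namespace CfsgLib.SLT

open CfsgLib.RGD CfsgLib.Stein CfsgLib.SLE Subgroup
open scoped commutatorElement Pointwise

universe u

variable {ι κ : Type} [Fintype κ] [DecidableEq κ] [Finite ι] {Φ : RootSys ι κ} {E : ER Φ}
  {F K : Type} [Field F] [Finite F] [CharP F 2] [Field K] [Finite K] [CharP K 2] {P : QE F K}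
  {G : Type u} [Group G] [Finite G] {A : Type} [Group A] [Finite A] {T : StSys Φ K A} {s : A}
  {X : ι → K → G} {ρ : G → A} {t : G}

open CfsgLib.UFP

theorem ns_rf (E : ER Φ) {i j : κ} (h0 : j = i ∨ ip Φ (Φ.simple i) (Φ.simple j) = 0) {r : ι}
    (hr : r ∈ {r | Φ.Pos r} \ {Φ.simple i, Φ.simple j}) :
    rf Φ (Φ.simple i) r ∈ {r | Φ.Pos r} \ {Φ.simple i, Φ.simple j} := by
  have h1 : rf Φ (Φ.simple i) r ≠ Φ.simple i := fun e =>
    Φ.ne_neg_of_pos (Φ.pos_simple i) hr.1 (by rw [← rf_rf E (Φ.simple i) r, e, (E.rf_self _).1])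
  refine ⟨E.rf_simple i ▸ Φ.pos_s hr.1 fun e => hr.2 (Or.inl e), ?_⟩
  rintro (e | e)
  · exact h1 e
  · rcases h0 with rfl | h0
    · exact h1 e
    · exact hr.2 (Or.inr (by rw [← rf_rf E (Φ.simple i) r, e, E.rf_orth h0]; rfl))

namespace Sys

variable (h : Sys E P T s X ρ) {w : G}
include h

omit h in
theorem xl_mem_U {r : ι} (hr : Φ.Pos r) (c : F) : xl P X r c ∈ tU Φ X := X_mem_U hr _

omit h in
theorem xl_mem_Z (r : ι) (c : F) : xl P X r c ∈ tZ X r := mem_UUx X (by exact rfl) _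

theorem Z_le_of {M : Subgroup G} {c e : F} (he : e ≠ 0) (h1 : ∀ a, xl P X E.α a *
    (xl P X E.θ c * xl P X E.β e) * (xl P X E.α a)⁻¹ * (xl P X E.θ c * xl P X E.β e)⁻¹ ∈ M) :
    tZ X E.θ ≤ M := fun z hz => by
  obtain ⟨a, rfl⟩ := (h.rel.mem_tZ E.γ_θ).1 hz
  have h2 := h1 (a / e)
  rwa [← mul_assoc, h.Z_cent (xl_mem_Z _ c) (xl_mem_U (r := E.α) (Φ.pos_simple _) _),
    mul_assoc (xl P X E.θ c), mul_assoc (xl P X E.θ c), h.rel.conj_ll E.γ_α E.γ_β E.hβ,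
    div_mul_cancel₀ _ he, ← mul_assoc,
    h.Z_cent (xl_mem_Z _ a) (mul_mem (xl_mem_U E.pos_θ c) (xl_mem_U E.pos_β e)),
    mul_inv_cancel_right] at h2

theorem cz (h1 : w ∈ tN X) (h2 : w ∈ normalizer (tU Φ X : Set G)) {M : Subgroup G}
    (h3 : ∀ u ∈ tU Φ X, w * u * w⁻¹ * u⁻¹ ∈ M) :
    tZ X E.θ ≤ M ∨ w ∈ centralizer (tU Φ X : Set G) := by
  have hZ : tU Φ X ≤ normalizer (tZ X E.θ : Set G) := fun u hu =>
    centralizer_le_normalizer _ (mem_cent.2 fun z hz => (h.Z_cent hz hu).symm)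
  have pα : Φ.Pos E.α := Φ.pos_simple _
  by_cases hN : ∀ u ∈ tU Φ X, w * u * w⁻¹ * u⁻¹ ∈ tZ X E.θ
  · obtain ⟨u, hu, h4⟩ := h.cenU E.idl_pos
      (fun T' h => E.gen_simple T' (fun _ ⟨i, e⟩ => h (e ▸ Φ.pos_simple i)))
      (fun r => (E.γ_pos r).2) h1 fun r hr c => by
      by_cases e : r = E.θ
      · obtain ⟨a, ha⟩ : ∃ a, a = xl P X E.α (P.T c) := ⟨_, rfl⟩
        obtain ⟨b, hb⟩ : ∃ b, b = xl P X E.β 1 := ⟨_, rfl⟩
        have a1 : a ∈ tU Φ X := ha ▸ xl_mem_U pα _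
        have b1 : b ∈ tU Φ X := hb ▸ xl_mem_U E.pos_β 1
        have e1 : X r c = a * b * a⁻¹ * b⁻¹ := by
          rw [ha, hb, e, h.rel.ll _ _ _ E.γ_α E.γ_β E.hβ, mul_one, h.rel.lng E.γ_θ]
        have e2 := h.Z_cent (hN a a1) (mul_mem (mul_mem a1 (conj_mem h2 b1)) (inv_mem a1))
        have e3 := h.Z_cent (hN b b1) a1
        have e4 := h.Z_cent (hN b b1) (mul_mem (mul_mem (mul_mem a1 b1) (inv_mem a1)) (inv_mem b1))
        have : w * X r c * w⁻¹ = X r c := by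
          rw [e1]
          calc _ = w * a * w⁻¹ * a⁻¹ * (a * (w * b * w⁻¹) * a⁻¹) * (w * a * w⁻¹ * a⁻¹)⁻¹ *
                (w * b * w⁻¹)⁻¹ := by group
            _ = a * (w * b * w⁻¹ * b⁻¹) * b * a⁻¹ * b⁻¹ * (w * b * w⁻¹ * b⁻¹)⁻¹ := by
              rw [← e2]; group
            _ = w * b * w⁻¹ * b⁻¹ * (a * b * a⁻¹ * b⁻¹) * (w * b * w⁻¹ * b⁻¹)⁻¹ := by
              rw [e3]; group
            _ = _ := by rw [← e4]; group
        rw [this, mul_inv_cancel]; exact one_mem _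
      · refine UUx_mono X ?_ (hN _ (X_mem_U hr c))
        rintro _ rfl
        exact ⟨E.pos_θ, E.ht_lt_θ e⟩
    have h5 : ∀ v ∈ tU Φ X, w * v * w⁻¹ = u⁻¹ * v * u⁻¹⁻¹ := fun v hv => by
      calc _ = u⁻¹ * (u * w * v) * w⁻¹ := by group
        _ = _ := by rw [← mem_cent.1 h4 v (UU_le_tL X _ hv)]; group
    obtain ⟨c, e, h6⟩ := h.mem_W_iff.1 (h.mem_W_of_comm (inv_mem hu) fun i v => by
      rw [← h5 _ (X_mem_U (Φ.pos_simple i) v)]; exact hN _ (X_mem_U (Φ.pos_simple i) v))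
    by_cases he : e = 0
    · refine Or.inr (mem_cent.2 fun v hv => ?_)
      have := h5 v hv
      rw [h6, he, h.rel.xl_zero, mul_one, ← h.Z_cent (xl_mem_Z _ c) hv, mul_inv_cancel_right,
        mul_inv_eq_iff_eq_mul] at this
      exact this.symm
    · refine Or.inl (h.Z_le_of (c := c) he fun a => comm_swap ?_)
      rw [← h6, ← h5 _ (xl_mem_U pα a)]
      exact h3 _ (xl_mem_U pα a)
  · obtain ⟨D, hD⟩ : ∃ D, D = closure {g | ∃ u ∈ tU Φ X, g = w * u * w⁻¹ * u⁻¹} := ⟨_, rfl⟩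
    have h4 : D ≤ M := hD ▸ (closure_le _).2 fun _ ⟨u, hu, e⟩ => e ▸ h3 u hu
    have h5 : D ≤ tU Φ X :=
      hD ▸ (closure_le _).2 fun _ ⟨u, hu, e⟩ => e ▸ mul_mem (conj_mem h2 hu) (inv_mem hu)
    have h6 : tU Φ X ≤ normalizer (D : Set G) := hD ▸ fun v hv => norm_closure (by
        rintro _ ⟨u, hu, rfl⟩
        rw [show v * (w * u * w⁻¹ * u⁻¹) * v⁻¹ = (w * v * w⁻¹ * v⁻¹)⁻¹ *
          (w * (v * u) * w⁻¹ * (v * u)⁻¹) by group]
        exact mul_mem (inv_mem (subset_closure ⟨v, hv, rfl⟩))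
          (subset_closure ⟨_, mul_mem hv hu, rfl⟩))
    obtain ⟨x, x1, x2, -, x3⟩ := exists_layer h.pg_U h5 h6 hZ fun hle =>
      hN fun u hu => hle (hD ▸ subset_closure ⟨u, hu, rfl⟩)
    obtain ⟨c, e, rfl⟩ := h.mem_W_iff.1 (h.mem_W_of_comm (h5 x1) fun i v =>
      comm_swap (x3 _ (X_mem_U (Φ.pos_simple i) v)))
    refine Or.inl (h.Z_le_of (c := c) (e := e) (fun he => x2 ?_) fun a =>
      h4 (mul_mem (conj_mem (h6 (xl_mem_U pα a)) x1) (inv_mem x1)))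
    rw [he, h.rel.xl_zero, mul_one]; exact xl_mem_Z _ c

theorem ty_of_cent (h1 : w ∈ tN X) (h2 : w ∈ normalizer (tU Φ X : Set G))
    (h3 : w ∈ centralizer (tZ X E.θ : Set G)) : w ∈ tN0 T X ρ ∨ Ty T X ρ w P.τ := by
  obtain ⟨σ, h4⟩ := h.exists_ty h1
  obtain ⟨u, hu, d, hd⟩ := h.exists_std h4 h2
  obtain ⟨c₀, -, h5⟩ := h.st_long hd E.γ_θ
  obtain ⟨σ₀, h6, -⟩ := P.exists_res σ
  have e : ∀ c, c ≠ 0 → c = c₀ * σ₀ c := fun c hc => (h.xl_inj E.γ_θ E.γ_θ hc (by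
    rw [← h.st_xl hd E.γ_θ h5 (h6 c), mul_assoc u, ← mem_cent.1 h3 _ (xl_mem_Z _ c), ← mul_assoc,
      h.Z_cent (xl_mem_Z _ c) hu]
    group)).2
  have e1 := e 1 one_ne_zero
  rw [map_one, mul_one] at e1
  rcases P.eq_of_fix (σ := σ) fun c => by
    by_cases hc : c = 0
    · rw [hc, map_zero, map_zero]
    · rw [h6, ← one_mul (σ₀ c), e1, ← e c hc] with rfl | rfl
  exacts [Or.inl (h.mem_N0.2 h4), Or.inr h4]

theorem mul_mem_N0 {a b : G} (h1 : Ty T X ρ a P.τ) (h2 : Ty T X ρ b P.τ) : a * b ∈ tN0 T X ρ :=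
  h.mem_N0.2 (P.τ_mul ▸ h.ty_mul h1 h2)

theorem comm_le_of_index (hq : 2 < Nat.card F) {J : Subgroup G}
    (hJ : ∀ a ∈ tU Φ X, ∀ b ∈ tU Φ X, a ∉ J → b ∉ J → a * b ∈ J) : ⁅tU Φ X, tU Φ X⁆ ≤ ⁅J, J⁆ :=
  (h.comm_U hq).le.trans (h.X_mem_comm hq hJ)

theorem exists_gr (hq : 2 < Nat.card F) {J : Subgroup G}
    (hJ : ∀ a ∈ tU Φ X, ∀ b ∈ tU Φ X, a ∉ J → b ∉ J → a * b ∈ J) (h2 : Ty T X ρ w P.τ)
    (h3 : w ∈ normalizer (tU Φ X : Set G)) :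
    ∃ u ∈ J, w * u * w⁻¹ * u⁻¹ ∉ ⁅tU Φ X, tU Φ X⁆ := by
  obtain ⟨i, hi⟩ := E.exists_moved h.tr.ne
  obtain ⟨u, hu, d, hd⟩ := h.exists_std h2 h3
  by_contra hn
  push Not at hn
  have key : ∀ v, d (Φ.simple i) * P.τ v = v := fun v => by
    obtain ⟨c, c0, hc⟩ := nk_three hq hJ (z := fun c => X (Φ.simple i) (P.f c * v))
      (fun _ => X_mem_U (Φ.pos_simple i) _) fun p q => by simp only [map_add, add_mul, h.rel.add]
    have h4 := ((h.mem_comm hq).1 (hn _ hc)).2 i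
    have h5 : X (Φ.simple i) (P.f c * v) ∈ tU Φ X := X_mem_U (Φ.pos_simple i) _
    rw [h.sc_mul i (conj_mem h3 h5) (inv_mem h5), ← h.sc_conj_U i hu (conj_mem h3 h5),
      show ∀ x, u * (w * x * w⁻¹) * u⁻¹ = u * w * x * (u * w)⁻¹ from fun x => by group,
      h.sc_st i hd h5, h.sc_inv i h5, h.sc_X hi, map_mul, P.τf, mul_left_comm, ← mul_add] at h4
    exact CharTwo.add_eq_zero.1 ((mul_eq_zero.1 h4).resolve_left ((map_ne_zero _).2 c0))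
  have e1 := key 1
  rw [map_one, mul_one] at e1
  exact P.τ_ne (RingEquiv.ext fun v => by simpa [e1] using key v)

theorem fpf (hq : 2 < Nat.card F) {M : Subgroup G} (h1 : ∀ b ∈ tL X ⊓ normalizer (tU Φ X : Set G),
    ∀ u ∈ tU Φ X, b * u * b⁻¹ * u⁻¹ ∈ M) : tU Φ X ≤ M := by
  obtain ⟨c, c0, -, c2⟩ := exists_ne hq
  have c3 : P.f (c ^ 2) ≠ 1 := fun e => c2 (P.inj (e.trans (map_one _).symm))
  refine (closure_le _).2 ?_
  rintro _ ⟨r, hr, v, rfl⟩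
  obtain ⟨a, Ψ, d, ha, hd, h2⟩ : ∃ a Ψ d, a ∈ UUx X Ψ ∧ St T X ρ a d 1 ∧ d r ≠ 1 := by
    by_cases hl : E.γ r = r
    · obtain ⟨a, ha, -, -, hs⟩ := h.exists_hl hl c0
      exact ⟨a, _, _, ha, hs, by rw [E.ip_self]; exact_mod_cast c3⟩
    · obtain ⟨a, ha, -, -, hs⟩ := h.exists_hs r ((map_ne_zero P.f).2 c0)
      exact ⟨a, _, _, ha, hs, by
        rw [E.ip_self, E.γ_orth hl, zpow_zero, mul_one, ← map_zpow₀]; exact_mod_cast c3⟩
  have h3 := h1 a (h.st_mem_B ha hd) _ (X_mem_U hr (v / (d r - 1)))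
  rwa [h.st_conj hd, h.rel.inv, ← h.rel.add, ← CharTwo.sub_eq_add, RingAut.one_apply, ← sub_one_mul,
    mul_div_cancel₀ _ (sub_ne_zero.2 h2)] at h3

theorem cR (i : κ) (h1 : w ∈ tN X) (h2 : w ∈ centralizer (tRj E X i : Set G)) :
    ∃ u ∈ tRj E X i, u * w ∈ tC X := by
  obtain ⟨u, hu, h3⟩ := h.cenU (idl_diff2 i) (gen_diff2 i) (cl_Rj i).gam h1 fun r hr c => by
    rw [← mem_cent_UUx.1 h2 r hr c, mul_inv_cancel_right, mul_inv_cancel]; exact one_mem _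
  obtain ⟨k, hk⟩ := E.γs i
  refine ⟨u, h.mem_UX_of_U (cl_Rj i) hu (h.toTw.telim Φ.ht (fun _ => Φ.ht_pos)
    (fun _ _ _ => radd_ht) E.γ_ht (fun r hr m hm h4 => ⟨hm, ?_⟩) (h.map_U hu)
    fun r hr h4 => ?_), h3⟩
  · have := Φ.ht_pos hr.1
    rintro (e | e)
    · rw [e, Φ.ht_simple] at h4; omega
    · rw [e, hk, Φ.ht_simple] at h4; omega
  have h5 : r = Φ.simple i ∨ r = E.γ (Φ.simple i) := not_not.1 fun e => h4 ⟨hr, e⟩
  obtain ⟨j, m, hm⟩ := E.up_pos hr (by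
    rcases h5 with rfl | rfl
    exacts [E.simple_ne_θ i, hk ▸ E.simple_ne_θ k])
  have hj : Φ.simple j ∈ {r | Φ.Pos r} \ {Φ.simple i, E.γ (Φ.simple i)} := ⟨Φ.pos_simple j, by
    have k1 := (E.radd_ip hm).1
    have k2 := E.γo (Φ.simple i)
    rintro (e | e) <;> rcases h5 with h5 | h5 <;> rw [e, h5] at k1
    · rw [E.ip_self] at k1; omega
    · rw [ip_comm] at k1; omega
    · omega
    · rw [E.ip_self] at k1; omega⟩
  refine ⟨_, m, hj.1, hm, fun v => h.toTw.cena_cf0 ?_ m⟩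
  have h6 : u * X (Φ.simple j) v = X (Φ.simple j) v * u := mul_right_cancel (b := w) (by
    rw [mul_assoc, mem_cent_UUx.1 h2 _ hj, ← mul_assoc, ← mem_cent.1 h3 _ (mem_tL X _ _), mul_assoc])
  rw [← h.map, ← h.mul _ (U_le_N hu) _ (U_le_N (X_mem_U hj.1 v)), h6,
    h.mul _ (U_le_N (X_mem_U hj.1 v)) _ (U_le_N hu)]

theorem U_norm_Rj (i : κ) : tU Φ X ≤ normalizer (tRj E X i : Set G) :=
  h.rel.U_norm h.tr (idl_diff2 i) (cl_Rj i).gam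

theorem gen {M : Subgroup G} (h1 : ∀ i, ∀ l ∈ tL X ⊓ normalizer (tRj E X i : Set G), ∀ u ∈ tU Φ X,
    l * u * l⁻¹ ∈ M) : tL X ≤ M := by
  refine h.L_le_of_simple (fun i u => by
    simpa using h1 i 1 (one_mem _) _ (X_mem_U (Φ.pos_simple i) u)) fun i u => ?_
  obtain ⟨k, hk⟩ := E.γs i
  obtain ⟨w, hw, h2, h3⟩ : ∃ w ∈ WT E Set.univ, w (Φ.simple i) = Φ.neg (Φ.simple i) ∧
      ∀ r ∈ {r | Φ.Pos r} \ {Φ.simple i, E.γ (Φ.simple i)},
        w r ∈ {r | Φ.Pos r} \ {Φ.simple i, E.γ (Φ.simple i)} := by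
    by_cases hl : E.γ (Φ.simple i) = Φ.simple i
    · exact ⟨_, rf_mem_WT trivial hl, (E.rf_self _).1, by
        rw [hl]; exact fun r => ns_rf E (Or.inl rfl)⟩
    · have h0 := E.γ_orth hl
      refine ⟨_, rf2_mem_WT trivial hl, ?_, fun r hr => ?_⟩
      · rw [Equiv.Perm.mul_apply, E.rf_orth ((ip_comm _ _).trans h0), (E.rf_self _).1]
      · rw [hk] at h0 hr ⊢
        refine ns_rf E (Or.inr h0) ?_
        rw [Set.pair_comm] at hr ⊢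
        exact ns_rf E (Or.inr ((ip_comm _ _).trans h0)) hr
  obtain ⟨n, hn, h4, -⟩ := h.exists_exa (Ψ := Set.univ) (fun _ _ => trivial) hw
  rw [← h2, ← h4]
  exact h1 i n ⟨hn, mem_normalizer_fintype fun x hx => h4.conj_mem h3 hx⟩ _
    (X_mem_U (Φ.pos_simple i) u)

end Sys

end CfsgLib.SLT
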