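import Mathlib
import Cfsg.Agent.Lib.SLT.NP
import Cfsg.Agent.Lib.SLT.NS
import Cfsg.Agent.Lib.SLE.NQ

/-!
# The product case is impossible
-/

set_option autoImplicit false
set_option linter.unusedSectionVars false

namespace CfsgLib.SLT

open CfsgLib.RGD CfsgLib.Stein CfsgLib.SLE Subgroup
open scoped commutatorElement Pointwise

universe u

variable {ι κ : Type} [Fintype κ] [DecidableEq κ] [Finite ι] {Φ : RootSys ι κ} {E : ER Φ}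
  {F K : Type} [Field F] [Finite F] [CharP F 2] [Field K] [Finite K] [CharP K 2] {P : QE F K}
  {G : Type u} [Group G] [Finite G] {A : Type} [Group A] [Finite A] {T : StSys Φ K A} {s : A}
  {X : ι → K → G} {ρ : G → A} {t : G}

open CfsgLib.UFP

variable {y : ι → F → G} {c : F} {X₁ X₂ : ι → K → G} {ρ₁ ρ₂ : G → A}

/-- the normaliser of `G0` -/
abbrev tNZ (E : ER Φ) (X : ι → K → G) (y : ι → F → G) : Subgroup G :=
  normalizer (tG0 E X y : Set G)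

theorem Sys.nq_sq (h : Sys E P T s X ρ) {w : G} (hw : w ∈ tW E X) : w * w = 1 := by
  obtain ⟨a, e, rfl⟩ := h.mem_W_iff.1 hw
  rw [mul_assoc, ← mul_assoc (xl P X E.β e), h.Z_cent (Sys.xl_mem_Z _ a) (Sys.xl_mem_U E.pos_β e),
    mul_assoc, h.rel.xl_sq, mul_one, h.rel.xl_sq]

theorem nq_W_le : tW E X ≤ tU Φ X :=
  UUx_mono X (by rintro _ (rfl | rfl); exacts [E.pos_θ, E.pos_β])

theorem nq_U_le : tU Φ X ≤ tL X := UU_le_tL X _

namespace DblP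

variable (d : DblP E P T s X ρ t y c X₁ X₂ ρ₁ ρ₂)
include d

theorem nq_conj {Ψ : Set ι} {x : G} (hx : x ∈ UUx X₁ Ψ) : t * x * t⁻¹ ∈ UUx X₂ Ψ :=
  d.conj_UU Ψ ▸ Coprime.conj_mem_conj_smul hx

theorem nq_diag {Ψ : Set ι} {x : G} (hx : x ∈ UUx X₁ Ψ) : x * (t * x * t⁻¹) ∈ UUx X Ψ := by
  induction hx using closure_induction with
  | mem x hx =>
    obtain ⟨r, hr, u, rfl⟩ := hx
    rw [d.t12, ← d.ext]; exact mem_UUx X hr u
  | one => rw [mul_one, mul_inv_cancel, mul_one]; exact one_mem _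
  | mul a b ha hb h1 h2 =>
    have := mul_mem h1 h2
    rw [mul_assoc a, ← mul_assoc _ b,
      ← d.cm (UU_le_tL _ _ hb) (UU_le_tL _ _ (d.nq_conj ha))] at this
    convert this using 1; group
  | inv a ha h1 =>
    have := inv_mem h1
    rw [d.cm (UU_le_tL _ _ ha) (UU_le_tL _ _ (d.nq_conj ha))] at this
    convert this using 1; group

theorem nq_mv {a b : G} (ha : a ∈ tW E X₁) (hb : b ∈ tW E X₂) :
    ∃ e ∈ tW E X, a * b * t * (a * b)⁻¹ = t * e := by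
  have ti : t⁻¹ = t := inv_eq_of_mul_eq_one_right d.t2
  have h1 : t * a * t⁻¹ ∈ tW E X₂ := d.nq_conj ha
  have h2 : t * b * t⁻¹ ∈ tW E X₁ := d.symm.nq_conj hb
  have h3 := mul_mem h1 (inv_mem hb)
  have h4 := d.cm (UU_le_tL _ _ (inv_mem ha)) (UU_le_tL _ _ h3)
  have h5 := d.cm (UU_le_tL _ _ h2) (UU_le_tL _ _ h1)
  have h6 : b * (t * a * t⁻¹)⁻¹ = t * a * t⁻¹ * b⁻¹ := by
    rw [← inv_eq_of_mul_eq_one_right (d.s₂.nq_sq h3)]; group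
  refine ⟨_, d.nq_diag (mul_mem h2 (inv_mem ha)), ?_⟩
  calc _ = t * (t⁻¹ * a * t * (t⁻¹ * b * t) * b⁻¹ * a⁻¹) := by group
    _ = t * (t * a * t⁻¹ * (t * b * t⁻¹) * b⁻¹ * a⁻¹) := by rw [ti]
    _ = t * (t * b * t⁻¹ * (t * a * t⁻¹ * b⁻¹ * a⁻¹)) := by rw [← h5]; group
    _ = t * (t * b * t⁻¹ * a⁻¹ * (t * t * b * (t * t)⁻¹ * (t * a * t⁻¹)⁻¹)) := by
      rw [← h4, d.t2, inv_one, one_mul, mul_one, h6]; group
    _ = _ := by group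

theorem red {Ψ : Set ι} {m : G} (hm : m ∈ tNZ E X y) (h : m ∈ centralizer (UUx X Ψ : Set G)) :
    ∃ n, n ∈ tN X₁ ∧ n ∈ tN X₂ ∧ m * t * m⁻¹ = n * t * n⁻¹ ∧
      n ∈ centralizer (UUx X₁ Ψ : Set G) ∧ n ∈ centralizer (UUx X₂ Ψ : Set G) := by
  have key : ∀ n ∈ tNZ E X y, n ∈ tN X₁ → n ∈ centralizer (UUx X Ψ : Set G) →
      n ∈ centralizer (UUx X₁ Ψ : Set G) ∧ n ∈ centralizer (UUx X₂ Ψ : Set G) := fun n h1 h2 h3 => by
    have := fun r (hr : r ∈ Ψ) u => d.s₁.split_unique (conj_mem h2 (mem_tL X₁ r u)) (mem_tL X₁ r u)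
      (d.c21 (conj_mem (d.norm2 h1 h2) (mem_tL X₂ r u))) (d.c21 (mem_tL X₂ r u))
      (sy_pg_conj (pgroup_zpowers_of_sq (d.s₁.sq r u)) n) (pgroup_zpowers_of_sq (d.s₁.sq r u)) (by
        rw [← d.ext, ← mul_inv_eq_iff_eq_mul.2 (mem_cent_UUx.1 h3 r hr u).symm, d.ext]; group)
    exact ⟨mem_cent_UUx.2 fun r hr u => (mul_inv_eq_iff_eq_mul.1 (this r hr u).1).symm,
      mem_cent_UUx.2 fun r hr u => (mul_inv_eq_iff_eq_mul.1 (this r hr u).2).symm⟩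
  rcases d.idx hm with h1 | h1
  · exact ⟨m, h1, d.norm2 hm h1, rfl, key m hm h1 h⟩
  · have h2 := mul_mem hm d.toHatL.t_norm
    exact ⟨m * t, h1, d.norm2 h2 h1, by group,
      key _ h2 h1 (mul_mem h (centralizer_le (UU_le_tL X Ψ) d.tC))⟩

theorem conj_t {m a b : G} (ha : a ∈ tW E X₁) (hb : b ∈ tW E X₂) (h1 : a⁻¹ * m ∈ SLT.tC X₁)
    (h2 : b⁻¹ * m ∈ SLT.tC X₂) : ∃ e ∈ tW E X, ∃ k ∈ centralizer (tG0 E X y : Set G),
      m * t * m⁻¹ = k * (t * e) := by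
  have ha' := UU_le_tL _ _ ha
  have hb' := UU_le_tL _ _ hb
  obtain ⟨e, he, h0⟩ := d.nq_mv ha hb
  have h3 : (a * b)⁻¹ * m ∈ centralizer (tG0 E X y : Set G) := d.mem_W
    (by rw [mul_inv_rev, mul_assoc]; exact mul_mem (inv_mem (d.c21 hb')) h1)
    (by rw [d.cm ha' hb', mul_inv_rev, mul_assoc]; exact mul_mem (inv_mem (d.symm.c21 ha')) h2)
  have h4 := mul_mem h3 (conj_mem (norm_cent d.toHatL.t_norm) (inv_mem h3))
  refine ⟨e, he, _, h4, ?_⟩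
  rw [← h0, ← mul_assoc, ← mul_assoc, ← mem_cent.1 h4 _ (mul_mem (d.le1 ha') (d.symm.le1 hb'))]
  group

end DblP

theorem DblP.uw (d : DblP E P T s X ρ t y c X₁ X₂ ρ₁ ρ₂) :
    UW (normalizer (tG0 E X y : Set G)) t (tU Φ X) := by
  have hθ : ∀ (Y : ι → K → G) a, xl P Y E.θ a ∈ tW E Y := fun Y a => mem_UUx Y (Or.inl rfl) _
  refine d.toHatL.uw d.u (fun a _ v => ⟨X₁ a v, ?_, fun r h1 h2 u => ?_⟩) (fun m hm h => ?_)
    fun m hm h => ?_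
  · rw [d.ext, d.c12, ← d.t12, d.s₁.rel.inv]
    calc _ = t * t * X₁ a v * t * X₁ a v := by rw [d.t2, one_mul]
      _ = _ := by rw [inv_eq_of_mul_eq_one_right d.t2]; group
  · rw [d.ext]
    exact Commute.mul_left (d.s₁.rel.com _ _ h1 h2 _ _) (d.c12 _ _ _ _).symm
  · obtain ⟨n, n1, n2, e, h1, h2⟩ := d.red hm h
    obtain ⟨a, k, hk, e1⟩ := d.s₁.cn_Q n1 h1
    obtain ⟨b, k', hk', e2⟩ := d.s₂.cn_Q n2 h2
    obtain ⟨w, hw, h3⟩ := d.conj_t (hθ X₁ a) (hθ X₂ b)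
      (m := n) (by rwa [e1, inv_mul_cancel_left]) (by rwa [e2, inv_mul_cancel_left])
    exact ⟨w, W_le_Q X hw, e ▸ h3⟩
  · obtain ⟨n, n1, n2, e, h1, h2⟩ := d.red hm h
    obtain ⟨a, a', k, hk, e1⟩ := d.s₁.cen_R n1 h1
    obtain ⟨b, b', k', hk', e2⟩ := d.s₂.cen_R n2 h2
    obtain ⟨w, hw, h3⟩ := d.conj_t (d.s₁.mem_W_iff.2 ⟨a, a', rfl⟩) (d.s₂.mem_W_iff.2 ⟨b, b', rfl⟩)
      (m := n) (by rwa [e1, inv_mul_cancel_left]) (by rwa [e2, inv_mul_cancel_left])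
    exact ⟨w, R2_le_R X (W_le_R2 X hw), e ▸ h3⟩

namespace DblP

variable (d : DblP E P T s X ρ t y c X₁ X₂ ρ₁ ρ₂)
include d

theorem not_N : t ∉ tN X₁ := fun h =>
  d.neL ((Coprime.mem_normalizer_iff_conj_smul_eq.1 h).symm.trans (d.conj_UU _))

theorem swap : Swap (tNZ E X y) (tNZ E X y ⊓ tN X₁) (tNZ E X y ⊓ SLT.tC X₂)
    (tNZ E X y ⊓ SLT.tC X₁) := by
  have e : MulAut.conj t • tL X₁ = tL X₂ := d.conj_UU _
  have := swap_of d.t2 d.toHatL.t_norm d.not_N (fun _ => d.idx) (by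
    rw [e]
    exact d.toHatL.odd_W.of_dvd_nat (card_dvd_of_le fun x hx => d.mem_W hx.2.2 hx.1.2))
  rwa [e] at this

theorem not_mem {Gs : Subgroup G} (g : Glob Gs t) : t ∉ Gs := by
  have w := d.swap
  obtain ⟨B, _, _, l, hB, hl⟩ := exists_two_hom w.le fun a ha b hb => by
    by_cases h : b ∈ tNZ E X y ⊓ tN X₁
    · exact mul_mem (w.conj ha h) (inv_mem h)
    · exact w.idx _ (mul_mem (mul_mem ha hb) (inv_mem ha)) _ (inv_mem hb) (w.conj_not ha h)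
        fun e => h (inv_mem_iff.1 e)
  exact g.not_mem (not_mem_commutator d.t2 d.u.mem l (fun h => by
    obtain ⟨m, hm, h1⟩ := (hl _).1 h
    exact d.not_N (mem_of_odd_pow (pgroup_zpowers_of_sq d.t2) hm h1).2) fun x hx _ => d.u.uniq x hx)

theorem L1_le : tL X₁ ≤ tNZ E X y := d.le1.trans le_normalizer

variable {R : Subgroup G} (hP : IsPGroup 2 R) (hU : tU Φ X₁ ≤ R)
include hP hU

theorem mem_split {w : G} (hw : w ∈ R ⊓ (tNZ E X y ⊓ tN X₁)) (h : w ∈ tN0 T X₁ ρ₁) :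
    w ∈ tU Φ X₁ ⊔ R ⊓ (tNZ E X y ⊓ SLT.tC X₁) := by
  obtain ⟨l, hl, c, hc, rfl⟩ :=
    d.s₁.split h (d.s₁.le_norm_U hP hU hw.1 hw.2.2) (pg_zpowers hP hw.1)
  exact mul_mem (mem_sup_left hl) (mem_sup_right ⟨(R.mul_mem_cancel_left (hU hl)).1 hw.1,
    (Subgroup.mul_mem_cancel_left _ (d.L1_le (nq_U_le hl))).1 hw.2.1, hc⟩)

theorem inf_eq : R ⊓ tL X₁ = tU Φ X₁ :=
  le_antisymm (d.s₁.inf_le_U hP hU) (le_inf hU nq_U_le)

variable (h1 : R ≤ tNZ E X y) (ht : t ∈ R)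
  (syl : ∀ R' ≤ tNZ E X y, IsPGroup 2 R' → ∃ g ∈ tNZ E X y, ∀ p ∈ R', g * p * g⁻¹ ∈ R)
include h1 ht syl

theorem prdL : PrdL (tNZ E X y) (tNZ E X y ⊓ tN X₁) (tNZ E X y ⊓ SLT.tC X₂)
    (tNZ E X y ⊓ SLT.tC X₁) R (tL X₁) t := by
  have B := d.s₁
  refine ⟨d.swap, hP, h1, ht, fun h => d.not_N h.2, syl, le_inf d.L1_le d.symm.c21, inf_le_right,
    inf_le_right, ?_, ?_⟩ <;> rw [d.inf_eq hP hU]
  · refine ⟨tW E X₁, nq_W_le,
      fun g hg => (B.norm_U_Z hg.2.2 (B.le_norm_U hP hU hg.1 hg.2.2)).2.2.2.1, fun a => B.nq_sq,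
      xl P X₁ E.θ 1, mem_UUx X₁ (Or.inl rfl) _, xl P X₁ E.β 1, mem_UUx X₁ (Or.inr rfl) _,
      fun e => one_ne_zero ((B.xl_eq_one E.γ_θ).1 e), fun e => one_ne_zero ((B.xl_eq_one E.γ_β).1 e),
      fun e => B.amb.ht_β_lt.ne' (congrArg _ (B.xl_inj E.γ_θ E.γ_β one_ne_zero e).1)⟩
  · refine d.uw.mono (le_inf (fun x hx => ?_) fun x hx =>
      mem_cent1.2 (d.toSit.comL (nq_U_le hx)).symm)
    obtain ⟨a, ha, rfl⟩ := d.diag hx
    exact mul_mem (mem_sup_left ha) (mem_sup_right (Coprime.conj_mem_conj_smul ha))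

theorem nu (hq : 2 < Nat.card F) : NUData (tNZ E X y) (tNZ E X y ⊓ tN X₁) (tNZ E X y ⊓ SLT.tC X₂)
    (tNZ E X y ⊓ SLT.tC X₁) R (tL X₁) t (tRj E X₁) := by
  have B := d.s₁
  have ty : ∀ w ∈ R ⊓ (tNZ E X y ⊓ tN X₁) ⊓ centralizer (tZ X₁ E.θ : Set G),
      w ∉ tU Φ X₁ ⊔ R ⊓ (tNZ E X y ⊓ SLT.tC X₁) → Ty T X₁ ρ₁ w P.τ := fun w hw h =>
    (B.ty_of_cent hw.1.2.2 (B.le_norm_U hP hU hw.1.1 hw.1.2.2) hw.2).resolve_left
      fun e => h (d.mem_split hP hU hw.1 e)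
  refine ⟨d.prdL hP hU h1 ht syl, ?_, fun g g1 g2 => ?_, ?_, ?_, ?_, fun j w hw _ hc => ?_, ?_, ?_⟩
  · rw [d.inf_eq hP hU]
    refine ⟨⟨_, Sys.xl_mem_U (P := P) (r := E.α) (Φ.pos_simple E.i₀) 1, _,
      Sys.xl_mem_U (P := P) E.pos_β 1, fun e => ?_⟩, fun w hw M hM => ?_, ?_, ?_⟩
    · have := B.rel.ll _ _ _ E.γ_α E.γ_β E.hβ 1 1
      rw [e, mul_inv_cancel_right, mul_inv_cancel, mul_one] at this
      exact one_ne_zero ((B.xl_eq_one E.γ_θ).1 this.symm)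
    · rw [B.center_U]
      exact B.cz hw.2.2 (B.le_norm_U hP hU hw.1 hw.2.2) hM
    · rw [B.center_U]
      exact fun w hw w' hw' h h' => d.mem_split hP hU (mul_mem hw.1 hw'.1)
        (B.mul_mem_N0 (ty w hw h) (ty w' hw' h'))
    · rw [B.center_U]
      exact fun w hw h J _ hJ => ⟨B.comm_le_of_index hq hJ, B.exists_gr hq hJ (ty w hw h)
        (B.le_norm_U hP hU hw.1.1 hw.1.2.2)⟩
  · rw [tL, d.conj_UU] at g2
    rw [tNZ, ← d.eqG]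
    exact norm_sup (fun a ha => mem_sup_left (conj_mem g1 ha)) fun a ha => mem_sup_right (conj_mem g2 ha)
  · rw [d.inf_eq hP hU]; exact fun M => B.fpf hq
  · rw [d.inf_eq hP hU]; exact fun j => UUx_mono X₁ fun _ h => h.1
  · rw [d.inf_eq hP hU]; exact B.U_norm_Rj
  · obtain ⟨u, hu, h⟩ := B.cR j hw.2 hc
    rw [← inv_mul_cancel_left u w]
    exact mul_mem (mem_sup_left (inv_mem hu))
      (mem_sup_right ⟨mul_mem (d.L1_le (UU_le_tL _ _ hu)) hw.1, h⟩)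
  · rw [d.inf_eq hP hU]; exact fun M => B.gen
  · rw [d.inf_eq hP hU]; exact fun δ hδ ho ha => B.rn hq inf_le_right hδ ho ha

end DblP

/-- **Product case** -/
theorem DblP.false (d : DblP E P T s X ρ t y c X₁ X₂ ρ₁ ρ₂) {Gs : Subgroup G} (g : Glob Gs t) :
    False := by
  haveI : Fact (Nat.Prime 2) := ⟨Nat.prime_two⟩
  have B := d.s₁
  have ht := d.not_mem g
  have s1 : tL X₁ ≤ Gs := g.pf_le B.rel.pf_L.1
  have s2 : tL X₂ ≤ Gs := g.pf_le d.s₂.rel.pf_L.1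
  obtain ⟨R, h0, h1, hP, syl⟩ := exists_syl ((pgroup_zpowers_of_sq d.t2).to_sup_of_normal_right'
    (pg_sup_comm B.pg_U d.s₂.pg_U fun _ ha _ hb => d.cm (nq_U_le ha) (nq_U_le hb))
    (zpowers_le.2 (norm_sup (fun a ha => mem_sup_right (d.nq_conj ha))
      fun a ha => mem_sup_left (d.symm.nq_conj ha))))
    (sup_le (zpowers_le.2 d.u.mem) (sup_le (nq_U_le.trans d.L1_le) (nq_U_le.trans d.symm.L1_le)))
  have hU : tU Φ X₁ ≤ R := (le_sup_left.trans le_sup_right).trans h0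
  have tP : t ∈ R := h0 (mem_sup_left (mem_zpowers t))
  have x1 : xl P X₁ E.θ 1 ≠ 1 := fun e => one_ne_zero ((B.xl_eq_one E.γ_θ).1 e)
  have m1 : xl P X₁ E.θ 1 ∈ tL X₁ := mem_tL _ _ _
  have h2 : Gs ≤ tNZ E X y := le_of_invol g.simple (s1 m1) x1 (B.rel.xl_sq _ _) fun u hu u2 => by
    rcases (two_le_card (F := F)).lt_or_eq with hq | hq
    · exact (d.nu hP hU h1 tP syl hq).mem d.u (g.index ht) ht hu u2
    have ty : ∀ a ∈ tN X₁, a ∉ tN0 T X₁ ρ₁ → Ty T X₁ ρ₁ a P.τ := fun a ha h => by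
      obtain ⟨σ, h3⟩ := B.exists_ty ha
      rcases P.aut_two hq.symm σ with rfl | rfl
      exacts [absurd (B.mem_N0.2 h3) h, h3]
    refine (d.prdL hP hU h1 tP syl).mem d.u (g.index ht) ht g.perf s1 (le_sup_left.trans B.le_N0)
      (inf_le_right.trans (le_sup_right.trans B.le_N0))
      (fun a ha b hb h h' => B.mul_mem_N0 (ty a ha.2 h) (ty b hb.2 h')) (fun w hw h => ?_) hu u2
    rw [d.inf_eq hP hU]
    exact d.mem_split hP hU hw h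
  have e : tG0 E X y = Gs := g.eq_of_norm (d.eqG ▸ sup_le s1 s2) h2 (d.le1 m1) x1
  exact d.neL ((g.eq_of_norm s1 (e ▸ d.norm1) m1 x1).trans
    (g.eq_of_norm s2 (e ▸ d.symm.norm1) (mem_tL X₂ E.θ (P.ω * P.f 1))
      fun e => one_ne_zero ((d.s₂.xl_eq_one E.γ_θ).1 e)).symm)

end CfsgLib.SLT
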