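import Mathlib
import Cfsg.Agent.Lib.SLT.Cov
import Cfsg.Agent.Lib.LieMult.RG
import Cfsg.Agent.Lib.Schur.Basic

/-!
# The twisted relations present a central extension of the twisted group
-/

set_option autoImplicit false
set_option linter.unusedSectionVars false

namespace CfsgLib.SLT

open CfsgLib.RGD CfsgLib.Stein CfsgLib.SLE CfsgLib.LieMult Subgroup
open scoped commutatorElement Pointwise

universe u

variable {ι κ : Type} [Fintype κ] [DecidableEq κ] [Finite ι] {Φ : RootSys ι κ} {E : ER Φ}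

/-! ### The relative root system -/

/-- the orbits of `γ` -/
def tpS (E : ER Φ) : Setoid ι where
  r a b := b = a ∨ b = E.γ a
  iseqv := ⟨fun _ => .inl rfl, fun h => h.elim (fun e => .inl e.symm) fun e => .inr (by rw [e, E.γ2]),
    fun h h' => by
      rcases h with rfl | rfl <;> rcases h' with rfl | rfl
      exacts [.inl rfl, .inr rfl, .inr rfl, .inl (E.γ2 _)]⟩

open scoped _root_.Classical in
/-- the relative fundamental reflections -/
noncomputable def tpW (E : ER Φ) (i : κ) : Equiv.Perm ι :=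
  if E.γ (Φ.simple i) = Φ.simple i then rf Φ (Φ.simple i) else rf Φ (Φ.simple i) * rf Φ (E.γ (Φ.simple i))

theorem tpW_mem (i : κ) : tpW E i ∈ WT E Set.univ := by
  unfold tpW
  split_ifs with h
  exacts [rf_mem_WT trivial h, rf2_mem_WT trivial h]

theorem tpW_tpW (i : κ) (r : ι) : tpW E i (tpW E i r) = r := by
  unfold tpW
  split_ifs with h
  · exact rf_rf E _ r
  · simp only [Equiv.Perm.mul_apply]
    rw [← rf_comm E (E.γ_orth h), rf_rf E, rf_rf E]

theorem tpW_α (i : κ) : tpW E i (Φ.simple i) = Φ.neg (Φ.simple i) := by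
  unfold tpW
  split_ifs with h
  · exact (E.rf_self _).1
  · rw [Equiv.Perm.mul_apply, E.rf_orth (a := Φ.simple i) (by rw [ip_comm]; exact E.γ_orth h), (E.rf_self _).1]

theorem tpW_pos (i : κ) {r : ι} (h : Φ.Pos r) (h1 : r ≠ Φ.simple i) (h2 : r ≠ E.γ (Φ.simple i)) :
    Φ.Pos (tpW E i r) := by
  unfold tpW
  split_ifs with k
  · rw [E.rf_simple]; exact Φ.pos_s h h1
  · obtain ⟨j, hj⟩ := E.γs i
    have o := E.γ_orth k
    rw [Equiv.Perm.mul_apply, E.rf_simple]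
    refine Φ.pos_s (by rw [hj, E.rf_simple]; exact Φ.pos_s h (hj ▸ h2)) fun e => h1 ?_
    rw [← rf_rf E (E.γ (Φ.simple i)) r, e, E.rf_orth (by rw [ip_comm]; exact o)]

/-- the relative root datum -/
noncomputable def tpD (E : ER Φ) : RootData (Quotient (tpS E)) κ where
  Pos := Quotient.lift Φ.Pos fun a b h => by
    rcases h with rfl | rfl
    exacts [rfl, propext (E.γ_pos a).symm]
  neg := Quotient.map Φ.neg fun a b h => h.imp (congrArg _) fun e => by rw [e, E.γn]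
  α i := ⟦Φ.simple i⟧
  s i := Quotient.map (tpW E i) fun a b h => h.imp (congrArg _) fun e => by rw [e, WT_γ (tpW_mem i)]
  neg_neg r := r.inductionOn fun a => congrArg _ (Φ.neg_neg a)
  s_s i r := r.inductionOn fun a => congrArg _ (tpW_tpW i a)
  s_neg i r := r.inductionOn fun a => congrArg _ (Φ.apply_neg (WT_le _ (tpW_mem i)) a)
  pos_neg r := r.inductionOn fun a => Φ.pos_neg_iff.trans Φ.neg_iff_not_pos
  pos_α i := Φ.pos_simple i
  s_α i := congrArg _ (tpW_α i)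
  pos_s i r := r.inductionOn fun a h h' => tpW_pos i h (fun e => h' (congrArg _ e))
    fun e => h' (Quotient.sound (s := tpS E) (Or.inr e)).symm

theorem tp_inv (w : Equiv.Perm ι) (a : ι) : w (w⁻¹ a) = a := by simp

theorem tp_dec (d : ι) : ∃ a b, RAdd Φ a b d ∧ Dec E a b := by
  obtain ⟨a, b, e, k1, k2⟩ := E.gdec d
  refine ⟨a, b, e, ?_⟩
  by_cases k : E.γ d = d
  · exact .inl ⟨k1 k, long_add e.symm.sub k (long_neg.2 (k1 k))⟩
  · exact .inr (k2 k)

/-! ### Relations -/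

namespace TRel

variable {F K : Type} [CommRing F] [CommRing K] {P : QE F K} {G : Type u} [Group G] {X : ι → K → G}
  (h : TRel E P X)
include h

theorem tp_comp {π : ι → ι} (h0 : Function.Injective π) (h1 : ∀ a, π (E.γ a) = E.γ (π a))
    (h2 : ∀ a b, ip Φ (π a) (π b) = ip Φ a b) (h3 : ∀ a b k, RAdd Φ a b k → RAdd Φ (π a) (π b) (π k)) :
    TRel E P fun a => X (π a) where
  add a := h.add _
  gam a u := by rw [h1, h.gam]
  com a b k1 k2 := h.com _ _ (by rwa [h2]) (by rwa [← h1, h2])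
  cm a b k e k1 := h.cm _ _ _ (h3 _ _ _ e) (by rwa [← h1, h2])
  ll a b k ha hb e := h.ll _ _ _ (by rw [← h1, ha]) (by rw [← h1, hb]) (h3 _ _ _ e)
  ls r a b k e := h.ls _ _ _ _ ⟨by rw [← h1, e.lr], fun e' => e.ma (h0 (by rw [h1, e'])), h3 _ _ _ e.hb,
    h1 a ▸ h3 _ _ _ e.hk⟩

theorem tp_neg : TRel E P fun a => X (Φ.neg a) :=
  h.tp_comp Φ.neg_injective (fun a => (E.γn a).symm) ip_neg_neg fun _ _ _ => radd_neg

theorem tp_Z (a : ι) : tZ X (E.γ a) = tZ X a := by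
  ext g
  rw [h.mem_tZ', h.mem_tZ']
  exact ⟨fun ⟨u, e⟩ => ⟨_, e.trans (h.gam a u)⟩, fun ⟨u, e⟩ => ⟨_, e.trans (h.gam' a u).symm⟩⟩

theorem tp_cm {a b d : ι} (e : RAdd Φ a b d) (hd : Dec E a b) (u : K) :
    ∃ v w, X d u = X a v * X b w * (X a v)⁻¹ * (X b w)⁻¹ := by
  rcases hd with ⟨k1, k2⟩ | k
  · exact ⟨_, _, by rw [h.lng (long_add e k1 k2), ← mul_one (P.T u), ← h.ll a b d k1 k2 e]; rfl⟩
  · exact ⟨u, 1, by rw [h.cm a b d e k, mul_one]⟩

theorem tp_cm' {a b d : ι} (e : RAdd Φ a b d) (hd : Dec E a b) (v w : K) :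
    X a v * X b w * (X a v)⁻¹ * (X b w)⁻¹ ∈ tZ X d := by
  rcases hd with ⟨k1, k2⟩ | k
  · rw [h.lng k1, h.lng k2, h.ll a b d k1 k2 e]
    exact mem_UUx X (Set.mem_singleton _) _
  · rw [h.cm a b d e k]
    exact mem_UUx X (Set.mem_singleton _) _

theorem tp_norm (hR : TR E) (i : κ) : tZ X (Φ.simple i) ⊔ tZ X (Φ.neg (Φ.simple i)) ≤
    normalizer (tRj E X i : Set G) := by
  have c := cl_Rj (E := E) i
  refine sup_le (UUx_le_iff.2 ?_) (UUx_le_iff.2 ?_) <;> rintro _ rfl u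
  · exact h.norm_UU hR c.gam c.add (fun b hb => Φ.ne_neg_of_pos (Φ.pos_simple i) hb.1)
      (fun b hb k e => (idl_diff2 i).2 b hb _ (Φ.pos_simple i) k e.symm) u
  · refine h.norm_UU hR c.gam c.add (fun b hb e => hb.2 (.inl (by rw [e, Φ.neg_neg]))) (fun b hb k e => ?_) u
    have e1 := (E.rf_add e.symm).1
    rw [rf_neg E, E.rf_simple] at e1
    have h1 : b ≠ Φ.simple i := fun e => hb.2 (.inl e)
    refine ⟨e1 ▸ Φ.pos_s hb.1 h1, ?_⟩
    rintro (e2 | e2)
    · exact Φ.s_ne_simple hb.1 (e1.trans e2)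
    · have := (E.radd_ip e).2.1
      have := E.γo (Φ.simple i)
      rw [e2, ip_neg_left] at *
      omega

theorem tp_split (hR : TR E) {Ψ : Set ι} {a : ι} (hn : ∀ u, X a u ∈ normalizer (UUx X Ψ : Set G))
    {Ψ' : Set ι} (hΨ : ∀ r ∈ Ψ', r = a ∨ r = E.γ a ∨ r ∈ Ψ) {g : G} (hg : g ∈ UUx X Ψ') :
    ∃ v, ∃ u ∈ UUx X Ψ, g = X a v * u := by
  have _ := hR
  have h1 : g ∈ ((tZ X a ⊔ UUx X Ψ : Subgroup G) : Set G) := UUx_le_iff.2 (fun r hr u => by
    rcases hΨ r hr with rfl | rfl | k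
    · exact mem_sup_left (mem_UUx X (Set.mem_singleton _) u)
    · exact mem_sup_left (h.gam a u ▸ mem_UUx X (Set.mem_singleton _) _)
    · exact mem_sup_right (mem_UUx X k u)) hg
  rw [coe_mul_of_left_le_normalizer_right (tZ X a) _ (UUx_le_iff.2 (by rintro _ rfl; exact hn))] at h1
  obtain ⟨x, hx, u, hu, rfl⟩ := h1
  obtain ⟨v, rfl⟩ := h.mem_tZ'.1 hx
  exact ⟨v, u, hu, rfl⟩

end TRel

variable {F K : Type} [Field F] [Finite F] [CharP F 2] [Field K] [Finite K] [CharP K 2] {P : QE F K}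
  {A : Type} [Group A] [Finite A] {T : StSys Φ K A} {s : A}

namespace Tw

variable (h : Tw E P T s)
include h

theorem tp_acts {g : A} (hg : s * g = g * s) {w : Equiv.Perm ι} (hw : w ∈ WT E Set.univ) (ha : T.Acts g w)
    (b : ι) (v : K) : ∃ v', g * tx E P T b v * g⁻¹ = tx E P T (w b) v' := by
  obtain ⟨l, -, e⟩ := ha.exists_conj_x b
  refine ⟨l * v, ?_⟩
  have e1 : g * T.x (E.γ b) (P.τ v) * g⁻¹ = T.x (E.γ (w b)) (P.τ (l * v)) := by
    have _ := hw
    rw [← h.sx, ← h.sx, ← e]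
    calc _ = g * s * T.x b v * (g * s)⁻¹ := by group
      _ = _ := by rw [← hg]; group
  rw [tx, ← conj_mul, e, e1, tx]

theorem tp_ne (a : ι) : tx E P T a P.ω ≠ 1 := fun e => by
  by_cases ha : E.γ a = a
  · rw [h.tx_long ha, h.amb.x_eq_one, P.hT, P.hω] at e
    exact one_ne_zero e
  · have h0 : P.ω ≠ 0 := fun e0 => by simpa [e0] using P.hω
    rw [tx, mul_eq_one_iff_eq_inv, h.amb.x_inv] at e
    exact ha (h.amb.x_inj h0 e).1.symm

theorem tp_rank (i : κ) {v : K} (hv : tx E P T (Φ.neg (Φ.simple i)) v ≠ 1) : ∃ v' m,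
    m = tx E P T (Φ.simple i) v' * tx E P T (Φ.neg (Φ.simple i)) v * tx E P T (Φ.simple i) v' ∧
      m ∈ T.N ∧ T.Acts m (tpW E i) := by
  unfold tpW
  generalize Φ.simple i = d at hv ⊢
  split_ifs with hd
  · rw [h.tx_long (long_neg.2 hd), Ne, h.amb.x_eq_one] at hv
    have h0 : (P.f (P.T v))⁻¹ ≠ 0 := inv_ne_zero hv
    refine ⟨P.ω * P.f (P.T v)⁻¹, T.n d (P.f (P.T v))⁻¹, ?_, T.n_mem_N d h0, acts_rf T d h0⟩
    rw [h.tx_long hd, h.tx_long (long_neg.2 hd), P.T_ω, StSys.n, inv_inv, CharTwo.neg_eq, map_inv₀]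
  · have h0 : v⁻¹ ≠ 0 := inv_ne_zero fun e => hv (by rw [e, h.rel.zero])
    have h1 : P.τ v⁻¹ ≠ 0 := (map_ne_zero _).2 h0
    refine ⟨v⁻¹, T.n d v⁻¹ * T.n (E.γ d) (P.τ v⁻¹), ?_, mul_mem (T.n_mem_N d h0) (T.n_mem_N _ h1),
      (acts_rf T d h0).mul (acts_rf T _ h1) (rf_mem _)⟩
    have o := E.γ_orth hd
    have c1 := h.amb.com o.ge v⁻¹ (P.τ v⁻¹)
    have c2 := h.amb.com (a := Φ.neg d) (b := E.γ d) (by rw [ip_neg_left, o, neg_zero]) v (P.τ v⁻¹)
    have c3 := h.amb.com (a := d) (b := Φ.neg (E.γ d)) (by rw [ip_neg_right, o, neg_zero]) v⁻¹ (P.τ v)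
    simp only [StSys.n, tx, E.γn, ← map_inv₀, inv_inv, CharTwo.neg_eq]
    generalize T.x d v⁻¹ = A, T.x (E.γ d) (P.τ v⁻¹) = A', T.x (Φ.neg d) v = B,
      T.x (Φ.neg (E.γ d)) (P.τ v) = B' at *
    calc _ = A * B * (A * A') * B' * A' := by group
      _ = A * (B * A') * (A * B') * A' := by rw [c1]; group
      _ = _ := by rw [c2, c3]; group

end Tw

/-- a family with the twisted relations over the model -/
structure PCov (E : ER Φ) (P : QE F K) (T : StSys Φ K A) (s : A) {G : Type u} [Group G] (X : ι → K → G)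
    (θ : G →* A) : Prop extends Tw E P T s where
  trel : TRel E P X
  map : ∀ a u, θ (X a u) = tx E P T a u

namespace PCov

variable {G : Type u} [Group G] {X : ι → K → G} {θ : G →* A} (h : PCov E P T s X θ)
include h

theorem map_mem {Ψ : Set ι} {g : G} (hg : g ∈ UUx X Ψ) : θ g ∈ UUx (tx E P T) Ψ :=
  map_UUx X _ θ Ψ (fun r _ => h.map r) ▸ mem_map_of_mem θ hg

theorem mem_UU {Ψ : Set ι} (hγ : ∀ r ∈ Ψ, E.γ r ∈ Ψ) {g : G} (hg : g ∈ UUx X Ψ) : θ g ∈ T.UU Ψ :=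
  (h.toTw.UU_le hγ (h.map_mem hg)).1

theorem com_s {g : G} (hg : g ∈ tL X) : s * θ g = θ g * s :=
  (mem_centralizer_singleton_iff.1 (h.toTw.L_le (h.map_mem hg)).2).symm

theorem eq_one_of {Ψ : Set ι} (hc : Φ.Closed Ψ) (hp : ∀ r ∈ Ψ, Φ.Pos r) {a : ι} (ha : a ∉ Ψ)
    (h1 : E.γ a ≠ a → E.γ a ∈ Ψ) {v : K} (e : tx E P T a v ∈ T.UU Ψ) : X a v = 1 := by
  by_cases hl : E.γ a = a
  · rw [h.toTw.tx_long hl] at e
    have h2 : P.T v = 0 := by
      by_contra h2
      exact ha (h.amb.nd.mem_of_x_mem_UU hc hp ((map_ne_zero _).2 h2) e)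
    rw [h.trel.lng hl, h2, h.trel.xl_zero]
  · rw [tx, mul_mem_cancel_right (T.x_mem_UU (h1 hl) _)] at e
    have h2 : v = 0 := by
      by_contra h2
      exact ha (h.amb.nd.mem_of_x_mem_UU hc hp h2 e)
    rw [h2, h.trel.zero]

theorem eq_one {a : ι} {v : K} (e : tx E P T a v = 1) : X a v = 1 := by
  by_cases hl : E.γ a = a
  · rw [h.toTw.tx_long hl, h.amb.x_eq_one, map_eq_zero] at e
    rw [h.trel.lng hl, e, h.trel.xl_zero]
  · rw [tx, mul_eq_one_iff_eq_inv, h.amb.x_inv] at e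
    have h2 : v = 0 := by
      by_contra h2
      exact hl (h.amb.x_inj h2 e).1.symm
    rw [h2, h.trel.zero]

theorem inj {Ψ : Set ι} (hΨ : Cl E Ψ) {g : G} (hg : g ∈ UUx X Ψ) (e : θ g = 1) : g = 1 := by
  induction hn : Ψ.ncard using Nat.strong_induction_on generalizing Ψ g with
  | _ n ih =>
  rcases Ψ.eq_empty_or_nonempty with rfl | hne
  · exact mem_bot.1 (UUx_le_iff.2 (fun _ k => k.elim) hg)
  obtain ⟨a, ha, hm⟩ := Set.exists_min_image Ψ Φ.ht (Set.toFinite _) hne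
  have lt : ∀ b ∈ Ψ, ∀ c ∈ Ψ, ∀ k, RAdd Φ b c k → Φ.ht a < Φ.ht k := fun b hb c hc k e => by
    have := radd_ht e; have := hm b hb; have := Φ.ht_pos (hΨ.pos c hc); omega
  have c1 : Cl E (Ψ \ {a, E.γ a}) := ⟨fun r hr => hΨ.pos r hr.1, fun b hb c hc k e =>
    ⟨hΨ.add b hb.1 c hc.1 k e, by
      have := lt b hb.1 c hc.1 k e
      rintro (k | k) <;> rw [k] at this
      · omega
      · rw [E.γ_ht] at this; omega⟩, fun r hr => ⟨hΨ.gam r hr.1, by
      rintro (k | k)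
      · exact hr.2 (.inr (by rw [← k, E.γ2]; rfl))
      · exact hr.2 (.inl (E.γ.injective (Set.mem_singleton_iff.1 k)))⟩⟩
  obtain ⟨v, u, hu, rfl⟩ := h.trel.tp_split h.tr (Ψ := Ψ \ {a, E.γ a}) (a := a) (h.trel.norm_UU h.tr c1.gam c1.add
    (fun b hb => Φ.ne_neg_of_pos (hΨ.pos a ha) (hΨ.pos b hb.1)) fun b hb k e => ⟨hΨ.add a ha b hb.1 k e, by
      have := lt a ha b hb.1 k e
      rintro (k | k) <;> rw [k] at this
      · omega
      · rw [E.γ_ht] at this; omega⟩) (fun r hr => by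
      by_cases k1 : r = a
      · exact .inl k1
      by_cases k2 : r = E.γ a
      · exact .inr (.inl k2)
      exact .inr (.inr ⟨hr, fun k => k.elim k1 k2⟩)) hg
  have e1 : X a v = 1 := by
    refine h.eq_one_of (Ψ := Ψ \ {a}) (E.closed_of (fun r hr => hΨ.pos r hr.1) fun b hb c hc k e =>
      ⟨hΨ.add b hb.1 c hc.1 k e, fun e' => ?_⟩) (fun r hr => hΨ.pos r hr.1) (fun k => k.2 rfl)
      (fun k => ⟨hΨ.gam a ha, k⟩) ?_
    · have := lt b hb.1 c hc.1 k e
      rw [e'] at this; omega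
    · rw [map_mul, h.map, mul_eq_one_iff_eq_inv] at e
      rw [e]
      exact inv_mem (T.UU_mono (Set.diff_subset_diff_right (by simp)) (h.mem_UU c1.gam hu))
  rw [e1, one_mul] at e ⊢
  have lt2 : Ψ \ {a, E.γ a} ⊂ Ψ := Set.diff_ssubset_left_iff.2 ⟨a, ha, .inl rfl⟩
  exact ih _ (hn ▸ Set.ncard_lt_ncard lt2) c1 hu e rfl

theorem inj_neg {g : G} (hg : g ∈ UUx X {r | Φ.Neg r}) (e : θ g = 1) : g = 1 := by
  obtain ⟨w, hw, h1, -⟩ := exists_wJ (E := E) (J := Set.univ) fun r _ => Φ.inSub_univ _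
  replace hw : w ∈ WT E Set.univ := WT_mono (Set.subset_univ _) hw
  obtain ⟨n, -, -, hn⟩ := h.toTw.exists_exa (Ψ := Set.univ) (fun _ _ => trivial) hw
  have h2 : PCov E P T s (fun a => X (w a)) ((MulAut.conj n⁻¹).toMonoidHom.comp θ) :=
    ⟨h.toTw, h.trel.tp_comp w.injective (fun a => (WT_γ hw a).symm) (WT_ip hw)
      fun _ _ _ k => k.apply (WT_le _ hw), fun a u => by
        change n⁻¹ * θ (X (w a) u) * n⁻¹⁻¹ = _
        rw [h.map, ← h.toTw.exa_tx hw hn]; group⟩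
  refine h2.inj cl_pos (UUx_le_iff.2 (fun r hr u => ?_) hg) (by simp [e])
  have h3 : Φ.Pos (w⁻¹ r) := by
    by_contra k
    have := h1 _ (Φ.inSub_univ _) (Φ.pos_neg_iff.2 (Φ.neg_iff_not_pos.2 k))
    rw [Φ.apply_neg (WT_le _ hw), tp_inv, Φ.neg_neg_iff] at this
    exact Φ.not_neg_of_pos this hr
  have := mem_UUx (fun a => X (w a)) (Ψ := {r | Φ.Pos r}) h3 u
  rwa [tp_inv] at this

theorem act {i : κ} {g : G} (hg : g ∈ tZ X (Φ.simple i) ⊔ tZ X (Φ.neg (Φ.simple i))) {w : Equiv.Perm ι}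
    (hw : w ∈ WT E Set.univ) (hp : ∀ r, Φ.Pos r → r ≠ Φ.simple i → r ≠ E.γ (Φ.simple i) → Φ.Pos (w r))
    (ha : T.Acts (θ g) w) (b : ι) (v : K) : g * X b v * g⁻¹ ∈ tZ X (w b) := by
  have hs := h.com_s (sup_le (UU_le_tL X _) (UU_le_tL X _) hg)
  have k0 : ∀ {Ψ : Set ι}, (∀ g ∈ UUx X Ψ, θ g = 1 → g = 1) → ∀ b v, w b ∈ Ψ → g * X b v * g⁻¹ ∈ UUx X Ψ →
      g * X b v * g⁻¹ ∈ tZ X (w b) := fun k b v k1 k2 => by
    obtain ⟨v', e⟩ := h.toTw.tp_acts hs hw ha b v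
    have := k _ (mul_mem k2 (inv_mem (mem_UUx X k1 v'))) (by simp only [map_mul, map_inv, h.map, e, mul_inv_cancel])
    rw [mul_inv_eq_one.1 this]
    exact mem_UUx X (Set.mem_singleton _) _
  have k1 : ∀ b, b ≠ Φ.simple i → b ≠ E.γ (Φ.simple i) → b ≠ Φ.neg (Φ.simple i) →
      b ≠ Φ.neg (E.γ (Φ.simple i)) → ∀ v, g * X b v * g⁻¹ ∈ tZ X (w b) := fun b b1 b2 b3 b4 v => by
    rcases Φ.pos_or_neg b with hb | hb
    · exact k0 (fun _ k => h.inj cl_pos k) b v (hp b hb b1 b2) (UUx_mono X Set.diff_subset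
        ((mem_normalizer_iff.1 (h.trel.tp_norm h.tr i hg) _).1
          (mem_UUx X (Set.mem_diff_of_mem hb fun k => k.elim b1 b2) v)))
    · have b5 : Φ.neg b ≠ Φ.simple i := fun k => b3 (Φ.neg_eq_iff.1 k)
      have b6 : Φ.neg b ≠ E.γ (Φ.simple i) := fun k => b4 (Φ.neg_eq_iff.1 k)
      have b7 := Φ.pos_neg_iff.2 hb
      refine k0 (fun _ k => h.inj_neg k) b v ?_ ?_
      · have := hp _ b7 b5 b6
        rwa [Φ.apply_neg (WT_le _ hw), Φ.pos_neg_iff] at this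
      · have m1 : g ∈ tZ (fun a => X (Φ.neg a)) (Φ.simple i) ⊔ tZ (fun a => X (Φ.neg a)) (Φ.neg (Φ.simple i)) := by
          refine sup_le (UUx_le_iff.2 ?_) (UUx_le_iff.2 ?_) hg <;> rintro _ rfl u
          · have := mem_UUx (fun a => X (Φ.neg a)) (Set.mem_singleton (Φ.neg (Φ.simple i))) u
            rw [Φ.neg_neg] at this
            exact mem_sup_right this
          · exact mem_sup_left (mem_UUx (fun a => X (Φ.neg a)) (Set.mem_singleton _) u)
        have m2 := (mem_normalizer_iff.1 (h.trel.tp_neg.tp_norm h.tr i m1) _).1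
          (mem_UUx (fun a => X (Φ.neg a)) (Set.mem_diff_of_mem b7 fun k => k.elim b5 b6) v)
        rw [Φ.neg_neg] at m2
        exact (UUx_le_iff.2 (fun r hr u => mem_UUx X (Φ.neg_neg_iff.2 hr.1) u) :
          tRj E (fun a => X (Φ.neg a)) i ≤ UUx X {r | Φ.Neg r}) m2
  by_cases hb : b = Φ.simple i ∨ b = E.γ (Φ.simple i) ∨ b = Φ.neg (Φ.simple i) ∨ b = Φ.neg (E.γ (Φ.simple i))
  swap
  · simp only [not_or] at hb
    exact k1 b hb.1 hb.2.1 hb.2.2.1 hb.2.2.2 v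
  have k2 : ∀ a, ip Φ a b = 1 → ∀ v, g * X a v * g⁻¹ ∈ tZ X (w a) := fun a e => by
    have o1 := E.ip_self (Φ.simple i)
    have o2 := E.ip_self (E.γ (Φ.simple i))
    have o3 : ip Φ (Φ.simple i) (E.γ (Φ.simple i)) = 0 ∨ ip Φ (Φ.simple i) (E.γ (Φ.simple i)) = 2 := by
      by_cases k : E.γ (Φ.simple i) = Φ.simple i
      · exact .inr (by rw [k, o1])
      · exact .inl (E.γ_orth k)
    have o4 := ip_comm (Φ := Φ) (E.γ (Φ.simple i)) (Φ.simple i)
    refine k1 a ?_ ?_ ?_ ?_ <;> rintro rfl <;> rcases hb with rfl | rfl | rfl | rfl <;>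
      (try simp only [ip_neg_left, ip_neg_right] at e) <;> omega
  obtain ⟨a, c, e, hd⟩ := tp_dec (E := E) b
  obtain ⟨u1, u2, e1⟩ := h.trel.tp_cm e hd v
  obtain ⟨v1, e2⟩ := h.trel.mem_tZ'.1 (k2 a (E.radd_ip e).2.1 u1)
  obtain ⟨v2, e3⟩ := h.trel.mem_tZ'.1 (k2 c (E.radd_ip e).2.2 u2)
  have e4 : g * X b v * g⁻¹ = X (w a) v1 * X (w c) v2 * (X (w a) v1)⁻¹ * (X (w c) v2)⁻¹ := by
    rw [e1, ← e2, ← e3]; group
  rw [e4]
  exact h.trel.tp_cm' (e.apply (WT_le _ hw)) (hd.imp (fun k => ⟨(WT_long hw a).2 k.1, (WT_long hw c).2 k.2⟩)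
    fun k => by rwa [WT_γ hw, WT_ip hw]) v1 v2

theorem act' {i : κ} {g : G} (hg : g ∈ tZ X (Φ.simple i) ⊔ tZ X (Φ.neg (Φ.simple i))) {w : Equiv.Perm ι}
    (hw : w ∈ WT E Set.univ) (hp : ∀ r, Φ.Pos r → r ≠ Φ.simple i → r ≠ E.γ (Φ.simple i) → Φ.Pos (w r))
    (ha : T.Acts (θ g) w) (b : ι) {x : G} (hx : x ∈ tZ X b) : g * x * g⁻¹ ∈ tZ X (w b) := by
  obtain ⟨v, rfl⟩ := h.trel.mem_tZ'.1 hx
  exact h.act hg hw hp ha b v

theorem rank (i : κ) {v : K} (hv : X (Φ.neg (Φ.simple i)) v ≠ 1) : ∃ v' n,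
    n = X (Φ.simple i) v' * X (Φ.neg (Φ.simple i)) v * X (Φ.simple i) v' ∧
      n ∈ tZ X (Φ.simple i) ⊔ tZ X (Φ.neg (Φ.simple i)) ∧ θ n ∈ T.N ∧ T.Acts (θ n) (tpW E i) := by
  obtain ⟨v', m, e, h1, h2⟩ := h.toTw.tp_rank i (v := v) fun e => hv (h.eq_one e)
  have e1 : θ (X (Φ.simple i) v' * X (Φ.neg (Φ.simple i)) v * X (Φ.simple i) v') = m := by
    simp only [map_mul, h.map, e]
  exact ⟨v', _, rfl, mul_mem (mul_mem (mem_sup_left (mem_UUx X (Set.mem_singleton _) _)) (mem_sup_right (mem_UUx X (Set.mem_singleton _) _)))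
    (mem_sup_left (mem_UUx X (Set.mem_singleton _) _)), e1 ▸ h1, e1 ▸ h2⟩

theorem ne_one (a : ι) : X a P.ω ≠ 1 := fun e => h.toTw.tp_ne a (by rw [← h.map, e, map_one])

theorem not_mem {a : ι} (ha : ¬ Φ.Pos a) : θ (X a P.ω) ∉ (tU Φ X).map θ := by
  rintro ⟨u, hu, e⟩
  have h1 := h.mem_UU (cl_pos (E := E)).gam hu
  have h2 := h.mem_UU (Ψ := {r | Φ.Neg r}) (fun r hr => (γ_neg E r).2 hr)
    (mem_UUx X (Φ.neg_iff_not_pos.2 ha) P.ω)
  rw [e] at h1
  exact h.toTw.tp_ne a (by rw [← h.map]; exact h.amb.nd.eq_one_of_mem_B_of_mem_V (T.U_le_B h1) h2)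

/-- the root group system -/
noncomputable def sys : RGSys (tpD E) G where
  X := Quotient.lift (tZ X) fun a b k => by
    rcases k with rfl | rfl
    exacts [rfl, (h.trel.tp_Z a).symm]
  U := tU Φ X
  n i := (h.rank i (h.ne_one _)).choose_spec.choose
  T i := (tZ X (Φ.simple i) ⊔ tZ X (Φ.neg (Φ.simple i))) ⊓ T.H.comap θ
  X_le_U r := r.inductionOn fun a k => UUx_mono X (by rintro _ rfl; exact k)
  X_not_le_U r := r.inductionOn fun a k e => h.not_mem k (mem_map_of_mem θ (e (mem_UUx X (Set.mem_singleton _) _)))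
  U_fact i u hu := by
    have k := h.trel.tp_norm h.tr i
    obtain ⟨v, u', hu', rfl⟩ := h.trel.tp_split h.tr (a := Φ.simple i)
      (fun v => k (mem_sup_left (mem_UUx X (Set.mem_singleton _) v))) (fun r hr => by
        by_cases k1 : r = Φ.simple i
        · exact .inl k1
        by_cases k2 : r = E.γ (Φ.simple i)
        · exact .inr (.inl k2)
        exact .inr (.inr ⟨hr, fun k => k.elim k1 k2⟩)) hu
    refine ⟨_, mem_UUx X (Set.mem_singleton _) v, (UUx_mono X Set.diff_subset : tRj E X i ≤ _) ?_⟩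
    rw [inv_mul_cancel_left]
    have := (mem_normalizer_iff.1 (inv_mem (k (h.rank i (h.ne_one _)).choose_spec.choose_spec.2.1)) _).1 hu'
    rwa [inv_inv] at this
  n_X i r := r.inductionOn fun a x hx =>
    have k := (h.rank i (h.ne_one _)).choose_spec.choose_spec
    h.act' k.2.1 (tpW_mem i) (fun _ => tpW_pos i) k.2.2.2 a hx
  T_X i t ht r := r.inductionOn fun a x hx =>
    h.act' ht.1 (one_mem _) (fun _ k _ _ => k) (T.acts_of_mem_H ht.2) a hx
  T_U i t ht u hu := by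
    have : tU Φ X ≤ (tU Φ X).comap (MulAut.conj t).toMonoidHom := UUx_le_iff.2 fun a ha v =>
      UUx_mono X (by rintro _ rfl; exact ha) (h.act ht.1 (one_mem _) (fun _ k _ _ => k) (T.acts_of_mem_H ht.2) a v)
    exact this hu
  n_mem i := (h.rank i (h.ne_one _)).choose_spec.choose_spec.2.1
  T_le i := inf_le_left
  n_T i t ht :=
    have k := (h.rank i (h.ne_one _)).choose_spec.choose_spec
    mem_inf.2 ⟨mul_mem (mul_mem k.2.1 (mem_inf.1 ht).1) (inv_mem k.2.1), by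
      simpa only [mem_comap, map_mul, map_inv] using k.2.2.2.conj_mem_H (WT_le _ (tpW_mem i)) ht.2⟩
  n_sq i := by
    have k := (h.rank i (h.ne_one _)).choose_spec.choose_spec.1
    rw [k, mul_assoc, mul_assoc, mul_assoc, ← mul_assoc (X (Φ.simple i) _) (X (Φ.simple i) _), h.trel.sq, one_mul,
      ← mul_assoc (X (Φ.neg _) _), h.trel.sq, one_mul, h.trel.sq]
    exact one_mem _
  rank_one i y hy h1 := by
    obtain ⟨v, rfl⟩ := h.trel.mem_tZ'.1 hy
    have k := (h.rank i (h.ne_one _)).choose_spec.choose_spec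
    obtain ⟨v', n, e, n1, n2, n3⟩ := h.rank i h1
    refine ⟨_, mem_UUx X (Set.mem_singleton _) v', _, mem_inf.2 ⟨mul_mem (inv_mem k.2.1) n1, ?_⟩, _, mem_UUx X (Set.mem_singleton _) v', ?_⟩
    · simpa only [mem_comap, map_mul, map_inv] using h.amb.nd.inv_mul_mem_H k.2.2.1 n2 k.2.2.2 n3
    · rw [mul_assoc (X _ v'), mul_inv_cancel_left, e, ← mul_assoc, ← mul_assoc, h.trel.sq, one_mul, mul_assoc,
        h.trel.sq, mul_one]

theorem le_grp : tL X ≤ h.sys.grp := by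
  have k : ∀ w ∈ WT E (Set.range Φ.simple), ∀ a, tZ X (w a) ≤ h.sys.grp ↔ tZ X a ≤ h.sys.grp := fun w hw => by
    have k1 : ∀ i a, tZ X a ≤ h.sys.grp → tZ X (tpW E i a) ≤ h.sys.grp := fun i a e x hx => by
      have := mul_mem (mul_mem (h.sys.n_mem_grp i) (e (h.sys.n_inv_X i ⟦a⟧ hx))) (inv_mem (h.sys.n_mem_grp i))
      simpa [mul_assoc] using this
    induction hw using closure_induction with
    | mem x hx =>
      obtain ⟨_, ⟨i, rfl⟩, hx⟩ := hx
      obtain rfl : x = tpW E i := by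
        unfold tpW
        rcases hx with ⟨e, rfl⟩ | ⟨e, rfl⟩
        exacts [(if_pos e).symm, (if_neg e).symm]
      exact fun a => ⟨fun e => tpW_tpW (E := E) i a ▸ k1 i _ e, k1 i a⟩
    | one => exact fun a => Iff.rfl
    | mul x y _ _ hx hy => exact fun a => (hx _).trans (hy a)
    | inv x _ hx => exact fun a => by rw [← hx, tp_inv]
  refine UUx_le_iff.2 fun a _ u => ?_
  obtain ⟨w, hw, i, rfl⟩ := exists_simple (E := E) a
  exact (k w hw _).2 ((h.sys.X_le_U ⟦Φ.simple i⟧ (Φ.pos_simple i)).trans h.sys.U_le_grp) (mem_UUx X (Set.mem_singleton _) u)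

/-- the kernel is central -/
theorem ker {g : G} (hg : g ∈ tL X) (e : θ g = 1) : g ∈ tC X := by
  obtain ⟨u, hu, t, ht, rfl⟩ := h.sys.exists_of_mem_ker θ
    (fun r => r.inductionOn fun a k e => h.not_mem k (e (mem_map_of_mem θ (mem_UUx X (Set.mem_singleton _) _)))) (h.le_grp hg) e
  have h1 : θ t ∈ T.H := (iSup_le (fun _ => inf_le_right) : h.sys.Tor ≤ T.H.comap θ) ht
  have h2 : θ u = 1 := h.amb.nd.eq_one_of_mem_U_of_mem_H (h.mem_UU (cl_pos (E := E)).gam hu) (by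
    rw [map_mul, mul_eq_one_iff_eq_inv] at e
    exact e ▸ inv_mem h1)
  obtain rfl := h.inj cl_pos hu h2
  rw [one_mul] at e ⊢
  refine mem_cent_UUx.2 fun a _ v => ?_
  obtain ⟨v', e1⟩ := h.trel.mem_tZ'.1 (h.sys.Tor_X ht ⟦a⟧ (mem_UUx X (Set.mem_singleton _) v))
  have e2 : tx E P T a (v' + v) = 1 := by
    rw [h.toTw.rel.add, ← h.map a v', ← e1, map_mul, map_mul, map_inv, e, h.map, one_mul, inv_one, mul_one,
      h.toTw.rel.sq]
  have e3 := h.eq_one e2
  rw [h.trel.add, ← e1, mul_eq_one_iff_eq_inv, h.trel.inv, mul_inv_eq_iff_eq_mul] at e3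
  exact e3.symm

/-- the kernel has odd order -/
theorem odd [Finite G] (V : Vir E P T s) (hgen : tL X = ⊤) {z : G} (e : θ z = 1) : Odd (orderOf z) := by
  have cen : ∀ z, θ z = 1 → z ∈ center G := fun z e => by
    have := h.ker (hgen ▸ mem_top z) e
    rwa [tC, hgen, coe_top, centralizer_univ] at this
  obtain ⟨ρ, V'⟩ := TCov.exists_sys (X := tx E P T) (θ := (tL (tx E P T)).subtype)
    ⟨V, V.rel.sq, fun _ _ => rfl, fun z e => by
      rw [show (z : A) = 1 from e]; exact ⟨one_mem _, by simp⟩⟩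
  have hU : IsPGroup 2 (tU Φ X) := V'.pg_U.of_injective
    ((θ.comp (tU Φ X).subtype).codRestrict _ fun u => h.map_mem u.2) ((injective_iff_map_eq_one _).2 fun u k =>
      Subtype.ext (h.inj cl_pos u.2 (Subtype.ext_iff.1 k :)))
  obtain ⟨Q, hQ⟩ := hU.exists_le_sylow
  have h1 : (Q : Subgroup G).map θ ≤ tU Φ (tx E P T) := V'.le_U (Q.2.map θ)
    (by rintro _ ⟨x, -, rfl⟩; exact h.map_mem (hgen ▸ mem_top x : x ∈ tL X))
    ((map_UUx X _ θ _ fun r _ => h.map r).ge.trans (map_mono hQ))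
  have h2 : ∀ x ∈ (Q : Subgroup G), ∃ u ∈ tU Φ X, ∃ c ∈ center G, x = u * c := fun x hx => by
    have := h1 (mem_map_of_mem θ hx)
    rw [tU, ← map_UUx X _ θ _ (fun r _ => h.map r)] at this
    obtain ⟨u, hu, e⟩ := this
    exact ⟨u, hu, u⁻¹ * x, cen _ (by rw [map_mul, map_inv, e, inv_mul_cancel]), by group⟩
  have h3 : ⁅(Q : Subgroup G), (Q : Subgroup G)⁆ ≤ tU Φ X := commutator_le.2 fun x hx y hy => by
    obtain ⟨u, hu, c, hc, rfl⟩ := h2 x hx
    obtain ⟨u', hu', c', hc', rfl⟩ := h2 y hy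
    rw [Schur.commutatorElement_mul_central hc hc']
    exact mul_mem (mul_mem (mul_mem hu hu') (inv_mem hu)) (inv_mem hu')
  by_contra hz
  obtain ⟨m, hm⟩ := Nat.not_odd_iff_even.1 hz
  have h4 : orderOf (z ^ m) = 2 := by
    have := orderOf_pos z
    rw [orderOf_pow_of_dvd (by omega) ⟨2, by omega⟩, hm, ← two_mul, Nat.mul_div_cancel _ (by omega)]
  have h5 : θ (z ^ m) = 1 := by rw [map_pow, e, one_pow]
  have h6 := Schur.mem_commutator_of_coprime (Q : Subgroup G) (cen _ h5)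
    (by have := h.trel.pf_L.1; rw [hgen] at this; exact this (mem_top _))
    (by rw [h4]; exact (Nat.Prime.coprime_iff_not_dvd Nat.prime_two).2 Q.not_dvd_index)
  rw [h.inj cl_pos (h3 h6) h5, orderOf_one] at h4
  omega

end PCov

/-- A non-trivial family with the twisted relations generates a central extension of the twisted group. -/
theorem Vir.pres (V : Vir E P T s) {G : Type u} [Group G] [Finite G] {X : ι → K → G} (hX : TRel E P X)
    (h1 : ∃ a u, X a u ≠ 1) : ∃ θ : tL X →* A, TCov E P T s X θ := by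
  have r := V.rel
  let D : ι → K → G × A := fun a u => (X a u, tx E P T a u)
  have c : PCov E P T s D (MonoidHom.snd G A) := ⟨V.toTw, ⟨fun a u v => Prod.ext (hX.add a u v) (r.add a u v),
    fun a u => Prod.ext (hX.gam a u) (r.gam a u), fun a b k1 k2 u v => Prod.ext (hX.com a b k1 k2 u v)
      (r.com a b k1 k2 u v), fun a b k e k1 u v => Prod.ext (hX.cm a b k e k1 u v) (r.cm a b k e k1 u v),
    fun a b k k1 k2 e u v => Prod.ext (hX.ll a b k k1 k2 e u v) (r.ll a b k k1 k2 e u v),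
    fun a b k l e u v => Prod.ext (hX.ls a b k l e u v) (r.ls a b k l e u v)⟩, fun _ _ => rfl⟩
  have m1 : (tL D).map (MonoidHom.fst G A) = tL X := map_UUx D X _ _ fun _ _ _ => rfl
  have m2 : (tL D).map (MonoidHom.snd G A) = tL (tx E P T) := map_UUx D _ _ _ fun _ _ _ => rfl
  have cen : ∀ g : G, (g, (1 : A)) ∈ tL D → g ∈ tC X := fun g hg => mem_cent_UUx.2 fun a _ u =>
    congrArg Prod.fst (mem_cent_UUx.1 (c.ker hg rfl) a trivial u)
  have inj : ∀ m : A, ((1 : G), m) ∈ tL D → m = 1 := by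
    let N : Subgroup (tL (tx E P T)) := ((tL D).comap (MonoidHom.inr G A)).comap (tL (tx E P T)).subtype
    have hN : N.Normal := ⟨fun n hn g => by
      obtain ⟨p, hp, e⟩ : (g : A) ∈ (tL D).map (MonoidHom.snd G A) := m2.ge g.2
      have := mul_mem (mul_mem hp (show ((1 : G), (n : A)) ∈ tL D from hn)) (inv_mem hp)
      change ((1 : G), (g : A) * n * (g : A)⁻¹) ∈ tL D
      rw [← e]
      convert this using 1
      ext <;> simp⟩
    rcases V.simp.eq_bot_or_eq_top_of_normal N hN with k | k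
    · intro m hm
      have h2 : m ∈ tL (tx E P T) := m2.le (mem_map_of_mem (MonoidHom.snd G A) hm)
      have h3 : (⟨m, h2⟩ : tL (tx E P T)) = 1 := mem_bot.1 (k.le hm)
      exact congrArg Subtype.val h3
    · have h2 : tL X ≤ tC X := UUx_le_iff.2 fun a _ u => cen _ (by
        have h3 : ((1 : G), tx E P T a u) ∈ tL D :=
          k.ge (mem_top (⟨_, mem_tL _ a u⟩ : tL (tx E P T)))
        simpa [D] using mul_mem (mem_tL D a u) (inv_mem h3))
      obtain ⟨a, u, h3⟩ := h1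
      have h4 := hX.pf_L.1 (mem_tL X a u)
      rw [commutator_eq_bot_iff_le_centralizer.2 h2] at h4
      exact absurd (mem_bot.1 h4) h3
  have ex : ∀ l : tL X, ∃ m, ((l : G), m) ∈ tL D := fun l => by
    obtain ⟨p, hp, e⟩ : (l : G) ∈ (tL D).map (MonoidHom.fst G A) := m1.ge l.2
    exact ⟨p.2, e ▸ hp⟩
  have un : ∀ (g : G) (m m' : A), (g, m) ∈ tL D → (g, m') ∈ tL D → m = m' := fun g m m' k k' =>
    mul_inv_eq_one.1 (inj _ (by simpa using mul_mem k (inv_mem k')))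
  choose f hf using ex
  let θ : tL X →* A := MonoidHom.mk' f fun a b => un _ _ _ (hf (a * b)) (mul_mem (hf a) (hf b))
  have hθ : ∀ a u, θ ⟨X a u, mem_tL X a u⟩ = tx E P T a u := fun a u => un _ _ _ (hf _) (mem_tL D a u)
  let Y : ι → K → tL X := fun a u => ⟨X a u, mem_tL X a u⟩
  have c' : PCov E P T s Y θ := ⟨V.toTw, ⟨fun a u v => Subtype.ext (hX.add a u v),
    fun a u => Subtype.ext (hX.gam a u), fun a b k1 k2 u v => Subtype.ext (hX.com a b k1 k2 u v),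
    fun a b k e k1 u v => Subtype.ext (hX.cm a b k e k1 u v),
    fun a b k k1 k2 e u v => Subtype.ext (hX.ll a b k k1 k2 e u v),
    fun a b k l e u v => Subtype.ext (hX.ls a b k l e u v)⟩, hθ⟩
  have hY : tL Y = ⊤ := map_injective (tL X).subtype_injective (by
    rw [← MonoidHom.range_eq_map, range_subtype]
    exact map_UUx Y X _ _ fun _ _ _ => rfl)
  refine ⟨θ, V, hX.sq, hθ, fun z e => ⟨cen _ ?_, ?_⟩⟩
  · have := hf z
    rwa [show f z = 1 from e] at this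
  · rw [orderOf_coe]
    exact c'.odd V hY e

end CfsgLib.SLT
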