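import Mathlib
import Cfsg.Agent.Lib.SLT.Dbl

/-!
# The field case
-/

set_option autoImplicit false
set_option linter.unusedSectionVars false

namespace CfsgLib.SLT

open CfsgLib.RGD CfsgLib.Stein CfsgLib.SLE Subgroup
open scoped commutatorElement Pointwise

universe u

variable {ι κ : Type} [Fintype κ] [DecidableEq κ] [Finite ι] {Φ : RootSys ι κ} {E : ER Φ}

namespace SpF

variable {F K : Type} [CommRing F] [CommRing K] {P : QE F K} {G : Type u} [Group G] {D : ι → K → G} {e : K}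
  (h : TRel E P D) (hR : TR E) (h1 : e * e = e) (h2 : P.τ e = 1 + e)
include h1 h2

theorem mul_τ : e * P.τ e = 0 := by rw [h2, mul_add, mul_one, h1, P.add_selfK]

theorem fT (u v : K) : P.f (P.T (e * u)) * (e * v) = e * (u * v) := by
  rw [P.hT, map_mul]
  linear_combination (u * v) * h1 + (P.τ u * v) * mul_τ h1 h2

theorem N_eq (v : K) : P.N (e * v) = 0 := P.inj (by
  rw [P.hN, map_mul, map_zero]
  linear_combination (v * P.τ v) * mul_τ h1 h2)

theorem T_T (u v : K) : P.T (e * u) * P.T (e * v) = P.T (e * (u * v)) := P.inj (by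
  have h3 : P.τ e * P.τ e = P.τ e := by rw [← map_mul, h1]
  rw [map_mul, P.hT, P.hT, P.hT, map_mul, map_mul, map_mul, map_mul]
  linear_combination (u * v) * h1 + (P.τ u * v + u * P.τ v) * mul_τ h1 h2 + (P.τ u * P.τ v) * h3)

include h

theorem cm_ls {a b k : ι} (hk : RAdd Φ a b k) (ha : E.γ a = a) (hb : E.γ b ≠ b) (u v : K) :
    D a (e * u) * D b (e * v) * (D a (e * u))⁻¹ * (D b (e * v))⁻¹ = D k (e * (u * v)) := by
  obtain ⟨k₁, k₂, ht⟩ := exists_tup ha hb (E.radd_ip hk).1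
  obtain rfl := hk.unique' ht.hb
  have h3 := h.ls _ _ _ _ ht (e * v) (P.T (e * u))
  rw [N_eq h1 h2, mul_zero, h.xl_zero, mul_one, fT h1 h2, ← h.lng ha] at h3
  rw [← mul_right_inj (D a (e * u)), ← h3, h.inv a, ← mul_assoc, ← mul_assoc, ← mul_assoc, h.sq, one_mul]

include hR

theorem cm {a b k : ι} (hk : RAdd Φ a b k) (u v : K) :
    D a (e * u) * D b (e * v) * (D a (e * u))⁻¹ * (D b (e * v))⁻¹ = D k (e * (u * v)) := by
  by_cases ha : E.γ a = a <;> by_cases hb : E.γ b = b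
  · rw [h.lng ha, h.lng hb, h.ll _ _ _ ha hb hk, T_T h1 h2, h.lng (long_add hk ha hb)]
  · exact cm_ls h h1 h2 hk ha hb u v
  · rw [← h.inv k, mul_comm u v, ← cm_ls h h1 h2 hk.symm hb ha]
    group
  · rw [h.cm _ _ _ hk (hR.mm _ _ ha hb (E.radd_ip hk).1)]
    congr 1
    linear_combination (u * v) * h1

omit hR in
theorem com' {a b : ι} (h0 : 0 ≤ ip Φ a b) (hn : E.γ b ≠ Φ.neg a) (u v : K) :
    Commute (D a (e * u)) (D b (e * v)) := by
  by_cases h3 : 0 ≤ ip Φ a (E.γ b)
  · exact h.com _ _ h0 h3 _ _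
  obtain ⟨k, hk⟩ := E.exists_add (a := a) (b := E.γ b) (by
    rcases E.ip_cases a (E.γ b) with k | k | k | k | k
    exacts [by omega, by omega, by omega, k, (hn k.1).elim])
  have h4 := h.cm _ _ _ hk (by rwa [E.γ2]) (e * u) (P.τ (e * v))
  rw [h.gam, P.τ2, show e * u * P.τ (e * v) = 0 by
    rw [map_mul]; linear_combination (u * P.τ v) * mul_τ h1 h2, h.zero] at h4
  exact commutatorElement_eq_one_iff_commute.1 h4

theorem com {a b : ι} (h0 : 0 ≤ ip Φ a b) (u v : K) : Commute (D a (e * u)) (D b (e * v)) := by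
  by_cases hn : E.γ b = Φ.neg a
  swap
  · exact com' h h1 h2 h0 hn u v
  have hb : b = Φ.neg (E.γ a) := by rw [← E.γn, ← hn, E.γ2]
  have ha : E.γ a ≠ a := fun k => by
    rw [hb, k, ip_neg_right, E.ip_self] at h0
    omega
  obtain ⟨c, c1, c2⟩ := hR.opp a ha
  rw [← hb] at c1
  obtain ⟨d, hd⟩ := E.exists_sub c1
  have d1 := hd.ip_right a
  have d2 := (E.radd_ip hd).2.2
  have k : ∀ x, ip Φ x b = 1 → E.γ x ≠ Φ.neg a := fun x x1 x2 => by
    rw [E.γ.injective (x2.trans hn.symm), E.ip_self] at x1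
    omega
  have e1 := com' h h1 h2 c2.ge (k c c1) u 1
  have e2 := com' h h1 h2 (a := a) (b := d) (by omega) (k d d2) u v
  rw [← one_mul v, ← cm h hR h1 h2 hd]
  exact ((e1.mul_right e2).mul_right e1.inv_right).mul_right e2.inv_right

end SpF

variable {F K : Type} [Field F] [Finite F] [CharP F 2] [Field K] [Finite K] [CharP K 2] {P : QE F K}
  {G : Type u} [Group G] [Finite G] {A : Type} [Group A] [Finite A] {T : StSys Φ K A} {s : A}
  {X : ι → K → G} {ρ : G → A} {t : G}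

variable {y : ι → F → G} {c : F} {W : ι → K → G}

theorem HS4.dblF (h : HS4 E P T s X ρ t y c W) (hK : Kit.{u} E) (hc : ∀ e : F, e * e + e ≠ c) :
    ∃ T' : StSys Φ K G, DblF E P T s X ρ t y c T' := by
  obtain ⟨w, w1, w2⟩ := P.exists_root hc
  have r := h.trel
  have two := P.two
  set D := dX X W (P.f c) with hD
  set j := algebraMap K (HX.QA K (P.f c)) with hj
  let e : HX.QA K (P.f c) := ⟨w, 1⟩
  have ej : ∀ v, e * j v = ⟨w * v, v⟩ := fun v => by ext <;> simp [e, hj]
  have τ1 : ∀ a b : K, (P.dbl c).τ ⟨a, b⟩ = ⟨P.τ a, P.τ b⟩ := fun _ _ => rfl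
  have τj : ∀ v, (P.dbl c).τ (j v) = j (P.τ v) := fun v => by
    rw [hj, QuadraticAlgebra.algebraMap_eq, QuadraticAlgebra.algebraMap_eq, τ1, map_zero]
  have h1 : e * e = e := by
    ext
    · simp only [e, QuadraticAlgebra.re_mul]; linear_combination w1 + (P.f c - w) * two
    · simp only [e, QuadraticAlgebra.im_mul]; linear_combination w * two
  have h2 : (P.dbl c).τ e = 1 + e := by
    rw [τ1, w2, map_one]
    ext <;> simp [e, QuadraticAlgebra.re_one, QuadraticAlgebra.im_one, add_comm]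
  have W0 : ∀ a, W a 0 = 1 := fun a => by simpa using h.wadd a 0 0
  have spl : ∀ a ξ, D a (e * ξ) * D (E.γ a) (e * (P.dbl c).τ ξ) = D a ξ := fun a ξ => by
    rw [r.gam, ← r.add, map_mul, (P.dbl c).τ2, h2]
    congr 1
    linear_combination (e * ξ) * (P.dbl c).two
  have ext : ∀ a u, D a (e * j u) * D (E.γ a) (e * j (P.τ u)) = X a u := fun a u => by
    rw [← τj, spl]
    exact (congrArg (X a u * ·) (W0 a)).trans (mul_one _)
  obtain ⟨T', e1, amb⟩ := hK K G (fun a v => D a (e * j v))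
    ⟨fun a u v => by rw [map_add, mul_add, r.add], fun a b k hk u v => by rw [SpF.cm r h.tr h1 h2 hk, map_mul],
      fun a b h0 u v => SpF.com r h.tr h1 h2 h0 _ _⟩ (by
      by_contra! k
      refine one_ne_zero ((h.toSys.xl_eq_one E.γ_θ).1 ?_)
      rw [xl, ← ext, k, k, one_mul])
  have e2 : ∀ a v, T'.x a v = D a (e * j v) := fun a v => by rw [e1]
  refine ⟨T', h.toHatL, ⟨h.tr, amb, h.t2, fun a u => ?_⟩, fun a u => by rw [tx, e2, e2, ext], ?_⟩
  · rw [e2, e2, ej, ej, r.gam, τ1, h.toHS2.t_dX, map_mul, P.τ2, w2, add_mul, one_mul]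
  · rw [← h.toHS2.tL_dX]
    refine le_antisymm ((closure_le _).2 ?_) ((closure_le _).2 ?_)
    · rintro _ ⟨a, -, v, rfl⟩
      exact e2 a v ▸ mem_tL D a _
    · have k : ∀ a ξ, D a (e * ξ) ∈ T'.grp := fun a ξ => by
        have : e * ξ = e * j (ξ.re + (1 + w) * ξ.im) := by
          rw [ej]
          ext
          · simp only [e, QuadraticAlgebra.re_mul]; linear_combination (-ξ.im) * w1
          · simp only [e, QuadraticAlgebra.im_mul]; ring
        rw [this, ← e2]
        exact subset_closure ⟨a, trivial, _, rfl⟩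
      rintro _ ⟨a, -, ξ, rfl⟩
      rw [← hD, ← spl]
      exact mul_mem (k _ _) (k _ _)

end CfsgLib.SLT
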