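import Mathlib
import Cfsg.Agent.Lib.SLT.Dbl
import Cfsg.Agent.Lib.SLT.Cov

/-!
# The product case
-/

set_option autoImplicit false
set_option linter.unusedSectionVars false

namespace CfsgLib.SLT

open CfsgLib.RGD CfsgLib.Stein CfsgLib.SLE Subgroup
open scoped commutatorElement Pointwise

universe u

variable {ι κ : Type} [Fintype κ] [DecidableEq κ] [Finite ι] {Φ : RootSys ι κ} {E : ER Φ}

section Ring

variable {F K F' K' : Type} [CommRing F] [CommRing K] [CommRing F'] [CommRing K'] {P : QE F K} {P' : QE F' K'}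
  {G : Type u} [Group G] {D : ι → K → G}

theorem splp_com_of {x y : G} (h : x * y * x⁻¹ * y⁻¹ = 1) : x * y = y * x := by
  rwa [mul_inv_eq_one, mul_inv_eq_iff_eq_mul] at h

/-- orthogonal parameters commute -/
theorem TRel.splp_orth (h : TRel E P D) (hR : TR E) {a b : ι} (h1 : b ≠ Φ.neg a) (h2 : E.γ b ≠ Φ.neg a) {u v : K}
    (e1 : u * v = 0) (e2 : u * P.τ v = 0) : D a u * D b v = D b v * D a u := by
  have e3 : P.τ u * v = 0 := by rw [← P.τ2 v, ← map_mul, e2, map_zero]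
  have e4 : P.τ u * P.τ v = 0 := by rw [← map_mul, e1, map_zero]
  rcases hR.cases h1 h2 with ⟨k1, k2⟩ | ⟨k, k1, k2⟩ | ⟨k, k1, k2⟩ | ⟨k, k1, k2, k3⟩ | ⟨m, k, k1⟩ | ⟨m, k, k1⟩
  · exact h.com a b k1 k2 u v
  · exact splp_com_of (by rw [h.cm a b k k1 k2, e1, h.zero])
  · rw [← P.τ2 v, ← h.gam]
    exact splp_com_of (by rw [h.cm a _ k k1 (by rwa [E.γ2]), e2, h.zero])
  · rw [h.lng k2, h.lng k3]
    exact splp_com_of (by rw [h.ll a b k k2 k3 k1, show P.T u * P.T v = 0 from P.inj (by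
      rw [map_mul, P.hT, P.hT, map_zero]; linear_combination e1 + e2 + e3 + e4), h.xl_zero])
  · rw [h.lng k1.lr, eq_comm, ← mul_inv_eq_iff_eq_mul, h.ls a b m k k1, show P.f (P.T u) * v = 0 by
      rw [P.hT]; linear_combination e1 + e3, show P.T u * P.N v = 0 from P.inj (by
      rw [map_mul, P.hT, P.hN, map_zero]; linear_combination P.τ v * e1 + P.τ v * e3), h.zero, h.xl_zero,
      mul_one, mul_one]
  · rw [h.lng k1.lr, ← mul_inv_eq_iff_eq_mul, h.ls b a m k k1, show P.f (P.T v) * u = 0 by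
      rw [P.hT]; linear_combination e1 + e2, show P.T v * P.N u = 0 from P.inj (by
      rw [map_mul, P.hT, P.hN, map_zero]; linear_combination P.τ u * e1 + P.τ u * e2), h.zero, h.xl_zero,
      mul_one, mul_one]

theorem splp_ne {a b x : ι} (h : ip Φ x b = 1) (h1 : b = Φ.neg a ∨ E.γ b = Φ.neg a) :
    x ≠ Φ.neg a ∧ E.γ x ≠ Φ.neg a := by
  have k1 : x ≠ b := fun e => by rw [e, E.ip_self] at h; omega
  have k2 : x ≠ E.γ b := fun e => by
    by_cases k : E.γ b = b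
    · exact k1 (e.trans k)
    · rw [e, ip_comm, E.γ_orth k] at h
      omega
  rcases h1 with e | e <;> rw [← e]
  · exact ⟨k1, fun k => k2 (by rw [← k, E.γ2])⟩
  · exact ⟨k2, fun k => k1 (E.γ.injective k)⟩

theorem TRel.splp_com (h : TRel E P D) (hR : TR E) {ε : F} (hε : ε * ε = ε) (a b : ι) {u v : K}
    (e1 : u * P.f ε = 0) (e2 : P.f ε * v = v) : D a u * D b v = D b v * D a u := by
  have key : ∀ x w, x ≠ Φ.neg a ∧ E.γ x ≠ Φ.neg a → P.f ε * w = w → Commute (D a u) (D x w) := fun x w hx e =>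
    h.splp_orth hR hx.1 hx.2 (by rw [← e, ← mul_assoc, e1, zero_mul])
      (by rw [← e, map_mul, P.τf, ← mul_assoc, e1, zero_mul])
  by_cases h1 : b = Φ.neg a ∨ E.γ b = Φ.neg a
  swap
  · exact key b v (not_or.1 h1) e2
  obtain ⟨x, z, k1, k2, k3⟩ := E.gdec b
  have hx := splp_ne (E.radd_ip k1).2.1 h1
  have hz := splp_ne (E.radd_ip k1).2.2 h1
  have e3 : P.f ε * P.f ε = P.f ε := by rw [← map_mul, hε]
  by_cases hb : E.γ b = b
  · have k4 : E.γ z = z := RAdd.unique (by simpa only [hb, k2 hb] using E.γa _ _ _ k1) k1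
    have c1 := key x (P.ω * P.f ε) hx (by linear_combination P.ω * e3)
    have c2 := key z (P.ω * P.f (P.T v)) hz (by
      rw [mul_left_comm, ← map_mul, ← P.T_mul, e2])
    have := h.ll x z b (k2 hb) k4 k1 ε (P.T v)
    rw [← P.T_mul, e2, ← h.lng hb] at this
    rw [← this]
    exact ((c1.mul_right c2).mul_right c1.inv_right).mul_right c2.inv_right
  · have c1 := key x _ hx e3
    have c2 := key z v hz e2
    have := h.cm x z b k1 (k3 hb) (P.f ε) v
    rw [e2] at this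
    rw [← this]
    exact ((c1.mul_right c2).mul_right c1.inv_right).mul_right c2.inv_right

/-- the component belonging to an idempotent -/
theorem TRel.splp_res {D : ι → K' → G} (h : TRel E P' D) (φ : F →+* F') (ψ : K →+* K')
    (h1 : ∀ p, ψ (P.f p) = P'.f (φ p)) (h2 : ∀ v, ψ (P.τ v) = P'.τ (ψ v)) (h3 : ψ P.ω = P'.ω) {ε : F'}
    (hε : ε * ε = ε) : TRel E P fun a u => D a (P'.f ε * ψ u) := by
  have e3 : P'.f ε * P'.f ε = P'.f ε := by rw [← map_mul, hε]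
  have hx : ∀ r p, xl P (fun a u => D a (P'.f ε * ψ u)) r p = xl P' D r (ε * φ p) := fun r p => by
    simp only [xl, map_mul, h1, h3, mul_left_comm]
  refine ⟨fun a u v => by rw [map_add, mul_add, h.add], fun a u => by rw [h.gam, map_mul, P'.τf, h2],
    fun a b k1 k2 u v => h.com a b k1 k2 _ _, fun a b k k1 k2 u v => ?_, fun a b k k1 k2 k3 p q => ?_,
    fun r a b k k1 v p => ?_⟩
  · rw [h.cm a b k k1 k2, map_mul]
    congr 1
    linear_combination ψ u * ψ v * e3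
  · rw [hx, hx, hx, h.ll a b k k1 k2 k3, map_mul]
    congr 1
    linear_combination φ p * φ q * hε
  · rw [hx, hx, h.ls r a b k k1, P'.N_mul, P'.N_f, map_mul, map_mul, map_mul, h1,
      show P'.N (ψ v) = φ (P.N v) from P'.inj (by rw [P'.hN, ← h1, P.hN, map_mul, h2])]
    exact congrArg₂ _ (congrArg _ (congrArg _ (by linear_combination P'.f (φ p) * ψ v * e3)))
      (congrArg _ (by linear_combination φ p * φ (P.N v) * (ε + 1) * hε))

theorem splp_cent {M : Subgroup G} (hM : M ≤ ⁅M, M⁆) {z : G} (hz : z ∈ M)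
    (h : ∀ l ∈ M, z * l * z⁻¹ * l⁻¹ ∈ centralizer (M : Set G)) : z ∈ centralizer (M : Set G) := by
  refine fun l hl => mem_centralizer_singleton_iff.1 ((hM.trans (commutator_le.2 fun a ha b hb => ?_)) hl :
    l ∈ centralizer {z})
  have h1 := h a ha _ (mul_mem (mul_mem ha (mul_mem (mul_mem hz hb) (inv_mem hz))) (inv_mem ha))
  have h2 := h b hb _ (mul_mem (mul_mem (mul_mem ha hb) (inv_mem ha)) (inv_mem hb))
  have h3 := h b hb a ha
  rw [mem_centralizer_singleton_iff, commutatorElement_def, eq_comm, ← mul_inv_eq_iff_eq_mul]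
  calc z * (a * b * a⁻¹ * b⁻¹) * z⁻¹ = (z * a * z⁻¹ * a⁻¹) * (a * (z * b * z⁻¹) * a⁻¹) * (z * a * z⁻¹ * a⁻¹)⁻¹ *
        (z * b * z⁻¹)⁻¹ := by group
    _ = a * (z * b * z⁻¹ * b⁻¹) * (b * a⁻¹ * b⁻¹) * (z * b * z⁻¹ * b⁻¹)⁻¹ := by rw [← h1]; group
    _ = (z * b * z⁻¹ * b⁻¹) * (a * b * a⁻¹ * b⁻¹) * (z * b * z⁻¹ * b⁻¹)⁻¹ := by rw [h3]; group
    _ = _ := by rw [← h2]; group

end Ring

variable {F K : Type} [Field F] [Finite F] [CharP F 2] [Field K] [Finite K] [CharP K 2] {P : QE F K}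
  {G : Type u} [Group G] [Finite G] {A : Type} [Group A] [Finite A] {T : StSys Φ K A} {s : A}
  {X : ι → K → G} {ρ : G → A} {t : G}

variable {y : ι → F → G} {c : F} {W : ι → K → G}

/-- the diagonal map yields a cover -/
theorem HatL.splp_sys (h : HatL E P T s X ρ t y c) {X₁ : ι → K → G} (r₁ : TRel E P X₁)
    (c12 : ∀ a b u v, X₁ a u * cjX t X₁ b v = cjX t X₁ b v * X₁ a u)
    (ext : ∀ a u, X a u = X₁ a u * cjX t X₁ a u) (eqG : tL X₁ ⊔ tL (cjX t X₁) = tG0 E X y) :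
    ∃ ρ₁, Sys E P T s X₁ ρ₁ := by
  have c1 : tL X₁ ≤ SLT.tC (cjX t X₁) := (closure_le _).2 (by
    rintro _ ⟨a, -, u, rfl⟩
    exact mem_cent_UUx.2 fun b _ v => (c12 a b u v).symm)
  have c2 : ∀ l ∈ tL X₁, ∀ m ∈ tL X₁, t * m * t⁻¹ * l = l * (t * m * t⁻¹) := fun l hl m hm =>
    c1 hl _ (conj_mem_cj hm)
  let δ : tL X₁ →* G := MonoidHom.mk' (fun l => l * (t * l * t⁻¹)) fun l m => by
    rw [coe_mul, ← conj_mul, mul_assoc, ← mul_assoc (m : G), ← c2 _ m.2 _ l.2]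
    simp only [mul_assoc]
  have hδ : ∀ l, δ l = l * (t * l * t⁻¹) := fun _ => rfl
  have e1 : UUx (fun a u => (⟨X₁ a u, mem_tL X₁ a u⟩ : tL X₁)) Set.univ = ⊤ :=
    map_injective (tL X₁).subtype_injective (by
      rw [map_UUx _ X₁ _ _ fun _ _ _ => rfl, ← MonoidHom.range_eq_map, range_subtype]; rfl)
  have e2 : δ.range = tL X := by
    rw [MonoidHom.range_eq_map, ← e1]
    exact map_UUx _ _ _ _ fun a _ u => (ext a u).symm
  have m : ∀ l, δ l ∈ tL X := fun l => e2.le ⟨l, rfl⟩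
  obtain ⟨φ, hφ⟩ := h.exists_hom
  refine TCov.exists_sys (θ := φ.comp (δ.codRestrict _ fun l => L_le_N (m l))) ⟨h.toVir, r₁.sq, fun a u => ?_,
    fun z hz => ?_⟩
  · rw [MonoidHom.comp_apply, hφ, ← h.map, ext]
    rfl
  rw [MonoidHom.comp_apply, hφ] at hz
  have h1 : δ z ∈ SLT.tC X := (h.ker _ (L_le_N (m z))).1 hz
  have h2 : (z : G) ∈ SLT.tC X₁ := splp_cent r₁.pf_L.1 z.2 fun l hl n hn => by
    have k1 : δ (z * ⟨l, hl⟩ * z⁻¹ * ⟨l, hl⟩⁻¹) = 1 := by
      rw [map_mul, map_mul, map_mul, map_inv, map_inv, ← h1 _ (m _)]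
      group
    have k2 := c2 n hn _ (z * ⟨l, hl⟩ * z⁻¹ * ⟨l, hl⟩⁻¹).2
    rw [hδ] at k1
    rw [eq_inv_iff_mul_eq_one.2 (mul_eq_one_comm.1 k1), inv_mul_eq_iff_eq_mul, ← mul_assoc,
      eq_mul_inv_iff_mul_eq] at k2
    exact k2
  refine ⟨h2, ?_⟩
  rw [← Nat.not_even_iff_odd, orderOf_coe]
  rintro ⟨n, hn⟩
  have hn0 : n ≠ 0 := fun e => (orderOf_pos z).ne' (by rw [hn, e])
  have w2 : z ^ n * z ^ n = 1 := by rw [← pow_add, ← hn, pow_orderOf_eq_one]
  have w3 : δ (z ^ n) = 1 := orderOf_eq_one_iff.1 (Nat.eq_one_of_dvd_coprimes (Nat.coprime_two_right.2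
    (h.odd _ (m _) (map_pow δ z n ▸ pow_mem h1 n))) dvd_rfl (orderOf_dvd_of_pow_eq_one (by
      rw [pow_two, ← map_mul, w2, map_one])))
  have w4 : ((z ^ n : tL X₁) : G) * (z ^ n : tL X₁) = 1 := congrArg Subtype.val w2
  have w5 : ((z ^ n : tL X₁) : G) = 1 := h.eq_one_of_cent (by
    rw [← eqG]
    exact fun g hg => mem_centralizer_singleton_iff.1 ((sup_le
      (fun l hl => mem_centralizer_singleton_iff.2 (pow_mem h2 n l hl))
      (fun l hl => mem_centralizer_singleton_iff.2 (c1 (z ^ n).2 l hl)) : _ ≤ centralizer {_}) hg)) w4 (by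
      rw [hδ, ← w4, mul_right_inj, mul_inv_eq_iff_eq_mul] at w3
      exact w3.symm)
  have := Nat.le_of_dvd (Nat.pos_of_ne_zero hn0) (orderOf_dvd_of_pow_eq_one (Subtype.ext w5 : z ^ n = 1))
  omega

theorem HS4.dblP (h : HS4 E P T s X ρ t y c W) {e : F} (hc : e * e + e = c) :
    ∃ X₁ X₂ ρ₁ ρ₂, DblP E P T s X ρ t y c X₁ X₂ ρ₁ ρ₂ := by
  have R := h.trel
  have h2 := P.twoF
  have h2' := P.two
  set D := dX X W (P.f c) with hD
  let ε₁ : HX.QA F c := ⟨e, 1⟩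
  let ε₂ : HX.QA F c := ⟨e + 1, 1⟩
  have i1 : ε₁ * ε₁ = ε₁ := by
    ext
    · simp only [ε₁, QuadraticAlgebra.re_mul]; linear_combination -hc + (e * e) * h2
    · simp only [ε₁, QuadraticAlgebra.im_mul]; linear_combination e * h2
  have i2 : ε₂ * ε₂ = ε₂ := by
    ext
    · simp only [ε₂, QuadraticAlgebra.re_mul]; linear_combination -hc + (e * e + e) * h2
    · simp only [ε₂, QuadraticAlgebra.im_mul]; linear_combination (e + 1) * h2
  have i3 : ε₁ * ε₂ = 0 := by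
    ext
    · simp only [ε₁, ε₂, QuadraticAlgebra.re_mul, QuadraticAlgebra.re_zero]
      linear_combination -hc + (e * e + e) * h2
    · simp only [ε₁, ε₂, QuadraticAlgebra.im_mul, QuadraticAlgebra.im_zero]; linear_combination (e + 1) * h2
  let ψ := algebraMap K (HX.QA K (P.f c))
  have f1 : ∀ u, (P.dbl c).f ε₁ * ψ u = ⟨P.f e * u, u⟩ := fun u => by
    ext <;> simp [QE.dbl, HX.QA.map, ε₁, ψ]
  have f2 : ∀ u, (P.dbl c).f ε₂ * ψ u = ⟨P.f e * u + u, u⟩ := fun u => by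
    ext <;> simp [QE.dbl, HX.QA.map, ε₂, ψ, add_mul]
  have r₁ := R.splp_res (P := P) (algebraMap F (HX.QA F c)) ψ
    (fun p => by ext <;> simp [QE.dbl, HX.QA.map, ψ]) (fun p => by ext <;> simp [QE.dbl, HX.QA.map, ψ])
    (by ext <;> simp [QE.dbl, ψ]) i1
  set X₁ : ι → K → G := fun a u => D a ((P.dbl c).f ε₁ * ψ u) with hX₁
  have t12 : ∀ a u, cjX t X₁ a u = D a ((P.dbl c).f ε₂ * ψ u) := fun a u => by
    rw [f2, cjX, hX₁]
    simp only [f1]
    exact h.t_dX a _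
  have c12 : ∀ a b u v, X₁ a u * cjX t X₁ b v = cjX t X₁ b v * X₁ a u := fun a b u v => by
    rw [t12]
    exact R.splp_com h.tr i2 a b (by rw [mul_right_comm, ← map_mul, i3, map_zero, zero_mul])
      (by rw [← mul_assoc, ← map_mul, i2])
  have sp : ∀ a u v, X₁ a u * cjX t X₁ a v = D a ⟨P.f e * (u + v) + v, u + v⟩ := fun a u v => by
    rw [t12, hX₁, ← R.add, f1, f2]
    congr 1
    ext
    · simp only [QuadraticAlgebra.re_add]; ring
    · rfl
  have ext : ∀ a u, X a u = X₁ a u * cjX t X₁ a u := fun a u => by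
    rw [sp, P.add_selfK, mul_zero, zero_add, hD, dX, HX.dx, h.W0, mul_one]
  have eqG : tL X₁ ⊔ tL (cjX t X₁) = tG0 E X y := by
    rw [← h.tL_dX]
    refine le_antisymm (sup_le ((closure_le _).2 ?_) ((closure_le _).2 ?_)) ((closure_le _).2 ?_)
    · rintro _ ⟨a, -, u, rfl⟩
      exact mem_tL D a _
    · rintro _ ⟨a, -, u, rfl⟩
      exact t12 a u ▸ mem_tL D a _
    · rintro _ ⟨a, -, ξ, rfl⟩
      have := mul_mem_sup (mem_tL X₁ a (ξ.im + (ξ.re + P.f e * ξ.im))) (mem_tL (cjX t X₁) a (ξ.re + P.f e * ξ.im))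
      rwa [sp, show (⟨_, _⟩ : HX.QA K (P.f c)) = ξ from QuadraticAlgebra.ext
        (by simp only; linear_combination (P.f e * (ξ.im + ξ.re + P.f e * ξ.im)) * h2')
        (by simp only; linear_combination (ξ.re + P.f e * ξ.im) * h2')] at this
  obtain ⟨ρ₁, S⟩ := h.splp_sys r₁ c12 ext eqG
  exact ⟨X₁, cjX t X₁, ρ₁, _, h.toHatL, S, S.cj t, c12, ext, fun _ _ => rfl, eqG⟩

end CfsgLib.SLT
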