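import Mathlib
import Cfsg.Agent.Lib.SLT.Fus
import Cfsg.Agent.Lib.SLT.Mov
import Cfsg.Agent.Lib.SLT.HS1
import Cfsg.Agent.Lib.SLT.HS3
import Cfsg.Agent.Lib.SLT.HS4
import Cfsg.Agent.Lib.SLT.SplF
import Cfsg.Agent.Lib.SLT.SplP
import Cfsg.Agent.Lib.SLT.NF
import Cfsg.Agent.Lib.SLT.NQ
import Cfsg.Agent.Lib.SLT.Dct
import Cfsg.Agent.Lib.SLT.AutM
import Cfsg.Agent.Lib.LieModel.TwMap

/-!
# Assembly
-/

set_option autoImplicit false
set_option linter.unusedSectionVars false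

namespace CfsgLib.SLT

open CfsgLib.RGD CfsgLib.Stein CfsgLib.SLE Subgroup
open scoped commutatorElement Pointwise

universe u


section

variable {ι κ : Type} [Fintype κ] [DecidableEq κ] [Finite ι] {Φ : RootSys ι κ} {E : ER Φ}
  {F K : Type} [Field F] [Finite F] [CharP F 2] [Field K] [Finite K] [CharP K 2] {P : QE F K}
  {G : Type u} [Group G] [Finite G] {A : Type} [Group A] [Finite A] {T : StSys Φ K A} {s : A}
  {X : ι → K → G} {ρ : G → A} {t : G}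

theorem Sit.main (hK : Kit.{u} E) (h : Sit E P T s X ρ t) {Gs : Subgroup G} (g : Glob Gs t)
    (hL : tL X ≤ Gs) : ∃ T' : StSys Φ K G, Amb E T' ∧ T'.grp = Gs := by
  have he : Even (Nat.card Gs) := by
    have h1 : orderOf (xl P X E.θ 1) = 2 := Invol.orderOf_eq_two
      (fun e => one_ne_zero ((h.xl_eq_one E.γ_θ).1 e)) (h.rel.xl_sq _ _)
    rw [even_iff_two_dvd, ← h1]
    exact orderOf_dvd_natCard _ (hL (mem_tL X _ _))
  obtain ⟨a, h1, h2, h3⟩ := g.exists_conj he h.t2 h.t1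
  obtain ⟨y₀, c, hy⟩ := h.hats (h.fus h1 h2 h3)
  obtain ⟨y, hy⟩ := h.hatL hy
  obtain ⟨W, hW⟩ := hy.hs1
  have h4 := hW.hs2.hs3.hs4
  by_cases hc : ∃ e : F, e * e + e = c
  · obtain ⟨e, he⟩ := hc
    obtain ⟨_, _, _, _, d⟩ := h4.dblP he
    exact (d.false g).elim
  · obtain ⟨T', d⟩ := h4.dblF hK fun e he => hc ⟨e, he⟩
    exact ⟨T', d.tw.amb, d.eq g⟩

end

open Cfsg.Lie CfsgLib.Weyl CfsgLib.Chev

variable {E : ER (rootSys rtOKE6)} {F K : Type} [Field F] [Finite F] [CharP F 2] [Field K] [Finite K]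
  [CharP K 2] {P : QE F K} {T : StSys (rootSys rtOKE6) K (MulAut (chevE6.group K))}
  {s : MulAut (chevE6.group K)}

theorem ModT.vir (h : ModT E P T s) : Vir E P T s :=
  ⟨h.toTw, h.cl, h.simp, h.dc, h.aut, h.mod.kit⟩

theorem e6Words_map {K K' : Type*} [Field K] [Field K'] (e : K ≃+* K') (q : ℕ) :
    ∀ w ∈ e6Words K q, (w.map fun p => (p.1, e p.2)) ∈ e6Words K' q := by
  rintro _ (⟨t, ht, r, hr, rfl⟩ | ⟨t, r, hr, rfl⟩)
  · exact Or.inl ⟨e t, by rw [← map_pow, ht], r, hr, rfl⟩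
  · exact Or.inr ⟨e t, r, hr, by simp⟩

end CfsgLib.SLT
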